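import Cfsg.Agent.Lib.TensorEven.Invol
import Cfsg.Agent.Lib.TensorOddMinus.Signs

/-!
Two slots of dimension four: a monomial involution exchanging the slots is never conjugate to a product of
two reflections of the slots, as exactly one of them lies in `Ω`.
-/

set_option autoImplicit false
set_option linter.unusedSectionVars false

namespace CfsgLib.TensorEven

open Matrix QuadraticMap CfsgLib.Orth CfsgLib.TensorOddMinus
open CfsgLib.TensorOdd (IsFrame blockSign blockSign_app refr_vec InBlock)

variable {ι : Type} [Fintype ι] [DecidableEq ι] {F : Type*} [Field F] [Fintype F] {k : ℕ}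
variable {q : QuadraticForm F (ι → F)} {q1 : QuadraticForm F (Fin k → F)}

/-- Without totally singular planes the discriminant in dimension four is not a square. -/
theorem disc_not_square (hG : Good q1) (hk : k = 4) {u : Fin k → Fin k → F} (hu : IsFrame q1 u) :
    ¬ IsSquare (∏ i, q1 (u i)) := by
  subst hk
  rw [Fin.prod_univ_four]
  rintro ⟨r, hr⟩
  obtain ⟨s, t, hst⟩ := CfsgLib.Orth.exists_binary hG.two (hu.nz 0) (hu.nz 1) (-q1 (u 2))
  set l : F := r / q1 (u 3) with hl
  set x := s • u 0 + t • u 1 + u 2 with hx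
  set y := (-(t * q1 (u 1))) • u 0 + (s * q1 (u 0)) • u 1 + l • u 3 with hy
  have o := hu.orth
  have h3 := hu.nz 3
  have qx : q1 x = 0 := by
    rw [hx]
    simp only [QuadraticMap.map_add ⇑q1, QuadraticMap.map_smul, polar_add_left, polar_smul_left, polar_smul_right,
      o 0 1 (by decide), o 0 2 (by decide), o 1 2 (by decide), smul_eq_mul]
    linear_combination hst
  have qy : q1 y = 0 := by
    rw [hy]
    simp only [QuadraticMap.map_add ⇑q1, QuadraticMap.map_smul, polar_add_left, polar_smul_left, polar_smul_right,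
      o 0 1 (by decide), o 0 3 (by decide), o 1 3 (by decide), smul_eq_mul, hl]
    field_simp
    linear_combination q1 (u 0) * q1 (u 1) * q1 (u 3) * hst - hr
  have hxy : polar q1 x y = 0 := by
    rw [hx, hy]
    simp only [polar_add_left, polar_add_right, polar_smul_left, polar_smul_right, o 0 1 (by decide),
      o 1 0 (by decide), o 2 0 (by decide), o 2 1 (by decide), o 0 3 (by decide), o 1 3 (by decide),
      o 2 3 (by decide), polar_self', smul_eq_mul]
    ring
  have hx0 : x ≠ 0 := fun h => by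
    have := congrArg (fun z => polar q1 z (u 2)) h
    simp only [hx, polar_add_left, polar_smul_left, o 0 2 (by decide), o 1 2 (by decide), smul_zero, zero_add,
      polar_zero_left] at this
    exact hu.polar_self_ne 2 this
  obtain ⟨c, hc⟩ := hG.four (by simp) x y qx qy hxy hx0
  have e2 := congrArg (fun z => polar q1 z (u 2)) hc
  have e3 := congrArg (fun z => polar q1 z (u 3)) hc
  simp only [hx, hy, polar_add_left, polar_smul_left, o 0 2 (by decide), o 1 2 (by decide), o 3 2 (by decide),
    o 0 3 (by decide), o 1 3 (by decide), o 2 3 (by decide), smul_zero, zero_add, add_zero] at e2 e3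
  rw [smul_eq_zero] at e3
  rcases e3 with e3 | e3
  · rw [hl, div_eq_zero_iff] at e3
    rcases e3 with e3 | e3
    · rw [e3, mul_zero] at hr
      exact mul_ne_zero (mul_ne_zero (mul_ne_zero (hu.nz 0) (hu.nz 1)) (hu.nz 2)) (hu.nz 3) hr
    · exact h3 e3
  · exact hu.polar_self_ne 3 e3

/-- A square factor does not change the square class. -/
theorem not_square_mul {c D : F} (hc : c ≠ 0) (hD : ¬ IsSquare D) : ¬ IsSquare (c * c * D) := by
  rintro ⟨r, hr⟩
  exact hD ⟨r / c, by field_simp; linear_combination hr⟩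

namespace Power

variable (P : Power q q1 2) (hG : Good q1)

include hG in
theorem q_tp_two (xs : Fin 2 → Fin k → F) : q (P.tp xs) = 2 * q1 (xs 0) * q1 (xs 1) := by
  have h := P.polar_tp xs xs
  rw [Fin.prod_univ_two, polar_self', polar_self', polar_self'] at h
  exact mul_left_cancel₀ hG.two (by linear_combination h)

/-- A reflection of a slot is a sign map with support of four vectors and non-square discriminant. -/
theorem chiPair_slot_refl [DecidableEq F] (hk : k = 4) {d : F} (hd : ¬ IsSquare d) (i : Fin 2) {y : Fin k → F}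
    (hy : q1 y ≠ 0) : chiPair q d (P.S hG le_rfl i (refl q1 y)) = (-1, -1) := by
  subst hk
  obtain ⟨u0, hu0⟩ : ∃ u : Fin 4 → Fin 4 → F, IsFrame q1 u := CfsgLib.TensorOdd.exists_frame hG.nd hG.two
  obtain ⟨u, i0, -, hi, hR⟩ := refr_vec hu0 Finset.univ (y := y)
    (fun j hj => absurd (Finset.mem_univ j) hj) hy
  have hu := hR.1
  have hF := P.isFrame hG.two hu
  set v : (Fin 2 → Fin 4) → ι → F := fun a => P.tp fun l => u (a l) with hv
  let S : Finset (Fin 2 → Fin 4) := Finset.univ.image fun b => i.insertNth i0 fun _ => b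
  have hS : ∀ a, a ∈ S ↔ a i = i0 := fun a => by
    constructor
    · intro ha
      obtain ⟨b, -, rfl⟩ := Finset.mem_image.1 ha
      simp
    · intro ha
      refine Finset.mem_image.2 ⟨a (i.succAbove 0), Finset.mem_univ _, ?_⟩
      funext l
      rcases Fin.eq_self_or_eq_succAbove i l with rfl | ⟨m, rfl⟩
      · simp [ha]
      · rw [Fin.insertNth_apply_succAbove, Subsingleton.elim m 0]
  have e : P.S hG le_rfl i (refl q1 y) = blockSign q v S := hF.ext_O fun a => by
    rw [P.S_tp, blockSign_app hF, ← hi]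
    by_cases h : a i = i0
    · rw [if_pos ((hS a).2 h), h, app_refl_self (hu.nz i0), ← neg_one_smul F (u i0), P.tp_update_smul, neg_one_smul]
      congr 2
      conv_rhs => rw [← Function.update_eq_self i (fun l => u (a l))]
      rw [h]
    · rw [if_neg fun hm => h ((hS a).1 hm), app_refl_of_ortho (hu.orth _ _ h)]
      exact congrArg P.tp (Function.update_eq_self i (fun l => u (a l)))
  have hinj : Function.Injective fun b : Fin 4 => (i.insertNth i0 fun _ => b : Fin 2 → Fin 4) := fun b c h => by
    simpa using congrFun h (i.succAbove 0)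
  have hprod : ∏ a ∈ S, q (v a) = ((4 : F) * q1 (u i0) * q1 (u i0)) * (4 * q1 (u i0) * q1 (u i0)) *
      ∏ b, q1 (u b) := by
    rw [Finset.prod_image hinj.injOn]
    have e2 : ∀ b : Fin 4, q (v (i.insertNth i0 fun _ => b)) = 2 * q1 (u i0) * q1 (u b) := fun b => by
      have e3 : ∀ xs : Fin 2 → Fin 4 → F, q (P.tp xs) = 2 * q1 (xs i) * q1 (xs (i.succAbove 0)) := fun xs => by
        rw [P.q_tp_two hG]
        fin_cases i
        · rfl
        · show _ = 2 * q1 (xs 1) * q1 (xs 0)
          ring
      rw [hv, e3]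
      simp
    simp only [e2, Finset.prod_mul_distrib, Finset.prod_const, Finset.card_univ, Fintype.card_fin]
    ring
  have h := (Cfsg.Agent.Spinor57.chiPair_prod_refl (Q := q) hG.two hd (S.toList.map v) (fun z hz => by
    obtain ⟨a, -, rfl⟩ := List.mem_map.1 hz; exact hF.nz a)).2
  have h1 : ((S.toList.map v).map fun z => q z).prod = ∏ a ∈ S, q (v a) := by
    rw [List.map_map, Finset.prod_eq_multiset_prod, ← Finset.coe_toList, Multiset.map_coe, Multiset.prod_coe]
    rfl
  have hs : Cfsg.Agent.Spinor57.sqSign (∏ a ∈ S, q (v a)) = -1 := by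
    refine (Int.units_eq_one_or _).resolve_left fun h0 => ?_
    rw [Cfsg.Agent.Spinor57.sqSign_eq_one_iff, hprod] at h0
    have h4 : (4 : F) ≠ 0 := by rw [show (4 : F) = 2 * 2 by norm_num]; exact mul_ne_zero hG.two hG.two
    exact not_square_mul (mul_ne_zero (mul_ne_zero h4 (hu.nz i0)) (hu.nz i0)) (disc_not_square hG rfl hu) h0
  rw [e, blockSign, CfsgLib.TensorOdd.reflList, h, h1, hs, List.length_map, Finset.length_toList,
    Finset.card_image_of_injective _ hinj]
  decide

/-- Two reflections of slots have their product in `Ω`. -/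
theorem slot_pair_mem_omega (hk : k = 4) (i j : Fin 2) {y z : Fin k → F} (hy : q1 y ≠ 0) (hz : q1 z ≠ 0) :
    P.S hG le_rfl i (refl q1 y) * P.S hG le_rfl j (refl q1 z) ∈ commutator (O q) := by
  classical
  obtain ⟨d, hd⟩ := CfsgLib.OrthOmega.exists_not_square hG.two (F := F)
  rw [commutator_eq (P.nd hG) hG.two hd, MonoidHom.mem_ker, map_mul, P.chiPair_slot_refl hG hk hd i hy,
    P.chiPair_slot_refl hG hk hd j hz]
  decide

variable {P hG}

set_option maxHeartbeats 1000000 in
/-- An involution exchanging the slots is not in `Ω`. -/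
theorem swap_not_mem_omega (hG : Good q1) (hk : k = 4) {g : O q} {σ : Equiv.Perm (Fin 2)}
    {A : Fin 2 → (Fin k → F) ≃ₗ[F] (Fin k → F)} (hg : P.IsMonW g σ A) (hσ : σ ≠ 1) (h : g * g = 1) :
    g ∉ commutator (O q) := by
  classical
  subst hk
  have hσ' : σ = Equiv.swap 0 1 := by
    clear hg
    revert hσ; revert σ; decide
  subst hσ'
  obtain ⟨c, hc, hc1⟩ := hg.sim hG
  obtain ⟨-, hμ⟩ := hg.invol (by norm_num) h
  obtain ⟨μ, -, hμ⟩ := hμ 1
  rw [Equiv.swap_apply_right] at hμ
  rw [Fin.prod_univ_two] at hc1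
  have hc0 : c 0 ≠ 0 := left_ne_zero_of_mul_eq_one hc1
  obtain ⟨e, he⟩ : ∃ e : Fin 4 → Fin 4 → F, IsFrame q1 e := CfsgLib.TensorOdd.exists_frame hG.nd hG.two
  have hμ2 : μ = 1 ∨ μ = -1 := by
    have h1 := hc 1 (A 0 (e 0)) (A 0 (e 0))
    rw [hμ, polar_smul_left, polar_smul_right, hc 0, smul_eq_mul, smul_eq_mul, ← mul_assoc, ← mul_assoc,
      mul_comm (c 1) (c 0), hc1] at h1
    exact mul_self_eq_one_iff.1 (mul_right_cancel₀ (he.polar_self_ne 0) h1)
  have hμμ : μ * μ = 1 := mul_self_eq_one_iff.2 hμ2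
  -- a frame of tensors
  let V : Fin 4 × Fin 4 → ι → F := fun p => P.tp ![A 0 (e p.1), e p.2]
  let N : Fin 4 × Fin 4 → F := fun p => 4 * c 0 * q1 (e p.1) * q1 (e p.2)
  let ε : Fin 4 × Fin 4 → F := fun p => if p.1 = p.2 then 0 else if p.1 < p.2 then 1 else -1
  have hgV : ∀ p : Fin 4 × Fin 4, app g (V p) = μ • V p.swap := fun p => by
    show app g (P.tp _) = _
    rw [hg]
    have e1 : (fun i => A i (![A 0 (e p.1), e p.2] (Equiv.swap (0 : Fin 2) 1 i))) =
        Function.update ![A 0 (e p.2), e p.1] 1 (μ • e p.1) := by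
      funext i
      fin_cases i <;> simp [hμ]
    rw [e1, P.tp_update_smul]
    congr 2
    funext i
    fin_cases i <;> simp
  have hVV : ∀ p r, polar q (V p) (V r) = if p = r then N p else 0 := fun p r => by
    show polar q (P.tp _) (P.tp _) = _
    rw [P.polar_tp, Fin.prod_univ_two]
    simp only [Matrix.cons_val_zero, Matrix.cons_val_one]
    rw [hc 0]
    by_cases h1 : p.1 = r.1
    · by_cases h2 : p.2 = r.2
      · rw [if_pos (Prod.ext h1 h2), h1, h2, polar_self', polar_self']
        simp only [N, h1, h2]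
        ring
      · rw [if_neg fun e => h2 (by rw [e]), he.orth _ _ h2, mul_zero]
    · rw [if_neg fun e => h1 (by rw [e]), he.orth _ _ h1, mul_zero, zero_mul]
  have hN : ∀ p, N p.swap = N p := fun p => by simp only [N, Prod.fst_swap, Prod.snd_swap]; ring
  have hεs : ∀ p, ε p.swap = -ε p := fun p => by
    rcases lt_trichotomy p.1 p.2 with h1 | h1 | h1
    · simp [ε, h1, h1.ne, h1.ne', not_lt.2 h1.le]
    · simp [ε, h1]
    · simp [ε, h1, h1.ne, h1.ne', not_lt.2 h1.le]
  have hε2 : ∀ p, ε p * ε p = if p.1 = p.2 then 0 else 1 := fun p => by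
    simp only [ε]; split_ifs <;> norm_num
  let W : Fin 4 × Fin 4 → ι → F := fun p => V p + ε p • V p.swap
  have hWW : ∀ p r, polar q (W p) (W r) =
      if p = r then N p * (if p.1 = p.2 then 1 else 2) else 0 := fun p r => by
    simp only [W, polar_add_left, polar_add_right, polar_smul_left, polar_smul_right, hVV, smul_eq_mul]
    by_cases hpr : p = r
    · subst hpr
      rw [if_pos rfl, if_pos rfl, if_pos rfl, hN]
      by_cases hd : p.1 = p.2
      · have hp : p.swap = p := Prod.ext hd.symm hd
        simp [hp, hd, ε]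
      · have hp : ¬ p.swap = p := fun e => hd (congrArg Prod.snd e)
        rw [if_neg (fun e : p = p.swap => hp e.symm), if_neg hd]
        simp only [if_neg hp]
        have := hε2 p
        rw [if_neg hd] at this
        linear_combination N p * this
    · rw [if_neg hpr, if_neg hpr, if_neg fun e => hpr (Prod.swap_injective e)]
      by_cases hs : p = r.swap
      · subst hs
        rw [if_pos rfl, Prod.swap_swap, if_pos rfl, hεs, hN]
        ring
      · rw [if_neg hs, if_neg fun e => hs (by rw [← e, Prod.swap_swap])]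
        ring
  have hqW : ∀ p, q (W p) = 2 * c 0 * q1 (e p.1) * q1 (e p.2) * (if p.1 = p.2 then 1 else 2) := fun p => by
    have h1 := hWW p p
    rw [if_pos rfl, polar_self'] at h1
    refine mul_left_cancel₀ hG.two (h1.trans ?_)
    simp only [N]
    ring
  have hF : IsFrame q W := by
    refine ⟨?_, fun p r hpr => by rw [hWW, if_neg hpr], fun p => ?_, hG.two⟩
    · rw [P.card_eq]; simp
    · rw [hqW]
      refine mul_ne_zero (mul_ne_zero (mul_ne_zero (mul_ne_zero hG.two hc0) (he.nz _)) (he.nz _)) ?_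
      split_ifs
      exacts [one_ne_zero, hG.two]
  have hgW : ∀ p, app g (W p) = (μ * if p.2 < p.1 then -1 else 1) • W p := fun p => by
    simp only [W, map_add, map_smul, hgV, Prod.swap_swap, smul_add, smul_smul]
    rcases lt_trichotomy p.1 p.2 with h1 | h1 | h1
    · simp [ε, h1, h1.ne, not_lt.2 h1.le, add_comm]
    · have hp : p.swap = p := Prod.ext h1.symm h1
      simp [ε, h1, hp]
    · simp [ε, h1, h1.ne', not_lt.2 h1.le, add_comm]
  -- the discriminant of the space it negates
  set D := ∏ b, q1 (e b)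
  have hD := disc_not_square hG rfl he
  have h4 : (4 : F) ≠ 0 := by rw [show (4 : F) = 2 * 2 by norm_num]; exact mul_ne_zero hG.two hG.two
  have hD0 : D ≠ 0 := Finset.prod_ne_zero_iff.2 fun b _ => he.nz b
  have low : ∏ p ∈ Finset.univ.filter (fun p : Fin 4 × Fin 4 => p.2 < p.1), q (W p) =
      (4 * 4 * 4 * c 0 * c 0 * c 0 * D) * (4 * 4 * 4 * c 0 * c 0 * c 0 * D) * D := by
    rw [show Finset.univ.filter (fun p : Fin 4 × Fin 4 => p.2 < p.1) =
      {(1, 0), (2, 0), (3, 0), (2, 1), (3, 1), (3, 2)} by decide]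
    simp [hqW, D, Fin.prod_univ_four, show (4 : F) = 2 * 2 by norm_num]
    ring
  have high : ∏ p ∈ Finset.univ.filter (fun p : Fin 4 × Fin 4 => ¬ p.2 < p.1), q (W p) =
      (4 * 4 * 4 * 4 * c 0 * c 0 * c 0 * c 0 * c 0 * D * D) *
        (4 * 4 * 4 * 4 * c 0 * c 0 * c 0 * c 0 * c 0 * D * D) * D := by
    rw [show Finset.univ.filter (fun p : Fin 4 × Fin 4 => ¬ p.2 < p.1) =
      {(0, 0), (1, 1), (2, 2), (3, 3), (0, 1), (0, 2), (0, 3), (1, 2), (1, 3), (2, 3)} by decide]
    simp [hqW, D, Fin.prod_univ_four, show (4 : F) = 2 * 2 by norm_num]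
    ring
  intro hmem
  rcases hμ2 with rfl | rfl
  · have e1 : g = blockSign q W (Finset.univ.filter fun p : Fin 4 × Fin 4 => p.2 < p.1) := hF.ext_O fun p => by
      rw [blockSign_app hF, hgW]
      simp only [Finset.mem_filter, Finset.mem_univ, true_and]
      split_ifs <;> simp
    rw [e1, blockSign_mem_iff (P.nd hG) hF, low] at hmem
    refine not_square_mul ?_ hD hmem.2
    simp [h4, hc0, hD0]
  · have e1 : g = blockSign q W (Finset.univ.filter fun p : Fin 4 × Fin 4 => ¬ p.2 < p.1) := hF.ext_O fun p => by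
      rw [blockSign_app hF, hgW]
      simp only [Finset.mem_filter, Finset.mem_univ, true_and]
      split_ifs <;> simp
    rw [e1, blockSign_mem_iff (P.nd hG) hF, high] at hmem
    refine not_square_mul ?_ hD hmem.2
    simp [h4, hc0, hD0]

/-- An involution exchanging two slots of dimension four is not conjugate to a product of two reflections
of slots. -/
theorem swap_not_conj (hG : Good q1) (hk : k = 4) {g : O q} {σ : Equiv.Perm (Fin 2)}
    {A : Fin 2 → (Fin k → F) ≃ₗ[F] (Fin k → F)} (hg : P.IsMonW g σ A) (hσ : σ ≠ 1) (h : g * g = 1) (x : O q)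
    (i j : Fin 2) {y z : Fin k → F} (hy : q1 y ≠ 0) (hz : q1 z ≠ 0) :
    g ≠ x * (P.S hG le_rfl i (refl q1 y) * P.S hG le_rfl j (refl q1 z)) * x⁻¹ := fun e =>
  swap_not_mem_omega hG hk hg hσ h (e ▸ Subgroup.Normal.conj_mem inferInstance _
    (P.slot_pair_mem_omega hG hk i j hy hz) x)

end Power

end CfsgLib.TensorEven
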