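import Cfsg.Agent.Lib.TensorEven.Slot
import Cfsg.Agent.Lib.TensorOdd.Factor

/-!
An invariant space of endomorphisms of a tensor power contains a pure endomorphism whose factors are the
identity or one of two standard maps of a plane.
-/

set_option autoImplicit false
set_option linter.unusedSectionVars false

namespace CfsgLib.TensorEven

open Matrix QuadraticMap CfsgLib.Orth CfsgLib.TensorOddMinus Cfsg.Agent.Spinor57
open CfsgLib.TensorOdd (IsFrame InBlock Refr refr_vec refr_two blockSign blockSign_app blockSign_refr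
  blockSign_union blockSign_single sqSign_eq_iff)

variable {ι : Type} [Fintype ι] [DecidableEq ι] {F : Type*} [Field F] [Fintype F] {k t : ℕ}
variable {q : QuadraticForm F (ι → F)} {q1 : QuadraticForm F (Fin k → F)}

/-- The standard map of a plane. -/
noncomputable def tmap (q1 : QuadraticForm F (Fin k → F)) (ε : F) (a b : Fin k → F) : Module.End F (Fin k → F) :=
  (q1.polarBilin.flip a).smulRight b + ε • (q1.polarBilin.flip b).smulRight a

theorem tmap_apply (ε : F) (a b x : Fin k → F) :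
    tmap q1 ε a b x = polar q1 x a • b + (ε * polar q1 x b) • a := by
  simp [tmap, smul_smul]

/-- An admissible factor. -/
def IsPureFactor (q1 : QuadraticForm F (Fin k → F)) (Y : Module.End F (Fin k → F)) : Prop :=
  Y = LinearMap.id ∨ ∃ (ε : F) (a b : Fin k → F), (ε = 1 ∨ ε = -1) ∧ q1 a ≠ 0 ∧ q1 b = q1 a ∧
    polar q1 a b = 0 ∧ Y = tmap q1 ε a b

/-- An admissible factor which is not the identity. -/
def IsMovedFactor (q1 : QuadraticForm F (Fin k → F)) (Y : Module.End F (Fin k → F)) : Prop :=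
  ∃ (ε : F) (a b : Fin k → F), (ε = 1 ∨ ε = -1) ∧ q1 a ≠ 0 ∧ q1 b = q1 a ∧ polar q1 a b = 0 ∧ Y = tmap q1 ε a b

theorem IsMovedFactor.pure {Y : Module.End F (Fin k → F)} (h : IsMovedFactor q1 Y) : IsPureFactor q1 Y :=
  Or.inr h

/-- A frame with two given orthogonal anisotropic members. -/
theorem exists_frame_pair (hG : Good q1) {p r : Fin k → F} (hp : q1 p ≠ 0) (hr : q1 r ≠ 0)
    (hpr : polar q1 p r = 0) : ∃ (u : Fin k → Fin k → F) (i j : Fin k), i ≠ j ∧ IsFrame q1 u ∧ u i = p ∧ u j = r := by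
  classical
  obtain ⟨u0, hu0⟩ : ∃ u : Fin k → Fin k → F, IsFrame q1 u := CfsgLib.TensorOdd.exists_frame hG.nd hG.two
  obtain ⟨u1, i, -, h1, hR⟩ := refr_vec hu0 Finset.univ (y := p)
    (fun j hj => absurd (Finset.mem_univ j) hj) hp
  have hu1 := hR.1
  obtain ⟨u2, j, hj, h2, hR'⟩ := refr_vec hu1 (Finset.univ.erase i) (y := r) (fun l hl => by
    have : l = i := by simpa using hl
    rw [this, h1, polar_comm]; exact hpr) hr
  refine ⟨u2, i, j, (Finset.ne_of_mem_erase hj).symm, hR'.1, ?_, h2⟩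
  rw [hR'.2.1 i (by simp), h1]

theorem tmap_ne_id (hG : Good q1) (hk : 4 ≤ k) {a b : Fin k → F} (ha : q1 a ≠ 0) (hb : q1 b ≠ 0)
    (hab : polar q1 a b = 0) (ε : F) : tmap q1 ε a b ≠ LinearMap.id := by
  classical
  intro h
  obtain ⟨u, i, j, -, hu, hi, hj⟩ := exists_frame_pair hG ha hb hab
  obtain ⟨c, -, hc⟩ := Finset.exists_mem_notMem_of_card_lt_card
    (lt_of_le_of_lt (Finset.card_le_two (a := i) (b := j)) (by simp; omega : 2 < (Finset.univ : Finset (Fin k)).card))
  simp only [Finset.mem_insert, Finset.mem_singleton, not_or] at hc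
  have e := LinearMap.congr_fun h (u c)
  rw [tmap_apply, ← hi, ← hj, hu.orth c i hc.1, hu.orth c j hc.2, mul_zero, zero_smul, zero_smul, add_zero,
    LinearMap.id_apply] at e
  exact hu.nz c (by rw [← e, QuadraticMap.map_zero])

namespace Power

variable (P : Power q q1 t)

theorem Triv.add {l : Fin t} {Z Z' : Module.End F (ι → F)} (h : P.Triv l Z) (h' : P.Triv l Z') :
    P.Triv l (Z + Z') := fun A => by rw [add_mul, mul_add, h, h']

theorem Triv.smul {l : Fin t} {Z : Module.End F (ι → F)} (h : P.Triv l Z) (c : F) : P.Triv l (c • Z) :=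
  fun A => by rw [smul_mul_assoc, mul_smul_comm, h]

theorem Triv.zero (l : Fin t) : P.Triv l 0 := fun A => by rw [zero_mul, mul_zero]

theorem Triv.mul {l : Fin t} {Z Z' : Module.End F (ι → F)} (h : P.Triv l Z) (h' : P.Triv l Z') :
    P.Triv l (Z * Z') := fun A => by rw [mul_assoc, h', ← mul_assoc, h, mul_assoc]

theorem triv_sl {l m : Fin t} (h : m ≠ l) (A : Module.End F (Fin k → F)) : P.Triv m (P.sl l A) :=
  fun B => P.sl_comm h.symm A B

theorem Triv.coef {m : Fin t} {Z : Module.End F (ι → F)} (h : P.Triv m Z) {l : Fin t} (hml : m ≠ l)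
    (u : Fin k → Fin k → F) (a b : Fin k) : P.Triv m (P.coef u l a b Z) := fun A => by
  rw [Power.coef, Finset.sum_mul, Finset.mul_sum]
  exact Finset.sum_congr rfl fun j _ => (((P.triv_sl hml _).mul P h).mul P (P.triv_sl hml _)) A

theorem coef_sub (u : Fin k → Fin k → F) (l : Fin t) (a b : Fin k) (K K' : Module.End F (ι → F)) :
    P.coef u l a b (K - K') = P.coef u l a b K - P.coef u l a b K' := by
  simp only [coef, mul_sub, sub_mul, Finset.sum_sub_distrib]

theorem coef_neg (u : Fin k → Fin k → F) (l : Fin t) (a b : Fin k) (K : Module.End F (ι → F)) :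
    P.coef u l a b (-K) = -P.coef u l a b K := by
  rw [coef, coef, ← Finset.sum_neg_distrib]
  exact Finset.sum_congr rfl fun j _ => LinearMap.ext fun x => by simp [Module.End.mul_apply, map_neg]

theorem neg_one_smul' (X : Module.End F (ι → F)) : (-1 : F) • X = -X := LinearMap.ext fun x => by simp

section Step

variable (hG : Good q1) (hk : 4 ≤ k) (l : Fin t) {𝒮 : Submodule F (Module.End F (ι → F))}
  (hinv : ∀ v, q1 v ≠ 0 → ∀ K ∈ 𝒮, P.sl l (app (refl q1 v)) * K * P.sl l (app (refl q1 v)) ∈ 𝒮)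
include hG hk hinv

omit hk in
/-- An element supported at a pair of a frame. -/
theorem exists_supported {u : Fin k → Fin k → F} (hu : IsFrame q1 u) {p b : Fin k} (hbp : b ≠ p)
    {K : Module.End F (ι → F)} (hK : K ∈ 𝒮)
    (hp : P.sl l (app (refl q1 (u p))) * K * P.sl l (app (refl q1 (u p))) = -K)
    (hb : P.sl l (app (refl q1 (u b))) * K * P.sl l (app (refl q1 (u b))) ≠ K) :
    ∃ K' ∈ 𝒮, K' ≠ 0 ∧ ∀ i j, ¬ (i = p ∧ j = b) → ¬ (i = b ∧ j = p) → P.coef u l i j K' = 0 := by
  refine ⟨K - P.sl l (app (refl q1 (u b))) * K * P.sl l (app (refl q1 (u b))),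
    Submodule.sub_mem _ hK (hinv _ (hu.nz b) K hK), fun h => hb (sub_eq_zero.1 h).symm, fun i j h1 h2 => ?_⟩
  rw [coef_sub, P.coef_refl hu]
  have e := congrArg (P.coef u l i j) hp
  rw [P.coef_refl hu, coef_neg] at e
  have hne : ∀ c : F, c = 1 → c • P.coef u l i j K = -P.coef u l i j K → P.coef u l i j K = 0 := fun c hc he => by
    rw [hc, one_smul] at he
    have : (2 : F) • P.coef u l i j K = 0 := by rw [two_smul]; exact eq_neg_iff_add_eq_zero.1 he
    exact (smul_eq_zero.1 this).resolve_left hG.two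
  by_cases hip : i = p
  · by_cases hjp : j = p
    · rw [hne _ (by simp [hip, hjp]) e, smul_zero, sub_zero]
    · rw [if_neg (fun h => hbp (h.symm.trans hip)), if_neg (fun h => h1 ⟨hip, h⟩), one_mul, one_smul, sub_self]
  · by_cases hjp : j = p
    · rw [if_neg (fun h => h2 ⟨h, hjp⟩), if_neg (fun h => hbp (h.symm.trans hjp)), one_mul, one_smul, sub_self]
    · rw [hne _ (by simp [hip, hjp]) e, smul_zero, sub_zero]

omit hk in
/-- The conclusion from an element supported at a pair of equal classes. -/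
theorem exists_factor_pair {w : Fin k → Fin k → F} (hw : IsFrame q1 w) {p r : Fin k} (hrp : r ≠ p)
    {K' : Module.End F (ι → F)} (hK' : K' ∈ 𝒮) (hK'0 : K' ≠ 0)
    (hs : ∀ i j, ¬ (i = p ∧ j = r) → ¬ (i = r ∧ j = p) → P.coef w l i j K' = 0)
    (hsq : IsSquare (q1 (w p) * q1 (w r))) :
    ∃ Y Z, IsMovedFactor q1 Y ∧ P.Triv l Z ∧ Z ≠ 0 ∧ P.sl l Y * Z ∈ 𝒮 ∧
      ∀ m, m ≠ l → (∀ Z' ∈ 𝒮, P.Triv m Z') → P.Triv m Z := by
  obtain ⟨s, hs2⟩ := hsq
  have hs0 : s ≠ 0 := fun h => mul_ne_zero (hw.nz p) (hw.nz r) (by rw [hs2, h, mul_zero])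
  set a := w p
  set c := q1 a / s with hc
  set b := c • w r with hb
  have hc0 : c ≠ 0 := div_ne_zero (hw.nz p) hs0
  have hqb : q1 b = q1 a := by
    rw [hb, QuadraticMap.map_smul, smul_eq_mul, hc]
    field_simp
    linear_combination (q1 a) * hs2
  have hab : polar q1 a b = 0 := by rw [hb, polar_smul_right, hw.orth p r (Ne.symm hrp), smul_zero]
  have hba : polar q1 b a = 0 := by rw [polar_comm, hab]
  set τ : Module.End F (Fin k → F) := app (refl q1 (a - b)) with hτ
  have hqab : q1 (a - b) ≠ 0 := by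
    rw [sub_eq_add_neg, QuadraticMap.map_add ⇑q1, QuadraticMap.map_neg, polar_neg_right, hab, hqb, neg_zero,
      add_zero, ← two_mul]
    exact mul_ne_zero hG.two (hw.nz p)
  have hτa : τ a = b := by
    have hqd : q1 (a - b) = 2 * q1 a := by
      rw [sub_eq_add_neg, QuadraticMap.map_add ⇑q1, QuadraticMap.map_neg, polar_neg_right, hab, hqb, neg_zero,
        add_zero, two_mul]
    rw [hτ, app_refl, polar_sub_right, polar_self', hab, sub_zero, hqd, inv_mul_cancel₀
      (mul_ne_zero hG.two (hw.nz p)), one_smul]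
    abel
  have hτb : τ b = a := by rw [← hτa, hτ, ← app_mul, refl_mul_self, app_one]
  have hτo : ∀ e, e ≠ p → e ≠ r → τ (w e) = w e := fun e h1 h2 => by
    rw [hτ, app_refl_of_ortho]
    rw [polar_sub_right, hb, polar_smul_right, hw.orth e p h1, hw.orth e r h2, smul_zero, sub_zero]
  set Z := c⁻¹ • P.coef w l r p K'
  set Z' := c • P.coef w l p r K'
  -- the element in the plane
  set E1 := mu q1 w r p
  set E2 := mu q1 w p r
  have hsum : K' = P.sl l E1 * P.coef w l r p K' + P.sl l E2 * P.coef w l p r K' := by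
    conv_lhs => rw [P.recon hw l K']
    rw [← Finset.sum_subset (Finset.subset_univ {p, r}), Finset.sum_pair (Ne.symm hrp), add_comm]
    · congr 1
      · refine Finset.sum_eq_single p (fun j _ hj => ?_) (by simp)
        rw [hs r j (fun h => hrp h.1) (fun h => hj h.2), mul_zero]
      · refine Finset.sum_eq_single r (fun j _ hj => ?_) (by simp)
        rw [hs p j (fun h => hj h.2) (fun h => hrp h.1.symm), mul_zero]
    · intro i _ hi
      simp only [Finset.mem_insert, Finset.mem_singleton, not_or] at hi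
      exact Finset.sum_eq_zero fun j _ => by
        rw [hs i j (fun h => hi.1 h.1) (fun h => hi.2 h.1), mul_zero]
  have hT : ∀ ε : F, tmap q1 ε a b = (2 * q1 a) • (c • E1 + (ε * c⁻¹) • E2) := by
    intro ε
    refine hw.ext_lin fun e => ?_
    rw [tmap_apply, LinearMap.smul_apply, LinearMap.add_apply, LinearMap.smul_apply, LinearMap.smul_apply,
      mu_frame hw, mu_frame hw]
    by_cases he : e = p
    · subst he
      rw [if_pos rfl, if_neg (Ne.symm hrp), hab, polar_self', hb]
      module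
    by_cases he' : e = r
    · subst he'
      rw [if_neg he, if_pos rfl, hw.orth e p he, hb, polar_smul_right, polar_self', smul_eq_mul]
      have : c * (2 * q1 (w e)) = 2 * q1 a * c⁻¹ := by
        rw [← hqb, hb, QuadraticMap.map_smul, smul_eq_mul]; field_simp
      rw [this]
      module
    rw [if_neg he, if_neg he', hw.orth e p he, hb, polar_smul_right, hw.orth e r he']
    module
  have hτr : τ (w r) = c⁻¹ • a := by rw [← hτb, hb, map_smul, inv_smul_smul₀ hc0]
  have hcE1 : τ * (c • E1) * τ = c⁻¹ • E2 := by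
    refine hw.ext_lin fun e => ?_
    simp only [Module.End.mul_apply, LinearMap.smul_apply, map_smul, E1, E2]
    by_cases he : e = p
    · rw [he, show w p = a from rfl, hτa, hb, map_smul, mu_frame hw, mu_frame hw, if_neg hrp,
        if_neg (Ne.symm hrp)]
      simp
    by_cases he' : e = r
    · rw [he', hτr, map_smul, show a = w p from rfl, mu_frame hw, mu_frame hw, if_pos rfl, if_pos rfl,
        map_smul, hτr, smul_smul, smul_smul]
      congr 1
      field_simp
    rw [hτo e he he', mu_frame hw, mu_frame hw, if_neg he, if_neg he']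
    simp
  have hτ2 : τ * τ = 1 := app_refl_sq hqab
  have hcE2 : τ * (c⁻¹ • E2) * τ = c • E1 := by
    rw [← hcE1, show τ * (τ * (c • E1) * τ) * τ = τ * τ * (c • E1) * (τ * τ) by simp only [mul_assoc], hτ2,
      one_mul, mul_one]
  have hK'' : K' = P.sl l (c • E1) * Z + P.sl l (c⁻¹ • E2) * Z' := by
    refine hsum.trans ?_
    rw [P.sl_smul, P.sl_smul]
    simp only [Z, Z', smul_mul_assoc, mul_smul_comm, smul_smul, mul_inv_cancel₀ hc0, inv_mul_cancel₀ hc0, one_smul]
  have hZt : P.Triv l Z := Triv.smul P (P.triv_coef hw l r p K') _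
  have hZ't : P.Triv l Z' := Triv.smul P (P.triv_coef hw l p r K') _
  have hgen : ∀ (T X Y W : Module.End F (ι → F)), T * X * T = Y → W * T = T * W → T * (X * W) * T = Y * W :=
    fun T X Y W h1 h2 => by rw [← h1, mul_assoc T, mul_assoc X W T, h2, ← mul_assoc X, ← mul_assoc, ← mul_assoc]
  have hflip : P.sl l τ * K' * P.sl l τ = P.sl l (c⁻¹ • E2) * Z + P.sl l (c • E1) * Z' := by
    rw [hK'', mul_add, add_mul,
      hgen _ _ (P.sl l (c⁻¹ • E2)) Z (by rw [← sl_mul, ← sl_mul, hcE1]) (hZt τ),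
      hgen _ _ (P.sl l (c • E1)) Z' (by rw [← sl_mul, ← sl_mul, hcE2]) (hZ't τ)]
  have hmem : ∀ ε : F, (ε = 1 ∨ ε = -1) → P.sl l (tmap q1 ε a b) * (Z + ε • Z') ∈ 𝒮 := by
    intro ε hε
    have e : P.sl l (tmap q1 ε a b) * (Z + ε • Z') = (2 * q1 a) • (K' + ε • (P.sl l τ * K' * P.sl l τ)) := by
      rw [hflip, hT, hK'']
      simp only [P.sl_smul, P.sl_add]
      generalize P.sl l E1 = X
      generalize P.sl l E2 = X'
      generalize Z = W
      generalize Z' = W'
      simp only [smul_mul_assoc, mul_smul_comm, add_mul, mul_add, smul_add, smul_smul]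
      rcases hε with rfl | rfl <;> module
    rw [e]
    exact Submodule.smul_mem _ _ (Submodule.add_mem _ hK' (Submodule.smul_mem _ _ (hinv _ hqab K' hK')))
  have hm : ∀ m, m ≠ l → (∀ Z₀ ∈ 𝒮, P.Triv m Z₀) → ∀ ε : F, P.Triv m (Z + ε • Z') := fun m hml h ε =>
    Triv.add P (Triv.smul P (Triv.coef P (h K' hK') hml w r p) _)
      (Triv.smul P (Triv.smul P (Triv.coef P (h K' hK') hml w p r) _) ε)
  by_cases hz : Z + Z' = 0
  · refine ⟨_, Z + (-1 : F) • Z', ⟨-1, a, b, Or.inr rfl, hw.nz p, hqb, hab, rfl⟩,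
      Triv.add P hZt (Triv.smul P hZ't _), fun h => hK'0 ?_, hmem (-1) (Or.inr rfl),
      fun m h1 h2 => hm m h1 h2 _⟩
    have hz' : (2 : F) • Z = 0 := by
      linear_combination (norm := module) hz + h
    have hZ0 : Z = 0 := (smul_eq_zero.1 hz').resolve_left hG.two
    rw [hZ0, zero_add] at hz
    rw [hK'', hZ0, hz, mul_zero, mul_zero, add_zero]
  · refine ⟨_, Z + (1 : F) • Z', ⟨1, a, b, Or.inl rfl, hw.nz p, hqb, hab, rfl⟩,
      Triv.add P hZt (Triv.smul P hZ't _), by rwa [one_smul], hmem 1 (Or.inl rfl),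
      fun m h1 h2 => hm m h1 h2 _⟩

omit hk in
/-- Changing the frame in the plane of one member and a third one. -/
theorem exists_factor_reframe {u : Fin k → Fin k → F} (hu : IsFrame q1 u) {p r c : Fin k} (hrp : r ≠ p)
    (hcp : c ≠ p) (hcr : c ≠ r) (hpc : IsSquare (q1 (u p) * q1 (u c)))
    {K2 : Module.End F (ι → F)} (hK2 : K2 ∈ 𝒮) (hK20 : K2 ≠ 0)
    (hs : ∀ i j, ¬ (i = p ∧ j = r) → ¬ (i = r ∧ j = p) → P.coef u l i j K2 = 0) :
    ∃ Y Z, IsMovedFactor q1 Y ∧ P.Triv l Z ∧ Z ≠ 0 ∧ P.sl l Y * Z ∈ 𝒮 ∧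
      ∀ m, m ≠ l → (∀ Z' ∈ 𝒮, P.Triv m Z') → P.Triv m Z := by
  obtain ⟨x, y, hxy⟩ := exists_binary hG.two (hu.nz p) (hu.nz c) (q1 (u r))
  have hqv : q1 (x • u p + y • u c) = q1 (u r) := by
    simp only [QuadraticMap.map_add ⇑q1, QuadraticMap.map_smul, polar_smul_left, polar_smul_right,
      hu.orth p c (Ne.symm hcp), smul_eq_mul]
    linear_combination hxy
  obtain ⟨w, hR', hwp, hwc, hwo⟩ := refr_two hu (S := {p, c}) (i := p) (k := c) (by simp) (by simp)
    (Ne.symm hcp) (s := x) (t := y) (by rw [hqv]; exact hu.nz r)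
  have hw := hR'.1
  have hwr : w r = u r := hwo r hrp (Ne.symm hcr)
  set sr := P.sl l (app (refl q1 (w r)))
  have hr : sr * K2 * sr = -K2 := by
    have e : ∀ i j, P.coef u l i j (sr * K2 * sr) = P.coef u l i j (-K2) := fun i j => by
      rw [show sr = P.sl l (app (refl q1 (u r))) by rw [← hwr], P.coef_refl hu, coef_neg]
      by_cases h1 : i = p ∧ j = r
      · rw [if_neg (by rw [h1.1]; exact Ne.symm hrp), if_pos h1.2, one_mul, neg_one_smul']
      by_cases h2 : i = r ∧ j = p
      · rw [if_pos h2.1, if_neg (by rw [h2.2]; exact Ne.symm hrp), mul_one, neg_one_smul']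
      rw [hs i j h1 h2, smul_zero, neg_zero]
    rw [P.recon hu l (sr * K2 * sr), P.recon hu l (-K2)]
    simp only [e]
  set sp := P.sl l (app (refl q1 (w p)))
  set sc := P.sl l (app (refl q1 (w c)))
  have hmove : sp * K2 * sp ≠ K2 ∨ sc * K2 * sc ≠ K2 := by
    by_contra hc'
    push Not at hc'
    have hbs : blockSign q1 w {p, c} = blockSign q1 u {p, c} := by
      exact blockSign_refr hu hR'
    have hb2 : ∀ (z : Fin k → Fin k → F), IsFrame q1 z →
        (app (refl q1 (z p)) : Module.End F (Fin k → F)) * app (refl q1 (z c)) = app (blockSign q1 z {p, c}) := by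
      intro z hz
      rw [Finset.insert_eq, blockSign_union hz (by simpa using Ne.symm hcp), blockSign_single, blockSign_single]
      exact LinearMap.ext fun v => by rw [Module.End.mul_apply, app_mul]
    set A := P.sl l (app (blockSign q1 u {p, c}))
    have e1 : A * K2 * P.sl l (app (refl q1 (w c)) * app (refl q1 (w p))) = K2 := by
      calc _ = sp * (sc * K2 * sc) * sp := by
            show P.sl l (app (blockSign q1 u {p, c})) * K2 * _ = _
            rw [← hbs, ← hb2 w hw, sl_mul, sl_mul]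
            simp only [sp, sc, mul_assoc]
        _ = K2 := by rw [hc'.2, hc'.1]
    have e2 : A * K2 * P.sl l (app (refl q1 (u c)) * app (refl q1 (u p))) = -K2 := by
      have e : ∀ i j, P.coef u l i j (A * K2 * P.sl l (app (refl q1 (u c)) * app (refl q1 (u p)))) =
          P.coef u l i j (-K2) := fun i j => by
        rw [show A * K2 * P.sl l (app (refl q1 (u c)) * app (refl q1 (u p))) = P.sl l (app (refl q1 (u p))) *
          (P.sl l (app (refl q1 (u c))) * K2 * P.sl l (app (refl q1 (u c)))) * P.sl l (app (refl q1 (u p))) by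
            simp only [A, ← hb2 u hu, sl_mul, mul_assoc], P.coef_refl hu, P.coef_refl hu, coef_neg, smul_smul]
        by_cases h1 : i = p ∧ j = r
        · rw [if_pos h1.1, if_neg (by rw [h1.2]; exact hrp), if_neg (by rw [h1.1]; exact Ne.symm hcp),
            if_neg (by rw [h1.2]; exact Ne.symm hcr), mul_one, mul_one, mul_one, neg_one_smul']
        by_cases h2 : i = r ∧ j = p
        · rw [if_neg (by rw [h2.1]; exact hrp), if_pos h2.2, if_neg (by rw [h2.1]; exact Ne.symm hcr),
            if_neg (by rw [h2.2]; exact Ne.symm hcp), one_mul, mul_one, mul_one, neg_one_smul']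
        rw [hs i j h1 h2, smul_zero, neg_zero]
      rw [P.recon hu l (A * K2 * _), P.recon hu l (-K2)]
      simp only [e]
    have hcp' : (app (refl q1 (w c)) : Module.End F (Fin k → F)) * app (refl q1 (w p)) =
        app (refl q1 (u c)) * app (refl q1 (u p)) := by
      have hinv' : ∀ (z : Fin k → Fin k → F), IsFrame q1 z →
          (app (refl q1 (z c)) : Module.End F (Fin k → F)) * app (refl q1 (z p)) = app (blockSign q1 z {p, c}) := by
        intro z hz
        rw [Finset.insert_eq, Finset.union_comm, blockSign_union hz (by simpa using hcp), blockSign_single,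
          blockSign_single]
        exact LinearMap.ext fun v => by rw [Module.End.mul_apply, app_mul]
      rw [hinv' w hw, hinv' u hu, hbs]
    rw [hcp', e2] at e1
    have : (2 : F) • K2 = 0 := by rw [two_smul]; exact eq_neg_iff_add_eq_zero.1 e1.symm
    exact hK20 ((smul_eq_zero.1 this).resolve_left hG.two)
  have hqp : q1 (w p) = q1 (u r) := by rw [hwp, hqv]
  rcases hmove with h | h
  · obtain ⟨K3, hK3, hK30, hs3⟩ := P.exists_supported hG l hinv hw (Ne.symm hrp) hK2 hr h
    refine P.exists_factor_pair hG l hinv hw (Ne.symm hrp) hK3 hK30 hs3 ⟨q1 (u r), ?_⟩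
    rw [hwr, hqp]
  · obtain ⟨K3, hK3, hK30, hs3⟩ := P.exists_supported hG l hinv hw hcr hK2 hr h
    refine P.exists_factor_pair hG l hinv hw hcr hK3 hK30 hs3 ?_
    have hqc : q1 (w c) = q1 (u p) * q1 (u c) * q1 (u r) := by
      rw [hwc]
      simp only [QuadraticMap.map_add ⇑q1, QuadraticMap.map_smul, polar_smul_left, polar_smul_right,
        hu.orth p c (Ne.symm hcp), smul_eq_mul]
      linear_combination (q1 (u p) * q1 (u c)) * hxy
    obtain ⟨s, hs'⟩ := hpc
    exact ⟨s * q1 (u r), by rw [hwr, hqc, hs']; ring⟩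

/-- The step at one slot which is not trivial. -/
theorem exists_factor_moved {K : Module.End F (ι → F)} (hK : K ∈ 𝒮) (hK0 : K ≠ 0)
    (hcomm : ∃ v, q1 v ≠ 0 ∧ P.sl l (app (refl q1 v)) * K * P.sl l (app (refl q1 v)) ≠ K) :
    ∃ Y Z, IsMovedFactor q1 Y ∧ P.Triv l Z ∧ Z ≠ 0 ∧ P.sl l Y * Z ∈ 𝒮 ∧
      ∀ m, m ≠ l → (∀ Z' ∈ 𝒮, P.Triv m Z') → P.Triv m Z := by
  classical
  obtain ⟨v, hv, hvK⟩ := hcomm
  obtain ⟨u0, hu0⟩ : ∃ u : Fin k → Fin k → F, IsFrame q1 u := CfsgLib.TensorOdd.exists_frame hG.nd hG.two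
  obtain ⟨u, p, -, hup, hR⟩ := refr_vec hu0 Finset.univ (y := v) (fun j hj => absurd (Finset.mem_univ j) hj) hv
  have hu := hR.1
  subst hup
  set σ := P.sl l (app (refl q1 (u p))) with hσdef
  have hσσ : σ * σ = 1 := by rw [hσdef, ← sl_mul, app_refl_sq hv, sl_one]
  set K1 := K - σ * K * σ
  have hK1 : K1 ∈ 𝒮 := Submodule.sub_mem _ hK (hinv _ hv K hK)
  have hK10 : K1 ≠ 0 := fun h => hvK (sub_eq_zero.1 h).symm
  have hK1p : σ * K1 * σ = -K1 := by
    simp only [K1, mul_sub, sub_mul]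
    rw [show σ * (σ * K * σ) * σ = σ * σ * K * (σ * σ) by simp only [mul_assoc], hσσ, one_mul, mul_one, neg_sub]
  obtain ⟨i, j, hij⟩ : ∃ i j, P.coef u l i j K1 ≠ 0 := by
    by_contra hc
    push Not at hc
    refine hK10 ((P.recon hu l K1).trans ?_)
    simp [hc]
  obtain ⟨b, hbp, hbK⟩ : ∃ b, b ≠ p ∧ P.sl l (app (refl q1 (u b))) * K1 * P.sl l (app (refl q1 (u b))) ≠ K1 := by
    have e := congrArg (P.coef u l i j) hK1p
    rw [hσdef, P.coef_refl hu, coef_neg] at e
    have h2F := hG.two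
    by_cases hip : i = p
    · have hjp : j ≠ p := fun h => by
        rw [if_pos hip, if_pos h] at e
        simp only [neg_mul_neg, one_mul, one_smul] at e
        have : (2 : F) • P.coef u l i j K1 = 0 := by rw [two_smul]; exact eq_neg_iff_add_eq_zero.1 e
        exact hij ((smul_eq_zero.1 this).resolve_left h2F)
      refine ⟨j, hjp, fun h => hij ?_⟩
      have e2 := congrArg (P.coef u l i j) h
      rw [P.coef_refl hu, if_neg (by rw [hip]; exact Ne.symm hjp), if_pos rfl, one_mul] at e2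
      have : (2 : F) • P.coef u l i j K1 = 0 := by linear_combination (norm := module) -e2
      exact (smul_eq_zero.1 this).resolve_left h2F
    · have hjp : j = p := by
        by_contra h
        rw [if_neg hip, if_neg h] at e
        simp only [one_mul, one_smul] at e
        have : (2 : F) • P.coef u l i j K1 = 0 := by rw [two_smul]; exact eq_neg_iff_add_eq_zero.1 e
        exact hij ((smul_eq_zero.1 this).resolve_left h2F)
      refine ⟨i, hip, fun h => hij ?_⟩
      have e2 := congrArg (P.coef u l i j) h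
      rw [P.coef_refl hu, if_pos rfl, if_neg (by rw [hjp]; exact Ne.symm hip), mul_one] at e2
      have : (2 : F) • P.coef u l i j K1 = 0 := by linear_combination (norm := module) -e2
      exact (smul_eq_zero.1 this).resolve_left h2F
  obtain ⟨K2, hK2, hK20, hsupp⟩ := P.exists_supported hG l hinv hu hbp hK1 hK1p hbK
  have finish := fun (w : Fin k → Fin k → F) (hw : IsFrame q1 w) (p r : Fin k) (hrp : r ≠ p)
    (K' : Module.End F (ι → F)) (hK' : K' ∈ 𝒮) (hK'0 : K' ≠ 0) => P.exists_factor_pair hG l hinv hw hrp hK' hK'0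
  by_cases hsq : IsSquare (q1 (u p) * q1 (u b))
  · exact finish u hu p b hbp K2 hK2 hK20 hsupp hsq
  -- change the frame in the plane of one member and a third one
  suffices H : ∀ p r c : Fin k, r ≠ p → c ≠ p → c ≠ r → IsSquare (q1 (u p) * q1 (u c)) →
      (∀ i j, ¬ (i = p ∧ j = r) → ¬ (i = r ∧ j = p) → P.coef u l i j K2 = 0) →
      ∃ Y Z, IsMovedFactor q1 Y ∧ P.Triv l Z ∧ Z ≠ 0 ∧ P.sl l Y * Z ∈ 𝒮 ∧
        ∀ m, m ≠ l → (∀ Z' ∈ 𝒮, P.Triv m Z') → P.Triv m Z by
    obtain ⟨c, -, hc⟩ := Finset.exists_mem_notMem_of_card_lt_card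
      (lt_of_le_of_lt (Finset.card_le_two (a := p) (b := b))
        (by simp; omega : 2 < (Finset.univ : Finset (Fin k)).card))
    simp only [Finset.mem_insert, Finset.mem_singleton, not_or] at hc
    by_cases hpc : IsSquare (q1 (u p) * q1 (u c))
    · exact H p b c hbp hc.1 hc.2 hpc hsupp
    · refine H b p c (Ne.symm hbp) hc.2 hc.1 ?_ (fun i j h1 h2 => hsupp i j h2 h1)
      rw [← sqSign_eq_iff (hu.nz _) (hu.nz _)] at hpc hsq ⊢
      have key : ∀ {x y z : ℤˣ}, x ≠ y → x ≠ z → y = z := fun {x y z} h1 h2 => by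
        rcases Int.units_eq_one_or x with rfl | rfl <;> rcases Int.units_eq_one_or y with rfl | rfl <;>
          rcases Int.units_eq_one_or z with rfl | rfl <;> first | rfl | exact absurd rfl h1 | exact absurd rfl h2
      exact key hsq hpc
  exact fun p r c hrp hcp hcr hpc hs => P.exists_factor_reframe hG l hinv hu hrp hcp hcr hpc hK2 hK20 hs

/-- The step at one slot. -/
theorem exists_factor {K : Module.End F (ι → F)} (hK : K ∈ 𝒮) (hK0 : K ≠ 0) :
    ∃ Y Z, IsPureFactor q1 Y ∧ P.Triv l Z ∧ Z ≠ 0 ∧ P.sl l Y * Z ∈ 𝒮 ∧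
      (∀ m, m ≠ l → (∀ Z' ∈ 𝒮, P.Triv m Z') → P.Triv m Z) ∧ (Y = LinearMap.id → P.Triv l K) := by
  classical
  by_cases hcomm : ∀ v, q1 v ≠ 0 → P.sl l (app (refl q1 v)) * K * P.sl l (app (refl q1 v)) = K
  · have hT : P.Triv l K := P.triv_of_pairs hG hk l fun v w hv hw _ => by
      have hc : ∀ v, q1 v ≠ 0 → P.sl l (app (refl q1 v)) * K = K * P.sl l (app (refl q1 v)) := fun v hv => by
        conv_rhs => rw [← hcomm v hv]
        rw [mul_assoc _ _ (P.sl l (app (refl q1 v))), ← sl_mul, app_refl_sq hv, sl_one, mul_one]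
      rw [sl_mul, mul_assoc, hc w hw, ← mul_assoc, hc v hv, mul_assoc]
    refine ⟨LinearMap.id, K, Or.inl rfl, hT, hK0, ?_, fun m _ h => h K hK, fun _ => hT⟩
    show P.sl l 1 * K ∈ 𝒮
    rw [sl_one, one_mul]
    exact hK
  push Not at hcomm
  obtain ⟨Y, Z, hY, hZ, hZ0, hm, ht⟩ := P.exists_factor_moved hG hk l hinv hK hK0 hcomm
  refine ⟨Y, Z, hY.pure, hZ, hZ0, hm, ht, fun hid => ?_⟩
  obtain ⟨ε, a, b, -, ha, hb, hab, rfl⟩ := hY
  exact absurd hid (tmap_ne_id hG hk ha (by rw [hb]; exact ha) hab ε)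

end Step

/-- An invariant space of endomorphisms contains a pure one. -/
theorem exists_pure (hG : Good q1) (hk : 4 ≤ k) {𝒦 : Submodule F (Module.End F (ι → F))}
    (hinv : ∀ l v, q1 v ≠ 0 → ∀ K ∈ 𝒦, P.sl l (app (refl q1 v)) * K * P.sl l (app (refl q1 v)) ∈ 𝒦)
    {K : Module.End F (ι → F)} (hK : K ∈ 𝒦) (hK0 : K ≠ 0) :
    ∃ Y : Fin t → Module.End F (Fin k → F), (∀ l, IsPureFactor q1 (Y l)) ∧ P.tenL Y ∈ 𝒦 := by
  classical
  suffices H : ∀ S : Finset (Fin t), ∃ (Y : Fin t → Module.End F (Fin k → F)) (Z : Module.End F (ι → F)),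
      (∀ l, IsPureFactor q1 (Y l)) ∧ (∀ l, l ∉ S → Y l = LinearMap.id) ∧ Z ≠ 0 ∧ (∀ m ∈ S, P.Triv m Z) ∧
        P.tenL Y * Z ∈ 𝒦 by
    obtain ⟨Y, Z, hY, -, hZ0, hZ, hmem⟩ := H Finset.univ
    obtain ⟨c, hc⟩ := P.scalar_of_triv hG fun m => hZ m (Finset.mem_univ m)
    have hZc : Z = c • (1 : Module.End F (ι → F)) := LinearMap.ext hc
    have hc0 : c ≠ 0 := fun h => hZ0 (by rw [hZc, h, zero_smul])
    refine ⟨Y, hY, ?_⟩
    have := Submodule.smul_mem 𝒦 c⁻¹ hmem
    rwa [hZc, mul_smul_comm, mul_one, inv_smul_smul₀ hc0] at this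
  intro S
  induction S using Finset.induction_on with
  | empty =>
    refine ⟨fun _ => LinearMap.id, K, fun _ => Or.inl rfl, fun _ _ => rfl, hK0,
      fun m hm => absurd hm (Finset.notMem_empty m), ?_⟩
    rwa [show P.tenL (fun _ => LinearMap.id) = 1 from P.ext_tp fun xs => by rw [P.tenL_tp]; rfl, one_mul]
  | @insert l S hl ih =>
    obtain ⟨Y, Z, hY, hYS, hZ0, hZ, hmem⟩ := ih
    let 𝒮 : Submodule F (Module.End F (ι → F)) :=
      { carrier := {Z | (∀ m ∈ S, P.Triv m Z) ∧ P.tenL Y * Z ∈ 𝒦}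
        zero_mem' := ⟨fun m _ => Triv.zero P m, by rw [mul_zero]; exact 𝒦.zero_mem⟩
        add_mem' := fun {Z Z'} h h' => ⟨fun m hm => Triv.add P (h.1 m hm) (h'.1 m hm),
          by rw [mul_add]; exact 𝒦.add_mem h.2 h'.2⟩
        smul_mem' := fun c Z h => ⟨fun m hm => Triv.smul P (h.1 m hm) c,
          by rw [mul_smul_comm]; exact 𝒦.smul_mem c h.2⟩ }
    have hcomm : ∀ A, P.sl l A * P.tenL Y = P.tenL Y * P.sl l A := fun A => P.ext_tp fun xs => by
      rw [Module.End.mul_apply, Module.End.mul_apply, P.tenL_tp, sl_tp, sl_tp, P.tenL_tp]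
      congr 1
      funext m
      rcases eq_or_ne m l with rfl | h
      · simp [hYS m hl]
      · simp [Function.update_of_ne h]
    obtain ⟨Y0, Z1, hY0, hZ1, hZ10, hmem1, htriv, -⟩ := P.exists_factor hG hk l (𝒮 := 𝒮) (fun v hv W hW =>
      ⟨fun m hm => ((P.triv_sl (fun h : m = l => hl (by rw [← h]; exact hm)) _).mul P (hW.1 m hm)).mul P
          (P.triv_sl (fun h : m = l => hl (by rw [← h]; exact hm)) _), by
        rw [← mul_assoc, ← mul_assoc, ← hcomm, mul_assoc _ (P.tenL Y) W]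
        exact hinv l v hv _ hW.2⟩)
      (K := Z) ⟨hZ, hmem⟩ hZ0
    refine ⟨Function.update Y l Y0, Z1, fun m => ?_, fun m hm => ?_, hZ10, fun m hm => ?_, ?_⟩
    · rcases eq_or_ne m l with rfl | h
      · rw [Function.update_self]; exact hY0
      · rw [Function.update_of_ne h]; exact hY m
    · rw [Finset.mem_insert, not_or] at hm
      rw [Function.update_of_ne hm.1]
      exact hYS m hm.2
    · rcases Finset.mem_insert.1 hm with rfl | hm
      · exact hZ1
      · exact htriv m (fun h => hl (h ▸ hm)) fun Z' hZ' => hZ'.1 m hm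
    · have e : P.tenL (Function.update Y l Y0) = P.tenL Y * P.sl l Y0 := P.ext_tp fun xs => by
        rw [Module.End.mul_apply, sl_tp, P.tenL_tp, P.tenL_tp]
        congr 1
        funext m
        rcases eq_or_ne m l with rfl | h
        · simp [hYS m hl]
        · simp [Function.update_of_ne h]
      rw [e, mul_assoc]
      exact hmem1.2

end Power

end CfsgLib.TensorEven
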