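import Cfsg.Agent.Lib.TensorEven.Omega
import Cfsg.Agent.Lib.TensorEven.Pure

/-!
The components of an element of the root group of a singular slice along the middle space, and the criterion
for it to be a root element of the second factor.
-/

set_option autoImplicit false
set_option linter.unusedSectionVars false

namespace CfsgLib.TensorOddMinus

open Matrix QuadraticMap CfsgLib.Orth
open CfsgLib.TensorOdd (IsFrame InBlock refr_vec)
open CfsgLib.TensorMax63 (Hyp mid mem_mid exists_hyp ext_polar exists_aniso)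

variable {ι : Type} [Fintype ι] [DecidableEq ι] {F : Type*} [Field F] [Fintype F]
variable {q : QuadraticForm F (ι → F)} {a b : ℕ}

namespace Data

variable {D : Data q a b}

/-- Maps with equal contractions are equal. -/
theorem ext_C {f g : (Fin a → F) →ₗ[F] (ι → F)} (h : ∀ z x, D.C z (f x) = D.C z (g x)) : f = g := by
  refine LinearMap.ext fun x => sub_eq_zero.1 (D.nd.1 _ fun y => ?_)
  have e : q.polarBilin (f x) = q.polarBilin (g x) := D.ext_tp fun u v => by
    rw [polarBilin_apply_apply, polarBilin_apply_apply, ← polar_C, ← polar_C, h]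
  rw [map_sub, LinearMap.sub_apply, LinearMap.congr_fun e y, sub_self]

/-- The inverse of an element of the root group. -/
theorem IsRad.inv {w : Fin b → F} (hw : D.q2 w = 0) {Θ : (Fin a → F) →ₗ[F] (ι → F)}
    {K : (Fin a → F) →ₗ[F] (Fin a → F)} {g : O q} (h : D.IsRad w Θ K g) :
    D.IsRad w (-Θ) (-K - (D.adj Θ).comp Θ) g⁻¹ := by
  refine ⟨fun x => by rw [LinearMap.neg_apply, map_neg, h.ker, neg_zero], fun z => app_injective g ?_⟩
  have hneg : ∀ y, D.adj (-Θ) y = -D.adj Θ y := fun y =>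
    ext_polar D.good1.nd fun x => by
      rw [polar_adj, LinearMap.neg_apply, polar_neg_right, polar_neg_left, polar_adj]
  rw [app_app_inv, h.eqn]
  simp only [hneg, map_add, map_sub, map_neg, h.ker, D.C_self hw, adj_tp h.ker, LinearMap.neg_apply,
    LinearMap.sub_apply, LinearMap.comp_apply, D.tp_neg_left, D.tp_sub_left, D.tp_add_left, neg_zero,
    sub_zero, add_zero, zero_add]
  abel

theorem IsRad.sub {w : Fin b → F} (hw : D.q2 w = 0) {Θ Θ' : (Fin a → F) →ₗ[F] (ι → F)}
    {K K' : (Fin a → F) →ₗ[F] (Fin a → F)} {g g' : O q} (h : D.IsRad w Θ K g) (h' : D.IsRad w Θ' K' g') :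
    ∃ K'', D.IsRad w (Θ - Θ') K'' (g * g'⁻¹) := by
  have e := h.mul hw (h'.inv hw)
  rw [← sub_eq_add_neg] at e
  exact ⟨_, e⟩

variable {M : Subgroup (O q)} {w w' : Fin b → F} (P : Hyp D.q2 w w')
include P

/-- Contractions of a conjugate by a reflection fixing the pair. -/
theorem C_refl_comp {c : Fin b → F} (z : Fin b → F) (Θ : (Fin a → F) →ₗ[F] (ι → F)) (x : Fin a → F) :
    D.C z (app (D.R (refl D.q2 c)) (Θ x)) =
      D.C z (Θ x) - ((D.q2 c)⁻¹ * polar D.q2 z c) • D.C c (Θ x) := by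
  have e := C_R (D := D) (refl D.q2 c) (app (refl D.q2 c) z) (Θ x)
  rw [← app_mul, refl_mul_self, app_one] at e
  rw [e, app_refl]
  refine ext_polar D.good1.nd fun y => ?_
  rw [polar_sub_left, polar_smul_left, polar_C, polar_C, polar_C]
  show polar q (Θ x) (D.tpR y (z - _ • c)) = _
  rw [map_sub, map_smul, polar_sub_right, polar_smul_right]
  rfl

/-- The difference with the conjugate by a reflection is supported on its vector. -/
theorem IsRad.sub_refl {Θ : (Fin a → F) →ₗ[F] (ι → F)} {K : (Fin a → F) →ₗ[F] (Fin a → F)} {g : O q}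
    (h : D.IsRad w Θ K g) (hg : g ∈ M) {c : Fin b → F} (hc : c ∈ mid D.q2 w w') (hr : D.R (refl D.q2 c) ∈ M) :
    ∃ g' ∈ M, ∃ K', D.IsRad w ((D.tpL c).comp ((D.q2 c)⁻¹ • (D.C c).comp Θ)) K' g' := by
  have h' := h.conj_R (refl D.q2 c)
  rw [app_refl_of_ortho (by rw [polar_comm]; exact (by
    have := (mem_mid.1 hc).1; rwa [polar_comm] at this))] at h'
  obtain ⟨K'', h''⟩ := h.sub P.q₁ h'
  refine ⟨_, M.mul_mem hg (M.inv_mem (M.mul_mem (M.mul_mem hr hg) (M.inv_mem hr))), K'', ?_⟩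
  convert h'' using 1
  refine ext_C (D := D) fun z x => ?_
  rw [LinearMap.sub_apply, map_sub, LinearMap.comp_apply, LinearMap.comp_apply, C_refl_comp P, sub_sub_cancel,
    LinearMap.smul_apply, LinearMap.comp_apply]
  show D.C z (D.tp _ c) = _
  rw [C_tp, smul_smul, polar_comm (f := ⇑D.q2) c z, mul_comm]

/-- A frame through a given anisotropic vector of the middle space, with two further members there. -/
theorem exists_mid_frame (hb : 4 ≤ b) {c : Fin b → F} (hc : c ∈ mid D.q2 w w') (hqc : D.q2 c ≠ 0) :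
    ∃ (v : Fin b → Fin b → F) (i j l : Fin b), IsFrame D.q2 v ∧ v l = c ∧ i ≠ j ∧ l ≠ i ∧ l ≠ j ∧
      (∀ m, m ≠ i → m ≠ j → v m ∈ mid D.q2 w w') ∧ v i = w + w' ∧ v j = w - w' := by
  classical
  have h1 : D.q2 (w + w') = 1 := by rw [QuadraticMap.map_add ⇑D.q2, P.q₁, P.q₂, P.pair]; ring
  have h2 : D.q2 (w - w') = -1 := by
    rw [sub_eq_add_neg, QuadraticMap.map_add ⇑D.q2, QuadraticMap.map_neg, polar_neg_right, P.q₁, P.q₂, P.pair]
    ring
  have h3 : polar D.q2 (w + w') (w - w') = 0 := by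
    rw [polar_add_left, polar_sub_right, polar_sub_right, P.self₁, P.self₂, P.pair, P.pair']; ring
  obtain ⟨u, i, j, hij, hu, hi, hj⟩ := CfsgLib.TensorEven.exists_frame_pair D.good2 (p := w + w') (r := w - w')
    (by rw [h1]; exact one_ne_zero) (by rw [h2]; simp) h3
  obtain ⟨v, l, hl, hvl, hR⟩ := refr_vec hu ((Finset.univ.erase i).erase j) (y := c) (fun m hm => by
    simp only [Finset.mem_erase, Finset.mem_univ, and_true, not_and_or, not_not] at hm
    rcases hm with rfl | rfl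
    · rw [hj, polar_comm, polar_sub_left, (mem_mid.1 hc).1, (mem_mid.1 hc).2, sub_zero]
    · rw [hi, polar_comm, polar_add_left, (mem_mid.1 hc).1, (mem_mid.1 hc).2, add_zero]) hqc
  simp only [Finset.mem_erase, Finset.mem_univ, and_true] at hl
  have hvi : v i = w + w' := by rw [hR.2.1 i (by simp), hi]
  have hvj : v j = w - w' := by rw [hR.2.1 j (by simp), hj]
  refine ⟨v, i, j, l, hR.1, hvl, hij, hl.2, hl.1, fun m hmi hmj => mem_mid.2 ?_, hvi, hvj⟩
  have e1 := hR.1.orth m i hmi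
  have e2 := hR.1.orth m j hmj
  rw [hvi, polar_comm, polar_add_left] at e1
  rw [hvj, polar_comm, polar_sub_left] at e2
  have h4 := D.two
  constructor
  · exact (mul_eq_zero.1 (show (2 : F) * polar D.q2 w (v m) = 0 by linear_combination e1 + e2)).resolve_left h4
  · exact (mul_eq_zero.1 (show (2 : F) * polar D.q2 w' (v m) = 0 by linear_combination e1 - e2)).resolve_left h4

/-- The components are self-adjoint. -/
theorem component_adj (hzero : ∀ K, D.InW M w K → K = 0) {Θ : (Fin a → F) →ₗ[F] (ι → F)}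
    {K : (Fin a → F) →ₗ[F] (Fin a → F)} {g : O q} (h : D.IsRad w Θ K g) (hg : g ∈ M) {c : Fin b → F}
    (hc : c ∈ mid D.q2 w w') (hr : D.R (eich D.q2 w c) ∈ M) (x y : Fin a → F) :
    polar D.q1 (D.C c (Θ x)) y = polar D.q1 x (D.C c (Θ y)) := by
  have e := hzero _ ⟨_, M.mul_mem (M.mul_mem hg hr) (M.inv_mem (M.mul_mem hr hg)),
    h.commutator P.q₁ (isRad_R_eich P hc)⟩
  have e1 := congrArg (fun f : (Fin a → F) →ₗ[F] (Fin a → F) => polar D.q1 (f x) y) e
  simp only [LinearMap.sub_apply, LinearMap.comp_apply, polar_sub_left, LinearMap.zero_apply, polar_zero_left,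
    sub_eq_zero] at e1
  rw [polar_adj, polar_adj] at e1
  rw [polar_C, polar_comm (f := ⇑D.q1) x, polar_C]
  have e2 : polar q (Θ x) (D.tpL c y) = polar q (D.tpL c x) (Θ y) := e1
  exact e2.trans (polar_comm (⇑q) _ _)

/-- An element with scalar components is a root element times one which is the identity modulo the slice. -/
theorem exists_center (hb : 4 ≤ b) {Θ : (Fin a → F) →ₗ[F] (ι → F)}
    {K : (Fin a → F) →ₗ[F] (Fin a → F)} {g : O q} (h : D.IsRad w Θ K g)
    (hsc : ∀ c ∈ mid D.q2 w w', D.q2 c ≠ 0 → ∃ s : F, ∀ x, D.C c (Θ x) = s • x) :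
    ∃ c ∈ mid D.q2 w w', ∃ K'', D.IsRad w 0 K'' (g * (D.R (eich D.q2 w c))⁻¹) := by
  obtain ⟨Θ', K', h', hw'Θ, hmid⟩ := h.normalise P
  obtain ⟨e, he, hqe⟩ := exists_aniso (P.nondeg_mid D.good2.nd) (fun hb' => by
    have e := P.finrank_mid D.good2.nd
    rw [hb', finrank_bot, Fintype.card_fin] at e
    omega)
  obtain ⟨v, i, j, l, hv, -, hij, -, -, hvm, hvi, hvj⟩ := exists_mid_frame P hb he hqe
  have hall : ∀ m, ∃ s : F, ∀ x, D.C (v m) (Θ' x) = s • x := by
    intro m
    have hCw : ∀ z z' x, D.C (z + z') (Θ' x) = D.C z (Θ' x) + D.C z' (Θ' x) ∧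
        D.C (z - z') (Θ' x) = D.C z (Θ' x) - D.C z' (Θ' x) := fun z z' x => by
      constructor <;> refine ext_polar D.good1.nd fun y => ?_
      · rw [polar_add_left, polar_C, polar_C, polar_C, D.tp_add_right, polar_add_right]
      · rw [polar_sub_left, polar_C, polar_C, polar_C, sub_eq_add_neg z z', D.tp_add_right, D.tp_neg_right,
          polar_add_right, polar_neg_right, sub_eq_add_neg]
    by_cases hmi : m = i
    · exact ⟨0, fun x => by rw [hmi, hvi, (hCw _ _ x).1, h'.ker, hw'Θ, add_zero, zero_smul]⟩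
    by_cases hmj : m = j
    · exact ⟨0, fun x => by rw [hmj, hvj, (hCw _ _ x).2, h'.ker, hw'Θ, sub_zero, zero_smul]⟩
    obtain ⟨s, hs⟩ := hsc _ (hvm m hmi hmj) (hv.nz m)
    exact ⟨s, fun x => by rw [hmid _ (hvm m hmi hmj), hs]⟩
  choose s hs using hall
  set c0 := ∑ m, (s m / (2 * D.q2 (v m))) • v m with hc0
  have hdot : ∀ m, polar D.q2 c0 (v m) = s m := fun m => by
    rw [hc0, hv.polar_sum, div_mul_cancel₀ _ (mul_ne_zero D.two (hv.nz m))]
  have hΘ : Θ' = D.tpL c0 := ext_C fun z x => by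
    show D.C z (Θ' x) = D.C z (D.tp x c0)
    refine ext_polar D.good1.nd fun y => ?_
    rw [polar_C, polar_C]
    have : (q.polarBilin (Θ' x)).comp (D.tpR y) = (q.polarBilin (D.tp x c0)).comp (D.tpR y) := by
      refine hv.ext_lin fun m => ?_
      show polar q (Θ' x) (D.tp y (v m)) = polar q (D.tp x c0) (D.tp y (v m))
      rw [← polar_C, ← polar_C, hs, C_tp, hdot]
    exact LinearMap.congr_fun this z
  have hmem : c0 ∈ mid D.q2 w w' := by
    obtain ⟨x, hx⟩ := exists_anisotropic D.good1.nd (le_trans (by norm_num) D.good1.three)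
    have hx0 : x ≠ 0 := fun h => hx (by rw [h, QuadraticMap.map_zero])
    have e1 := h'.ker x
    have e2 := hw'Θ x
    rw [hΘ] at e1 e2
    change D.C w (D.tp x c0) = 0 at e1
    change D.C w' (D.tp x c0) = 0 at e2
    rw [C_tp, smul_eq_zero, or_iff_left hx0] at e1 e2
    refine mem_mid.2 ⟨?_, ?_⟩
    · first | exact e1 | rw [polar_comm]; exact e1
    · first | exact e2 | rw [polar_comm]; exact e2
  refine ⟨c0, hmem, ?_⟩
  obtain ⟨K'', hd⟩ := h'.sub P.q₁ (isRad_R_eich P hmem)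
  rw [hΘ, sub_self] at hd
  exact ⟨K'', hd⟩

/-- An element with scalar components is a root element of the second factor. -/
theorem eq_root_of_scalar (hb : 4 ≤ b) (hzero : ∀ K, D.InW M w K → K = 0)
    (hR : ∀ c ∈ mid D.q2 w w', D.R (eich D.q2 w c) ∈ M) {Θ : (Fin a → F) →ₗ[F] (ι → F)}
    {K : (Fin a → F) →ₗ[F] (Fin a → F)} {g : O q} (h : D.IsRad w Θ K g) (hg : g ∈ M)
    (hsc : ∀ c ∈ mid D.q2 w w', D.q2 c ≠ 0 → ∃ s : F, ∀ x, D.C c (Θ x) = s • x) :
    ∃ c ∈ mid D.q2 w w', g = D.R (eich D.q2 w c) := by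
  obtain ⟨c0, hmem, K'', hd⟩ := exists_center P hb h hsc
  have hK := hzero K'' ⟨_, M.mul_mem hg (M.inv_mem (hR c0 hmem)), hd⟩
  rw [hK] at hd
  exact ⟨c0, hmem, mul_inv_eq_one.1 (hd.ext Data.IsRad.one)⟩

/-- Single components are self-adjoint and commute. -/
theorem single_comm (hzero : ∀ K, D.InW M w K → K = 0) {c : Fin b → F} (hc : c ∈ mid D.q2 w w')
    (hqc : D.q2 c ≠ 0) (hr : D.R (eich D.q2 w c) ∈ M) {X X' : (Fin a → F) →ₗ[F] (Fin a → F)} {g g' : O q}
    (hg : g ∈ M) (hg' : g' ∈ M) {K K' : (Fin a → F) →ₗ[F] (Fin a → F)}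
    (e : D.IsRad w ((D.tpL c).comp X) K g) (e' : D.IsRad w ((D.tpL c).comp X') K' g') :
    X.comp X' = X'.comp X := by
  have h2 : (2 : F) * D.q2 c ≠ 0 := mul_ne_zero D.two hqc
  have hC : ∀ z, D.C c (D.tpL c z) = (2 * D.q2 c) • z := fun z => by
    show D.C c (D.tp z c) = _
    rw [C_tp, polar_self']
  have hadj : ∀ (Y : (Fin a → F) →ₗ[F] (Fin a → F)) (g : O q) (K : (Fin a → F) →ₗ[F] (Fin a → F)), g ∈ M →
      D.IsRad w ((D.tpL c).comp Y) K g → ∀ x y, polar D.q1 (Y x) y = polar D.q1 x (Y y) := fun Y g K hg e x y => by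
    have h := component_adj P hzero e hg hc hr x y
    rw [LinearMap.comp_apply, LinearMap.comp_apply, hC, hC, polar_smul_left, polar_smul_right] at h
    exact mul_left_cancel₀ h2 h
  have h0 := hzero _ ⟨_, M.mul_mem (M.mul_mem hg hg') (M.inv_mem (M.mul_mem hg' hg)), e.commutator P.q₁ e'⟩
  refine LinearMap.ext fun y => ?_
  have h1 := LinearMap.congr_fun h0 y
  simp only [LinearMap.sub_apply, LinearMap.comp_apply, adj_tpL_comp (hadj X' g' K' hg' e'),
    adj_tpL_comp (hadj X g K hg e), hC, map_smul, LinearMap.zero_apply] at h1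
  rw [← smul_sub, smul_eq_zero, or_iff_right h2, sub_eq_zero] at h1
  exact h1.symm

end Data

end CfsgLib.TensorOddMinus
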