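import Cfsg.Agent.Lib.TensorEven.FullSupp
import Cfsg.Agent.Lib.Solvable.CoprimeGeneration
import Cfsg.Agent.Lib.OddOrder.PuigSeries

/-!
The elements of the group supported inside one slot are monomial, and with them the centralisers of a
reflection and of a product of two orthogonal reflections of a slot.
-/

set_option autoImplicit false
set_option linter.unusedSectionVars false

namespace CfsgLib.TensorEven

open Matrix QuadraticMap CfsgLib.Orth CfsgLib.TensorOddMinus
open CfsgLib.TensorOdd (IsFrame blockSign blockSign_app)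
open CfsgLib.TensorMax63 (Hyp mid mem_mid exists_hyp)

variable {ι : Type} [Fintype ι] [DecidableEq ι] {F : Type*} [Field F] [Fintype F] {k t : ℕ}
variable {q : QuadraticForm F (ι → F)} {q1 : QuadraticForm F (Fin k → F)}

/-- Three fixed dimensions contain the data of a root element. -/
theorem exists_root_fixed (hG : Good q1) {A : O q1} (hA : A * A = 1) (h : mv A + 3 ≤ k) :
    ∃ u c, Power.RootVec q1 u c ∧ app A u = u ∧ app A c = c := by
  classical
  obtain ⟨v, S, hv, rfl⟩ := exists_sign_frame hG.nd hG.two hA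
  rw [mv_blockSign hv] at h
  obtain ⟨a, b, c, hab, hac, hbc, he⟩ := Finset.two_lt_card_iff.1 (show 2 < Sᶜ.card by
    rw [Finset.card_compl, Fintype.card_fin]; omega) |> fun ⟨a, b, c, ha, hb, hc, hab, hac, hbc⟩ =>
      (⟨a, b, c, hab, hac, hbc, ha, hb, hc⟩ : ∃ a b c, a ≠ b ∧ a ≠ c ∧ b ≠ c ∧ a ∈ Sᶜ ∧ b ∈ Sᶜ ∧ c ∈ Sᶜ)
  obtain ⟨x, y, hxy⟩ := CfsgLib.Orth.exists_binary hG.two (hv.nz a) (hv.nz b) (-q1 (v c))
  have hfix : ∀ l, l ∈ Sᶜ → app (blockSign q1 v S) (v l) = v l := fun l hl => by
    rw [blockSign_app hv, if_neg (Finset.mem_compl.1 hl)]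
  refine ⟨x • v a + y • v b + v c, (y * q1 (v b)) • v a - (x * q1 (v a)) • v b, ⟨?_, fun h0 => ?_, ?_, ?_⟩, ?_, ?_⟩
  · simp only [QuadraticMap.map_add ⇑q1, QuadraticMap.map_smul, polar_add_left, polar_smul_left, polar_smul_right,
      hv.orth a b hab, hv.orth a c hac, hv.orth b c hbc, smul_eq_mul]
    linear_combination hxy
  · have e := congrArg (fun z => polar q1 z (v c)) h0
    simp only [polar_add_left, polar_smul_left, hv.orth a c hac, hv.orth b c hbc, polar_zero_left, smul_zero,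
      zero_add, polar_self'] at e
    exact mul_ne_zero hG.two (hv.nz c) e
  · simp only [polar_add_left, polar_sub_right, polar_smul_left, polar_smul_right, hv.orth a b hab,
      hv.orth b a hab.symm, hv.orth c a hac.symm, hv.orth c b hbc.symm, polar_self', smul_eq_mul]
    ring
  · have e : q1 ((y * q1 (v b)) • v a - (x * q1 (v a)) • v b) = -(q1 (v a) * q1 (v b) * q1 (v c)) := by
      rw [sub_eq_add_neg, ← neg_smul]
      simp only [QuadraticMap.map_add ⇑q1, QuadraticMap.map_smul, polar_smul_left, polar_smul_right,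
        hv.orth a b hab, smul_eq_mul]
      linear_combination q1 (v a) * q1 (v b) * hxy
    rw [e]
    exact neg_ne_zero.2 (mul_ne_zero (mul_ne_zero (hv.nz a) (hv.nz b)) (hv.nz c))
  · rw [map_add, map_add, map_smul, map_smul, hfix a he.1, hfix b he.2.1, hfix c he.2.2]
  · rw [map_sub, map_smul, map_smul, hfix a he.1, hfix b he.2.1]

/-- Root elements are supported by the space of their data. -/
theorem supp_eich (hG : Good q1) {A : O q1} (hA : A * A = 1) {u c : Fin k → F} (hr : Power.RootVec q1 u c)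
    (hu : app A u = u) (hc : app A c = c) : Supp (negId q1 * A) (eich q1 u c) := fun z hz => by
  have hz' : app A z = -z := by
    rw [app_mul, app_negId] at hz
    rw [← hz, neg_neg, hz]
  rw [app_eich hr.sing hr.orth, orth_of_neg hG.two hz' hu, orth_of_neg hG.two hz' hc]
  simp

namespace Power

variable {P : Power q q1 (t + 1)} {hG : Good q1} {ht : 1 ≤ t} {G : Subgroup (O q)}

theorem exists_ne_slot (ht : 1 ≤ t) (i : Fin (t + 1)) : ∃ j : Fin (t + 1), j ≠ i := by
  haveI : Nontrivial (Fin (t + 1)) := Fin.nontrivial_iff_two_le.2 (by omega)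
  exact exists_ne i

theorem exists_rootvec (hG : Good q1) : ∃ u c, RootVec q1 u c := by
  have hk : 3 ≤ k := by have := hG.three; rwa [Fintype.card_fin] at this
  obtain ⟨u, c, hr, -, -⟩ := exists_root_fixed hG (A := 1) (one_mul 1) (by rw [mv_one]; omega)
  exact ⟨u, c, hr⟩

theorem S_negId_mul (P : Power q q1 (t + 1)) (hG : Good q1) (ht : 1 ≤ t) (i : Fin (t + 1)) (A : O q1) :
    negId q * P.S hG ht i A = P.S hG ht i (negId q1 * A) := by
  rw [map_mul, S_negId]

/-- An element supported away from a root element is monomial. -/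
theorem small_ker (hU : P.Uni hG ht G) {i : Fin (t + 1)} {A : O q1} (hA : A * A = 1) (h : mv A + 3 ≤ k)
    {g : O q} (hg : g ∈ G) (hs : Supp (P.S hG ht i A) g) : g ∈ P.Mon := by
  obtain ⟨u, c, hr, hu, hc⟩ := exists_root_fixed hG hA h
  refine hU.cent i hr g hg ?_
  have e : Supp (negId q * P.S hG ht i A) (P.S hG ht i (eich q1 u c)) := by
    rw [S_negId_mul]
    exact P.supp_S hG ht i (negId_mul_invol hA) (supp_eich hG hA hr hu hc)
  exact hs.commute_compl (P.nd hG) hG.two (by rw [← map_mul, hA, map_one]) e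

/-- Conjugating a root element supported in a slot. -/
theorem conj_root (h : P.Full hG ht G) (hU : P.Uni hG ht G) {i : Fin (t + 1)} {B : O q1} (hB : B * B = 1)
    (h3 : 3 ≤ mv B) (hK : ∀ y ∈ G, Supp (P.S hG ht i B) y → y ∈ P.Mon) {g : O q} (hg : g ∈ G)
    (hc : g * P.S hG ht i B = P.S hG ht i B * g) : g ∈ P.Mon := by
  have hn := mv_negId_mul hG.nd hG.two hB
  rw [Fintype.card_fin] at hn
  obtain ⟨u, c, hr, hu, hc'⟩ := exists_root_fixed hG (negId_mul_invol hB) (by omega)
  have hx : Supp (P.S hG ht i B) (P.S hG ht i (eich q1 u c)) := by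
    refine P.supp_S hG ht i hB ?_
    have := supp_eich hG (negId_mul_invol hB) hr hu hc'
    rwa [negId_negId_mul] at this
  exact hU g hg i u c hr (hK _ (G.mul_mem (G.mul_mem hg (h.base.root_mem i hr)) (G.inv_mem hg)) (hx.conj hc))

/-- Only monomial elements of the supported group carry a supported reflection to a monomial element. -/
theorem supp_step (h : P.Full hG ht G) (hU : P.Uni hG ht G) (hk : 4 ≤ k) {i : Fin (t + 1)} {A : O q1}
    (hA : A * A = 1) (hmv : mv A < k)
    (hC : ∀ v, q1 v ≠ 0 → app A v = -v → ∀ g ∈ G, Supp (P.S hG ht i A) g →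
      g * P.sg hG ht i v = P.sg hG ht i v * g → g ∈ P.Mon)
    {g : O q} (hg : g ∈ G) (hs : Supp (P.S hG ht i A) g) {v : Fin k → F} (hv : q1 v ≠ 0) (hAv : app A v = -v)
    (hy : g * P.sg hG ht i v * g⁻¹ ∈ P.Mon) : g ∈ P.Mon := by
  have hsg : Supp (P.S hG ht i A) (P.sg hG ht i v) := P.supp_S hG ht i hA (supp_refl hG.two hAv)
  have hyS : Supp (P.S hG ht i A) (g * P.sg hG ht i v * g⁻¹) := (hs.mul hsg).mul hs.inv
  obtain ⟨B, hB, hAB⟩ := P.mon_supp hG ht hA hmv hy hyS
  have hB2 : B * B = 1 := P.S_inj hG ht i (by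
    rw [map_mul, ← hB, map_one]
    calc g * P.sg hG ht i v * g⁻¹ * (g * P.sg hG ht i v * g⁻¹) = g * (P.sg hG ht i v * P.sg hG ht i v) * g⁻¹ := by
          group
      _ = 1 := by rw [sg, ← map_mul, refl_mul_self, map_one, mul_one, mul_inv_cancel])
  have hB1 : mv B = 1 := by
    have e := P.mv_S hG ht i hB2
    rw [← hB, mv_conj, mv_sg P hG ht i hv] at e
    have hpos : 0 < k ^ t := Nat.pow_pos (by omega)
    exact (Nat.eq_of_mul_eq_mul_right hpos (by rw [one_mul, ← e] : 1 * k ^ t = mv B * k ^ t)).symm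
  obtain ⟨v', hv', rfl⟩ := eq_refl_of_mv hG.nd hG.two hB2 hB1
  have hAv' : app A v' = -v' := hAB.refl_neg hG.nd hA hv'
  obtain ⟨u, c, hr⟩ := exists_rootvec (q1 := q1) hG
  obtain ⟨j, hj⟩ := exists_ne_slot ht i
  set x := P.S hG ht j (eich q1 u c)
  have hxA : x * P.S hG ht i A = P.S hG ht i A * x := P.S_comm hG ht j hj _ _
  have hxv : x * P.sg hG ht i v = P.sg hG ht i v * x := P.S_comm hG ht j hj _ _
  have hxv' : x * P.sg hG ht i v' = P.sg hG ht i v' * x := P.S_comm hG ht j hj _ _
  have hxG : x ∈ G := h.base.root_mem j hr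
  set w := g * x * g⁻¹ * x⁻¹ with hw
  have hwG : w ∈ G := G.mul_mem (G.mul_mem (G.mul_mem hg hxG) (G.inv_mem hg)) (G.inv_mem hxG)
  have hwS : Supp (P.S hG ht i A) w := by
    rw [hw, show g * x * g⁻¹ * x⁻¹ = g * (x * g⁻¹ * x⁻¹) by group]
    exact hs.mul (hs.inv.conj hxA)
  have c1 : Commute (g * x * g⁻¹) (P.sg hG ht i v') := by
    show _ = _
    rw [sg, ← hB]
    calc g * x * g⁻¹ * (g * P.sg hG ht i v * g⁻¹) = g * (x * P.sg hG ht i v) * g⁻¹ := by group
      _ = g * (P.sg hG ht i v * x) * g⁻¹ := by rw [hxv]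
      _ = g * P.sg hG ht i v * g⁻¹ * (g * x * g⁻¹) := by group
  have hwc : Commute w (P.sg hG ht i v') := c1.mul_left (Commute.inv_left hxv')
  have hwM := hC v' hv' hAv' w hwG hwS hwc.eq
  refine hU g hg j u c hr ?_
  have := P.Mon.mul_mem hwM (P.S_mem hG ht j (eich q1 u c))
  rwa [hw, inv_mul_cancel_right] at this

set_option maxHeartbeats 1000000 in
/-- The supported group is monomial if its centralisers of reflections and its planes are. -/
theorem supp_main (h : P.Full hG ht G) (hU : P.Uni hG ht G) (hk : 4 ≤ k) {i : Fin (t + 1)} {A : O q1}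
    (hA : A * A = 1) (hmv : mv A < k) (h2 : 2 ≤ mv A)
    (hC : ∀ v, q1 v ≠ 0 → app A v = -v → ∀ g ∈ G, Supp (P.S hG ht i A) g →
      g * P.sg hG ht i v = P.sg hG ht i v * g → g ∈ P.Mon)
    (hB : ∀ B : O q1, B * B = 1 → mv B ≤ 2 → ∀ g ∈ G, Supp (P.S hG ht i B) g → g ∈ P.Mon)
    {g : O q} (hg : g ∈ G) (hs : Supp (P.S hG ht i A) g) : g ∈ P.Mon := by
  classical
  obtain ⟨u, S, hu, hAS⟩ := exists_sign_frame hG.nd hG.two hA
  rw [hAS, mv_blockSign hu] at h2
  obtain ⟨a, ha, b, hb, hab⟩ := Finset.one_lt_card.1 (show 1 < S.card by omega)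
  obtain ⟨x, y, hxy0, hxy⟩ := exists_two_values hG.two (hu.nz a) (hu.nz b)
  set w := u a with hwdef
  set w' := x • u a + y • u b with hw'def
  have hqw : q1 w ≠ 0 := hu.nz a
  have hqw' : q1 w' = x ^ 2 * q1 (u a) + y ^ 2 * q1 (u b) := by
    simp only [hw'def, QuadraticMap.map_add ⇑q1, QuadraticMap.map_smul, polar_smul_left, polar_smul_right,
      hu.orth a b hab, smul_eq_mul]
    ring
  have hqw'0 : q1 w' ≠ 0 := by rw [hqw']; exact hxy0
  have hAw : app A w = -w := by rw [hAS, hwdef, blockSign_app hu, if_pos ha]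
  have hAw' : app A w' = -w' := by
    rw [hAS, hw'def, map_add, map_smul, map_smul, blockSign_app hu, if_pos ha, blockSign_app hu, if_pos hb]
    module
  let K : Subgroup (O q) :=
    { carrier := {z | z ∈ G ∧ Supp (P.S hG ht i A) z}
      one_mem' := ⟨G.one_mem, Supp.one _⟩
      mul_mem' := fun h1 h2 => ⟨G.mul_mem h1.1 h2.1, h1.2.mul h2.2⟩
      inv_mem' := fun h1 => ⟨G.inv_mem h1.1, h1.2.inv⟩ }
  have hsgK : ∀ v, app A v = -v → P.sg hG ht i v ∈ K := fun v hv =>
    ⟨h.S_mem i _, P.supp_S hG ht i hA (supp_refl hG.two hv)⟩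
  have hgK : g ∈ K := ⟨hg, hs⟩
  set r := P.sg hG ht i w with hr
  set s := g * P.sg hG ht i w' * g⁻¹ with hsdef
  have hsq : ∀ v, P.sg hG ht i v * P.sg hG ht i v = 1 := fun v => by
    rw [sg, ← map_mul, refl_mul_self, map_one]
  have hs2 : s * s = 1 := by
    rw [hsdef]
    calc g * P.sg hG ht i w' * g⁻¹ * (g * P.sg hG ht i w' * g⁻¹) =
        g * (P.sg hG ht i w' * P.sg hG ht i w') * g⁻¹ := by group
      _ = 1 := by rw [hsq, mul_one, mul_inv_cancel]
  obtain ⟨e, heK, he1, he2, her, hes, hpar⟩ := dihedral_pair K (r := r) (s := s) (hsgK w hAw)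
    (K.mul_mem (K.mul_mem hgK (hsgK w' hAw')) (K.inv_mem hgK)) (hsq w) hs2 (fun c hc e => by
      have hk' : (c⁻¹ * g) * P.sg hG ht i w' * (c⁻¹ * g)⁻¹ = r := by
        calc (c⁻¹ * g) * P.sg hG ht i w' * (c⁻¹ * g)⁻¹ = c⁻¹ * s * c := by rw [hsdef]; group
          _ = r := by rw [← e]; group
      have hkK := K.mul_mem (K.inv_mem hc) hgK
      have hkM := supp_step h hU hk hA hmv hC hkK.1 hkK.2 hqw'0 hAw' (by rw [hk']; exact P.S_mem hG ht i _)
      obtain ⟨C, hC', -⟩ := P.mon_supp hG ht hA hmv hkM hkK.2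
      rw [hC', hr, sg, sg, ← map_inv, ← map_mul, ← map_mul] at hk'
      have hC2 := P.S_inj hG ht i hk'
      have hz : app (refl q1 w) (app C w') = -app C w' := by
        rw [← hC2, app_mul, app_mul, app_inv_app, app_refl_self hG.two hqw'0, map_neg]
      have hzw : app C w' = ((q1 w)⁻¹ * polar q1 (app C w') w / 2) • w := by
        rw [app_refl] at hz
        refine smul_right_injective _ hG.two (?_ : (2 : F) • _ = (2 : F) • _)
        rw [smul_smul, mul_div_cancel₀ _ hG.two]
        linear_combination (norm := module) hz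
      refine hxy ⟨(q1 w)⁻¹ * polar q1 (app C w') w / 2, ?_⟩
      rw [← hqw', ← Q_app C w', div_eq_iff hqw]
      conv_lhs => rw [hzw, QuadraticMap.map_smul, smul_eq_mul])
  have heM : e ∈ P.Mon := hC w hqw hAw e heK.1 heK.2 her
  obtain ⟨B, hBe, hAB⟩ := P.mon_supp hG ht hA hmv heM heK.2
  have hB2 : B * B = 1 := P.S_inj hG ht i (by rw [map_mul, map_one, ← hBe, he2])
  have hBw : B * refl q1 w = refl q1 w * B := P.S_inj hG ht i (by rw [map_mul, map_mul, ← hBe]; exact her)
  have hre : mv (r * e) = k ^ t := by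
    have hw1 : mv r = k ^ t := P.mv_sg hG ht i hqw
    have hs1 : mv s = k ^ t := by rw [hsdef, mv_conj]; exact P.mv_sg hG ht i hqw'0
    rcases hpar with ⟨⟨c, -, e⟩, -⟩ | ⟨⟨c, -, e⟩, -⟩ <;> rw [← e, mv_conj] <;> assumption
  have hwB2 : (refl q1 w * B) * (refl q1 w * B) = 1 := invol_mul (refl_mul_self w) hB2 hBw
  obtain ⟨v, hv, hwv⟩ := eq_refl_of_mv hG.nd hG.two hwB2 (by
    have e1 := P.mv_S hG ht i hwB2
    rw [map_mul, ← hBe, hre] at e1
    exact (Nat.eq_of_mul_eq_mul_right (Nat.pow_pos (by omega : 0 < k)) (by rw [one_mul, ← e1] :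
      1 * k ^ t = _ * k ^ t)).symm)
  have hBv : B = refl q1 w * refl q1 v := by rw [← hwv, ← mul_assoc, refl_mul_self, one_mul]
  have hwv0 : polar q1 w v = 0 := by
    refine (refl_comm_cases hG.two hqw hv ?_).resolve_right fun e' => he1 ?_
    · rw [← hwv, ← mul_assoc, refl_mul_self, one_mul, mul_assoc, hBw, ← mul_assoc, refl_mul_self, one_mul]
    · rw [hBe, hBv, ← e', refl_mul_self, map_one]
  have hBmv : mv B ≤ 2 := by
    rw [hBv]
    refine le_trans (mv_mul_le _ _) ?_
    rw [mv_refl hG.nd hG.two hqw, mv_refl hG.nd hG.two hv]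
  have hBw1 : app B w = -w := by
    rw [hBv, app_mul, app_refl_orth hwv0, app_refl_self hG.two hqw]
  have hsw : Supp (P.S hG ht i B) (P.sg hG ht i w) := P.supp_S hG ht i hB2 (supp_refl hG.two hBw1)
  have hsK : s ∈ K := K.mul_mem (K.mul_mem hgK (hsgK w' hAw')) (K.inv_mem hgK)
  have hc' : s * P.sg hG ht i w * s⁻¹ ∈ P.Mon := by
    refine hB B hB2 hBmv _ (G.mul_mem (G.mul_mem hsK.1 (h.S_mem i _)) (G.inv_mem hsK.1)) (hsw.conj ?_)
    rw [← hBe]; exact hes.symm
  have hsM : s ∈ P.Mon := supp_step h hU hk hA hmv hC hsK.1 hsK.2 hqw hAw hc'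
  exact supp_step h hU hk hA hmv hC hg hs hqw'0 hAw' hsM

/-- The negated space loses one dimension at a reflection. -/
theorem mv_drop {A : O q1} (hG : Good q1) (hA : A * A = 1) {v : Fin k → F} (hv : q1 v ≠ 0)
    (hAv : app A v = -v) :
    A * refl q1 v * (A * refl q1 v) = 1 ∧ mv (A * refl q1 v) < mv A ∧ mv A ≤ mv (A * refl q1 v) + 1 ∧
      Supp A (A * refl q1 v) := by
  have hs : Supp A (refl q1 v) := supp_refl hG.two hAv
  have hc := hs.commute hG.nd hG.two hA
  have hsupp : Supp A (A * refl q1 v) := (Supp.self A).mul hs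
  refine ⟨invol_mul hA (refl_mul_self v) hc, ?_, ?_, hsupp⟩
  · have hlt : fixS A < fixS (A * refl q1 v) := by
      refine lt_of_le_of_ne (fun z hz => mem_fixS.2 (hsupp z (mem_fixS.1 hz))) fun e => ?_
      have hv' : v ∈ fixS (A * refl q1 v) := mem_fixS.2 (by
        rw [app_mul, app_refl_self hG.two hv, map_neg, hAv, neg_neg])
      rw [← e, mem_fixS, hAv] at hv'
      have : (2 : F) • v = 0 := by linear_combination (norm := module) -hv'
      exact hv (by rw [(smul_eq_zero.1 this).resolve_left hG.two, QuadraticMap.map_zero])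
    have := Submodule.finrank_lt_finrank_of_lt hlt
    have := mv_add_fix A
    have := mv_add_fix (A * refl q1 v)
    omega
  · have := mv_mul_le (A * refl q1 v) (refl q1 v)
    rwa [mul_assoc, refl_mul_self, mul_one, mv_refl hG.nd hG.two hv] at this

set_option maxHeartbeats 1000000 in
/-- Coprime action of a root group of another slot. -/
theorem coprime_ker (h : P.Full hG ht G) (hU : P.Uni hG ht G) (hk : k = 4) {j : Fin (t + 1)} {L : Subgroup (O q)}
    (hLG : L ≤ G) (hn : ∀ (X : O q1), ∀ g ∈ L, P.S hG ht j X * g * (P.S hG ht j X)⁻¹ ∈ L) {r : ℕ} [hr : Fact r.Prime]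
    [CharP F r] (hfree : ∀ g ∈ L, g ∈ P.Mon → g ^ r = 1 → g = 1) : L ≤ P.Mon := by
  classical
  obtain ⟨u, c₀, hr0⟩ := exists_rootvec (q1 := q1) hG
  obtain ⟨u', Pu⟩ := exists_hyp hG.nd hr0.sing hr0.ne
  set m := mid q1 u u' with hm
  have horth : ∀ c : m, polar q1 u c = 0 := fun c => (mem_mid.1 c.2).1
  have hnz : ∀ c : m, c ≠ 0 → q1 (c : Fin k → F) ≠ 0 := fun c hc h0 => by
    obtain ⟨s, hs⟩ := hG.four (by rw [Fintype.card_fin, hk]) u c hr0.sing h0 (horth c) hr0.ne
    have e := (mem_mid.1 c.2).2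
    rw [hs, polar_smul_right, polar_comm, Pu.pair, smul_eq_mul, mul_one] at e
    exact hc (Subtype.ext (by rw [hs, e, zero_smul]; rfl))
  let φ : Multiplicative m →* O q :=
    { toFun := fun c => P.S hG ht j (eich q1 u (Multiplicative.toAdd c : m))
      map_one' := by
        show P.S hG ht j (eich q1 u ((0 : m) : Fin k → F)) = 1
        rw [Submodule.coe_zero, show (0 : Fin k → F) = (0 : F) • u by rw [zero_smul],
          eich_smul_self hr0.sing, map_one]
      map_mul' := fun a b => by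
        show P.S hG ht j (eich q1 u ((Multiplicative.toAdd a + Multiplicative.toAdd b : m) : Fin k → F)) = _
        rw [Submodule.coe_add, ← eich_add hr0.sing (horth _) (horth _), map_mul] }
  have hφ : Function.Injective φ := by
    rw [injective_iff_map_eq_one]
    intro c hc
    have e : eich q1 u ((Multiplicative.toAdd c : m) : Fin k → F) = 1 := P.S_inj hG ht j (by
      rw [map_one]; exact hc)
    by_contra hc1
    have hc0 : Multiplicative.toAdd c ≠ (0 : m) := fun h => hc1 (by
      rw [← ofAdd_toAdd c, h]; rfl)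
    have e2 := congrArg (fun z => polar q1 (app z u') (Multiplicative.toAdd c : m)) e
    simp only [app_one] at e2
    rw [app_eich hr0.sing (horth _), polar_add_left, polar_add_left, polar_smul_left, polar_smul_left,
      horth, smul_zero, add_zero, polar_self', Pu.pair', smul_eq_mul, one_mul, add_eq_left] at e2
    exact mul_ne_zero hG.two (hnz _ hc0) e2
  set R := φ.range with hR
  have hRroot : ∀ x ∈ R, x ≠ 1 → ∀ g ∈ L, g * x = x * g → g ∈ P.Mon := by
    rintro _ ⟨c, rfl⟩ hx g hg hgx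
    have hc0 : Multiplicative.toAdd c ≠ (0 : m) := fun h => hx (by
      rw [← ofAdd_toAdd c, h]; exact map_one φ)
    exact hU.cent j ⟨hr0.sing, hr0.ne, horth _, hnz _ hc0⟩ g (hLG hg) hgx
  haveI : IsMulCommutative R := ⟨⟨by
    rintro ⟨_, a, rfl⟩ ⟨_, b, rfl⟩
    exact Subtype.ext (by show φ a * φ b = φ b * φ a; rw [← map_mul, ← map_mul, mul_comm])⟩⟩
  have hRcard : Nat.card R = Nat.card m := by
    rw [hR, Nat.card_congr (MonoidHom.ofInjective hφ).toEquiv.symm]
    exact Nat.card_congr Multiplicative.toAdd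
  have hexp : ∀ x ∈ R, x ^ r = 1 := by
    rintro _ ⟨c, rfl⟩
    rw [← map_pow]
    have : c ^ r = 1 := Multiplicative.toAdd.injective (by
      rw [toAdd_pow, toAdd_one]
      exact Subtype.ext (by
        rw [Submodule.coe_smul_of_tower, ← Nat.cast_smul_eq_nsmul F, CharP.cast_eq_zero, zero_smul]; rfl))
    rw [this, map_one]
  have hRp : IsPGroup r R := fun x => ⟨1, Subtype.ext (by rw [pow_one]; exact hexp x x.2)⟩
  have hFc : r ≤ Fintype.card F := by
    obtain ⟨n, -, hn⟩ := FiniteField.card F r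
    rw [hn]
    calc r = r ^ 1 := (pow_one r).symm
      _ ≤ r ^ (n : ℕ) := Nat.pow_le_pow_right hr.out.pos n.pos
  have hnc : ¬ IsCyclic R := fun hcy => by
    have h1 : Nat.card R ∣ r := by
      rw [← IsCyclic.exponent_eq_card]
      exact Monoid.exponent_dvd_of_forall_pow_eq_one fun x => Subtype.ext (hexp x x.2)
    rw [hRcard, Module.natCard_eq_pow_finrank (K := F)] at h1
    have h2 := Pu.finrank_mid hG.nd
    rw [Fintype.card_fin] at h2
    have h3 := Nat.le_of_dvd hr.out.pos h1
    rw [Nat.card_eq_fintype_card] at h3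
    have h4 : Fintype.card F ^ 2 ≤ Fintype.card F ^ Module.finrank F m :=
      Nat.pow_le_pow_right Fintype.card_pos (show 2 ≤ Module.finrank F m by rw [hm]; omega)
    have := hr.out.two_le
    nlinarith
  have hRN : R ≤ Subgroup.normalizer (L : Set (O q)) := by
    rintro _ ⟨c, rfl⟩
    rw [Subgroup.mem_normalizer_iff]
    refine fun g => ⟨fun hg => hn _ g hg, fun hg => ?_⟩
    have e := hn (eich q1 u (Multiplicative.toAdd c : m))⁻¹ _ hg
    rw [map_inv, inv_inv] at e
    simpa [φ, mul_assoc] using e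
  -- `L` has order prime to the characteristic
  have hndvd : ¬ r ∣ Nat.card L := fun hdvd => by
    set N := Subgroup.normalizer (L : Set (O q)) with hN
    set L' := L.subgroupOf N with hL'
    haveI : L'.Normal := Subgroup.normal_in_normalizer
    obtain ⟨y, hy⟩ := exists_prime_orderOf_dvd_card' r hdvd
    obtain ⟨Q, hQ⟩ := (hRp.comap_subtype (K := N)).exists_le_sylow
    set y' : N := ⟨y, Subgroup.le_normalizer y.2⟩
    have hyp : IsPGroup r (Subgroup.zpowers y') := by
      refine IsPGroup.of_card (n := 1) ?_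
      rw [pow_one, Nat.card_zpowers, ← hy, ← Subgroup.orderOf_coe y, ← Subgroup.orderOf_coe y']
    obtain ⟨Q', hQ'⟩ := hyp.exists_le_sylow
    obtain ⟨n, hn'⟩ := MulAction.exists_smul_eq N Q' Q
    have hyQ : n * y' * n⁻¹ ∈ (Q : Subgroup N) := by
      rw [← hn', Sylow.coe_subgroup_smul]
      exact ⟨y', hQ' (Subgroup.mem_zpowers y'), rfl⟩
    have hyL : n * y' * n⁻¹ ∈ L' := ‹L'.Normal›.conj_mem y' y.2 n
    haveI : Group.IsNilpotent (Q : Subgroup N) := Q.isPGroup'.isNilpotent
    haveI : (L'.subgroupOf (Q : Subgroup N)).Normal := inferInstance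
    have hne : L'.subgroupOf (Q : Subgroup N) ≠ ⊥ := by
      intro e
      have h1 : (⟨n * y' * n⁻¹, hyQ⟩ : (Q : Subgroup N)) ∈ L'.subgroupOf (Q : Subgroup N) := hyL
      rw [e, Subgroup.mem_bot] at h1
      have h2 : n * y' * n⁻¹ = 1 := congrArg Subtype.val h1
      rw [conj_eq_one_iff] at h2
      have : y = 1 := Subtype.ext (congrArg (fun z : N => (z : O q)) h2)
      rw [this, orderOf_one] at hy
      exact hr.out.one_lt.ne hy
    obtain ⟨⟨z, hz⟩, hz1'⟩ := Subgroup.ne_bot_iff_exists_ne_one.1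
      (CfsgLib.OddOrder.PuigSeries.inf_center_ne_bot (L'.subgroupOf (Q : Subgroup N)) hne)
    have hz1 : z ≠ 1 := fun h => hz1' (Subtype.ext h)
    obtain ⟨n₀, hn₀⟩ := Q.isPGroup' z
    have hord : ∃ n₁, orderOf (((z : N) : O q)) = r ^ (n₁ + 1) := by
      obtain ⟨n₁, -, hn₁⟩ := (Nat.dvd_prime_pow hr.out).1 (orderOf_dvd_of_pow_eq_one hn₀)
      rcases n₁ with _ | n₁
      · exact absurd (orderOf_eq_one_iff.1 (by rw [hn₁, pow_zero])) hz1
      · exact ⟨n₁, by rw [Subgroup.orderOf_coe, Subgroup.orderOf_coe, hn₁]⟩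
    obtain ⟨n₁, hn₁⟩ := hord
    set z₀ : O q := ((z : N) : O q) ^ (r ^ n₁) with hz₀
    have hz0L : z₀ ∈ L := Subgroup.pow_mem L (hz.2 : ((z : N) : O q) ∈ L) _
    have hz0r : z₀ ^ r = 1 := by
      rw [hz₀, ← pow_mul, ← pow_succ, ← hn₁, pow_orderOf_eq_one]
    have hz0M : z₀ ∈ P.Mon := by
      obtain ⟨x, hx1, hx⟩ : ∃ x, x ∈ R ∧ x ≠ 1 := by
        by_contra hcon
        push Not at hcon
        exact hnc (by
          haveI : Subsingleton R := ⟨fun a b => Subtype.ext ((hcon a a.2).trans (hcon b b.2).symm)⟩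
          exact isCyclic_of_subsingleton)
      refine hRroot x hx1 hx z₀ hz0L ?_
      have hxQ : (⟨x, hRN hx1⟩ : N) ∈ (Q : Subgroup N) := hQ hx1
      have e := (Subgroup.mem_center_iff.1 hz.1 ⟨_, hxQ⟩).symm
      have e' : ((z : N) : O q) * x = x * ((z : N) : O q) := congrArg (fun v : (Q : Subgroup N) => ((v : N) : O q)) e
      exact ((show Commute ((z : N) : O q) x from e').pow_left _).eq
    have := hfree z₀ hz0L hz0M hz0r
    have hdv := orderOf_dvd_of_pow_eq_one this
    rw [hn₁] at hdv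
    exact absurd ((Nat.pow_dvd_pow_iff_le_right hr.out.one_lt).1 hdv) (by omega)
  have hcop : (Nat.card R).Coprime (Nat.card L) := by
    obtain ⟨n, hn⟩ := IsPGroup.iff_card.1 hRp
    rw [hn]
    exact Nat.Coprime.pow_left _ (hr.out.coprime_iff_not_dvd.2 hndvd)
  rw [← CfsgLib.CoprimeGeneration.iSup_centralizer_eq R L hnc hRN hcop]
  refine iSup₂_le fun x hx g hg => ?_
  exact hRroot x hx.1 hx.2 g hg.1 (Subgroup.mem_centralizer_singleton_iff.1 hg.2)

/-- The elements of order the characteristic fixing a space of codimension at most two. -/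
theorem eq_one_of_unip {A X : O q1} (hG : Good q1) (hA : A * A = 1) (hm : mv A ≤ 2) (hs : Supp A X) {r : ℕ}
    [Fact r.Prime] [CharP F r] (hX : X ^ r = 1) : X = 1 := by
  by_contra h1
  haveI : Nonempty (Fin k) := ⟨⟨0, by have := hG.three; rw [Fintype.card_fin] at this; omega⟩⟩
  haveI : Nontrivial (Fin k → F) := Function.nontrivial
  have hnl : nl X ^ r = 0 := by
    have e : (app X : Module.End F (Fin k → F)) = 1 + nl X := LinearMap.ext fun z => by
      show app X z = z + (app X z - z); abel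
    have e2 : (app (X ^ r) : Module.End F (Fin k → F)) = (app X : Module.End F (Fin k → F)) ^ r := app_pow X r
    have e1 : (app (1 : O q1) : Module.End F (Fin k → F)) = 1 := LinearMap.ext fun z => app_one z
    rw [hX, e1, e, end_one_add_pow] at e2
    simpa using e2.symm
  have hle : LinearMap.range (nl X) ≤ movS A := by
    rintro _ ⟨z, rfl⟩
    rw [movS_eq hG.nd, LinearMap.BilinForm.mem_orthogonal_iff]
    intro f hf
    have hf' := mem_fixS.1 hf
    show polar q1 f (app X z - z) = 0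
    rw [polar_sub_right]
    conv_lhs => arg 1; rw [← hs f hf']
    rw [polar_app, sub_self]
  have h2 := two_le_finrank_nl hG.nd hG.two ⟨r, hnl⟩ h1
  have heq : LinearMap.range (nl X) = movS A := Submodule.eq_of_le_of_finrank_le hle (by
    have : mv A = Module.finrank F (movS A) := rfl
    omega)
  -- the range is the image of itself
  have hstab : LinearMap.range (nl X) ≤ Submodule.map (nl X) (LinearMap.range (nl X)) := by
    rintro _ ⟨z, rfl⟩
    refine ⟨(2 : F)⁻¹ • (z - app A z), ?_, ?_⟩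
    · rw [heq]
      exact Submodule.smul_mem _ _ (mem_movS.2 ⟨z, rfl⟩)
    · have hf : app A (z + app A z) = z + app A z := by rw [map_add, sq_app hA, add_comm]
      have e : nl X (z + app A z) = 0 := by
        show app X _ - (1 : Module.End F (Fin k → F)) _ = 0
        rw [Module.End.one_apply, hs _ hf, sub_self]
      rw [map_add] at e
      rw [map_smul, map_sub, inv_smul_eq_iff₀ hG.two]
      linear_combination (norm := module) -e
  have hall : ∀ n : ℕ, LinearMap.range (nl X) ≤ LinearMap.range (nl X ^ (n + 1)) := by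
    intro n
    induction n with
    | zero => rw [zero_add, pow_one]
    | succ n ih =>
      refine hstab.trans ?_
      rw [pow_succ' (nl X) (n + 1)]
      rintro _ ⟨y, hy, rfl⟩
      obtain ⟨z, hz⟩ := ih hy
      exact ⟨z, by rw [← hz]; rfl⟩
  obtain ⟨n, hn⟩ : ∃ n, r = n + 1 := ⟨r - 1, by have := (Fact.out : r.Prime).pos; omega⟩
  have h3 := hall n
  rw [← hn, hnl, LinearMap.range_zero, le_bot_iff] at h3
  rw [h3, finrank_bot] at h2
  omega

/-- Coprime action in the small cases. -/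
theorem ker_four (h : P.Full hG ht G) (hU : P.Uni hG ht G) (hk : k = 4) {i : Fin (t + 1)} {A A' A'' : O q1}
    (hA : A * A = 1) (hmv : mv A < k) (hA' : A' * A' = 1) (hA'2 : mv A' ≤ 2)
    (hfree : ∀ X : O q1, Supp A X → X * A'' = A'' * X → ∀ r : ℕ, r.Prime → Odd r → X ^ r = 1 → Supp A' X)
    {g : O q} (hg : g ∈ G) (hs : Supp (P.S hG ht i A) g)
    (hc : g * P.S hG ht i A'' = P.S hG ht i A'' * g) : g ∈ P.Mon := by
  obtain ⟨r, hr, hcr, hr3⟩ := exists_char (F := F) hG.two
  haveI : Fact r.Prime := ⟨hr⟩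
  obtain ⟨j, hj⟩ := exists_ne_slot ht i
  let L : Subgroup (O q) :=
    { carrier := {z | z ∈ G ∧ Supp (P.S hG ht i A) z ∧ Commute z (P.S hG ht i A'')}
      one_mem' := ⟨G.one_mem, Supp.one _, Commute.one_left _⟩
      mul_mem' := fun h1 h2 => ⟨G.mul_mem h1.1 h2.1, h1.2.1.mul h2.2.1, h1.2.2.mul_left h2.2.2⟩
      inv_mem' := fun h1 => ⟨G.inv_mem h1.1, h1.2.1.inv, h1.2.2.inv_left⟩ }
  refine coprime_ker h hU hk (j := j) (L := L) (fun z hz => hz.1) (fun X z hz => ⟨?_, ?_, ?_⟩) (r := r)
    (fun z hz hzM hzr => ?_) (⟨hg, hs, hc⟩ : g ∈ L)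
  · exact G.mul_mem (G.mul_mem (h.S_mem j X) hz.1) (G.inv_mem (h.S_mem j X))
  · exact hz.2.1.conj (P.S_comm hG ht j hj X A)
  · have hx : Commute (P.S hG ht j X) (P.S hG ht i A'') := P.S_comm hG ht j hj X A''
    exact (hx.mul_left hz.2.2).mul_left hx.inv_left
  · obtain ⟨B, rfl, hAB⟩ := P.mon_supp hG ht hA hmv hzM hz.2.1
    have hBr : B ^ r = 1 := P.S_inj hG ht i (by rw [map_pow, map_one, hzr])
    have hcomm : B * A'' = A'' * B := P.S_inj hG ht i (by rw [map_mul, map_mul]; exact hz.2.2)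
    rw [eq_one_of_unip hG hA' hA'2 (hfree B hAB hcomm r hr (hr.odd_of_ne_two (by omega)) hBr) hBr, map_one]

set_option maxHeartbeats 1000000 in
/-- The elements supported in a proper part of a slot are monomial. -/
theorem supp_le_Mon (h : P.Full hG ht G) (hU : P.Uni hG ht G) (hk : 4 ≤ k) (hke : Even k) (i : Fin (t + 1)) (A : O q1)
    (hA : A * A = 1) (hmv : mv A < k) {g : O q} (hg : g ∈ G) (hs : Supp (P.S hG ht i A) g) : g ∈ P.Mon := by
  have plane : ∀ B : O q1, B * B = 1 → mv B ≤ 2 → ∀ g ∈ G, Supp (P.S hG ht i B) g → g ∈ P.Mon := by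
    intro B hB hB2 g hg hs
    by_cases h5 : 5 ≤ k
    · exact small_ker hU hB (by omega) hg hs
    · exact ker_four h hU (by omega) (A := B) (A' := B) (A'' := 1) hB (by omega) hB hB2
        (fun X hX _ _ _ _ _ => hX) hg hs (by rw [map_one, mul_one, one_mul])
  induction hn : mv A using Nat.strong_induction_on generalizing A g with
  | _ n ih =>
    by_cases h2 : mv A ≤ 2
    · exact plane A hA h2 g hg hs
    by_cases hsm : mv A + 3 ≤ k
    · exact small_ker hU hA hsm hg hs
    refine supp_main h hU hk hA hmv (by omega) (fun v hv hAv z hz hzs hzc => ?_) plane hg hs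
    obtain ⟨hA'i, hlt, hle, -⟩ := mv_drop hG hA hv hAv
    by_cases h3 : 3 ≤ mv (A * refl q1 v)
    · have hcA : z * P.S hG ht i A = P.S hG ht i A * z :=
        hzs.commute (P.nd hG) hG.two (by rw [← map_mul, hA, map_one])
      refine conj_root h hU hA'i h3 (fun y hy hys => ih _ (by omega) _ hA'i (by omega) hy hys rfl) hz ?_
      rw [map_mul, ← mul_assoc, hcA, mul_assoc, hzc, ← mul_assoc]
    · refine ker_four h hU (by obtain ⟨m, hm⟩ := hke; omega) (A := A) (A' := A * refl q1 v) (A'' := refl q1 v) hA hmv hA'i (by omega)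
        (fun X hX hXv r hr hodd hXr f hf => ?_) hz hzs hzc
      -- `X` fixes `v`
      have hXv' : app (refl q1 v) (app X v) = -app X v := by
        rw [← app_mul, ← hXv, app_mul, app_refl_self hG.two hv, map_neg]
      obtain ⟨d, hd⟩ : ∃ d : F, app X v = d • v := by
        refine ⟨(q1 v)⁻¹ * polar q1 (app X v) v / 2, smul_right_injective _ hG.two (?_ : (2 : F) • _ = (2 : F) • _)⟩
        rw [app_refl] at hXv'
        rw [smul_smul, mul_div_cancel₀ _ hG.two]
        linear_combination (norm := module) hXv'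
      have hpow : ∀ m : ℕ, app (X ^ m) v = d ^ m • v := by
        intro m
        induction m with
        | zero => rw [pow_zero, pow_zero, app_one, one_smul]
        | succ m ihm => rw [pow_succ, app_mul, hd, map_smul, ihm, smul_smul, pow_succ, mul_comm]
      have hv0 : v ≠ 0 := fun h => hv (by rw [h, QuadraticMap.map_zero])
      have hd2 : d * d = 1 := by
        have e := Q_app X v
        rw [hd, QuadraticMap.map_smul, smul_eq_mul] at e
        exact mul_right_cancel₀ hv (by rw [e, one_mul])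
      have hdr : d ^ r = 1 := by
        have e := hpow r
        rw [hXr, app_one] at e
        exact smul_left_injective F hv0 (by simpa using e.symm)
      have hd1 : d = 1 := by
        obtain ⟨m, rfl⟩ := hodd
        rwa [pow_succ, pow_mul, _root_.sq, hd2, one_pow, one_mul] at hdr
      rw [hd1, one_smul] at hd
      -- the fixed space
      rw [app_mul] at hf
      set s := ((q1 v)⁻¹ * polar q1 f v) / 2 with hs'
      have e1 : app (refl q1 v) f = f - (2 * s) • v := by
        rw [app_refl, hs', mul_div_cancel₀ _ hG.two]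
      rw [e1, map_sub, map_smul, hAv, smul_neg, sub_neg_eq_add] at hf
      have e2 : app A (f - s • v) = f - s • v := by
        rw [map_sub, map_smul, hAv]
        linear_combination (norm := module) hf
      have e3 := hX _ e2
      rw [map_sub, map_smul, hd, sub_left_inj] at e3
      exact e3

/-- The centraliser of a reflection of a slot. -/
theorem cent_single (h : P.Full hG ht G) (hU : P.Uni hG ht G) (hk : 4 ≤ k) (hke : Even k) (i : Fin (t + 1)) {v : Fin k → F}
    (hv : q1 v ≠ 0) : P.CentMon G (P.sg hG ht i v) := fun g hg hc => by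
  set B := negId q1 * refl q1 v
  have hB : B * B = 1 := negId_mul_invol (refl_mul_self v)
  have hmv : mv B + 1 = k := by
    have := mv_negId_mul hG.nd hG.two (refl_mul_self (Q := q1) v)
    rwa [mv_refl hG.nd hG.two hv, Fintype.card_fin] at this
  refine conj_root h hU hB (by omega) (fun y hy hys => supp_le_Mon h hU hk hke i B hB (by omega) hy hys) hg ?_
  rw [show P.S hG ht i B = negId q * P.sg hG ht i v from (S_negId_mul P hG ht i _).symm, ← mul_assoc, ← negId_comm',
    mul_assoc, hc.eq, ← mul_assoc]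

/-- An involution conjugate to a reflection of a slot is one. -/
theorem exists_single (hk : 4 ≤ k) {y : O q} (hy : y ∈ P.Mon) (h2 : y * y = 1) (hmv : mv y = k ^ t) :
    ∃ (i : Fin (t + 1)) (v : Fin k → F), q1 v ≠ 0 ∧ y = P.sg hG ht i v := by
  obtain ⟨σ, A, hA⟩ := hy
  exact eq_single hA hG hk ht h2 hmv

/-- Fusion of reflections. -/
theorem fus_single (h : P.Full hG ht G) (hU : P.Uni hG ht G) (hk : 4 ≤ k) (hke : Even k) {g : O q} (hg : g ∈ G)
    {i : Fin (t + 1)} {v : Fin k → F} (hv : q1 v ≠ 0) (hy : g * P.sg hG ht i v * g⁻¹ ∈ P.Mon) : g ∈ P.Mon := by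
  obtain ⟨i', v', hv', e⟩ := exists_single (hG := hG) (ht := ht) hk hy
    (by
      calc g * P.sg hG ht i v * g⁻¹ * (g * P.sg hG ht i v * g⁻¹) = g * (P.sg hG ht i v * P.sg hG ht i v) * g⁻¹ := by
            group
        _ = 1 := by rw [sg, ← map_mul, refl_mul_self, map_one, mul_one, mul_inv_cancel])
    (by rw [mv_conj, P.mv_sg hG ht i hv])
  obtain ⟨u, c, hr⟩ := exists_rootvec (q1 := q1) hG
  obtain ⟨j, hj⟩ := exists_ne_slot ht i'
  refine hU.fus h.base (cent_single h hU hk hke i hv) hg (i := j) hr ?_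
  rw [e]
  exact (P.S_comm hG ht j hj (eich q1 u c) (refl q1 v')).symm

/-- Fusion to an element commuting with a reflection. -/
theorem fus_comm (h : P.Full hG ht G) (hU : P.Uni hG ht G) (hk : 4 ≤ k) (hke : Even k) {g u' : O q} (hC : P.CentMon G u')
    (hg : g ∈ G) {i : Fin (t + 1)} {v : Fin k → F} (hv : q1 v ≠ 0)
    (hx : Commute (g * u' * g⁻¹) (P.sg hG ht i v)) : g ∈ P.Mon := by
  have hy : g⁻¹ * P.sg hG ht i v * g ∈ P.Mon := hC _ (G.mul_mem (G.mul_mem (G.inv_mem hg) (h.S_mem i _)) hg) (by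
    show _ = _
    calc g⁻¹ * P.sg hG ht i v * g * u' = g⁻¹ * (P.sg hG ht i v * (g * u' * g⁻¹)) * g := by group
      _ = g⁻¹ * ((g * u' * g⁻¹) * P.sg hG ht i v) * g := by rw [hx.eq]
      _ = u' * (g⁻¹ * P.sg hG ht i v * g) := by group)
  have := fus_single h hU hk hke (G.inv_mem hg) hv (i := i) (by rwa [inv_inv])
  simpa using P.Mon.inv_mem this

/-- The centraliser of two orthogonal reflections of a slot. -/
theorem cent_block (h : P.Full hG ht G) (hU : P.Uni hG ht G) (hk : 4 ≤ k) (hke : Even k) (i : Fin (t + 1)) {a b : Fin k → F}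
    (ha : q1 a ≠ 0) (hb : q1 b ≠ 0) (hab : polar q1 a b = 0) :
    P.CentMon G (P.S hG ht i (refl q1 a * refl q1 b)) := fun g hg hc => by
  have hB : refl q1 a * refl q1 b * (refl q1 a * refl q1 b) = 1 :=
    invol_mul (refl_mul_self a) (refl_mul_self b) (refl_comm_of_orth (by rwa [polar_comm]))
  have hBa : app (refl q1 a * refl q1 b) a = -a := by
    rw [app_mul, app_refl_orth hab, app_refl_self hG.two ha]
  have hmv : mv (refl q1 a * refl q1 b) ≤ 2 := by
    refine le_trans (mv_mul_le _ _) ?_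
    rw [mv_refl hG.nd hG.two ha, mv_refl hG.nd hG.two hb]
  refine fus_single h hU hk hke hg ha (i := i) (supp_le_Mon h hU hk hke i _ hB (by omega)
    (G.mul_mem (G.mul_mem hg (h.S_mem i _)) (G.inv_mem hg)) ?_)
  exact (P.supp_S hG ht i hB (supp_refl hG.two hBa)).conj hc

end Power

end CfsgLib.TensorEven
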