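import Cfsg.Agent.Lib.TensorEven.FullKer
import Cfsg.Agent.Lib.TensorEven.Chi

/-!
A proper group containing all isometries of the slots which conjugates root elements into the monomial
group only by monomial elements is monomial: the centralisers of products of reflections in different slots,
and the top argument.
-/

set_option autoImplicit false
set_option linter.unusedSectionVars false

namespace CfsgLib.TensorEven

open Matrix QuadraticMap CfsgLib.Orth CfsgLib.TensorOddMinus
open CfsgLib.TensorOdd (IsFrame blockSign blockSign_app blockSign_single blockSign_union)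

variable {ι : Type} [Fintype ι] [DecidableEq ι] {F : Type*} [Field F] [Fintype F] {k t : ℕ}
variable {q : QuadraticForm F (ι → F)} {q1 : QuadraticForm F (Fin k → F)}

/-- An anisotropic vector orthogonal to a given one. -/
theorem exists_orth (hG : Good q1) {y : Fin k → F} (hy : q1 y ≠ 0) : ∃ v, q1 v ≠ 0 ∧ polar q1 y v = 0 := by
  classical
  obtain ⟨u, a, hu, rfl⟩ := exists_frame_at hG.nd hG.two hy
  have hk : 3 ≤ k := by have := hG.three; rwa [Fintype.card_fin] at this
  haveI : Nontrivial (Fin k) := Fin.nontrivial_iff_two_le.2 (by omega)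
  obtain ⟨b, hb⟩ := exists_ne a
  exact ⟨u b, hu.nz b, hu.orth a b hb.symm⟩

theorem mv_refl_two (hG : Good q1) {v w : Fin k → F} (hv : q1 v ≠ 0) (hw : q1 w ≠ 0) (h : polar q1 v w = 0) :
    mv (refl q1 v * refl q1 w) = 2 := by
  classical
  obtain ⟨u, a, b, hab, hu, rfl, rfl⟩ := exists_frame_pair hG hv hw h
  rw [← blockSign_single (Q := q1) (v := u) a, ← blockSign_single (Q := q1) (v := u) b,
    ← blockSign_union hu (by simpa using hab), mv_blockSign hu, Finset.card_union_of_disjoint (by simpa using hab)]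
  simp

/-- A reflection moves some line. -/
theorem refl_not_lines (hG : Good q1) {x : Fin k → F} (hx : q1 x ≠ 0) :
    ¬ ∀ z, z ≠ 0 → ∃ d : F, app (refl q1 x) z = d • z := by
  intro h
  obtain ⟨v, hv, hxv⟩ := exists_orth hG hx
  have hv0 : v ≠ 0 := fun e => hv (by rw [e, QuadraticMap.map_zero])
  have hne : x + v ≠ 0 := fun e => hv (by
    have e2 := congrArg (fun z => polar q1 z v) e
    simp only [polar_add_left, hxv, zero_add, polar_self', polar_zero_left, mul_eq_zero, hG.two, false_or] at e2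
    exact e2)
  obtain ⟨d, hd⟩ := h _ hne
  rw [map_add, app_refl_self hG.two hx, app_refl_orth (by rw [polar_comm]; exact hxv)] at hd
  have e1 := congrArg (fun z => polar q1 z v) hd
  have e2 := congrArg (fun z => polar q1 z x) hd
  simp only [polar_add_left, polar_neg_left, polar_smul_left, hxv, polar_comm (f := ⇑q1) v x, polar_self',
    smul_eq_mul, neg_zero, zero_add, add_zero] at e1 e2
  have h1 : d = 1 := (mul_right_cancel₀ (mul_ne_zero hG.two hv) (by rw [one_mul]; exact e1.symm))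
  rw [h1, one_mul, neg_eq_iff_add_eq_zero, ← two_mul] at e2
  exact mul_ne_zero hG.two (mul_ne_zero hG.two hx) e2

/-- Reflections agreeing on all lines are equal. -/
theorem refl_eq_of_lines (hG : Good q1) {x y : Fin k → F} (hx : q1 x ≠ 0) (hy : q1 y ≠ 0)
    (h : ∀ z, z ≠ 0 → ∃ d : F, app (refl q1 x * refl q1 y) z = d • z) : refl q1 x = refl q1 y := by
  obtain ⟨c, hc⟩ := scalar_of_lines hG (app (refl q1 x * refl q1 y)) fun z _ hz => h z hz
  have hxy : ∀ z, app (refl q1 x) z = c • app (refl q1 y) z := fun z => by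
    have e := hc (app (refl q1 y) z)
    rwa [app_mul, sq_app (refl_mul_self y)] at e
  have hx0 : x ≠ 0 := fun e => hx (by rw [e, QuadraticMap.map_zero])
  have hc2 : c * c = 1 := by
    have e := Q_app (refl q1 x) x
    rw [hxy, QuadraticMap.map_smul, Q_app, smul_eq_mul] at e
    exact mul_right_cancel₀ hx (by rw [e, one_mul])
  rcases mul_self_eq_one_iff.1 hc2 with rfl | rfl
  · exact ext_app fun z => by rw [hxy, one_smul]
  exfalso
  have e : refl q1 x = negId q1 * refl q1 y := ext_app fun z => by rw [hxy, app_mul, app_negId, neg_one_smul]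
  have h1 := mv_negId_mul hG.nd hG.two (refl_mul_self (Q := q1) y)
  rw [← e, mv_refl hG.nd hG.two hx, mv_refl hG.nd hG.two hy, Fintype.card_fin] at h1
  have := hG.three
  rw [Fintype.card_fin] at this
  omega

namespace Power

variable {P : Power q q1 (t + 1)} {hG : Good q1} {ht : 1 ≤ t} {G : Subgroup (O q)}

theorem sg_sq (i : Fin (t + 1)) (v : Fin k → F) : P.sg hG ht i v * P.sg hG ht i v = 1 := by
  rw [sg, ← map_mul, refl_mul_self, map_one]

/-- Commuting reflections of one slot. -/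
theorem sg_comm_cases (i : Fin (t + 1)) {v w : Fin k → F} (hv : q1 v ≠ 0) (hw : q1 w ≠ 0)
    (h : P.sg hG ht i v * P.sg hG ht i w = P.sg hG ht i w * P.sg hG ht i v) :
    polar q1 v w = 0 ∨ P.sg hG ht i v = P.sg hG ht i w := by
  rw [sg, sg, ← map_mul, ← map_mul] at h
  rcases refl_comm_cases hG.two hv hw (P.S_inj hG ht i h) with h | h
  · exact Or.inl h
  · exact Or.inr (by rw [sg, sg, h])

theorem mv_sg_int (i : Fin (t + 1)) {v : Fin k → F} (hv : q1 v ≠ 0) :
    (k : ℤ) ^ (t + 1) - 2 * (mv (P.sg hG ht i v) : ℤ) = ((k : ℤ) - 2) * k * (k : ℤ) ^ (t - 1) := by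
  rw [P.mv_sg hG ht i hv, Nat.cast_pow]
  obtain ⟨n, rfl⟩ : ∃ n, t = n + 1 := ⟨t - 1, by omega⟩
  rw [Nat.add_sub_cancel, pow_succ (k : ℤ) (n + 1), pow_succ (k : ℤ) n]
  ring

theorem mv_one_one {i j : Fin (t + 1)} (hij : i ≠ j) {v w : Fin k → F} (hv : q1 v ≠ 0) (hw : q1 w ≠ 0) :
    (k : ℤ) ^ (t + 1) - 2 * (mv (P.sg hG ht i v * P.sg hG ht j w) : ℤ) =
      ((k : ℤ) - 2) * ((k : ℤ) - 2) * (k : ℤ) ^ (t - 1) := by
  rw [sg, sg, P.mv_pair hG ht hij (refl_mul_self v) (refl_mul_self w), mv_refl hG.nd hG.two hv,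
    mv_refl hG.nd hG.two hw]
  norm_num

theorem mv_two_one {i j : Fin (t + 1)} (hij : i ≠ j) {v v' w : Fin k → F} (hv : q1 v ≠ 0) (hv' : q1 v' ≠ 0)
    (hvv : polar q1 v v' = 0) (hw : q1 w ≠ 0) :
    (k : ℤ) ^ (t + 1) - 2 * (mv (P.S hG ht i (refl q1 v * refl q1 v') * P.sg hG ht j w) : ℤ) =
      ((k : ℤ) - 4) * ((k : ℤ) - 2) * (k : ℤ) ^ (t - 1) := by
  rw [sg, P.mv_pair hG ht hij (invol_mul (refl_mul_self v) (refl_mul_self v')
    (refl_comm_of_orth (by rwa [polar_comm]))) (refl_mul_self w), mv_refl_two hG hv hv' hvv,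
    mv_refl hG.nd hG.two hw]
  norm_num

/-- The centraliser of reflections in two slots. -/
theorem cent_pair (h : P.Full hG ht G) (hU : P.Uni hG ht G) (hk : 4 ≤ k) (hke : Even k) {i j : Fin (t + 1)}
    (hij : i ≠ j) {y w : Fin k → F} (hy : q1 y ≠ 0) (hw : q1 w ≠ 0) :
    P.CentMon G (P.sg hG ht i y * P.sg hG ht j w) := fun g hg hgd => by
  obtain ⟨v, hv, hyv⟩ := exists_orth hG hy
  set a := P.sg hG ht i y with ha
  set σw := P.sg hG ht j w with hσw
  set d := a * σw with hd
  set b := P.sg hG ht i v with hb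
  have haw : Commute a σw := P.S_comm hG ht i hij _ _
  have hba : Commute b a := by
    show _ = _
    rw [hb, ha, sg, sg, ← map_mul, ← map_mul, refl_comm_of_orth (by rwa [polar_comm])]
  have hbw : Commute b σw := P.S_comm hG ht i hij _ _
  have had : Commute a d := (Commute.refl a).mul_right haw
  have hbd : Commute b d := hba.mul_right hbw
  set s := g * b * g⁻¹ with hs
  have hsd : Commute s d := (Commute.mul_left hgd hbd).mul_left hgd.inv_left
  let C : Subgroup (O q) := G ⊓ Subgroup.centralizer {d}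
  have hmemC : ∀ z, z ∈ G → Commute z d → z ∈ C :=
    fun z h1 h2 => ⟨h1, Subgroup.mem_centralizer_singleton_iff.2 h2.eq⟩
  have hkey : ∀ c ∈ C, ∀ z, mv (c * z * c⁻¹ * d) = mv (z * d) := fun c hc z => by
    have hcd : c * d = d * c := Subgroup.mem_centralizer_singleton_iff.1 hc.2
    rw [show c * z * c⁻¹ * d = c * (z * d) * c⁻¹ by
      rw [mul_assoc _ c⁻¹ d, (Commute.inv_left (show Commute c d from hcd)).eq]; group, mv_conj]
  have hN : (k : ℤ) ^ (t + 1) - 2 * (mv (a * d) : ℤ) = ((k : ℤ) - 2) * k * (k : ℤ) ^ (t - 1) := by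
    rw [hd, ← mul_assoc, ha, sg_sq, one_mul]; exact mv_sg_int j hw
  have hM : (k : ℤ) ^ (t + 1) - 2 * (mv (s * d) : ℤ) = ((k : ℤ) - 4) * ((k : ℤ) - 2) * (k : ℤ) ^ (t - 1) := by
    have e : s * d = g * (b * d) * g⁻¹ := by
      rw [hs, mul_assoc _ g⁻¹ d, (Commute.inv_left hgd).eq]; group
    rw [e, mv_conj, hd, ← mul_assoc, hb, ha, sg, sg, ← map_mul]
    exact mv_two_one hij hv hy (by rwa [polar_comm]) hw
  have hpos : (0 : ℤ) < (k : ℤ) ^ (t - 1) := pow_pos (by omega) _
  have hk' : (4 : ℤ) ≤ k := by exact_mod_cast hk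
  have hNM : mv (a * d) ≠ mv (s * d) := fun e => by
    rw [e, hM] at hN
    nlinarith [mul_pos hpos (show (0 : ℤ) < (k : ℤ) - 2 by linarith)]
  obtain ⟨e, heC, he1, he2, hea, hes, hpar⟩ := dihedral_pair C (r := a) (s := s) (hmemC a (h.S_mem i _) had)
    (hmemC s (G.mul_mem (G.mul_mem hg (h.S_mem i _)) (G.inv_mem hg)) hsd) (sg_sq i y)
    (by
      rw [hs]
      calc g * b * g⁻¹ * (g * b * g⁻¹) = g * (b * b) * g⁻¹ := by group
        _ = 1 := by rw [hb, sg_sq, mul_one, mul_inv_cancel])
    (fun c hc e => hNM (by rw [← e, hkey c hc]))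
  have hed : Commute e d := Subgroup.mem_centralizer_singleton_iff.1 heC.2
  have heM : e ∈ P.Mon := cent_single h hU hk hke i hy e heC.1 hea
  obtain ⟨l, x, hx, hae⟩ := exists_single (P := P) (hG := hG) (ht := ht) hk (y := a * e)
    (P.Mon.mul_mem (P.S_mem hG ht i _) heM) (invol_mul (sg_sq i y) he2 hea) (by
      rcases hpar with ⟨⟨c, -, e'⟩, -⟩ | ⟨⟨c, -, e'⟩, -⟩
      · rw [← e', mv_conj, ha, P.mv_sg hG ht i hy]
      · rw [← e', mv_conj, hs, mv_conj, hb, P.mv_sg hG ht i hv])
  have hee : e = a * P.sg hG ht l x := by rw [← hae, ← mul_assoc, ha, sg_sq, one_mul]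
  have hxa : Commute (P.sg hG ht l x) a := by
    rw [← hae]; exact (Commute.refl a).mul_left hea
  have hxd : Commute (P.sg hG ht l x) d := by rw [← hae]; exact had.mul_left hed
  have finish : ∀ z : O q, P.CentMon G z → Commute s z → g ∈ P.Mon := fun z hz hsz =>
    fus_single h hU hk hke hg hv (hz s (G.mul_mem (G.mul_mem hg (h.S_mem i _)) (G.inv_mem hg)) hsz)
  rcases eq_or_ne l i with rfl | hli
  · rcases sg_comm_cases l hx hy hxa.eq with hp | hp
    · refine finish e ?_ (show Commute e s from hes).symm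
      rw [hee, ha, sg, sg, ← map_mul]
      exact cent_block h hU hk hke l hy hx (by rwa [polar_comm])
    · exact absurd (by rw [hee, hp, ha, sg_sq]) he1
  rcases eq_or_ne l j with rfl | hlj
  · have hxw : Commute (P.sg hG ht l x) σw := by
      have e1 : σw = a * d := by rw [hd, ← mul_assoc, ha, sg_sq, one_mul]
      rw [e1]; exact hxa.mul_right hxd
    rcases sg_comm_cases l hx hw hxw.eq with hp | hp
    · refine finish (P.S hG ht l (refl q1 x * refl q1 w)) (cent_block h hU hk hke l hx hw hp) ?_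
      have e1 : P.S hG ht l (refl q1 x * refl q1 w) = e * d := by
        rw [hee, hd, map_mul]
        calc P.sg hG ht l x * σw = a * a * P.sg hG ht l x * σw := by rw [ha, sg_sq, one_mul]
          _ = a * (P.sg hG ht l x * a) * σw := by rw [hxa.eq]; group
          _ = _ := by group
      rw [e1]
      exact (show Commute e s from hes).symm.mul_right hsd
    · exfalso
      have hedd : e = d := by rw [hee, hp]
      rcases hpar with ⟨-, c, hc, e'⟩ | ⟨⟨c, hc, e'⟩, -⟩
      · have h1 := hkey c hc s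
        rw [e', hedd, mul_assoc s d d, invol_mul (sg_sq i y) (sg_sq l w) haw.eq.symm, mul_one, hs, mv_conj, hb,
          P.mv_sg hG ht i hv] at h1
        exact hNM (by
          rw [← h1, hd, ← mul_assoc, ha, sg_sq, one_mul, hσw, P.mv_sg hG ht l hw])
      · have h1 := hkey c hc s
        rw [e', hedd, mul_assoc a d d, invol_mul (sg_sq i y) (sg_sq l w) haw.eq.symm, mul_one, ha,
          P.mv_sg hG ht i hy] at h1
        exact hNM (by
          rw [← h1, hd, ← mul_assoc, ha, sg_sq, one_mul, hσw, P.mv_sg hG ht l hw])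
  · exfalso
    obtain ⟨h2t, hT⟩ := P.mv_triple hG ht (i := l) (j := i) (l := j) hli hlj hij (refl_mul_self x)
      (refl_mul_self y) (refl_mul_self w)
    rw [mv_refl hG.nd hG.two hx, mv_refl hG.nd hG.two hy, mv_refl hG.nd hG.two hw] at hT
    have e1 : a * e * d = P.S hG ht l (refl q1 x) * P.S hG ht i (refl q1 y) * P.S hG ht j (refl q1 w) := by
      rw [hae, hd, ← mul_assoc]
    rw [← e1] at hT
    obtain ⟨n, rfl⟩ : ∃ n, t = n + 2 := ⟨t - 2, by omega⟩
    simp only [Nat.add_sub_cancel, show n + 2 - 1 = n + 1 by omega, pow_succ, Nat.cast_one] at hT hN hM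
    have hp : (0 : ℤ) < (k : ℤ) ^ n := pow_pos (by omega) _
    have h2 : (0 : ℤ) < (k : ℤ) - 2 := by linarith
    rcases hpar with ⟨⟨c, hc, e'⟩, -⟩ | ⟨⟨c, hc, e'⟩, -⟩
    · have h1 := hkey c hc a
      rw [e'] at h1
      rw [h1, hN] at hT
      nlinarith [mul_pos hp h2]
    · have h1 := hkey c hc s
      rw [e'] at h1
      rw [h1, hM] at hT
      nlinarith [mul_pos hp h2]

/-- The centraliser of an element commuting with two reflections behaving differently. -/
theorem cent_six (h : P.Full hG ht G) (hU : P.Uni hG ht G) (hk : 4 ≤ k) (hke : Even k) {u : O q}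
    {i j : Fin (t + 1)} {v w : Fin k → F} (hv : q1 v ≠ 0) (hw : q1 w ≠ 0)
    (hvu : Commute (P.sg hG ht i v) u) (hwu : Commute (P.sg hG ht j w) u)
    (hne : mv (P.sg hG ht i v * u) ≠ mv (P.sg hG ht j w * u)) : P.CentMon G u := fun g hg hgu => by
  set a := P.sg hG ht i v with ha
  set b := P.sg hG ht j w with hb
  set s := g * b * g⁻¹ with hs
  have hsu : Commute s u := (Commute.mul_left hgu hwu).mul_left hgu.inv_left
  let C : Subgroup (O q) := G ⊓ Subgroup.centralizer {u}
  have hmemC : ∀ z, z ∈ G → Commute z u → z ∈ C :=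
    fun z h1 h2 => ⟨h1, Subgroup.mem_centralizer_singleton_iff.2 h2.eq⟩
  obtain ⟨e, heC, he1, he2, hea, hes, hpar⟩ := dihedral_pair C (r := a) (s := s) (hmemC a (h.S_mem i _) hvu)
    (hmemC s (G.mul_mem (G.mul_mem hg (h.S_mem j _)) (G.inv_mem hg)) hsu) (sg_sq i v)
    (by
      rw [hs]
      calc g * b * g⁻¹ * (g * b * g⁻¹) = g * (b * b) * g⁻¹ := by group
        _ = 1 := by rw [hb, sg_sq, mul_one, mul_inv_cancel])
    (fun c hc e => hne (by
      have hcu : Commute c u := Subgroup.mem_centralizer_singleton_iff.1 hc.2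
      have e1 : c * (a * u) * c⁻¹ = g * (b * u) * g⁻¹ := by
        calc c * (a * u) * c⁻¹ = c * a * (u * c⁻¹) := by group
          _ = c * a * c⁻¹ * u := by rw [← hcu.inv_left.eq]; group
          _ = s * u := by rw [e]
          _ = g * b * (g⁻¹ * u) := by rw [hs]; group
          _ = _ := by rw [(Commute.inv_left hgu).eq]; group
      rw [← mv_conj c, e1, mv_conj]))
  have heM : e ∈ P.Mon := cent_single h hU hk hke i hv e heC.1 hea
  obtain ⟨l, x, hx, hae⟩ := exists_single (P := P) (hG := hG) (ht := ht) hk (y := a * e)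
    (P.Mon.mul_mem (P.S_mem hG ht i _) heM) (invol_mul (sg_sq i v) he2 hea) (by
      rcases hpar with ⟨⟨c, -, e'⟩, -⟩ | ⟨⟨c, -, e'⟩, -⟩
      · rw [← e', mv_conj, ha, P.mv_sg hG ht i hv]
      · rw [← e', mv_conj, hs, mv_conj, hb, P.mv_sg hG ht j hw])
  have hee : e = a * P.sg hG ht l x := by rw [← hae, ← mul_assoc, ha, sg_sq, one_mul]
  have hxa : Commute (P.sg hG ht l x) a := by rw [← hae]; exact (Commute.refl a).mul_left hea
  have hcent : P.CentMon G e := by
    rw [hee]
    rcases eq_or_ne l i with rfl | hli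
    · rcases sg_comm_cases l hx hv hxa.eq with hp | hp
      · rw [ha, sg, sg, ← map_mul]
        exact cent_block h hU hk hke l hv hx (by rwa [polar_comm])
      · exact absurd (by rw [hee, hp, ha, sg_sq]) he1
    · exact cent_pair h hU hk hke hli.symm hv hx
  exact fus_single h hU hk hke hg hw
    (hcent s (G.mul_mem (G.mul_mem hg (h.S_mem j _)) (G.inv_mem hg)) (show Commute e s from hes).symm)

/-- A reflection times two in two slots. -/
theorem cent_three (h : P.Full hG ht G) (hU : P.Uni hG ht G) (hk : 4 ≤ k) (hke : Even k) {i j l : Fin (t + 1)}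
    (hij : i ≠ j) (hlj : l ≠ j) {y w x : Fin k → F} (hy : q1 y ≠ 0) (hw : q1 w ≠ 0) (hx : q1 x ≠ 0)
    (hc : Commute (P.sg hG ht l x) (P.sg hG ht i y * P.sg hG ht j w)) :
    P.CentMon G (P.sg hG ht i y * P.sg hG ht j w * P.sg hG ht l x) := by
  set a := P.sg hG ht i y with ha
  set b := P.sg hG ht j w with hb
  set z := P.sg hG ht l x with hz
  have hab : Commute a b := P.S_comm hG ht i hij _ _
  have hzb : Commute z b := P.S_comm hG ht l hlj _ _
  have hza : Commute z a := by
    have e : a = (a * b) * b := by rw [mul_assoc, hb, sg_sq, mul_one]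
    rw [e]; exact hc.mul_right hzb
  have hp : (0 : ℤ) < (k : ℤ) ^ (t - 1) := pow_pos (by omega) _
  have hk' : (4 : ℤ) ≤ k := by exact_mod_cast hk
  rcases eq_or_ne l i with rfl | hli
  · rcases sg_comm_cases l hx hy hza.eq with h0 | h0
    · -- a plane times a reflection
      refine cent_six h hU hk hke (i := l) (j := j) hy hw
        (((Commute.refl a).mul_right hab).mul_right hza.symm)
        ((hab.symm.mul_right (Commute.refl b)).mul_right hzb.symm) fun e => ?_
      have e1 : a * (a * b * z) = z * b := by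
        rw [← mul_assoc, ← mul_assoc, ha, sg_sq, one_mul, hzb.eq]
      have e2 : b * (a * b * z) = P.S hG ht l (refl q1 y * refl q1 x) := by
        rw [hab.eq, ← mul_assoc, ← mul_assoc, hb, sg_sq, one_mul, map_mul]
      rw [e1, e2] at e
      have h1 : (k : ℤ) ^ (t + 1) - 2 * (mv (z * b) : ℤ) = ((k : ℤ) - 2) * ((k : ℤ) - 2) * (k : ℤ) ^ (t - 1) :=
        mv_one_one hlj hx hw
      rw [e, P.mv_S hG ht l (invol_mul (refl_mul_self y) (refl_mul_self x) (refl_comm_of_orth h0)),
        mv_refl_two hG hy hx (by rwa [polar_comm])] at h1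
      push_cast at h1
      obtain ⟨n, rfl⟩ : ∃ n, t = n + 1 := ⟨t - 1, by omega⟩
      simp only [Nat.add_sub_cancel, pow_succ] at h1 hp
      nlinarith
    · have e : a * b * z = b := by rw [hab.eq, mul_assoc, hz, h0, ha, sg_sq, mul_one]
      rw [e]
      exact cent_single h hU hk hke j hw
  · -- three slots
    obtain ⟨v, hv, hyv⟩ := exists_orth hG hy
    have hva : Commute (P.sg hG ht i v) a := by
      show _ = _
      rw [ha, sg, sg, ← map_mul, ← map_mul, refl_comm_of_orth (by rwa [polar_comm])]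
    refine cent_six h hU hk hke (i := i) (j := i) hy hv
      (((Commute.refl a).mul_right hab).mul_right hza.symm)
      ((hva.mul_right (P.S_comm hG ht i hij _ _)).mul_right (P.S_comm hG ht i hli.symm _ _)) fun e => ?_
    have e1 : a * (a * b * z) = b * z := by rw [← mul_assoc, ← mul_assoc, ha, sg_sq, one_mul]
    have e2 : P.sg hG ht i v * (a * b * z) = P.S hG ht i (refl q1 v * refl q1 y) * b * z := by
      rw [← mul_assoc, ← mul_assoc, ha, sg, ← map_mul]
    rw [e1, e2] at e
    have h1 : (k : ℤ) ^ (t + 1) - 2 * (mv (b * z) : ℤ) = ((k : ℤ) - 2) * ((k : ℤ) - 2) * (k : ℤ) ^ (t - 1) :=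
      mv_one_one (Ne.symm hlj) hw hx
    obtain ⟨h2t, hT⟩ := P.mv_triple hG ht (i := i) (j := j) (l := l) hij (Ne.symm hli) (Ne.symm hlj)
      (invol_mul (refl_mul_self v) (refl_mul_self y) (refl_comm_of_orth hyv))
      (refl_mul_self w) (refl_mul_self x)
    rw [mv_refl_two hG hv hy (by rwa [polar_comm]), mv_refl hG.nd hG.two hw, mv_refl hG.nd hG.two hx] at hT
    rw [e, hT] at h1
    obtain ⟨n, rfl⟩ : ∃ n, t = n + 2 := ⟨t - 2, by omega⟩
    simp only [Nat.add_sub_cancel, show n + 2 - 1 = n + 1 by omega, pow_succ] at h1 hp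
    push_cast at h1
    have hp' : (0 : ℤ) < (k : ℤ) ^ n := pow_pos (by omega) _
    have h2 : (0 : ℤ) < ((k : ℤ) - 2) * ((k : ℤ) - 2) * (k : ℤ) ^ n := by
      have : (0 : ℤ) < (k : ℤ) - 2 := by linarith
      positivity
    nlinarith

/-- A reflection of a slot commuting with a monomial element fixes the slot. -/
theorem perm_fix {ε : O q} {σ : Equiv.Perm (Fin (t + 1))} {A : Fin (t + 1) → (Fin k → F) ≃ₗ[F] (Fin k → F)}
    (hε : P.IsMonW ε σ A) {i : Fin (t + 1)} {x : Fin k → F} (hx : q1 x ≠ 0)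
    (hc : ε * P.sg hG ht i x = P.sg hG ht i x * ε) : σ i = i := by
  obtain ⟨l₀, hl₀⟩ := σ.surjective i
  by_cases hl : l₀ = i
  · rw [hl] at hl₀; exact hl₀
  exfalso
  obtain ⟨B, -, e⟩ := hε.conj_S hG ht l₀ (refl q1 x)
  rw [hl₀, hc, mul_inv_cancel_right] at e
  refine refl_not_lines hG hx (P.lines_of_slot (i := i) (X := refl q1 x)
    (fun xs => P.S_tp hG ht i (refl q1 x) xs) (ys := fun xs => Function.update xs l₀ (app B (xs l₀)))
    (fun xs => ?_) fun xs => Function.update_of_ne (Ne.symm hl) _ _)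
  rw [show P.S hG ht i (refl q1 x) = P.S hG ht l₀ B from e, S_tp]

/-- An element commuting with a pair of reflections and fixing one of the slots commutes with both. -/
theorem comm_of_fix (hk : 4 ≤ k) {ε : O q} (hε : ε ∈ P.Mon) {i j : Fin (t + 1)} (hij : i ≠ j)
    {y w x : Fin k → F} (hy : q1 y ≠ 0) (hw : q1 w ≠ 0) (hx : q1 x ≠ 0)
    (hd : Commute ε (P.sg hG ht i y * P.sg hG ht j w)) (hc : ε * P.sg hG ht i x = P.sg hG ht i x * ε) :
    Commute ε (P.sg hG ht i y) := by
  obtain ⟨σ, A, hA⟩ := hε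
  have hσi := perm_fix hA hx hc
  obtain ⟨l', hl'⟩ := σ.surjective j
  have hl'i : l' ≠ i := fun e => hij (by rw [← hσi, ← e, hl'])
  obtain ⟨B, -, e⟩ := hA.conj_S hG ht i (refl q1 y)
  obtain ⟨B', -, e'⟩ := hA.conj_S hG ht l' (refl q1 w)
  rw [hσi] at e
  rw [hl'] at e'
  have hB2 : B * B = 1 := P.S_inj hG ht i (by
    rw [map_mul, map_one, ← e]
    calc ε * P.S hG ht i (refl q1 y) * ε⁻¹ * (ε * P.S hG ht i (refl q1 y) * ε⁻¹) =
        ε * (P.sg hG ht i y * P.sg hG ht i y) * ε⁻¹ := by group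
      _ = 1 := by rw [sg_sq, mul_one, mul_inv_cancel])
  have hB1 : mv B = 1 := by
    have e1 := P.mv_S hG ht i hB2
    rw [← e, mv_conj, P.mv_sg hG ht i hy] at e1
    exact (Nat.eq_of_mul_eq_mul_right (Nat.pow_pos (by omega : 0 < k)) (by rw [one_mul, ← e1] :
      1 * k ^ t = _ * k ^ t)).symm
  obtain ⟨y', hy', rfl⟩ := eq_refl_of_mv hG.nd hG.two hB2 hB1
  have e2 : P.sg hG ht i y' * P.S hG ht l' B' = P.sg hG ht i y * P.sg hG ht j w := by
    rw [sg, ← e, ← e']
    calc ε * P.S hG ht i (refl q1 y) * ε⁻¹ * (ε * P.S hG ht j (refl q1 w) * ε⁻¹) =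
        ε * (P.sg hG ht i y * P.sg hG ht j w) * ε⁻¹ := by group
      _ = _ := by rw [hd.eq, mul_inv_cancel_right]
  have key : refl q1 y = refl q1 y' := refl_eq_of_lines hG hy hy' <| by
    refine P.lines_of_slot (i := i) (g := P.sg hG ht j w * (P.S hG ht l' B')⁻¹) (fun xs => ?_)
      (ys := fun xs => Function.update (Function.update xs l' (app B'⁻¹ (xs l'))) j
        (app (refl q1 w) (Function.update xs l' (app B'⁻¹ (xs l')) j)))
      (fun xs => ?_) fun xs => ?_
    · have e3 : P.S hG ht i (refl q1 y * refl q1 y') = P.sg hG ht j w * (P.S hG ht l' B')⁻¹ := by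
        rw [eq_mul_inv_iff_mul_eq, map_mul, mul_assoc]
        erw [e2]
        rw [← mul_assoc]
        erw [sg_sq, one_mul]
      rw [← e3, S_tp]
    · rw [app_mul, ← map_inv, S_tp, sg, S_tp]
    · rw [Function.update_of_ne hij, Function.update_of_ne (Ne.symm hl'i)]
  show _ = _
  have e' := mul_inv_eq_iff_eq_mul.1 e
  rwa [← key] at e'

/-- The hypothesis excluding a swap conjugate to a pair of reflections. -/
def NoSwap (P : Power q q1 (t + 1)) (hG : Good q1) (ht : 1 ≤ t) : Prop :=
  k = 4 → t = 1 → ∀ (i j : Fin (t + 1)) (y z : Fin k → F), i ≠ j → q1 y ≠ 0 → q1 z ≠ 0 →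
    ∀ (e : O q) (σ : Equiv.Perm (Fin (t + 1))) (A : Fin (t + 1) → (Fin k → F) ≃ₗ[F] (Fin k → F)),
      P.IsMonW e σ A → (∀ l, σ l ≠ l) → e * e = 1 → ∀ c : O q, c * (P.sg hG ht i y * P.sg hG ht j z) * c⁻¹ ≠ e

set_option maxHeartbeats 1000000 in
/-- A rigid group containing all isometries of the slots is monomial. -/
theorem Full.le_Mon_of_uni (h : P.Full hG ht G) (hk : 4 ≤ k) (hke : Even k) (hU : P.Uni hG ht G)
    (hchi : NoSwap P hG ht) : G ≤ P.Mon := by
  intro g hg
  obtain ⟨y, hy⟩ := exists_anisotropic hG.nd (le_trans (by norm_num) hG.three)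
  obtain ⟨j, hji⟩ := exists_ne_slot ht (0 : Fin (t + 1))
  set i : Fin (t + 1) := 0
  have hij : i ≠ j := hji.symm
  set a := P.sg hG ht i y with ha
  set b := P.sg hG ht j y with hb
  set d := a * b with hd
  set s := g * a * g⁻¹ with hs
  have hab : Commute a b := P.S_comm hG ht i hij _ _
  have hd2 : d * d = 1 := invol_mul (sg_sq i y) (sg_sq j y) hab.eq.symm
  have hdG : d ∈ G := G.mul_mem (h.S_mem i _) (h.S_mem j _)
  have hsG : s ∈ G := G.mul_mem (G.mul_mem hg (h.S_mem i _)) (G.inv_mem hg)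
  have hp : (0 : ℤ) < (k : ℤ) ^ (t - 1) := pow_pos (by omega) _
  have hk' : (4 : ℤ) ≤ k := by exact_mod_cast hk
  have hdmv := mv_one_one (P := P) (hG := hG) (ht := ht) hij hy hy
  rw [← ha, ← hb, ← hd] at hdmv
  have hsmv : mv s = mv a := by rw [hs, mv_conj]
  have hne : mv d ≠ mv s := fun e => by
    have h1 := mv_sg_int (P := P) (hG := hG) (ht := ht) i hy
    rw [← ha, ← hsmv, ← e, hdmv] at h1
    nlinarith
  obtain ⟨e, heG, he1, he2, hed, hes, hpar⟩ := dihedral_pair G (r := d) (s := s) hdG hsG hd2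
    (by
      rw [hs]
      calc g * a * g⁻¹ * (g * a * g⁻¹) = g * (a * a) * g⁻¹ := by group
        _ = 1 := by rw [ha, sg_sq, mul_one, mul_inv_cancel])
    (fun c _ e => hne (by rw [← e, mv_conj]))
  have heM : e ∈ P.Mon := cent_pair h hU hk hke hij hy hy e heG hed
  rcases hpar with ⟨⟨c, -, hc⟩, c', -, hc'⟩ | ⟨⟨c, -, hc⟩, -⟩
  · -- `e` is conjugate to an element with monomial centraliser
    have he'G : g⁻¹ * e * g ∈ G := G.mul_mem (G.mul_mem (G.inv_mem hg) heG) hg
    have he'a : Commute (g⁻¹ * e * g) a := by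
      show _ = _
      calc g⁻¹ * e * g * a = g⁻¹ * (e * s) * g := by rw [hs]; group
        _ = g⁻¹ * (s * e) * g := by rw [hes]
        _ = a * (g⁻¹ * e * g) := by rw [hs]; group
    have he'M : g⁻¹ * e * g ∈ P.Mon := cent_single h hU hk hke i hy _ he'G he'a
    have he'2 : g⁻¹ * e * g * (g⁻¹ * e * g) = 1 := by
      calc g⁻¹ * e * g * (g⁻¹ * e * g) = g⁻¹ * (e * e) * g := by group
        _ = 1 := by rw [he2, mul_one, inv_mul_cancel]
    obtain ⟨l, x, hx, hae⟩ := exists_single (P := P) (hG := hG) (ht := ht) hk (y := a * (g⁻¹ * e * g))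
      (P.Mon.mul_mem (P.S_mem hG ht i _) he'M) (invol_mul (sg_sq i y) he'2 he'a.eq) (by
        rw [show a * (g⁻¹ * e * g) = g⁻¹ * (s * e) * g⁻¹⁻¹ by rw [hs]; group, mv_conj, ← hc', mv_conj, hsmv, ha,
          P.mv_sg hG ht i hy])
    have hee : g⁻¹ * e * g = a * P.sg hG ht l x := by rw [← hae, ← mul_assoc, ha, sg_sq, one_mul]
    have hxa : Commute (P.sg hG ht l x) a := by rw [← hae]; exact (Commute.refl a).mul_left he'a
    have hcent : P.CentMon G (g⁻¹ * e * g) := by
      rw [hee]
      rcases eq_or_ne l i with rfl | hli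
      · rcases sg_comm_cases i hx hy hxa.eq with h0 | h0
        · rw [ha, sg, sg, ← map_mul]
          exact cent_block h hU hk hke i hy hx (by rwa [polar_comm])
        · refine absurd ?_ he1
          rw [show e = g * (g⁻¹ * e * g) * g⁻¹ by group, hee, h0, ha, sg_sq, mul_one, mul_inv_cancel]
      · exact cent_pair h hU hk hke hli.symm hy hx
    have hback : ∀ (l : Fin (t + 1)) (x : Fin k → F), q1 x ≠ 0 → Commute e (P.sg hG ht l x) → g ∈ P.Mon :=
      fun l x hx hex => fus_comm h hU hk hke hcent hg hx (by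
        rwa [show g * (g⁻¹ * e * g) * g⁻¹ = e by group])
    -- a reflection commuting with `e`
    set ε := d * e with hε
    have hεM : ε ∈ P.Mon :=
      P.Mon.mul_mem (P.Mon.mul_mem (P.S_mem hG ht i _) (P.S_mem hG ht j _)) heM
    have hεd : Commute ε d := (Commute.refl d).mul_left hed
    have hε2 : ε * ε = 1 := invol_mul hd2 he2 hed
    have heε : e = d * ε := by rw [hε, ← mul_assoc, hd2, one_mul]
    have hεmv : mv ε = mv d := by rw [← hc, mv_conj]
    obtain ⟨σ, A, hA⟩ := hεM
    rcases commutes_single hA hG hk ht hε2 (by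
      obtain ⟨n, rfl⟩ : ∃ n, t = n + 1 := ⟨t - 1, by omega⟩
      rw [hεmv]
      simp only [Nat.add_sub_cancel, pow_succ] at hdmv
      have h1 : (mv d : ℤ) = 2 * ((k : ℤ) - 1) * (k : ℤ) ^ n := mul_left_cancel₀ (two_ne_zero (α := ℤ)) (by
        linear_combination -hdmv)
      zify [show 1 ≤ k by omega]
      rw [h1, pow_succ]
      nlinarith) with ⟨l, x, hx, hlx⟩ | ⟨hk4, ht1, hmove⟩
    · rcases eq_or_ne l i with rfl | hli
      · have := comm_of_fix hk ⟨σ, A, hA⟩ hij hy hy hx hεd hlx
        refine hback i y hy ?_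
        rw [heε]
        exact ((Commute.refl a).mul_left hab.symm).mul_left this
      rcases eq_or_ne l j with rfl | hlj
      · have := comm_of_fix hk ⟨σ, A, hA⟩ hji hy hy hx (i := l) (j := i)
          (show Commute ε (b * a) by rw [← hab.eq]; exact hεd) hlx
        refine hback l y hy ?_
        rw [heε]
        exact (hab.mul_left (Commute.refl b)).mul_left this
      · refine hback l x hx ?_
        rw [heε]
        exact ((show Commute a (P.sg hG ht l x) from P.S_comm hG ht i (Ne.symm hli) (refl q1 y) (refl q1 x)).mul_left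
          (P.S_comm hG ht j (Ne.symm hlj) _ _)).mul_left hlx
    · exact absurd hc (hchi hk4 ht1 i j y y hij hy hy ε σ A hA hmove hε2 c)
  · -- `e` itself has monomial centraliser
    obtain ⟨l, x, hx, hde⟩ := exists_single (P := P) (hG := hG) (ht := ht) hk (y := d * e)
      (P.Mon.mul_mem (P.Mon.mul_mem (P.S_mem hG ht i _) (P.S_mem hG ht j _)) heM) (invol_mul hd2 he2 hed) (by
        rw [← hc, mv_conj, hsmv, ha, P.mv_sg hG ht i hy])
    have hee : e = d * P.sg hG ht l x := by rw [← hde, ← mul_assoc, hd2, one_mul]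
    have hxd : Commute (P.sg hG ht l x) d := by rw [← hde]; exact (Commute.refl d).mul_left hed
    have hcent : P.CentMon G e := by
      rw [hee]
      rcases eq_or_ne l j with rfl | hlj
      · rw [hd, hab.eq]
        exact cent_three h hU hk hke hji hji hy hy hx (by rw [← hab.eq]; exact hxd)
      · exact cent_three h hU hk hke hij hlj hy hy hx hxd
    exact fus_single h hU hk hke hg hy (hcent s hsG (show Commute e s from hes).symm)

/-- An exchange of two slots is not conjugate to a pair of reflections. -/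
theorem noSwap (P : Power q q1 (t + 1)) (hG : Good q1) (ht : 1 ≤ t) : NoSwap P hG ht := by
  intro hk4 ht1 i j y z _ hy hz e σ A hA hσ he c hc
  subst ht1
  exact P.swap_not_conj hG hk4 hA (fun h => hσ 0 (by rw [h]; rfl)) he c i j hy hz hc.symm

/-- A proper group containing all isometries of the slots which is rigid is monomial. -/
theorem Full.le_Mon (h : P.Full hG ht G) (hk : 4 ≤ k) (hke : Even k) (hU : P.Uni hG ht G) : G ≤ P.Mon :=
  h.le_Mon_of_uni hk hke hU (P.noSwap hG ht)

end Power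

end CfsgLib.TensorEven
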