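import Cfsg.Agent.Lib.TensorEven.SliceFix
import Cfsg.Agent.Lib.TensorEven.FullTop

/-!
A group containing all isometries of the slots and their even permutations, but not the derived group of the
whole orthogonal group, is monomial.
-/

set_option autoImplicit false
set_option linter.unusedSectionVars false

namespace CfsgLib.TensorEven

open Matrix QuadraticMap CfsgLib.Orth CfsgLib.TensorOddMinus

variable {F : Type*} [Field F] [Fintype F] {k : ℕ} {q1 : QuadraticForm F (Fin k → F)}

namespace Power

theorem Full.mon (hG : Good q1) (hk : 4 ≤ k) (hke : Even k) :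
    ∀ (t : ℕ) {ι : Type} [Fintype ι] [DecidableEq ι] {q : QuadraticForm F (ι → F)}
      (P : Power q q1 (t + 2)) {G : Subgroup (O q)}, P.Full hG (by omega) G → G ≤ P.Mon := by
  intro t
  induction t with
  | zero =>
    intro ι _ _ q P G h
    exact Full.le_Mon h hk hke (h.uni hk fun ht => absurd ht (by omega))
  | succ n ih =>
    intro ι _ _ q P G h
    exact Full.le_Mon h hk hke (h.uni hk fun ht Γ hΓ => ih (std (q1 := q1) hG.two (n + 1 + 1)) hΓ)

end Power

end CfsgLib.TensorEven
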