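import Cfsg.Agent.Lib.TensorEven.Setup
import Cfsg.Agent.Lib.TensorOdd.Signs

/-!
Isometries supported on the moved space of an involution, and the slot elements among them.
-/

set_option autoImplicit false
set_option linter.unusedSectionVars false

namespace CfsgLib.TensorEven

open Matrix QuadraticMap CfsgLib.Orth CfsgLib.TensorOddMinus
open CfsgLib.TensorOdd (IsFrame blockSign blockSign_app)
open CfsgLib.TensorWreathMax (Idx)

section Gen

variable {κ : Type} [Fintype κ] [DecidableEq κ] {F : Type*} [Field F] [Fintype F]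
variable {p : QuadraticForm F (κ → F)}

/-- `g` fixes every vector fixed by `a`. -/
def Supp (a g : O p) : Prop := ∀ z, app a z = z → app g z = z

theorem Supp.self (a : O p) : Supp a a := fun _ h => h

theorem Supp.one (a : O p) : Supp a 1 := fun _ _ => app_one _

theorem Supp.mul {a g h : O p} (hg : Supp a g) (hh : Supp a h) : Supp a (g * h) := fun z hz => by
  rw [app_mul, hh z hz, hg z hz]

theorem Supp.inv {a g : O p} (hg : Supp a g) : Supp a g⁻¹ := fun z hz => by
  conv_lhs => rw [← hg z hz]
  exact app_inv_app g z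

theorem Supp.trans {a b g : O p} (hb : Supp a b) (hg : Supp b g) : Supp a g := fun z hz => hg z (hb z hz)

/-- Conjugation by an element commuting with the support. -/
theorem Supp.conj {a g x : O p} (hx : Supp a x) (hc : g * a = a * g) : Supp a (g * x * g⁻¹) := fun z hz => by
  have h1 : app a (app g⁻¹ z) = app g⁻¹ z := by
    apply app_injective g
    rw [← app_mul, hc, app_mul, app_app_inv, hz]
  rw [app_mul, app_mul, hx _ h1, app_app_inv]

theorem sq_app {a : O p} (ha : a * a = 1) (z : κ → F) : app a (app a z) = z := by rw [← app_mul, ha, app_one]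

/-- A vector orthogonal to the fixed space of an involution is negated. -/
theorem neg_of_orth (hp : p.polarBilin.Nondegenerate) {a : O p} (ha : a * a = 1) {z : κ → F}
    (h : ∀ f, app a f = f → polar p z f = 0) : app a z = -z := by
  suffices z + app a z = 0 from eq_neg_of_add_eq_zero_right this
  refine hp.1 _ fun y => ?_
  rw [polarBilin_apply_apply]
  have hf : app a (y + app a y) = y + app a y := by rw [map_add, sq_app ha, add_comm]
  have h1 := h _ hf
  rw [polar_add_right, ← polar_app a z (app a y), sq_app ha] at h1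
  rw [polar_add_left]
  exact h1

theorem orth_of_neg (h2 : (2 : F) ≠ 0) {a : O p} {z f : κ → F} (hz : app a z = -z) (hf : app a f = f) :
    polar p z f = 0 := by
  have h := polar_app a z f
  rw [hz, hf, polar_neg_left, neg_eq_iff_add_eq_zero, ← two_mul] at h
  exact (mul_eq_zero.1 h).resolve_left h2

theorem Supp.neg (hp : p.polarBilin.Nondegenerate) (h2 : (2 : F) ≠ 0) {a g : O p} (ha : a * a = 1)
    (hg : Supp a g) {z : κ → F} (hz : app a z = -z) : app a (app g z) = -app g z :=
  neg_of_orth hp ha fun f hf => by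
    conv_lhs => rw [← hg f hf]
    rw [polar_app]
    exact orth_of_neg h2 hz hf

theorem Supp.commute (hp : p.polarBilin.Nondegenerate) (h2 : (2 : F) ≠ 0) {a g : O p} (ha : a * a = 1)
    (hg : Supp a g) : g * a = a * g := ext_app fun z => by
  have hf : app a (z + app a z) = z + app a z := by rw [map_add, sq_app ha, add_comm]
  have hn : app a (z - app a z) = -(z - app a z) := by rw [map_sub, sq_app ha]; abel
  have h1 := hg _ hf
  have h3 := hg.neg hp h2 ha hn
  rw [map_add] at h1
  rw [map_sub, map_sub] at h3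
  have h4 : app a (app g z + app g (app a z)) = app g z + app g (app a z) := by rw [h1, hf]
  rw [map_add] at h4
  rw [app_mul, app_mul]
  have : (2 : F) • app g (app a z) = (2 : F) • app a (app g z) := by
    linear_combination (norm := module) -h3 - h4
  exact smul_right_injective _ h2 this

/-- Elements supported on complementary spaces commute. -/
theorem Supp.commute_compl (hp : p.polarBilin.Nondegenerate) (h2 : (2 : F) ≠ 0) {a g x : O p} (ha : a * a = 1)
    (hg : Supp a g) (hx : Supp (negId p * a) x) : g * x = x * g := ext_app fun z => by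
  have hfix : ∀ w, app a w = -w → app x w = w := fun w hw => hx w (by rw [app_mul, hw, app_negId, neg_neg])
  have hna : (negId p * a) * (negId p * a) = 1 := ext_app fun w => by
    rw [app_mul, app_mul, app_mul, app_negId, app_negId, map_neg, neg_neg, sq_app ha, app_one]
  have hf : app a (z + app a z) = z + app a z := by rw [map_add, sq_app ha, add_comm]
  have hn : app a (z - app a z) = -(z - app a z) := by rw [map_sub, sq_app ha]; abel
  have hn' : app (negId p * a) (z + app a z) = -(z + app a z) := by rw [app_mul, hf, app_negId]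
  have hxf : app a (app x (z + app a z)) = app x (z + app a z) := by
    have := hx.neg hp h2 hna hn'
    rwa [app_mul, app_negId, neg_inj] at this
  have e1 : app g (app x (z + app a z)) = app x (app g (z + app a z)) := by rw [hg _ hxf, hg _ hf]
  have e2 : app g (app x (z - app a z)) = app x (app g (z - app a z)) := by
    rw [hfix _ hn, hfix _ (hg.neg hp h2 ha hn)]
  rw [map_add, map_add, map_add, map_add] at e1
  rw [map_sub, map_sub, map_sub, map_sub] at e2
  rw [app_mul, app_mul]
  refine smul_right_injective _ h2 (?_ : (2 : F) • _ = (2 : F) • _)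
  linear_combination (norm := module) e1 + e2

/-- A reflection supported by an involution is in a negated vector. -/
theorem Supp.refl_neg (hp : p.polarBilin.Nondegenerate) {a : O p} (ha : a * a = 1)
    {v : κ → F} (hv : p v ≠ 0) (h : Supp a (refl p v)) : app a v = -v :=
  neg_of_orth hp ha fun f hf => by
    have e := h f hf
    rw [app_refl, sub_eq_self, smul_eq_zero] at e
    rcases e with e | e
    · rw [polar_comm]; exact (mul_eq_zero.1 e).resolve_left (inv_ne_zero hv)
    · exact absurd (by rw [e, QuadraticMap.map_zero]) hv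

/-- A negated vector gives a supported reflection. -/
theorem supp_refl (h2 : (2 : F) ≠ 0) {a : O p} {v : κ → F} (h : app a v = -v) :
    Supp a (refl p v) := fun f hf => by
  rw [app_refl, polar_comm, orth_of_neg h2 h hf, mul_zero, zero_smul, sub_zero]

theorem app_refl_self (h2 : (2 : F) ≠ 0) {v : κ → F} (hv : p v ≠ 0) : app (refl p v) v = -v := by
  rw [app_refl, polar_self', ← mul_assoc, mul_comm (p v)⁻¹, mul_assoc, inv_mul_cancel₀ hv, mul_one]
  module

theorem app_refl_orth {v x : κ → F} (h : polar p x v = 0) : app (refl p v) x = x := by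
  rw [app_refl, h, mul_zero, zero_smul, sub_zero]

/-- Equal reflections have proportional vectors. -/
theorem refl_inj (h2 : (2 : F) ≠ 0) {v w : κ → F} (hv : p v ≠ 0) (hw : p w ≠ 0) (h : refl p v = refl p w) :
    ∃ c : F, c ≠ 0 ∧ v = c • w := by
  have e : app (refl p w) v = -v := by rw [← h]; exact app_refl_self h2 hv
  rw [app_refl] at e
  refine ⟨((p w)⁻¹ * polar p v w) / 2, fun h0 => hv ?_, ?_⟩
  · have : ((p w)⁻¹ * polar p v w) = 0 := by simpa [h2] using h0
    rw [this, zero_smul, sub_zero] at e
    have : v = 0 := by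
      have : (2 : F) • v = 0 := by linear_combination (norm := module) e
      exact (smul_eq_zero.1 this).resolve_left h2
    rw [this, QuadraticMap.map_zero]
  · refine smul_right_injective _ h2 (?_ : (2 : F) • _ = (2 : F) • _)
    rw [smul_smul, mul_div_cancel₀ _ h2]
    linear_combination (norm := module) e

/-- Commuting reflections have orthogonal or proportional vectors. -/
theorem refl_comm_cases (h2 : (2 : F) ≠ 0) {v w : κ → F} (hv : p v ≠ 0) (hw : p w ≠ 0)
    (h : refl p v * refl p w = refl p w * refl p v) : polar p v w = 0 ∨ refl p v = refl p w := by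
  by_cases h0 : polar p v w = 0
  · exact Or.inl h0
  right
  have e := congrArg (fun g => app g v) h
  simp only [app_mul, app_refl_self h2 hv, map_neg] at e
  set u := app (refl p w) v with hu
  have eu : u = (((p v)⁻¹ * polar p u v) / 2) • v := by
    have h1 : app (refl p v) u = -u := e
    rw [app_refl] at h1
    refine smul_right_injective _ h2 (?_ : (2 : F) • _ = (2 : F) • _)
    rw [smul_smul, mul_div_cancel₀ _ h2]
    linear_combination (norm := module) h1
  set c := ((p v)⁻¹ * polar p u v) / 2
  have ew : ((p w)⁻¹ * polar p v w) • w = (1 - c) • v := by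
    have h1 : u = v - ((p w)⁻¹ * polar p v w) • w := by rw [hu, app_refl]
    linear_combination (norm := module) h1 - eu
  have ha : (p w)⁻¹ * polar p v w ≠ 0 := mul_ne_zero (inv_ne_zero hw) h0
  have hc : 1 - c ≠ 0 := fun hc0 => by
    rw [hc0, zero_smul] at ew
    exact hw (by rw [(smul_eq_zero.1 ew).resolve_left ha, QuadraticMap.map_zero])
  rw [show v = ((1 - c)⁻¹ * ((p w)⁻¹ * polar p v w)) • w by rw [← smul_smul, ew, inv_smul_smul₀ hc],
    refl_smul (mul_ne_zero (inv_ne_zero hc) ha)]

theorem refl_comm_of_orth {v w : κ → F} (h : polar p v w = 0) :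
    refl p v * refl p w = refl p w * refl p v := ext_app fun x => by
  simp only [app_mul, app_refl, polar_sub_left, polar_smul_left, smul_eq_mul, h,
    polar_comm (f := ⇑p) w v, mul_zero, sub_zero]
  abel

theorem exists_frame_at (hp : p.polarBilin.Nondegenerate) (h2 : (2 : F) ≠ 0) {v : κ → F} (hv : p v ≠ 0) :
    ∃ (u : κ → κ → F) (a : κ), IsFrame p u ∧ u a = v := by
  classical
  obtain ⟨u, hu⟩ := CfsgLib.TensorOdd.exists_frame hp h2
  obtain ⟨u', a, -, h, hR⟩ := CfsgLib.TensorOdd.refr_vec hu Finset.univ (y := v)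
    (fun j hj => absurd (Finset.mem_univ j) hj) hv
  exact ⟨u', a, hR.1, h⟩

theorem mv_le_card (g : O p) : mv g ≤ Fintype.card κ := by
  have := mv_add_fix g
  omega

theorem mv_mul_le (g h : O p) : mv (g * h) ≤ mv g + mv h := by
  have hle : movS (g * h) ≤ movS g ⊔ movS h := by
    intro z hz
    obtain ⟨a, rfl⟩ := mem_movS.1 hz
    rw [app_mul, show a - app g (app h a) = (app h a - app g (app h a)) + (a - app h a) by abel]
    exact Submodule.add_mem_sup (mem_movS.2 ⟨_, rfl⟩) (mem_movS.2 ⟨_, rfl⟩)
  exact le_trans (Submodule.finrank_mono hle) (Submodule.finrank_add_le_finrank_add_finrank _ _)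

theorem mv_negId_mul (hp : p.polarBilin.Nondegenerate) (h2 : (2 : F) ≠ 0) {a : O p} (ha : a * a = 1) :
    mv (negId p * a) + mv a = Fintype.card κ := by
  classical
  obtain ⟨v, S, hv, rfl⟩ := exists_sign_frame hp h2 ha
  have e : negId p * blockSign p v S = blockSign p v Sᶜ := hv.ext_O fun i => by
    rw [app_mul, app_negId, blockSign_app hv, blockSign_app hv]
    by_cases hi : i ∈ S <;> simp [hi]
  rw [e, mv_blockSign hv, mv_blockSign hv, Finset.card_compl]
  have := S.card_le_univ
  omega

theorem exists_fixed_vec {a : O p} (h : mv a < Fintype.card κ) :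
    ∃ y, y ≠ 0 ∧ app a y = y := by
  have := mv_add_fix a
  obtain ⟨y, hy, hy0⟩ : ∃ y ∈ fixS a, y ≠ 0 := Submodule.exists_mem_ne_zero_of_ne_bot fun hb => by
    rw [hb, finrank_bot] at this
    omega
  exact ⟨y, hy0, mem_fixS.1 hy⟩

theorem negId_comm' (g : O p) : negId p * g = g * negId p :=
  ext_app fun x => by rw [app_mul, app_mul, app_negId, app_negId, map_neg]

theorem negId_mul_invol {a : O p} (ha : a * a = 1) : negId p * a * (negId p * a) = 1 := ext_app fun x => by
  rw [app_mul, app_mul, app_mul, app_negId, app_negId, map_neg, neg_neg, sq_app ha, app_one]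

theorem negId_negId_mul (a : O p) : negId p * (negId p * a) = a := ext_app fun x => by
  rw [app_mul, app_mul, app_negId, app_negId, neg_neg]

theorem invol_mul {a b : O p} (ha : a * a = 1) (hb : b * b = 1) (h : b * a = a * b) : a * b * (a * b) = 1 := by
  rw [mul_assoc, ← mul_assoc b, h, mul_assoc a b b, hb, mul_one, ha]

/-- The central element of a dihedral group of two non-conjugate involutions. -/
theorem dihedral_pair {G : Type*} [Group G] [Finite G] (C : Subgroup G) {r s : G} (hrC : r ∈ C) (hsC : s ∈ C)
    (hr : r * r = 1) (hs : s * s = 1) (hne : ∀ c ∈ C, c * r * c⁻¹ ≠ s) :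
    ∃ e ∈ C, e ≠ 1 ∧ e * e = 1 ∧ e * r = r * e ∧ e * s = s * e ∧
      (((∃ c ∈ C, c * r * c⁻¹ = r * e) ∧ ∃ c ∈ C, c * s * c⁻¹ = s * e) ∨
        ((∃ c ∈ C, c * s * c⁻¹ = r * e) ∧ ∃ c ∈ C, c * r * c⁻¹ = s * e)) := by
  set r' : C := ⟨r, hrC⟩
  set s' : C := ⟨s, hsC⟩
  have hr' : r' * r' = 1 := Subtype.ext hr
  have hs' : s' * s' = 1 := Subtype.ext hs
  obtain ⟨i, hi⟩ : Even (orderOf (s' * r')) := by
    by_contra h
    obtain ⟨c, hc⟩ := CfsgLib.TensorOdd.dihedral_odd hr' hs' (Nat.not_even_iff_odd.1 h)
    exact hne c c.2 (congrArg Subtype.val hc)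
  set ε := (s' * r') ^ i with hε
  have hε2 : ε * ε = 1 := by rw [hε, ← pow_add, ← hi, pow_orderOf_eq_one]
  have hε1 : ε ≠ 1 := fun h => by
    have h1 := orderOf_dvd_of_pow_eq_one (hε ▸ h : (s' * r') ^ i = 1)
    have h2 : 0 < orderOf (s' * r') := orderOf_pos _
    have := Nat.le_of_dvd (by omega) h1
    omega
  obtain ⟨h1, h2, h3, h4⟩ := TensorOdd.dihedral hr' hs' hε2
  have hεi : (r' * s') ^ i = ε := by
    have e : r' * s' = (s' * r')⁻¹ := by
      rw [_root_.mul_inv_rev, inv_eq_of_mul_eq_one_right hr', inv_eq_of_mul_eq_one_right hs']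
    rw [e, inv_pow, ← hε, inv_eq_of_mul_eq_one_right hε2]
  obtain ⟨-, -, h3', h4'⟩ := TensorOdd.dihedral hs' hr' (k := i) (by rw [hεi]; exact hε2)
  rw [hεi] at h3' h4'
  refine ⟨ε, ε.2, fun h => hε1 (Subtype.ext h), congrArg Subtype.val hε2, congrArg Subtype.val h2,
    congrArg Subtype.val h1, ?_⟩
  rcases Nat.even_or_odd i with h | h
  · obtain ⟨c, hc⟩ := h3' h
    obtain ⟨c', hc'⟩ := h3 h
    exact Or.inl ⟨⟨c, c.2, congrArg Subtype.val hc⟩, ⟨c', c'.2, congrArg Subtype.val hc'⟩⟩
  · obtain ⟨c, hc⟩ := h4' h
    obtain ⟨c', hc'⟩ := h4 h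
    exact Or.inr ⟨⟨c, c.2, congrArg Subtype.val hc⟩, ⟨c', c'.2, congrArg Subtype.val hc'⟩⟩

theorem exists_two_values (h2 : (2 : F) ≠ 0) {a b : F} (ha : a ≠ 0) (hb : b ≠ 0) :
    ∃ x y : F, x ^ 2 * a + y ^ 2 * b ≠ 0 ∧ ¬ IsSquare ((x ^ 2 * a + y ^ 2 * b) / a) := by
  obtain ⟨ν, hν⟩ := FiniteField.exists_nonsquare (F := F) fun hch => h2 (by
    have : CharP F 2 := ringChar.of_eq hch
    exact CharTwo.two_eq_zero)
  have hν0 : ν ≠ 0 := fun h => hν (by rw [h]; exact ⟨0, by rw [mul_zero]⟩)
  obtain ⟨x, y, hxy⟩ := CfsgLib.Orth.exists_binary h2 ha hb (ν * a)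
  have hxy' : x ^ 2 * a + y ^ 2 * b = ν * a := by linear_combination hxy
  refine ⟨x, y, ?_, ?_⟩
  · rw [hxy']; exact mul_ne_zero hν0 ha
  · rwa [hxy', mul_div_assoc, div_self ha, mul_one]

end Gen

namespace Power

variable {ι : Type} [Fintype ι] [DecidableEq ι] {F : Type*} [Field F] [Fintype F] {k t : ℕ}
variable {q : QuadraticForm F (ι → F)} {q1 : QuadraticForm F (Fin k → F)}
variable (P : Power q q1 (t + 1)) (hG : Good q1) (ht : 1 ≤ t)

/-- A single reflection of a slot. -/
noncomputable abbrev sg (i : Fin (t + 1)) (v : Fin k → F) : O q := P.S hG ht i (refl q1 v)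

theorem S_inj (i : Fin (t + 1)) {A B : O q1} (h : P.S hG ht i A = P.S hG ht i B) : A = B := by
  refine ext_app fun x => ?_
  obtain ⟨z, hz⟩ := exists_anisotropic (P.D hG ht i).good2.nd (le_trans (by norm_num) (P.D hG ht i).good2.three)
  refine (P.D hG ht i).swap.tp_right_cancel (u := z) (fun h0 => hz (by rw [h0, QuadraticMap.map_zero])) ?_
  rw [(P.D hG ht i).swap_tp, (P.D hG ht i).swap_tp]
  erw [← Data.L_tp, ← Data.L_tp]
  rw [show (P.D hG ht i).L A = (P.D hG ht i).L B from h]

theorem S_negId (i : Fin (t + 1)) : P.S hG ht i (negId q1) = negId q := P.ext_tp_O fun xs => by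
  rw [S_tp, app_negId, app_negId, ← neg_one_smul F (xs i), tp_update_smul, Function.update_eq_self,
    neg_one_smul]

theorem supp_S (i : Fin (t + 1)) {A X : O q1} (hA : A * A = 1) (h : Supp A X) :
    Supp (P.S hG ht i A) (P.S hG ht i X) := fun z hz => by
  have hz' : P.sl i (app A) z = z := by rw [← app_S_eq_sl P hG ht]; exact hz
  have e : (app X : Module.End F (Fin k → F)) * (1 + app A) = 1 + app A := LinearMap.ext fun x => by
    show app X (x + app A x) = x + app A x
    exact h _ (by rw [map_add, sq_app hA, add_comm])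
  have e2 := LinearMap.congr_fun (congrArg (P.sl i) e) z
  rw [sl_mul, sl_add, sl_one, ← app_S_eq_sl P hG ht i X] at e2
  change app (P.S hG ht i X) (z + P.sl i (app A) z) = z + P.sl i (app A) z at e2
  rw [hz', ← two_smul F z, map_smul] at e2
  exact smul_right_injective _ hG.two e2

theorem S_fix {i : Fin (t + 1)} {A : O q1} {xs : Fin (t + 1) → Fin k → F} (h : app A (xs i) = xs i) :
    app (P.S hG ht i A) (P.tp xs) = P.tp xs := by
  rw [S_tp, h, Function.update_eq_self]

theorem Supp.of_S (i : Fin (t + 1)) {A X : O q1} (h : Supp (P.S hG ht i A) (P.S hG ht i X)) : Supp A X := by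
  intro y hy
  obtain ⟨z, hz⟩ := exists_anisotropic hG.nd (le_trans (by norm_num) hG.three)
  have hz0 : z ≠ 0 := fun h => hz (by rw [h, QuadraticMap.map_zero])
  by_cases hy0 : y = 0
  · rw [hy0, map_zero]
  have e := h _ (P.S_fix hG ht (A := A) (xs := Function.update (fun _ => z) i y) (i := i)
    (by rw [Function.update_self]; exact hy))
  rw [S_tp, Function.update_idem, Function.update_self] at e
  obtain ⟨d, hd, hd'⟩ := P.tp_eq (xs := Function.update (fun _ => z) i y) (fun l => by
    rcases eq_or_ne l i with rfl | hl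
    · rwa [Function.update_self]
    · rwa [Function.update_of_ne hl]) e.symm i
  rw [Function.update_self, Function.update_self] at hd'
  rw [hd', tp_update_smul] at e
  have hne : P.tp (Function.update (fun _ => z) i y) ≠ 0 := P.tp_ne_zero fun l => by
    rcases eq_or_ne l i with rfl | hl
    · rwa [Function.update_self]
    · rwa [Function.update_of_ne hl]
  have : d = 1 := smul_left_injective F hne (by simpa using e)
  rw [hd', this, one_smul]

/-- Two vectors which are not proportional. -/
theorem exists_indep (hk : 2 ≤ k) {z : Fin k → F} (_hz : z ≠ 0) : ∃ x : Fin k → F, ∀ c : F, x ≠ c • z := by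
  by_contra hc
  push Not at hc
  have hle : (⊤ : Submodule F (Fin k → F)) ≤ Submodule.span F {z} := fun x _ => by
    obtain ⟨c, hc'⟩ := hc x
    rw [hc']
    exact Submodule.smul_mem _ _ (Submodule.mem_span_singleton_self z)
  have := Submodule.finrank_mono hle
  have h1 := finrank_span_le_card (R := F) ({z} : Set (Fin k → F))
  rw [finrank_top, Module.finrank_fintype_fun_eq_card, Fintype.card_fin] at this
  simp at h1
  omega

include hG in
theorem scalar_of_all_lines (A : (Fin k → F) ≃ₗ[F] (Fin k → F))
    (h : ∀ x, x ≠ 0 → ∃ d : F, A x = d • x) : ∃ μ : F, ∀ x, A x = μ • x := by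
  obtain ⟨a, ha⟩ := scalar_of_lines hG A.toLinearMap fun x _ hx => h x hx
  exact ⟨a, ha⟩

set_option maxHeartbeats 1000000 in
/-- A monomial element supported at a slot is an element of the slot. -/
theorem mon_supp {i : Fin (t + 1)} {A : O q1} (hA : A * A = 1) (hmv : mv A < k) {g : O q} (hg : g ∈ P.Mon)
    (hs : Supp (P.S hG ht i A) g) : ∃ B : O q1, g = P.S hG ht i B ∧ Supp A B := by
  classical
  have hk2 : 2 ≤ k := by have := hG.three; rw [Fintype.card_fin] at this; omega
  obtain ⟨σ, C, hC⟩ := hg
  obtain ⟨y, hy0, hy⟩ := exists_fixed_vec (a := A) (by rwa [Fintype.card_fin])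
  obtain ⟨z, hz⟩ := exists_anisotropic hG.nd (le_trans (by norm_num) hG.three)
  have hz0 : z ≠ 0 := fun h => hz (by rw [h, QuadraticMap.map_zero])
  -- the factors
  have key : ∀ xs : Fin (t + 1) → Fin k → F, xs i = y → (∀ l, xs l ≠ 0) → ∀ l, ∃ d : F, d ≠ 0 ∧
      C l (xs (σ l)) = d • xs l := fun xs hxi hne l => by
    have e := hs _ (P.S_fix hG ht (A := A) (xs := xs) (i := i) (by rw [hxi]; exact hy))
    rw [hC] at e
    exact P.tp_eq hne e.symm l
  have upd : ∀ (l : Fin (t + 1)) (x : Fin k → F), x ≠ 0 → ∀ m,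
      Function.update (Function.update (fun _ => z) l x) i y m ≠ 0 := fun l x hx m => by
    simp only [Function.update_apply]
    split_ifs <;> assumption
  have hσl : ∀ l, l ≠ i → σ l = l := fun l hl => by
    by_contra hne
    obtain ⟨x, hx⟩ := exists_indep hk2 hz0
    have hx0 : x ≠ 0 := fun h => hx 0 (by rw [h, zero_smul])
    obtain ⟨d, hd, e⟩ := key (Function.update (Function.update (fun _ => z) l z) i y) (Function.update_self ..) (upd l z hz0) l
    obtain ⟨d', hd', e'⟩ := key (Function.update (Function.update (fun _ => z) l x) i y) (Function.update_self ..) (upd l x hx0) l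
    rw [Function.update_of_ne hl, Function.update_self] at e e'
    have h1 : Function.update (Function.update (fun _ => z) l z) i y (σ l) =
        Function.update (Function.update (fun _ => z) l x) i y (σ l) := by
      rcases eq_or_ne (σ l) i with h | h
      · rw [h, Function.update_self, Function.update_self]
      · rw [Function.update_of_ne h, Function.update_of_ne h, Function.update_of_ne hne, Function.update_of_ne hne]
    rw [h1, e'] at e
    exact hx (d'⁻¹ * d) (by rw [← smul_smul, ← e, inv_smul_smul₀ hd'])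
  have hσ : σ = 1 := Equiv.ext fun l => by
    rcases eq_or_ne l i with rfl | hl
    · by_contra hne
      exact hne (σ.injective (hσl (σ l) hne))
    · exact hσl l hl
  subst hσ
  have hsc : ∀ l, ∃ μ : F, l ≠ i → ∀ x, C l x = μ • x := fun l => by
    by_cases hl : l = i
    · exact ⟨0, fun h => absurd hl h⟩
    obtain ⟨μ, hμ⟩ := scalar_of_all_lines hG (A := C l) fun x hx => by
      obtain ⟨d, -, e⟩ := key (Function.update (Function.update (fun _ => z) l x) i y) (Function.update_self ..) (upd l x hx) l
      rw [Equiv.Perm.one_apply, Function.update_of_ne hl, Function.update_self] at e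
      exact ⟨d, e⟩
    exact ⟨μ, fun _ => hμ⟩
  choose μ hμ using hsc
  set c := ∏ l, (if l = i then (1 : F) else μ l) with hc
  set M : (Fin k → F) →ₗ[F] (Fin k → F) := c • (C i).toLinearMap with hM
  have hgM : ∀ xs, app g (P.tp xs) = P.tp (Function.update xs i (M (xs i))) := fun xs => by
    rw [hC, hM, LinearMap.smul_apply, tp_update_smul, LinearEquiv.coe_coe, hc, ← P.tp_smul]
    congr 1
    funext l
    rcases eq_or_ne l i with rfl | hl
    · simp
    · simp [hl, Function.update_of_ne hl, hμ l hl]
  have hQ : ∀ x, q1 (M x) = q1 x := fun x => by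
    have e := Q_app g (P.tp (Function.update (fun _ => z) i x))
    rw [hgM, Function.update_self, Function.update_idem] at e
    have e' : ∀ v, (2 : F) * q (P.tp (Function.update (fun _ => z) i v)) =
        2 * q1 v * ∏ _l ∈ Finset.univ.erase i, polar q1 z z := fun v => by
      rw [← polar_self', polar_tp, ← Finset.mul_prod_erase _ _ (Finset.mem_univ i), Function.update_self,
        polar_self']
      congr 1
      exact Finset.prod_congr rfl fun l hl => by rw [Function.update_of_ne (Finset.ne_of_mem_erase hl)]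
    have h1 := congrArg ((2 : F) * ·) e
    simp only [e'] at h1
    exact mul_left_cancel₀ hG.two (mul_right_cancel₀ (Finset.prod_ne_zero_iff.2 fun _ _ => by
      rw [polar_self']; exact mul_ne_zero hG.two hz) h1)
  have hc0 : c ≠ 0 := fun h0 => hz (by rw [← hQ z, hM, h0, zero_smul, LinearMap.zero_apply, QuadraticMap.map_zero])
  let M' : (Fin k → F) →ₗ[F] (Fin k → F) := c⁻¹ • (C i).symm.toLinearMap
  have h1 : M.comp M' = LinearMap.id := LinearMap.ext fun x => by
    simp [M, M', smul_smul, mul_inv_cancel₀ hc0, inv_mul_cancel₀ hc0]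
  have h2 : M'.comp M = LinearMap.id := LinearMap.ext fun x => by
    simp [M, M', smul_smul, mul_inv_cancel₀ hc0, inv_mul_cancel₀ hc0]
  refine ⟨mkO M M' h1 h2 hQ, ?_⟩
  have hgB : g = P.S hG ht i (mkO M M' h1 h2 hQ) := P.ext_tp_O fun xs => by rw [hgM, S_tp, app_mkO]
  exact ⟨hgB, Supp.of_S P hG ht i (hgB ▸ hs)⟩

/-- A slot element equal to one which leaves another slot alone preserves the lines. -/
theorem lines_of_slot {i : Fin (t + 1)} {X : O q1} {g : O q}
    (hX : ∀ xs : Fin (t + 1) → Fin k → F, app g (P.tp xs) = P.tp (Function.update xs i (app X (xs i))))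
    {ys : (Fin (t + 1) → Fin k → F) → Fin (t + 1) → Fin k → F}
    (hg : ∀ xs, app g (P.tp xs) = P.tp (ys xs)) (hi : ∀ xs, ys xs i = xs i) :
    ∀ x, x ≠ 0 → ∃ d : F, app X x = d • x := fun x hx => by
  have e := hX (fun _ => x)
  rw [hg] at e
  obtain ⟨d, -, hd⟩ := P.tp_eq (xs := Function.update (fun _ => x) i (app X x)) (fun l => by
    rcases eq_or_ne l i with rfl | hl
    · rw [Function.update_self]; exact fun h0 => hx (app_injective X (by rw [h0, map_zero]))
    · rwa [Function.update_of_ne hl]) e.symm i
  rw [hi, Function.update_self] at hd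
  by_cases h0 : d = 0
  · exact absurd (by simpa [h0] using hd) hx
  exact ⟨d⁻¹, by
    conv_rhs => rw [hd]
    rw [inv_smul_smul₀ h0]⟩

/-! ### Dimensions -/

theorem tp_signs (xs : Fin (t + 1) → Fin k → F) (T : Finset (Fin (t + 1))) :
    P.tp (fun l => if l ∈ T then -xs l else xs l) = ((-1 : F) ^ T.card) • P.tp xs := by
  have e : (fun l => if l ∈ T then -xs l else xs l) = fun l => (if l ∈ T then (-1 : F) else 1) • xs l := by
    funext l; split_ifs <;> simp
  rw [e, P.tp_smul, Finset.prod_ite_mem, Finset.univ_inter, Finset.prod_const]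

include hG in
set_option maxHeartbeats 1000000 in
/-- The signature of a product of involutions of the slots. -/
theorem mv_factors {g : O q} (As : Fin (t + 1) → O q1)
    (hg : ∀ xs, app g (P.tp xs) = P.tp fun l => app (As l) (xs l)) (hA : ∀ l, As l * As l = 1) :
    (k : ℤ) ^ (t + 1) - 2 * (mv g : ℤ) = ∏ l, ((k : ℤ) - 2 * (mv (As l) : ℤ)) := by
  classical
  choose v S hv hS using fun l => exists_sign_frame hG.nd hG.two (hA l)
  have hW : IsFrame q (fun I : Idx k (t + 1) => P.tp fun l => v l (I l)) := by
    refine ⟨by rw [P.card_eq]; simp, fun I J hIJ => ?_, fun I h0 => ?_, hG.two⟩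
    · obtain ⟨i, hi⟩ := Function.ne_iff.1 hIJ
      rw [P.polar_tp]
      exact Finset.prod_eq_zero (Finset.mem_univ i) ((hv i).orth _ _ hi)
    · have e := polar_self' (Q := q) (P.tp fun l => v l (I l))
      rw [P.polar_tp, h0, mul_zero] at e
      exact Finset.prod_ne_zero_iff.2 (fun i _ => (hv i).polar_self_ne (I i)) e
  set U := Finset.univ.filter fun I : Idx k (t + 1) => Odd (Finset.univ.filter fun l => I l ∈ S l).card with hU
  have hev : g = blockSign q (fun I : Idx k (t + 1) => P.tp fun l => v l (I l)) U := hW.ext_O fun I => by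
    rw [blockSign_app hW, hg]
    set T := Finset.univ.filter fun l => I l ∈ S l with hT
    rw [show (fun l => app (As l) (v l (I l))) = fun l => if l ∈ T then -v l (I l) else v l (I l) from
      funext fun l => by rw [hS l, blockSign_app (hv l)]; simp [hT], tp_signs]
    have hIU : I ∈ U ↔ Odd T.card := by simp [hU, hT]
    rcases Nat.even_or_odd T.card with he | ho
    · rw [if_neg (fun h => Nat.not_odd_iff_even.2 he (hIU.1 h)), he.neg_one_pow, one_smul]
    · rw [if_pos (hIU.2 ho), ho.neg_one_pow, neg_one_smul]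
  have hsum : ∀ l, (k : ℤ) - 2 * (mv (As l) : ℤ) = ∑ j, if j ∈ S l then (-1 : ℤ) else 1 := fun l => by
    rw [hS l, mv_blockSign (hv l), Finset.sum_ite, Finset.sum_const, Finset.sum_const,
      Finset.filter_mem_eq_inter, Finset.univ_inter, show (Finset.univ.filter fun j => j ∉ S l) = (S l)ᶜ from
        Finset.ext fun j => by simp, Finset.card_compl, Fintype.card_fin]
    have : (S l).card ≤ k := by simpa using (S l).card_le_univ
    simp only [nsmul_eq_mul]
    push_cast [Nat.cast_sub this]
    ring
  rw [hev, mv_blockSign hW, Finset.prod_congr rfl fun l _ => hsum l, Fintype.prod_sum]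
  have hterm : ∀ I : Idx k (t + 1), (∏ l, if I l ∈ S l then (-1 : ℤ) else 1) = if I ∈ U then -1 else 1 := by
    intro I
    set T := Finset.univ.filter fun l => I l ∈ S l with hT
    have e : (∏ l, if I l ∈ S l then (-1 : ℤ) else 1) = (-1 : ℤ) ^ T.card := by
      rw [Finset.prod_ite, Finset.prod_const, Finset.prod_const, one_pow, mul_one]
    rw [e]
    have hIU : I ∈ U ↔ Odd T.card := by simp [hU, hT]
    rcases Nat.even_or_odd T.card with he | ho
    · rw [if_neg (fun h => Nat.not_odd_iff_even.2 he (hIU.1 h)), he.neg_one_pow]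
    · rw [if_pos (hIU.2 ho), ho.neg_one_pow]
  rw [Finset.sum_congr rfl fun I _ => hterm I, Finset.sum_ite, Finset.sum_const, Finset.sum_const,
    Finset.filter_mem_eq_inter, Finset.univ_inter, show (Finset.univ.filter fun I => I ∉ U) = Uᶜ from
      Finset.ext fun j => by simp, Finset.card_compl, Fintype.card_fun, Fintype.card_fin, Fintype.card_fin]
  have : U.card ≤ k ^ (t + 1) := by simpa using U.card_le_univ
  simp only [nsmul_eq_mul]
  push_cast [Nat.cast_sub this]
  ring

theorem mv_S (i : Fin (t + 1)) {A : O q1} (hA : A * A = 1) : mv (P.S hG ht i A) = mv A * k ^ t := by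
  classical
  have h := P.mv_factors hG (g := P.S hG ht i A) (Function.update (fun _ => 1) i A)
    (fun xs => by
      rw [S_tp]
      congr 1
      funext l
      rcases eq_or_ne l i with rfl | hl
      · simp
      · simp [Function.update_of_ne hl])
    (fun l => by rcases eq_or_ne l i with rfl | hl <;> simp [*])
  rw [← Finset.mul_prod_erase _ _ (Finset.mem_univ i), Function.update_self, Finset.prod_congr rfl fun l hl => by
    rw [Function.update_of_ne (Finset.ne_of_mem_erase hl), mv_one], Finset.prod_const,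
    Finset.card_erase_of_mem (Finset.mem_univ i), Finset.card_univ, Fintype.card_fin, Nat.add_sub_cancel] at h
  zify
  rw [pow_succ] at h
  simp only [Nat.cast_zero, mul_zero, sub_zero] at h
  linarith

theorem mv_sg (i : Fin (t + 1)) {v : Fin k → F} (hv : q1 v ≠ 0) : mv (P.sg hG ht i v) = k ^ t := by
  rw [mv_S P hG ht i (refl_mul_self v), mv_refl hG.nd hG.two hv, one_mul]

theorem mv_pair {i j : Fin (t + 1)} (hij : i ≠ j) {A B : O q1} (hA : A * A = 1) (hB : B * B = 1) :
    (k : ℤ) ^ (t + 1) - 2 * (mv (P.S hG ht i A * P.S hG ht j B) : ℤ) =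
      ((k : ℤ) - 2 * mv A) * ((k : ℤ) - 2 * mv B) * (k : ℤ) ^ (t - 1) := by
  classical
  rw [P.mv_factors hG (g := P.S hG ht i A * P.S hG ht j B) (Function.update (Function.update (fun _ => 1) j B) i A)
    (fun xs => by
      rw [app_mul, S_tp, S_tp, Function.update_of_ne hij]
      congr 1
      funext l
      simp only [Function.update_apply]
      split_ifs <;> simp_all)
    (fun l => by simp only [Function.update_apply]; split_ifs <;> simp [*])]
  rw [← Finset.mul_prod_erase _ _ (Finset.mem_univ i),
    ← Finset.mul_prod_erase _ _ (Finset.mem_erase.2 ⟨hij.symm, Finset.mem_univ j⟩), Function.update_self,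
    Function.update_of_ne hij.symm, Function.update_self, Finset.prod_congr rfl fun l hl => by
      simp only [Finset.mem_erase] at hl
      rw [Function.update_of_ne hl.2.1, Function.update_of_ne hl.1, mv_one],
    Finset.prod_const, Finset.card_erase_of_mem (Finset.mem_erase.2 ⟨hij.symm, Finset.mem_univ j⟩),
    Finset.card_erase_of_mem (Finset.mem_univ i), Finset.card_univ, Fintype.card_fin]
  rw [show t + 1 - 1 - 1 = t - 1 by omega]
  simp [mul_assoc]

theorem mv_triple {i j l : Fin (t + 1)} (hij : i ≠ j) (hil : i ≠ l) (hjl : j ≠ l) {A B C : O q1}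
    (hA : A * A = 1) (hB : B * B = 1) (hC : C * C = 1) :
    2 ≤ t ∧ (k : ℤ) ^ (t + 1) - 2 * (mv (P.S hG ht i A * P.S hG ht j B * P.S hG ht l C) : ℤ) =
      ((k : ℤ) - 2 * mv A) * ((k : ℤ) - 2 * mv B) * ((k : ℤ) - 2 * mv C) * (k : ℤ) ^ (t - 2) := by
  classical
  refine ⟨by have := Fin.val_ne_of_ne hij; have := Fin.val_ne_of_ne hil; have := Fin.val_ne_of_ne hjl; omega, ?_⟩
  rw [P.mv_factors hG (g := P.S hG ht i A * P.S hG ht j B * P.S hG ht l C)
    (Function.update (Function.update (Function.update (fun _ => 1) l C) j B) i A)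
    (fun xs => by
      rw [app_mul, app_mul, S_tp, S_tp, S_tp, Function.update_of_ne hjl, Function.update_of_ne hij,
        Function.update_of_ne hil]
      congr 1
      funext m
      simp only [Function.update_apply]
      split_ifs <;> simp_all)
    (fun l => by simp only [Function.update_apply]; split_ifs <;> simp [*])]
  rw [← Finset.mul_prod_erase _ _ (Finset.mem_univ i),
    ← Finset.mul_prod_erase _ _ (Finset.mem_erase.2 ⟨hij.symm, Finset.mem_univ j⟩),
    ← Finset.mul_prod_erase _ _ (Finset.mem_erase.2 ⟨hjl.symm, Finset.mem_erase.2 ⟨hil.symm, Finset.mem_univ l⟩⟩),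
    Function.update_self, Function.update_of_ne hij.symm, Function.update_self,
    Function.update_of_ne hil.symm, Function.update_of_ne hjl.symm, Function.update_self,
    Finset.prod_congr rfl fun m hm => by
      simp only [Finset.mem_erase] at hm
      rw [Function.update_of_ne hm.2.2.1, Function.update_of_ne hm.2.1, Function.update_of_ne hm.1, mv_one],
    Finset.prod_const,
    Finset.card_erase_of_mem (Finset.mem_erase.2 ⟨hjl.symm, Finset.mem_erase.2 ⟨hil.symm, Finset.mem_univ l⟩⟩),
    Finset.card_erase_of_mem (Finset.mem_erase.2 ⟨hij.symm, Finset.mem_univ j⟩),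
    Finset.card_erase_of_mem (Finset.mem_univ i), Finset.card_univ, Fintype.card_fin]
  rw [show t + 1 - 1 - 1 - 1 = t - 2 by omega]
  simp [mul_assoc]

end Power

end CfsgLib.TensorEven
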