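import Cfsg.Agent.Lib.TensorEven.Power

/-!
Monomial isometries of a tensor power: their factors, constructors from similitudes, and how they conjugate
the slot groups.
-/

set_option autoImplicit false
set_option linter.unusedSectionVars false

namespace CfsgLib.TensorEven

open Matrix QuadraticMap CfsgLib.Orth CfsgLib.TensorOddMinus
open CfsgLib.TensorOdd (IsFrame)

variable {ι : Type} [Fintype ι] [DecidableEq ι] {F : Type*} [Field F] [Fintype F] {k t : ℕ}
variable {q : QuadraticForm F (ι → F)} {q1 : QuadraticForm F (Fin k → F)}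

/-- A similitude of multiplier `c`. -/
def IsSim {κ : Type} [Fintype κ] (p : QuadraticForm F (κ → F)) (f : (κ → F) → (κ → F)) (c : F) : Prop :=
  ∀ x y, polar p (f x) (f y) = c * polar p x y

namespace Power

variable (P : Power q q1 t)

theorem tp_update_add (xs : Fin t → Fin k → F) (i : Fin t) (x y : Fin k → F) :
    P.tp (Function.update xs i (x + y)) = P.tp (Function.update xs i x) + P.tp (Function.update xs i y) := by
  rw [tp, tp, tp, ← map_add]
  congr 1
  funext a
  simp only [Pi.add_apply, Maximal.TensorPower.tp, ← Finset.mul_prod_erase _ _ (Finset.mem_univ i),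
    Function.update_self]
  rw [add_mul]
  congr 1 <;>
    exact congrArg _ (Finset.prod_congr rfl fun j hj => by simp [Function.update_of_ne (Finset.ne_of_mem_erase hj)])

theorem tp_update_smul (xs : Fin t → Fin k → F) (i : Fin t) (c : F) (x : Fin k → F) :
    P.tp (Function.update xs i (c • x)) = c • P.tp (Function.update xs i x) := by
  rw [tp, tp, ← map_smul]
  congr 1
  funext a
  simp only [Pi.smul_apply, smul_eq_mul, Maximal.TensorPower.tp, ← Finset.mul_prod_erase _ _ (Finset.mem_univ i),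
    Function.update_self]
  rw [mul_assoc]
  exact congrArg _ (congrArg _ (Finset.prod_congr rfl fun j hj => by
    simp [Function.update_of_ne (Finset.ne_of_mem_erase hj)]))

/-- Scaling every entry. -/
theorem tp_smul (c : Fin t → F) (xs : Fin t → Fin k → F) :
    P.tp (fun i => c i • xs i) = (∏ i, c i) • P.tp xs := by
  rw [tp, tp, ← map_smul]
  congr 1
  funext a
  simp [Maximal.TensorPower.tp, Finset.prod_mul_distrib]

theorem tp_eq_zero {xs : Fin t → Fin k → F} {i : Fin t} (h : xs i = 0) : P.tp xs = 0 := by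
  have := P.tp_update_smul xs i 0 0
  rwa [zero_smul, zero_smul, ← h, Function.update_eq_self] at this

/-- `g` is monomial, with permutation `σ` and factors `A`. -/
def IsMonW (g : O q) (σ : Equiv.Perm (Fin t)) (A : Fin t → (Fin k → F) ≃ₗ[F] (Fin k → F)) : Prop :=
  ∀ xs, app g (P.tp xs) = P.tp fun i => A i (xs (σ i))

theorem IsMonW.mul {P : Power q q1 t} {g h : O q} {σ τ : Equiv.Perm (Fin t)}
    {A B : Fin t → (Fin k → F) ≃ₗ[F] (Fin k → F)} (hg : P.IsMonW g σ A) (hh : P.IsMonW h τ B) :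
    P.IsMonW (g * h) (τ * σ) fun i => (B (σ i)).trans (A i) :=
  fun xs => by rw [app_mul, hh, hg]; rfl

theorem IsMonW.inv {P : Power q q1 t} {g : O q} {σ : Equiv.Perm (Fin t)}
    {A : Fin t → (Fin k → F) ≃ₗ[F] (Fin k → F)} (hg : P.IsMonW g σ A) :
    P.IsMonW g⁻¹ σ.symm fun i => (A (σ.symm i)).symm := fun xs => app_injective g (by
  rw [app_app_inv, hg]
  congr 1
  funext i
  simp)

/-- The monomial isometries. -/
def Mon : Subgroup (O q) where
  carrier := {g | ∃ σ A, P.IsMonW g σ A}
  one_mem' := ⟨1, fun _ => LinearEquiv.refl F _, fun xs => by rw [app_one]; rfl⟩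
  mul_mem' := fun ⟨_, _, hg⟩ ⟨_, _, hh⟩ => ⟨_, _, hg.mul hh⟩
  inv_mem' := fun ⟨_, _, hg⟩ => ⟨_, _, hg.inv⟩

theorem mem_Mon {g : O q} : g ∈ P.Mon ↔ ∃ σ A, P.IsMonW g σ A := Iff.rfl

theorem π_isMonW (h2 : (2 : F) ≠ 0) (σ : Equiv.Perm (Fin t)) :
    P.IsMonW (P.π h2 σ) σ.symm fun _ => LinearEquiv.refl F _ := fun xs => by rw [P.π_tp]; rfl

theorem π_mem (h2 : (2 : F) ≠ 0) (σ : Equiv.Perm (Fin t)) : P.π h2 σ ∈ P.Mon := ⟨_, _, P.π_isMonW h2 σ⟩

/-- The factors of a monomial isometry are similitudes. -/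
theorem IsMonW.sim {P : Power q q1 t} {g : O q} {σ : Equiv.Perm (Fin t)}
    {A : Fin t → (Fin k → F) ≃ₗ[F] (Fin k → F)} (hg : P.IsMonW g σ A) (hG : Good q1) :
    ∃ c : Fin t → F, (∀ i, IsSim q1 (A i) (c i)) ∧ ∏ i, c i = 1 := by
  obtain ⟨z, hz⟩ := exists_anisotropic hG.nd (le_trans (by norm_num) hG.three)
  have hp : polar q1 z z ≠ 0 := by rw [polar_self']; exact mul_ne_zero hG.two hz
  refine ⟨fun i => polar q1 (A i z) (A i z) / polar q1 z z, fun i x y => ?_, ?_⟩
  · have h := fun x y => polar_app g (P.tp (Function.update (fun _ => z) (σ i) x))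
      (P.tp (Function.update (fun _ => z) (σ i) y))
    simp only [hg _, P.polar_tp] at h
    have key : ∀ x y, polar q1 (A i x) (A i y) * ∏ j ∈ Finset.univ.erase i, polar q1 (A j z) (A j z) =
        polar q1 x y * ∏ _j ∈ Finset.univ.erase (σ i), polar q1 z z := by
      intro x y
      have h' := h x y
      rw [← Finset.mul_prod_erase _ _ (Finset.mem_univ i), ← Finset.mul_prod_erase _ _ (Finset.mem_univ (σ i))] at h'
      simp only [Function.update_self] at h'
      have e1 : ∀ (v : Fin k → F), ∀ j ∈ Finset.univ.erase i, Function.update (fun _ => z) (σ i) v (σ j) = z :=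
        fun v j hj => Function.update_of_ne (σ.injective.ne (Finset.ne_of_mem_erase hj)) _ _
      have e2 : ∀ (v : Fin k → F), ∀ j ∈ Finset.univ.erase (σ i), Function.update (fun _ => z) (σ i) v j = z :=
        fun v j hj => Function.update_of_ne (Finset.ne_of_mem_erase hj) _ _
      rw [Finset.prod_congr (rfl : Finset.univ.erase i = _) (g := fun j => polar q1 (A j z) (A j z))
          fun j hj => by rw [e1 x j hj, e1 y j hj],
        Finset.prod_congr (rfl : Finset.univ.erase (σ i) = _) (g := fun _ => polar q1 z z)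
          fun j hj => by rw [e2 x j hj, e2 y j hj]] at h'
      exact h'
    have h1 := key x y
    have h2 := key z z
    have hne : ∏ j ∈ Finset.univ.erase i, polar q1 (A j z) (A j z) ≠ 0 := by
      intro h0
      rw [h0, mul_zero, eq_comm, mul_eq_zero] at h2
      exact h2.elim hp (Finset.prod_ne_zero_iff.2 fun _ _ => hp)
    apply mul_right_cancel₀ hne
    rw [h1, div_mul_eq_mul_div, div_mul_eq_mul_div, mul_right_comm _ (polar q1 x y), h2]
    field_simp
  · have h := polar_app g (P.tp fun _ => z) (P.tp fun _ => z)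
    rw [hg, P.polar_tp, P.polar_tp] at h
    rw [Finset.prod_div_distrib, h, div_self (Finset.prod_ne_zero_iff.2 fun _ _ => hp)]

theorem IsMonW.ext {P : Power q q1 t} {g h : O q} {σ : Equiv.Perm (Fin t)}
    {A : Fin t → (Fin k → F) ≃ₗ[F] (Fin k → F)} (hg : P.IsMonW g σ A) (hh : P.IsMonW h σ A) : g = h :=
  P.ext_tp_O fun xs => by rw [hg, hh]

/-- The product of factors without permutation. -/
noncomputable def tenL (A : Fin t → (Fin k → F) →ₗ[F] (Fin k → F)) : (ι → F) →ₗ[F] (ι → F) :=
  P.E.toLinearMap ∘ₗ (Matrix.toLin' (Maximal.TensorPower.pm fun i => LinearMap.toMatrix' (A i))) ∘ₗ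
    P.E.symm.toLinearMap

theorem tenL_tp (A : Fin t → (Fin k → F) →ₗ[F] (Fin k → F)) (xs : Fin t → Fin k → F) :
    P.tenL A (P.tp xs) = P.tp fun i => A i (xs i) := by
  simp only [tenL, tp, LinearMap.comp_apply, LinearEquiv.coe_coe, LinearEquiv.symm_apply_apply,
    Matrix.toLin'_apply, Maximal.TensorPower.pm_mulVec, LinearMap.toMatrix'_mulVec]

/-- A monomial isometry with given similitudes as factors. -/
theorem exists_monW (h2 : (2 : F) ≠ 0) (A : Fin t → (Fin k → F) ≃ₗ[F] (Fin k → F)) (c : Fin t → F)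
    (hA : ∀ i, IsSim q1 (A i) (c i)) (hc : ∏ i, c i = 1) : ∃ g : O q, P.IsMonW g 1 A := by
  set L := P.tenL fun i => (A i).toLinearMap
  set M := P.tenL fun i => (A i).symm.toLinearMap
  have hLM : L.comp M = LinearMap.id := P.ext_tp fun xs => by
    simp [L, M, P.tenL_tp]
  have hML : M.comp L = LinearMap.id := P.ext_tp fun xs => by
    simp [L, M, P.tenL_tp]
  have hQ : ∀ x, q (L x) = q x := by
    have h : q.polarBilin.compl₁₂ L L = q.polarBilin := P.ext_tp fun xs => P.ext_tp fun ys => by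
      simp only [LinearMap.compl₁₂_apply, polarBilin_apply_apply, L, P.tenL_tp, P.polar_tp,
        LinearEquiv.coe_coe, hA _ _ _, Finset.prod_mul_distrib, hc, one_mul]
    intro x
    have h1 := LinearMap.congr_fun (LinearMap.congr_fun h x) x
    simp only [LinearMap.compl₁₂_apply, polarBilin_apply_apply, polar_self'] at h1
    exact mul_left_cancel₀ h2 h1
  exact ⟨mkO L M hLM hML hQ, fun xs => by rw [app_mkO, P.tenL_tp]; rfl⟩

end Power

/-- An isometry as a linear equivalence. -/
noncomputable def oEquiv {κ : Type} [Fintype κ] [DecidableEq κ] {p : QuadraticForm F (κ → F)} (A : O p) :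
    (κ → F) ≃ₗ[F] (κ → F) :=
  LinearEquiv.ofLinearMap (app A) (app A⁻¹) (LinearMap.ext fun x => app_app_inv A x)
    (LinearMap.ext fun x => app_inv_app A x)

@[simp] theorem oEquiv_apply {κ : Type} [Fintype κ] [DecidableEq κ] {p : QuadraticForm F (κ → F)} (A : O p)
    (x : κ → F) : oEquiv A x = app A x := rfl

/-- An isometry from a similitude conjugate. -/
theorem IsSim.conj {κ : Type} [Fintype κ] [DecidableEq κ] {p : QuadraticForm F (κ → F)}
    {φ : (κ → F) ≃ₗ[F] (κ → F)} {c : F} (h : IsSim p φ c) (_hc : c ≠ 0) (h2 : (2 : F) ≠ 0) (A : O p) :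
    ∃ B : O p, ∀ x, app B x = φ (app A (φ.symm x)) := by
  have hs : ∀ x, p (φ x) = c * p x := fun x => mul_left_cancel₀ h2 (by
    rw [← polar_self', h, polar_self']; ring)
  refine ⟨mkO (φ.toLinearMap ∘ₗ app A ∘ₗ φ.symm.toLinearMap) (φ.toLinearMap ∘ₗ app A⁻¹ ∘ₗ φ.symm.toLinearMap)
    (LinearMap.ext fun x => by simp [app_app_inv]) (LinearMap.ext fun x => by simp [app_inv_app]) (fun x => ?_),
    fun x => by rw [app_mkO]; rfl⟩
  show p (φ (app A (φ.symm x))) = p x
  rw [hs, Q_app, ← hs, LinearEquiv.apply_symm_apply]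

/-- The image of a reflection under a similitude. -/
theorem IsSim.refl_conj {κ : Type} [Fintype κ] [DecidableEq κ] {p : QuadraticForm F (κ → F)}
    {φ : (κ → F) ≃ₗ[F] (κ → F)} {c : F} (h : IsSim p φ c) (hc : c ≠ 0) (h2 : (2 : F) ≠ 0) (v x : κ → F) :
    φ (app (refl p v) (φ.symm x)) = app (refl p (φ v)) x := by
  have hs : p (φ v) = c * p v := mul_left_cancel₀ h2 (by rw [← polar_self', h, polar_self']; ring)
  obtain ⟨y, rfl⟩ := φ.surjective x
  rw [LinearEquiv.symm_apply_apply, app_refl, app_refl, map_sub, map_smul, h, hs, mul_inv,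
    mul_mul_mul_comm, inv_mul_cancel₀ hc, one_mul]

/-- The image of an Eichler element under a similitude. -/
theorem IsSim.eich_conj {κ : Type} [Fintype κ] [DecidableEq κ] {p : QuadraticForm F (κ → F)}
    {φ : (κ → F) ≃ₗ[F] (κ → F)} {c : F} (h : IsSim p φ c) (hc : c ≠ 0) (h2 : (2 : F) ≠ 0) {u a : κ → F}
    (hu : p u = 0) (hua : polar p u a = 0) (x : κ → F) :
    φ (app (eich p u a) (φ.symm x)) = app (eich p (φ u) (c⁻¹ • φ a)) x := by
  have hs : ∀ v, p (φ v) = c * p v := fun v => mul_left_cancel₀ h2 (by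
    rw [← polar_self', h, polar_self']; ring)
  obtain ⟨y, rfl⟩ := φ.surjective x
  rw [LinearEquiv.symm_apply_apply, app_eich hu hua, app_eich (by rw [hs, hu, mul_zero])
    (by rw [polar_smul_right, h, hua, mul_zero, smul_zero])]
  simp only [map_add, map_sub, map_smul, polar_smul_right, QuadraticMap.map_smul, hs, smul_eq_mul, smul_smul]
  simp only [h y u, h y a, mul_comm (polar p y _)]
  match_scalars <;> field_simp

namespace Power

theorem S_isMonW (P : Power q q1 (t + 1)) (hg : Good q1) (ht : 1 ≤ t) (i : Fin (t + 1)) (B : O q1) :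
    P.IsMonW (P.S hg ht i B) 1 (Function.update (fun _ => LinearEquiv.refl F (Fin k → F)) i (oEquiv B)) :=
  fun xs => by
    rw [P.S_tp]
    congr 1
    funext l
    rcases eq_or_ne l i with rfl | h
    · simp
    · simp [Function.update_of_ne h]

theorem S_mem (P : Power q q1 (t + 1)) (hg : Good q1) (ht : 1 ≤ t) (i : Fin (t + 1)) (B : O q1) :
    P.S hg ht i B ∈ P.Mon := ⟨_, _, P.S_isMonW hg ht i B⟩

/-- Monomial isometries permute the slot groups. -/
theorem IsMonW.conj_S {P : Power q q1 (t + 1)} {g : O q} {σ : Equiv.Perm (Fin (t + 1))}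
    {A : Fin (t + 1) → (Fin k → F) ≃ₗ[F] (Fin k → F)} (hg : P.IsMonW g σ A) (hG : Good q1) (ht : 1 ≤ t)
    (i : Fin (t + 1)) (B : O q1) :
    ∃ B', (∀ x, app B' x = A i (app B ((A i).symm x))) ∧
      g * P.S hG ht (σ i) B * g⁻¹ = P.S hG ht i B' := by
  obtain ⟨c, hc, hc1⟩ := hg.sim hG
  have hci : c i ≠ 0 := fun h0 => by
    rw [Finset.prod_eq_zero (Finset.mem_univ i) h0] at hc1; exact zero_ne_one hc1
  obtain ⟨B', hB'⟩ := (hc i).conj hci hG.two B
  refine ⟨B', hB', ?_⟩
  rw [mul_inv_eq_iff_eq_mul]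
  refine P.ext_tp_O fun xs => ?_
  rw [app_mul, app_mul, P.S_tp, hg, hg, P.S_tp]
  congr 1
  funext l
  rcases eq_or_ne l i with rfl | h
  · simp [hB']
  · simp [Function.update_of_ne h, Function.update_of_ne (σ.injective.ne h)]

end Power

end CfsgLib.TensorEven
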