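import Cfsg.Agent.Lib.TensorEven.Stab
import Cfsg.Agent.Lib.TensorEven.Mon
import Cfsg.Agent.Lib.TensorEven.Comp

/-!
An isometry preserving a singular slice and carrying its root elements to root elements acts on the slice and
on its orthogonal modulo the slice as a product of similitudes.
-/

set_option autoImplicit false
set_option linter.unusedSectionVars false

namespace CfsgLib.TensorOddMinus

open Matrix QuadraticMap CfsgLib.Orth
open CfsgLib.TensorEven (IsSim)
open CfsgLib.TensorMax63 (Hyp mid mem_mid ext_polar exists_aniso)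

variable {ι : Type} [Fintype ι] [DecidableEq ι] {F : Type*} [Field F] [Fintype F]
variable {q : QuadraticForm F (ι → F)} {a b : ℕ}

namespace Data

variable {D : Data q a b} {w w' : Fin b → F}

/-- A root element moves the orthogonal of the slice inside the slice. -/
theorem root_app_perp (hw : D.q2 w = 0) {c : Fin b → F} (hc : polar D.q2 w c = 0) {z : ι → F}
    (hz : D.C w z = 0) : app (D.R (eich D.q2 w c)) z = z - D.tp (D.C c z) w := by
  have hadj : D.adj (D.tpL c) z = D.C c z := ext_polar D.good1.nd fun x => by rw [polar_adj, polar_C]; rfl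
  rw [(D.isRad_R hw hc).eqn, hadj, hz, map_zero, map_zero, D.tp_zero_left]
  simp

/-- The conjugate of an element of the root group by a stabiliser of the slice lies in the root group. -/
theorem isRad_conj (P : Hyp D.q2 w w') {f x : O q} (hM : ∀ y, ∃ y', app f (D.tp y w) = D.tp y' w)
    {Θ : (Fin a → F) →ₗ[F] (ι → F)} {K : (Fin a → F) →ₗ[F] (Fin a → F)} (hx : D.IsRad w Θ K x) :
    ∃ Θ' K', D.IsRad w Θ' K' (f * x * f⁻¹) := by
  have hperp : ∀ z, D.C w z = 0 → app x z = z - D.tp (D.adj Θ z) w := fun z hz => by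
    rw [hx.eqn, hz, map_zero, map_zero, D.tp_zero_left]; simp
  have hsurj : ∀ y, ∃ y', app f (D.tp y' w) = D.tp y w := by
    choose φ hφ using hM
    have hinj : Function.Injective φ := fun y z h => D.tp_left_cancel P.ne₁ (app_injective f (by rw [hφ, hφ, h]))
    intro y
    obtain ⟨y', rfl⟩ := (Finite.injective_iff_surjective.1 hinj) y
    exact ⟨y', hφ y'⟩
  refine isRad_of_stab P (fun y => ?_) fun y d hd => ?_
  · obtain ⟨y', hy'⟩ := hsurj y
    rw [app_mul, app_mul, ← hy', app_inv_app, hperp _ (D.C_self P.q₁ y'), adj_tp hx.ker, D.tp_zero_left, sub_zero]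
  · have hz : D.C w (app f⁻¹ (D.tp y d)) = 0 := ext_polar D.good1.nd fun x => by
      obtain ⟨x', hx'⟩ := hM x
      rw [polar_C, polar_zero_left, ← polar_app f, app_app_inv, hx', D.polar_tp, polar_comm (f := ⇑D.q2) d w,
        (mem_mid.1 hd).1, mul_zero]
    obtain ⟨z, hz'⟩ := hM (D.adj Θ (app f⁻¹ (D.tp y d)))
    refine ⟨-z, ?_⟩
    rw [app_mul, app_mul, hperp _ hz, map_sub, app_app_inv, hz', D.tp_neg_left, sub_eq_add_neg]

/-- An element with all contractions to the middle space zero, orthogonal to the slice, lies in it. -/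
theorem mem_slice_of_C (P : Hyp D.q2 w w') {z : ι → F} (hz : D.C w z = 0)
    (hm : ∀ d ∈ mid D.q2 w w', D.C d z = 0) : ∃ x, z = D.tp x w := by
  refine ⟨D.C w' z, sub_eq_zero.1 (D.nd.1 _ fun y => ?_)⟩
  have e : q.polarBilin z = q.polarBilin (D.tp (D.C w' z) w) := ext_three P
    (fun x => by
      rw [polarBilin_apply_apply, polarBilin_apply_apply, ← polar_C, hz, polar_zero_left, D.polar_tp, P.self₁,
        mul_zero])
    (fun x => by
      rw [polarBilin_apply_apply, polarBilin_apply_apply, ← polar_C, D.polar_tp, P.pair, mul_one])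
    fun x d hd => by
      rw [polarBilin_apply_apply, polarBilin_apply_apply, ← polar_C, hm d hd, polar_zero_left, D.polar_tp,
        (mem_mid.1 hd).1, mul_zero]
  rw [map_sub, LinearMap.sub_apply, LinearMap.congr_fun e y, sub_self]

/-- The action on the slice and on its orthogonal modulo the slice. -/
theorem exists_slice_action (P : Hyp D.q2 w w') {f : O q} (hM : ∀ y, ∃ y', app f (D.tp y w) = D.tp y' w)
    (hroot : ∀ c ∈ mid D.q2 w w', ∃ c' ∈ mid D.q2 w w',
      f * D.R (eich D.q2 w c) * f⁻¹ = D.R (eich D.q2 w c')) :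
    ∃ (α : (Fin a → F) ≃ₗ[F] (Fin a → F)) (A : (Fin b → F) ≃ₗ[F] (Fin b → F)) (l : F), l ≠ 0 ∧
      IsSim D.q1 α l ∧ IsSim D.q2 A l⁻¹ ∧ A w = w ∧ (∀ y, app f (D.tp y w) = D.tp (α y) w) ∧
      ∀ y d, d ∈ mid D.q2 w w' → ∃ x, app f (D.tp y d) = D.tp (α y) (A d) + D.tp x w := by
  classical
  -- the slice
  let αl : (Fin a → F) →ₗ[F] (Fin a → F) := (D.C w').comp ((app f).comp (D.tpL w))
  have hα : ∀ y, app f (D.tp y w) = D.tp (αl y) w := fun y => by
    obtain ⟨y', hy'⟩ := hM y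
    show _ = D.tp (D.C w' (app f (D.tp y w))) w
    rw [hy', C_tp, P.pair, one_smul]
  have hαinj : Function.Injective αl := fun y z h => D.tp_left_cancel P.ne₁ (app_injective f (by rw [hα, hα, h]))
  let α := LinearEquiv.ofInjectiveEndo αl hαinj
  have hαe : ∀ y, α y = αl y := fun y => rfl
  -- the orthogonal
  have hperp : ∀ z, D.C w z = 0 → D.C w (app f z) = 0 := fun z hz => ext_polar D.good1.nd fun x => by
    obtain ⟨x', rfl⟩ := α.surjective x
    rw [polar_C, hαe, ← hα, polar_app, ← polar_C, hz, polar_zero_left, polar_zero_left]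
  choose φ hφm hφ using hroot
  have hstar : ∀ c (hc : c ∈ mid D.q2 w w') z, D.C w z = 0 → D.C (φ c hc) (app f z) = α (D.C c z) := by
    intro c hc z hz
    have e := congrArg (fun g : O q => app g (app f z)) (hφ c hc)
    simp only [app_mul, app_inv_app] at e
    rw [root_app_perp P.q₁ (mem_mid.1 hc).1 hz, map_sub, hα,
      root_app_perp P.q₁ (mem_mid.1 (hφm c hc)).1 (hperp z hz), sub_right_inj] at e
    exact (D.tp_left_cancel P.ne₁ e).symm
  have hCmid : ∀ y e, e ∈ mid D.q2 w w' → D.C w (D.tp y e) = 0 := fun y e he => by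
    rw [C_tp, polar_comm, (mem_mid.1 he).1, zero_smul]
  -- every vector of the middle space is such a conjugate
  have hsurj : ∀ d ∈ mid D.q2 w w', ∃ c, ∃ hc : c ∈ mid D.q2 w w', φ c hc = d := by
    obtain ⟨y0, hy0⟩ := exists_anisotropic D.good1.nd (le_trans (by norm_num) D.good1.three)
    have hinj : Function.Injective fun c : mid D.q2 w w' => (⟨φ c c.2, hφm c c.2⟩ : mid D.q2 w w') := by
      intro c c' h
      simp only [Subtype.mk.injEq] at h
      refine Subtype.ext (sub_eq_zero.1 ?_)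
      by_contra hne
      obtain ⟨e, he, hpe⟩ := P.nondeg_mid D.good2.nd (c - c' : Fin b → F) (sub_mem c.2 c'.2) hne
      rw [polar_comm] at hpe
      refine hpe ?_
      have h1 := hstar c c.2 (D.tp y0 e) (hCmid _ _ he)
      rw [h, hstar c' c'.2 (D.tp y0 e) (hCmid _ _ he), C_tp, C_tp, map_smul, map_smul] at h1
      have h0 : α y0 ≠ 0 := fun h0 => hy0 (by rw [(map_eq_zero_iff α α.injective).1 h0, QuadraticMap.map_zero])
      rw [polar_sub_right, smul_left_injective F h0 h1, sub_self]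
    intro d hd
    obtain ⟨⟨c, hc⟩, hcd⟩ := Finite.injective_iff_surjective.1 hinj ⟨d, hd⟩
    exact ⟨c, hc, Subtype.ext_iff.1 hcd⟩
  -- the middle space
  obtain ⟨y0, hy0⟩ := exists_anisotropic D.good1.nd (le_trans (by norm_num) D.good1.three)
  obtain ⟨y1, hy1⟩ : ∃ y1, polar D.q1 (α y0) y1 = 1 := by
    obtain ⟨y, hy⟩ := exists_polar_eq_one D.good1.nd (v := α y0) (fun h0 => hy0 (by
      rw [(map_eq_zero_iff α α.injective).1 h0, QuadraticMap.map_zero]))
    exact ⟨y, hy⟩
  let e0 : (Fin b → F) →ₗ[F] (Fin b → F) := (D.swap.C y1).comp ((app f).comp (D.tpR y0))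
  let pr : (Fin b → F) →ₗ[F] (Fin b → F) :=
    LinearMap.id - (D.q2.polarBilin w').smulRight w - (D.q2.polarBilin w).smulRight w'
  have hpr : ∀ x, pr x = x - polar D.q2 w' x • w - polar D.q2 w x • w' := fun x => rfl
  have hprm : ∀ x, pr x ∈ mid D.q2 w w' := fun x => by rw [hpr]; exact P.proj_mem x
  have hprd : ∀ x, ∀ d ∈ mid D.q2 w w', polar D.q2 (pr x) d = polar D.q2 x d := fun x d hd => by
    rw [hpr, polar_sub_left, polar_sub_left, polar_smul_left, polar_smul_left, (mem_mid.1 hd).1,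
      (mem_mid.1 hd).2, smul_zero, smul_zero, sub_zero, sub_zero]
  have hprid : ∀ d ∈ mid D.q2 w w', pr d = d := fun d hd => by
    rw [hpr, (mem_mid.1 hd).1, (mem_mid.1 hd).2, zero_smul, zero_smul, sub_zero, sub_zero]
  have he0 : ∀ e ∈ mid D.q2 w w', ∀ c (hc : c ∈ mid D.q2 w w'),
      polar D.q2 (pr (e0 e)) (φ c hc) = polar D.q2 e c := by
    intro e he c hc
    rw [hprd _ _ (hφm c hc)]
    show polar D.swap.q1 (D.swap.C y1 (app f (D.tp y0 e))) _ = _
    rw [polar_C, D.swap_tp, ← polar_C, hstar c hc _ (hCmid _ _ he), C_tp, map_smul, polar_smul_left, smul_eq_mul,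
      hy1, mul_one]
  have hmidmap : ∀ y e, e ∈ mid D.q2 w w' →
      ∃ x, app f (D.tp y e) = D.tp (α y) (pr (e0 e)) + D.tp x w := by
    intro y e he
    obtain ⟨x, hx⟩ := mem_slice_of_C P (z := app f (D.tp y e) - D.tp (α y) (pr (e0 e)))
      (by rw [map_sub, hperp _ (hCmid _ _ he), C_tp, polar_comm, (mem_mid.1 (hprm _)).1, zero_smul, sub_zero])
      (fun d hd => by
        obtain ⟨c, hc, rfl⟩ := hsurj d hd
        rw [map_sub, hstar c hc _ (hCmid _ _ he), C_tp, C_tp, map_smul, he0 e he c hc, sub_self])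
    exact ⟨x, eq_add_of_sub_eq' hx⟩
  -- the multiplier
  have hform : ∀ y y' e e', e ∈ mid D.q2 w w' → e' ∈ mid D.q2 w w' →
      polar D.q1 (α y) (α y') * polar D.q2 (pr (e0 e)) (pr (e0 e')) = polar D.q1 y y' * polar D.q2 e e' := by
    intro y y' e e' he he'
    obtain ⟨x, hx⟩ := hmidmap y e he
    obtain ⟨x', hx'⟩ := hmidmap y' e' he'
    have h := polar_app f (D.tp y e) (D.tp y' e')
    rw [hx, hx'] at h
    simp only [polar_add_left, polar_add_right, D.polar_tp, P.self₁, (mem_mid.1 (hprm (e0 e'))).1,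
      polar_comm (f := ⇑D.q2) (pr (e0 e)) w, (mem_mid.1 (hprm (e0 e))).1, mul_zero, add_zero] at h
    exact h
  obtain ⟨e, he, hqe⟩ := exists_aniso (P.nondeg_mid D.good2.nd) (fun hb => by
    have e := P.finrank_mid D.good2.nd
    rw [hb, finrank_bot, Fintype.card_fin] at e
    have := D.three_b
    omega)
  set ν := polar D.q2 (pr (e0 e)) (pr (e0 e))
  have hee : polar D.q2 e e ≠ 0 := by rw [polar_self']; exact mul_ne_zero D.two hqe
  have hyy : polar D.q1 y0 y0 ≠ 0 := by rw [polar_self']; exact mul_ne_zero D.two hy0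
  have hν : ν ≠ 0 := fun h0 => mul_ne_zero hyy hee (by rw [← hform y0 y0 e e he he]; simp [ν] at h0; simp [h0])
  set l := polar D.q2 e e * ν⁻¹ with hl
  have hl0 : l ≠ 0 := mul_ne_zero hee (inv_ne_zero hν)
  have hαsim : IsSim D.q1 α l := fun y y' => mul_right_cancel₀ hν (by
    rw [hform y y' e e he he, hl]
    field_simp)
  have hmid : ∀ d d', d ∈ mid D.q2 w w' → d' ∈ mid D.q2 w w' →
      polar D.q2 (pr (e0 d)) (pr (e0 d')) = l⁻¹ * polar D.q2 d d' := fun d d' hd hd' => by
    have h := hform y0 y0 d d' hd hd'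
    rw [hαsim] at h
    field_simp
    exact mul_left_cancel₀ hyy (by linear_combination h)
  let Al : (Fin b → F) →ₗ[F] (Fin b → F) :=
    (D.q2.polarBilin w').smulRight w + l⁻¹ • (D.q2.polarBilin w).smulRight w' + pr.comp (e0.comp pr)
  have hAl : ∀ x, Al x = polar D.q2 w' x • w + l⁻¹ • (polar D.q2 w x • w') + pr (e0 (pr x)) := fun x => rfl
  have hAsim : IsSim D.q2 Al l⁻¹ := fun x x' => by
    have hx : ∀ x, x = polar D.q2 w' x • w + polar D.q2 w x • w' + pr x := fun x => by rw [hpr]; abel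
    rw [hAl, hAl]
    conv_rhs => rw [hx x, hx x']
    simp only [polar_add_left, polar_add_right, polar_smul_left, polar_smul_right, P.self₁, P.self₂, P.pair,
      P.pair', (mem_mid.1 (hprm _)).1, (mem_mid.1 (hprm _)).2, polar_comm (f := ⇑D.q2) (pr _) w,
      polar_comm (f := ⇑D.q2) (pr _) w', hmid _ _ (hprm x) (hprm x'), smul_eq_mul]
    ring
  have hAinj : Function.Injective Al := (injective_iff_map_eq_zero _).2 fun x hx => D.good2.nd.1 x fun y => by
    have h := hAsim x y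
    rw [hx, polar_zero_left] at h
    exact (mul_eq_zero.1 h.symm).resolve_left (inv_ne_zero hl0)
  refine ⟨α, LinearEquiv.ofInjectiveEndo Al hAinj, l, hl0, hαsim, hAsim, ?_, fun y => hα y, fun y d hd => ?_⟩
  · show Al w = w
    rw [hAl, P.pair', P.self₁, show pr w = 0 by rw [hpr, P.pair', P.self₁]; simp]
    simp
  · show ∃ x, _ = D.tp (α y) (Al d) + _
    rw [hAl, (mem_mid.1 hd).1, (mem_mid.1 hd).2, hprid d hd]
    simpa using hmidmap y d hd

/-- The second factor of a root element. -/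
theorem C_root (P : Hyp D.q2 w w') {c : Fin b → F} (hc : c ∈ mid D.q2 w w') {Θ : (Fin a → F) →ₗ[F] (ι → F)}
    {K : (Fin a → F) →ₗ[F] (Fin a → F)} (hg : D.IsRad w Θ K (D.R (eich D.q2 w c))) {d : Fin b → F}
    (hd : d ∈ mid D.q2 w w') (y : Fin a → F) : D.C d (Θ y) = polar D.q2 c d • y := by
  have h1 := hg.eqn (D.tp y w')
  rw [(isRad_R_eich P hc).eqn, D.C_tp, P.pair', one_smul] at h1
  have h2 := congrArg (D.C d) h1
  simp only [map_add, map_sub, D.C_tp, (mem_mid.1 hd).1, zero_smul, sub_zero, add_zero, add_right_inj] at h2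
  rw [← h2]
  exact D.C_tp d y c

/-- An element of the root group commuting modulo root elements with enough involutions of the first factor is a
root element. -/
theorem rigid_rad (P : Hyp D.q2 w w') (hb : 4 ≤ b) {G : Subgroup (O q)} {r : O q}
    {Θ : (Fin a → F) →ₗ[F] (ι → F)} {K : (Fin a → F) →ₗ[F] (Fin a → F)} (hr : D.IsRad w Θ K r)
    (hroot : ∀ c ∈ mid D.q2 w w', D.R (eich D.q2 w c) ∈ G)
    (hclean : ∀ Θ K g, g ∈ G → D.IsRad w Θ K g → ∃ c ∈ mid D.q2 w w', g = D.R (eich D.q2 w c))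
    (S : Set (O D.q1)) (hS : ∀ ρ ∈ S, ρ * ρ = 1 ∧ D.L ρ ∈ G ∧ r * D.L ρ * r⁻¹ ∈ G)
    (hscal : ∀ X : (Fin a → F) →ₗ[F] (Fin a → F), (∀ ρ ∈ S, ∀ y, app ρ (X y) = X (app ρ y)) →
      ∃ s : F, ∀ y, X y = s • y) :
    ∃ c ∈ mid D.q2 w w', r = D.R (eich D.q2 w c) := by
  have hhalf : ∀ ρ ∈ S, ∀ (X : (Fin a → F) →ₗ[F] (Fin a → F)) (s : F),
      (∀ y, X y - app ρ (X (app ρ y)) = s • y) → ∀ y, app ρ (X y) = X (app ρ y) := by
    intro ρ hρ X s key y
    have hinv : ∀ x, app ρ (app ρ x) = x := fun x => by rw [← app_mul, (hS ρ hρ).1, app_one]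
    have h1 := key (app ρ y)
    rw [hinv] at h1
    have h2 := congrArg (app ρ) (key y)
    rw [map_sub, hinv, map_smul] at h2
    have h3 : (2 : F) • (X (app ρ y) - app ρ (X y)) = 0 := by
      rw [two_smul]
      linear_combination (norm := module) h1 - h2
    exact (sub_eq_zero.1 ((smul_eq_zero.1 h3).resolve_left D.two)).symm
  have hcomm : ∀ ρ ∈ S, ∀ (r' : O q) (Θ' : (Fin a → F) →ₗ[F] (ι → F)) (K' : (Fin a → F) →ₗ[F] (Fin a → F)),
      D.IsRad w Θ' K' r' → r' * D.L ρ * r'⁻¹ ∈ G →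
      ∃ c ∈ mid D.q2 w w', D.IsRad w (Θ' + (app (D.L ρ)).comp ((-Θ').comp (app ρ)))
        (K' + (app ρ).comp ((-K' - (D.adj Θ').comp Θ').comp (app ρ)) -
          (D.adj Θ').comp ((app (D.L ρ)).comp ((-Θ').comp (app ρ)))) (D.R (eich D.q2 w c)) := by
    intro ρ hρ r' Θ' K' hr' hm
    obtain ⟨h2, hL, -⟩ := hS ρ hρ
    have hi : ρ⁻¹ = ρ := inv_eq_of_mul_eq_one_right h2
    have h := hr'.mul P.q₁ ((hr'.inv P.q₁).conj_L ρ)
    rw [hi] at h
    have e : r' * (D.L ρ * r'⁻¹ * (D.L ρ)⁻¹) = r' * D.L ρ * r'⁻¹ * (D.L ρ)⁻¹ := by group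
    rw [e] at h
    obtain ⟨c, hc, ec⟩ := hclean _ _ _ (G.mul_mem hm (G.inv_mem hL)) h
    exact ⟨c, hc, ec ▸ h⟩
  have hcomp : ∀ d ∈ mid D.q2 w w', D.q2 d ≠ 0 → ∃ s : F, ∀ x, D.C d (Θ x) = s • x := by
    intro d hd _
    refine hscal ((D.C d).comp Θ) fun ρ hρ => ?_
    obtain ⟨c, hc, h⟩ := hcomm ρ hρ r Θ K hr (hS ρ hρ).2.2
    refine hhalf ρ hρ _ (polar D.q2 c d) fun y => ?_
    rw [← C_root P hc h hd y]
    simp only [LinearMap.add_apply, LinearMap.comp_apply, LinearMap.neg_apply, map_add, map_neg, D.C_L]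
    exact sub_eq_add_neg _ _
  obtain ⟨c0, hc0, K0, hr0⟩ := exists_center P hb hr hcomp
  set x := D.R (eich D.q2 w c0)
  refine ⟨c0, hc0, mul_inv_eq_one.1 ?_⟩
  obtain ⟨s, hs⟩ := hscal K0 fun ρ hρ => by
    have hx : Commute (D.L ρ) x := ((Commute.one_right ρ).prod (Commute.one_left _)).map D.ten
    have hm : r * x⁻¹ * D.L ρ * (r * x⁻¹)⁻¹ ∈ G := by
      have e : r * x⁻¹ * D.L ρ * (r * x⁻¹)⁻¹ = r * D.L ρ * r⁻¹ := by
        rw [mul_assoc r, ← hx.inv_right.eq]; group
      rw [e]; exact (hS ρ hρ).2.2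
    obtain ⟨c, hc, h⟩ := hcomm ρ hρ _ 0 K0 hr0 hm
    have hc0' : c = 0 := by
      by_contra hne
      obtain ⟨d, hd, hcd⟩ := P.nondeg_mid D.good2.nd c hc hne
      obtain ⟨y, hy⟩ := exists_anisotropic D.good1.nd (le_trans (by norm_num) D.good1.three)
      have e := C_root P hc h hd y
      simp only [neg_zero, LinearMap.zero_comp, LinearMap.comp_zero, add_zero, LinearMap.zero_apply, map_zero] at e
      rw [eq_comm, smul_eq_zero] at e
      exact hy (by rw [e.resolve_left hcd, QuadraticMap.map_zero])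
    rw [hc0', show eich D.q2 w 0 = 1 by simpa using eich_smul_self P.q₁ (0 : F), map_one] at h
    simp only [neg_zero, LinearMap.zero_comp, LinearMap.comp_zero, add_zero, sub_zero] at h
    have e := h.K_eq P IsRad.one
    refine hhalf ρ hρ K0 0 fun y => ?_
    have e1 := LinearMap.congr_fun e y
    simp only [LinearMap.add_apply, LinearMap.comp_apply, LinearMap.neg_apply, map_neg, LinearMap.zero_apply] at e1
    rw [zero_smul, sub_eq_add_neg]
    exact e1
  obtain ⟨y, hy⟩ := exists_anisotropic D.good1.nd (le_trans (by norm_num) D.good1.three)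
  have hsk := InW.skew (D := D) (M := ⊤) P.q₁ P.ne₁ ⟨_, trivial, hr0⟩ y y
  rw [hs, polar_smul_left, polar_smul_right, polar_self', smul_eq_mul, ← two_mul] at hsk
  have hs0 : s = 0 :=
    ((mul_eq_zero.1 hsk).resolve_left D.two |> mul_eq_zero.1).resolve_right (mul_ne_zero D.two hy)
  have : K0 = 0 := LinearMap.ext fun z => by rw [hs, hs0, zero_smul]; rfl
  rw [this] at hr0
  exact hr0.ext IsRad.one

end Data

end CfsgLib.TensorOddMinus
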