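import Cfsg.Agent.Lib.TensorEven.Over

/-!
Elements of the root group of a singular slice: how to recognise them, existence, normal form, conjugation
by the second factor.
-/

set_option autoImplicit false
set_option linter.unusedSectionVars false

namespace CfsgLib.TensorOddMinus

open Matrix QuadraticMap CfsgLib.Orth
open CfsgLib.TensorMax63 (Hyp mid mem_mid exists_hyp ext_polar exists_aniso)

variable {ι : Type} [Fintype ι] [DecidableEq ι] {F : Type*} [Field F] [Fintype F]
variable {q : QuadraticForm F (ι → F)} {a b : ℕ}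

namespace Data

variable {D : Data q a b} {w w' : Fin b → F} (P : Hyp D.q2 w w')
include P

/-- Maps agreeing on the slices of a hyperbolic pair and of its orthogonal complement are equal. -/
theorem ext_three {M : Type*} [AddCommGroup M] [Module F M] {f g : (ι → F) →ₗ[F] M}
    (h1 : ∀ y, f (D.tp y w) = g (D.tp y w)) (h2 : ∀ y, f (D.tp y w') = g (D.tp y w'))
    (h3 : ∀ y d, d ∈ mid D.q2 w w' → f (D.tp y d) = g (D.tp y d)) : f = g :=
  D.ext_tp fun y v => by
    have e : v = polar D.q2 w' v • w + polar D.q2 w v • w' +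
        (v - polar D.q2 w' v • w - polar D.q2 w v • w') := by abel
    rw [e]
    simp only [D.tp_add_right, D.tp_smul_right, map_add, map_smul, h1, h2, h3 y _ (P.proj_mem v)]

omit P in
theorem adj_tp' {Θ : (Fin a → F) →ₗ[F] (ι → F)} {w : Fin b → F} (hk : ∀ x, D.C w (Θ x) = 0) (x : Fin a → F) :
    D.adj Θ (D.tp x w) = 0 := adj_tp hk x

/-- Recognising an element of the root group. -/
theorem isRad_of_eqs {Θ : (Fin a → F) →ₗ[F] (ι → F)} {K : (Fin a → F) →ₗ[F] (Fin a → F)} {g : O q}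
    (hk : ∀ x, D.C w (Θ x) = 0) (h1 : ∀ y, app g (D.tp y w) = D.tp y w)
    (h2 : ∀ y, app g (D.tp y w') = D.tp y w' + Θ y - D.tp (D.adj Θ (D.tp y w')) w + D.tp (K y) w)
    (h3 : ∀ y d, d ∈ mid D.q2 w w' → app g (D.tp y d) = D.tp y d - D.tp (D.adj Θ (D.tp y d)) w) :
    D.IsRad w Θ K g := by
  refine ⟨hk, LinearMap.congr_fun (ext_three P
    (g := LinearMap.id + Θ.comp (D.C w) - (D.tpL w).comp (D.adj Θ) + (D.tpL w).comp (K.comp (D.C w)))
    (fun y => ?_) (fun y => ?_) fun y d hd => ?_)⟩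
  · simp only [LinearMap.add_apply, LinearMap.sub_apply, LinearMap.comp_apply, LinearMap.id_apply]
    rw [h1, adj_tp hk, C_tp, P.self₁, zero_smul, map_zero, map_zero]
    simp
  · simp only [LinearMap.add_apply, LinearMap.sub_apply, LinearMap.comp_apply, LinearMap.id_apply]
    rw [h2, C_tp, P.pair', one_smul]
    rfl
  · simp only [LinearMap.add_apply, LinearMap.sub_apply, LinearMap.comp_apply, LinearMap.id_apply]
    rw [h3 y d hd, C_tp, polar_comm, (mem_mid.1 hd).1, zero_smul, map_zero, map_zero]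
    simp
    rfl

/-- A skew map gives an element which is the identity modulo the slice. -/
theorem exists_rad {K : (Fin a → F) →ₗ[F] (Fin a → F)}
    (hK : ∀ x y, polar D.q1 (K x) y + polar D.q1 x (K y) = 0) : ∃ g : O q, D.IsRad w 0 K g := by
  have hw := P.q₁
  let f : ((Fin a → F) →ₗ[F] (Fin a → F)) → (ι → F) →ₗ[F] (ι → F) :=
    fun L => LinearMap.id + (D.tpL w).comp (L.comp (D.C w))
  have hf : ∀ L z, f L z = z + D.tp (L (D.C w z)) w := fun L z => rfl
  have hinv : ∀ L, (f L).comp (f (-L)) = LinearMap.id := fun L => LinearMap.ext fun z => by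
    rw [LinearMap.comp_apply, hf, hf, map_add, D.C_self hw, add_zero, LinearMap.neg_apply, D.tp_neg_left,
      neg_add_cancel_right]
    rfl
  have hQ : ∀ z, q (f K z) = q z := fun z => by
    rw [hf, QuadraticMap.map_add ⇑q, D.Q_tp, hw, mul_zero, add_zero, ← polar_C,
      polar_comm (f := ⇑D.q1) (D.C w z)]
    have := hK (D.C w z) (D.C w z)
    rw [polar_comm (f := ⇑D.q1) (D.C w z) (K _), ← two_mul] at this
    rw [(mul_eq_zero.1 this).resolve_left D.two, add_zero]
  refine ⟨mkO (f K) (f (-K)) (hinv K) (by simpa using hinv (-K)) hQ, fun x => map_zero _, fun z => ?_⟩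
  rw [app_mkO, hf, D.adj_zero, D.tp_zero_left, LinearMap.zero_apply, add_zero, sub_zero]

/-- The coefficient at the slice is determined. -/
theorem IsRad.K_eq {Θ : (Fin a → F) →ₗ[F] (ι → F)} {K K' : (Fin a → F) →ₗ[F] (Fin a → F)} {g : O q}
    (h : D.IsRad w Θ K g) (h' : D.IsRad w Θ K' g) : K = K' := LinearMap.ext fun y => by
  have e := (h.eqn (D.tp y w')).symm.trans (h'.eqn _)
  rw [C_tp, P.pair', one_smul, add_right_inj] at e
  exact D.tp_left_cancel P.ne₁ e

/-- A normal form for the elements of the root group. -/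
theorem IsRad.normalise {Θ : (Fin a → F) →ₗ[F] (ι → F)} {K : (Fin a → F) →ₗ[F] (Fin a → F)} {g : O q}
    (h : D.IsRad w Θ K g) : ∃ Θ' K', D.IsRad w Θ' K' g ∧ (∀ y, D.C w' (Θ' y) = 0) ∧
      ∀ d, d ∈ mid D.q2 w w' → ∀ y, D.C d (Θ' y) = D.C d (Θ y) := by
  set L := (D.C w').comp Θ with hL
  set Lad := (D.adj Θ).comp (D.tpL w') with hLad
  have hw := P.q₁
  have hadj : ∀ z, D.adj (Θ - (D.tpL w).comp L) z = D.adj Θ z - Lad (D.C w z) := fun z =>
    ext_polar D.good1.nd fun x => by
      rw [polar_adj, polar_sub_left, polar_adj, LinearMap.sub_apply, polar_sub_right, LinearMap.comp_apply]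
      congr 1
      show polar q z (D.tp (L x) w) = polar D.q1 (D.adj Θ (D.tp (D.C w z) w')) x
      rw [← polar_C, polar_adj, hL, LinearMap.comp_apply, polar_comm (f := ⇑q) (D.tp (D.C w z) w'),
        ← polar_C, polar_comm]
  refine ⟨Θ - (D.tpL w).comp L, K + L - Lad, ⟨fun x => ?_, fun z => ?_⟩, fun y => ?_, fun d hd y => ?_⟩
  · rw [LinearMap.sub_apply, map_sub, h.ker, LinearMap.comp_apply]
    show 0 - D.C w (D.tp _ w) = 0
    rw [D.C_self hw, sub_zero]
  · rw [h.eqn, hadj]
    simp only [LinearMap.add_apply, LinearMap.sub_apply, LinearMap.comp_apply, D.tp_add_left, D.tp_sub_left]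
    show z + Θ (D.C w z) - D.tp (D.adj Θ z) w + D.tp (K (D.C w z)) w = z + (Θ (D.C w z) - D.tp (L (D.C w z)) w) -
      (D.tp (D.adj Θ z) w - D.tp (Lad (D.C w z)) w) + (D.tp (K (D.C w z)) w + D.tp (L (D.C w z)) w -
      D.tp (Lad (D.C w z)) w)
    abel
  · rw [LinearMap.sub_apply, map_sub, LinearMap.comp_apply]
    show D.C w' (Θ y) - D.C w' (D.tp (L y) w) = 0
    rw [C_tp, P.pair, one_smul]
    exact sub_self _
  · rw [LinearMap.sub_apply, map_sub, LinearMap.comp_apply]
    show D.C d (Θ y) - D.C d (D.tp (L y) w) = _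
    rw [C_tp, (mem_mid.1 hd).1, zero_smul, sub_zero]

omit P in
theorem C_R (ρ : O D.q2) (φ : Fin b → F) (z : ι → F) :
    D.C (app ρ φ) (app (D.R ρ) z) = D.C φ z := by
  have h : (D.C (app ρ φ)).comp (app (D.R ρ)) = D.C φ := D.ext_tp fun u v => by
    rw [LinearMap.comp_apply, D.R_tp, C_tp, C_tp, polar_app]
  exact LinearMap.congr_fun h z

omit P in
/-- Conjugation by the second factor. -/
theorem IsRad.conj_R {w : Fin b → F} {Θ : (Fin a → F) →ₗ[F] (ι → F)} {K : (Fin a → F) →ₗ[F] (Fin a → F)}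
    {g : O q} (h : D.IsRad w Θ K g) (ρ : O D.q2) :
    D.IsRad (app ρ w) ((app (D.R ρ)).comp Θ) K (D.R ρ * g * (D.R ρ)⁻¹) := by
  refine ⟨fun x => by rw [LinearMap.comp_apply, C_R, h.ker], fun z => ?_⟩
  obtain ⟨u, rfl⟩ : ∃ u, app (D.R ρ) u = z := ⟨app (D.R ρ)⁻¹ z, app_app_inv _ z⟩
  have hadj : D.adj ((app (D.R ρ)).comp Θ) (app (D.R ρ) u) = D.adj Θ u :=
    ext_polar D.good1.nd fun x => by rw [polar_adj, LinearMap.comp_apply, polar_app, polar_adj]
  rw [app_mul, app_mul, app_inv_app, h.eqn, hadj, C_R, map_add, map_sub, map_add, D.R_tp, D.R_tp]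
  rfl

omit P in
/-- Rescaling the singular vector. -/
theorem IsRad.smul_w {w : Fin b → F} {Θ : (Fin a → F) →ₗ[F] (ι → F)} {K : (Fin a → F) →ₗ[F] (Fin a → F)}
    {g : O q} {c : F} (hc : c ≠ 0) (h : D.IsRad (c • w) Θ K g) : D.IsRad w (c • Θ) ((c * c) • K) g := by
  have hC : ∀ z, D.C (c • w) z = c • D.C w z := fun z => ext_polar D.good1.nd fun x => by
    rw [polar_C, D.tp_smul_right, polar_smul_right, polar_smul_left, polar_C]
  have hadj : ∀ z, D.adj (c • Θ) z = c • D.adj Θ z := fun z => ext_polar D.good1.nd fun x => by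
    rw [polar_adj, LinearMap.smul_apply, polar_smul_right, polar_smul_left, polar_adj]
  refine ⟨fun x => ?_, fun z => ?_⟩
  · have := h.ker x
    rw [hC, smul_eq_zero, or_iff_right hc] at this
    rw [LinearMap.smul_apply, map_smul, this, smul_zero]
  · rw [h.eqn, hC, hadj]
    simp only [map_smul, LinearMap.smul_apply, D.tp_smul_left, D.tp_smul_right, smul_smul]

omit P in
/-- The adjoint of a multiple of a slice. -/
theorem adj_tpL_comp {X X' : (Fin a → F) →ₗ[F] (Fin a → F)}
    (hX : ∀ x y, polar D.q1 (X' x) y = polar D.q1 x (X y)) (c : Fin b → F) (z : ι → F) :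
    D.adj ((D.tpL c).comp X) z = X' (D.C c z) :=
  ext_polar D.good1.nd fun x => by
    rw [polar_adj, hX, polar_C]
    rfl

end Data

end CfsgLib.TensorOddMinus
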