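import Cfsg.Agent.Lib.TensorWreathMax.Classify

/-!
The rank of a Kronecker product of two unipotent matrices minus the identity.
-/

set_option autoImplicit false
set_option linter.unusedSectionVars false

namespace CfsgLib.TensorEven

open Matrix Module
open scoped Kronecker
open CfsgLib.TensorWreathMax (rank_kronecker_ge rank_mul_add_rank_mul_le rank_pos exists_proj)

variable {F : Type*} [Field F] {m : ℕ} {μ : Type} [Fintype μ] [DecidableEq μ]

/-- An idempotent onto a submodule. -/
theorem exists_idem (W : Submodule F (μ → F)) :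
    ∃ R : Matrix μ μ F, (∀ v, R *ᵥ v ∈ W) ∧ (∀ v ∈ W, R *ᵥ v = v) ∧ R.rank = finrank F W := by
  obtain ⟨W', hW'⟩ := W.exists_isCompl
  let f : (μ → F) →ₗ[F] (μ → F) := W.subtype ∘ₗ W.projectionOnto W' hW'
  have hfix : ∀ v ∈ W, f v = v := fun v hv => by
    simp [f, Submodule.projectionOnto_apply_left hW' ⟨v, hv⟩]
  refine ⟨LinearMap.toMatrix' f, fun v => ?_, fun v hv => by rw [LinearMap.toMatrix'_mulVec, hfix v hv], ?_⟩
  · rw [LinearMap.toMatrix'_mulVec]; simp [f]
  · rw [Matrix.rank, ← Matrix.toLin'_apply', Matrix.toLin'_toMatrix',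
      show LinearMap.range f = W from le_antisymm (fun _ ⟨v, hv⟩ => hv ▸ (by simp [f])) fun v hv => ⟨v, hfix v hv⟩]

/-- Subadditivity of the rank. -/
theorem rank_add_le' (A B : Matrix μ μ F) : (A + B).rank ≤ A.rank + B.rank := by
  simp only [Matrix.rank]
  refine (Submodule.finrank_mono ?_).trans (Submodule.finrank_add_le_finrank_add_finrank _ _)
  rintro _ ⟨v, rfl⟩
  rw [Matrix.mulVecLin_apply, Matrix.add_mulVec, ← Matrix.mulVecLin_apply, ← Matrix.mulVecLin_apply]
  exact Submodule.add_mem_sup (LinearMap.mem_range_self _ v) (LinearMap.mem_range_self _ v)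

/-- A product with a unipotent moves at least as much as the other factor slice by slice. -/
theorem mul_card_le_rank (α : Matrix (Fin m) (Fin m) F) {β : Matrix μ μ F} {n : ℕ} (hn : β ^ n = 0) :
    α.rank * Fintype.card μ ≤ ((1 + α) ⊗ₖ (1 + β) - 1).rank := by
  classical
  set N := (1 + α) ⊗ₖ (1 + β) - 1 with hN
  let K : ℕ → Submodule F (μ → F) := fun j => LinearMap.ker (β ^ j).mulVecLin
  choose R hR1 hR2 hR3 using fun j => exists_idem (K j)
  have hK : ∀ j v, v ∈ K j ↔ β ^ j *ᵥ v = 0 := fun j v => Iff.rfl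
  have hmono : ∀ j v, v ∈ K j → v ∈ K (j + 1) := fun j v hv => by
    rw [hK] at hv ⊢
    rw [pow_succ', ← Matrix.mulVec_mulVec, hv, Matrix.mulVec_zero]
  have step : ∀ j, α.rank * (finrank F (K j)) ≤ (N * ((1 : Matrix (Fin m) (Fin m) F) ⊗ₖ R j)).rank := by
    intro j
    induction j with
    | zero =>
      have : K 0 = ⊥ := by
        rw [Submodule.eq_bot_iff]
        intro v hv
        rwa [hK, pow_zero, Matrix.one_mulVec] at hv
      rw [Submodule.finrank_eq_zero.2 this, mul_zero]
      exact Nat.zero_le _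
    | succ j ih =>
      have hRR : R (j + 1) * R j = R j := Matrix.ext_of_mulVec_single fun i => by
        rw [← Matrix.mulVec_mulVec, hR2 _ _ (hmono j _ (hR1 j _))]
      have hQR : (1 - R j) * R j = 0 := Matrix.ext_of_mulVec_single fun i => by
        rw [← Matrix.mulVec_mulVec, Matrix.sub_mulVec, Matrix.one_mulVec, hR2 _ _ (hR1 j _), sub_self,
          Matrix.zero_mulVec]
      have hQβ : (1 - R j) * β * R (j + 1) = 0 := Matrix.ext_of_mulVec_single fun i => by
        have hmem : β *ᵥ (R (j + 1) *ᵥ Pi.single i 1) ∈ K j := by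
          have := hR1 (j + 1) (Pi.single i 1)
          rw [hK] at this ⊢
          rwa [Matrix.mulVec_mulVec, ← pow_succ]
        rw [← Matrix.mulVec_mulVec, ← Matrix.mulVec_mulVec, Matrix.sub_mulVec, Matrix.one_mulVec, hR2 _ _ hmem,
          sub_self, Matrix.zero_mulVec]
      have e1 : ((1 : Matrix (Fin m) (Fin m) F) ⊗ₖ (1 - R j)) * (N * ((1 : Matrix (Fin m) (Fin m) F) ⊗ₖ R (j + 1))) =
          α ⊗ₖ ((1 - R j) * R (j + 1)) := by
        rw [hN, Matrix.sub_mul, Matrix.one_mul, Matrix.mul_sub, ← Matrix.mul_kronecker_mul, ← Matrix.mul_kronecker_mul,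
          ← Matrix.mul_kronecker_mul, Matrix.mul_one, Matrix.one_mul, Matrix.one_mul, ← mul_assoc, mul_add,
          Matrix.mul_one, add_mul, hQβ, add_zero, add_kronecker, add_sub_cancel_left]
      have e2 : N * ((1 : Matrix (Fin m) (Fin m) F) ⊗ₖ R (j + 1)) * ((1 : Matrix (Fin m) (Fin m) F) ⊗ₖ R j) =
          N * ((1 : Matrix (Fin m) (Fin m) F) ⊗ₖ R j) := by
        rw [mul_assoc, ← Matrix.mul_kronecker_mul, Matrix.one_mul, hRR]
      have h3 : ((1 : Matrix (Fin m) (Fin m) F) ⊗ₖ (1 - R j)) *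
          (N * ((1 : Matrix (Fin m) (Fin m) F) ⊗ₖ R (j + 1))) * ((1 : Matrix (Fin m) (Fin m) F) ⊗ₖ R j) = 0 := by
        rw [e1, ← Matrix.mul_kronecker_mul, mul_assoc, hRR, hQR, kronecker_zero]
      have h4 := rank_mul_add_rank_mul_le h3
      rw [e1, e2] at h4
      have h5 := rank_kronecker_ge α ((1 - R j) * R (j + 1))
      have h6 : (R (j + 1)).rank ≤ ((1 - R j) * R (j + 1)).rank + (R j).rank := by
        calc (R (j + 1)).rank = ((1 - R j) * R (j + 1) + R j * R (j + 1)).rank := by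
              rw [← add_mul, sub_add_cancel, Matrix.one_mul]
          _ ≤ ((1 - R j) * R (j + 1)).rank + (R j * R (j + 1)).rank := rank_add_le' _ _
          _ ≤ _ := Nat.add_le_add_left (Matrix.rank_mul_le_left _ _) _
      rw [hR3, hR3] at h6
      have h7 := Nat.mul_le_mul_left α.rank h6
      rw [mul_add] at h7
      omega
  have hK' : K n = ⊤ := eq_top_iff.2 fun v _ => by rw [hK, hn, Matrix.zero_mulVec]
  have h := step n
  rw [hK', finrank_top, Module.finrank_fintype_fun_eq_card] at h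
  exact h.trans (Matrix.rank_mul_le_left _ _)

/-- Two non-trivial unipotent factors move more than twice a slice. -/
theorem two_mul_card_lt (hm : 4 ≤ m) {α : Matrix (Fin m) (Fin m) F} {β : Matrix μ μ F} {n : ℕ}
    (hn : β ^ n = 0) (hβ : β ≠ 0) (hα : α.rank = 2) (hα2 : m = 4 → α * α ≠ 0) :
    2 * Fintype.card μ < ((1 + α) ⊗ₖ (1 + β) - 1).rank := by
  classical
  set N := (1 + α) ⊗ₖ (1 + β) - 1 with hN
  obtain ⟨Q, hQ, hQr⟩ := exists_proj (LinearMap.range β.mulVecLin)
  obtain ⟨P, hP, hPr⟩ := exists_proj (LinearMap.range α.transpose.mulVecLin)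
  have hQβ : Q * β = 0 := Matrix.ext_of_mulVec_single fun i => by
    rw [← Matrix.mulVec_mulVec, hQ (β *ᵥ _) ⟨_, rfl⟩, Matrix.zero_mulVec]
  have hPα : α * P.transpose = 0 := by
    rw [← Matrix.transpose_transpose α, ← Matrix.transpose_mul, Matrix.transpose_eq_zero]
    exact Matrix.ext_of_mulVec_single fun i => by
      rw [← Matrix.mulVec_mulVec, hP (α.transpose *ᵥ _) ⟨_, rfl⟩, Matrix.zero_mulVec]
  set X := (1 : Matrix (Fin m) (Fin m) F) ⊗ₖ Q with hX
  set Y := P.transpose ⊗ₖ (1 : Matrix μ μ F) with hY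
  have e1 : X * N = α ⊗ₖ Q := by
    rw [hX, hN, Matrix.mul_sub, Matrix.mul_one, ← Matrix.mul_kronecker_mul, Matrix.one_mul, mul_add, hQβ, mul_one,
      add_zero, add_kronecker, add_sub_cancel_left]
  have e2 : N * Y = P.transpose ⊗ₖ β := by
    rw [hY, hN, Matrix.sub_mul, Matrix.one_mul, ← Matrix.mul_kronecker_mul, Matrix.mul_one, add_mul, hPα, one_mul,
      add_zero, kronecker_add, add_sub_cancel_left]
  have h3 : X * N * Y = 0 := by rw [mul_assoc, e2, hX, ← Matrix.mul_kronecker_mul, hQβ, kronecker_zero]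
  have e7 : finrank F (LinearMap.range α.transpose.mulVecLin) = 2 := (Matrix.rank_transpose α).trans hα
  have e8 : finrank F (LinearMap.range β.mulVecLin) = β.rank := rfl
  rw [e7, Fintype.card_fin] at hPr
  rw [e8] at hQr
  have h5 := rank_kronecker_ge α Q
  have h6 := rank_kronecker_ge P.transpose β
  rw [Matrix.rank_transpose] at h6
  rw [hα] at h5
  have hb := rank_pos hβ
  by_cases h4 : m = 4
  · -- one more dimension
    obtain ⟨z, hz0, hz1, w, hw⟩ : ∃ z, z ≠ 0 ∧ β *ᵥ z = 0 ∧ ∃ w, β *ᵥ w = z := by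
      have hex : ∃ j, β ^ j = 0 := ⟨n, hn⟩
      have hj : β ^ Nat.find hex = 0 := Nat.find_spec hex
      obtain ⟨j, hj'⟩ : ∃ j, Nat.find hex = j + 2 := by
        refine ⟨Nat.find hex - 2, ?_⟩
        have h0 : Nat.find hex ≠ 0 := fun h => by
          rw [h, pow_zero] at hj
          exact hβ (by rw [← mul_one β, hj, mul_zero])
        have h1 : Nat.find hex ≠ 1 := fun h => by rw [h, pow_one] at hj; exact hβ hj
        omega
      have hne : β ^ (j + 1) ≠ 0 := Nat.find_min hex (by omega)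
      obtain ⟨i, hi⟩ : ∃ i, β ^ (j + 1) *ᵥ Pi.single i 1 ≠ 0 := by
        by_contra hc
        push Not at hc
        exact hne (Matrix.ext_of_mulVec_single fun i => by rw [hc, Matrix.zero_mulVec])
      refine ⟨_, hi, ?_, β ^ j *ᵥ Pi.single i 1, by rw [Matrix.mulVec_mulVec, ← pow_succ']⟩
      rw [Matrix.mulVec_mulVec, ← pow_succ', show j + 1 + 1 = Nat.find hex by omega, hj, Matrix.zero_mulVec]
    obtain ⟨i, hi⟩ : ∃ i, (α * α) *ᵥ Pi.single i 1 ≠ 0 := by
      by_contra hc
      push Not at hc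
      exact hα2 h4 (Matrix.ext_of_mulVec_single fun i => by rw [hc, Matrix.zero_mulVec])
    let pl : (Fin m → F) → (μ → F) → (Fin m × μ → F) := fun a b p => a p.1 * b p.2
    have hpl : ∀ (A : Matrix (Fin m) (Fin m) F) (B : Matrix μ μ F) a b, (A ⊗ₖ B) *ᵥ pl a b = pl (A *ᵥ a) (B *ᵥ b) :=
      fun A B a b => CfsgLib.TensorWreathMax.kronecker_mulVec_pl A B a b
    set u : Fin m → F := Pi.single i 1 with hu
    set v := N *ᵥ pl u z with hv
    have hv' : v = pl (α *ᵥ u) z := by
      rw [hv, hN, Matrix.sub_mulVec, Matrix.one_mulVec, hpl, Matrix.add_mulVec, Matrix.add_mulVec, hz1,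
        Matrix.one_mulVec, Matrix.one_mulVec, add_zero]
      funext p; simp [pl]; ring
    have hout : v ∉ LinearMap.range (N * Y).mulVecLin := by
      rintro ⟨s, hs⟩
      have e : (α ⊗ₖ (1 : Matrix μ μ F)) *ᵥ v = 0 := by
        rw [← hs, Matrix.mulVecLin_apply, e2, Matrix.mulVec_mulVec, ← Matrix.mul_kronecker_mul, hPα, zero_kronecker,
          Matrix.zero_mulVec]
      rw [hv', hpl, Matrix.one_mulVec, Matrix.mulVec_mulVec] at e
      obtain ⟨a, ha⟩ := Function.ne_iff.1 hi
      obtain ⟨b, hb⟩ := Function.ne_iff.1 hz0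
      exact mul_ne_zero ha hb (congrFun e (a, b))
    let f := X.mulVecLin.domRestrict (LinearMap.range N.mulVecLin)
    have hk1 := LinearMap.finrank_range_add_finrank_ker f
    have hr : LinearMap.range f = LinearMap.range (X * N).mulVecLin := by
      rw [LinearMap.range_domRestrict, Matrix.mulVecLin_mul, LinearMap.range_comp]
    have hk : LinearMap.range (N * Y).mulVecLin ⊔ Submodule.span F {v} ≤
        (LinearMap.ker f).map (LinearMap.range N.mulVecLin).subtype := by
      refine sup_le ?_ ?_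
      · rintro _ ⟨s, rfl⟩
        refine ⟨⟨(N * Y).mulVecLin s, Y.mulVecLin s, by simp [Matrix.mulVec_mulVec]⟩, ?_, rfl⟩
        simp [f, Matrix.mulVec_mulVec, ← mul_assoc, h3]
      · rw [Submodule.span_singleton_le_iff_mem]
        refine ⟨⟨v, pl u z, rfl⟩, ?_, rfl⟩
        show X *ᵥ v = 0
        rw [hv', hX, hpl, ← hw, Matrix.mulVec_mulVec (M := Q), hQβ, Matrix.zero_mulVec]
        funext p; simp [pl]
    have hlt : finrank F (LinearMap.range (N * Y).mulVecLin) <
        finrank F (LinearMap.range (N * Y).mulVecLin ⊔ Submodule.span F {v} : Submodule F (Fin m × μ → F)) :=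
      Submodule.finrank_lt_finrank_of_lt (lt_of_le_of_ne le_sup_left fun e => hout (by
        rw [e]; exact Submodule.mem_sup_right (Submodule.mem_span_singleton_self v)))
    have hk2 := Submodule.finrank_mono hk
    rw [Submodule.finrank_map_subtype_eq] at hk2
    rw [hr, e1] at hk1
    rw [e2] at hlt hk2
    simp only [Matrix.rank] at h5 h6 hk1 hlt hk2 ⊢
    subst h4
    have : P.rank = 2 := by omega
    simp only [Matrix.rank] at this hQr
    rw [this] at h6
    omega
  · have h4' := rank_mul_add_rank_mul_le h3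
    rw [e1, e2] at h4'
    obtain ⟨r, hr⟩ : ∃ r, P.rank = 3 + r := ⟨P.rank - 3, by omega⟩
    rw [hr, add_mul] at h6
    omega

end CfsgLib.TensorEven
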