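import Cfsg.Agent.Lib.TensorEven.Invol
import Cfsg.Agent.Lib.TensorEven.Kron
import Cfsg.Agent.Lib.TensorMax63.Good

/-!
Monomial elements with the shape of a root element of a slot: the image of the square of the displacement
is a slice.
-/

set_option autoImplicit false
set_option linter.unusedSectionVars false

namespace CfsgLib.TensorEven

open Matrix QuadraticMap CfsgLib.Orth CfsgLib.TensorOddMinus
open CfsgLib.TensorWreathMax (Idx split)
open scoped Kronecker

variable {ι : Type} [Fintype ι] [DecidableEq ι] {F : Type*} [Field F] [Fintype F] {k t : ℕ}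
variable {q : QuadraticForm F (ι → F)} {q1 : QuadraticForm F (Fin k → F)}

/-- The displacement of an isometry. -/
noncomputable def nl {κ : Type} [Fintype κ] [DecidableEq κ] {p : QuadraticForm F (κ → F)} (g : O p) :
    Module.End F (κ → F) := app g - 1

theorem app_pow {κ : Type} [Fintype κ] [DecidableEq κ] {p : QuadraticForm F (κ → F)} (g : O p) :
    ∀ n : ℕ, app (g ^ n) = (app g : Module.End F (κ → F)) ^ n
  | 0 => LinearMap.ext fun x => by simp
  | n + 1 => LinearMap.ext fun x => by rw [pow_succ', app_mul, app_pow g n, pow_succ', Module.End.mul_apply]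

/-- Rank of a transported Kronecker product. -/
theorem finrank_range_conj {κ : Type} [Fintype κ] [DecidableEq κ] (e : (κ → F) ≃ₗ[F] (ι → F)) (X : Matrix κ κ F) :
    Module.finrank F (LinearMap.range (e.toLinearMap ∘ₗ Matrix.toLin' X ∘ₗ e.symm.toLinearMap)) = X.rank := by
  rw [LinearMap.range_comp, LinearMap.range_comp, LinearEquiv.range, Submodule.map_top,
    ← (e.submoduleMap _).finrank_eq, Matrix.rank, Matrix.toLin'_apply']

theorem finrank_range_kmap_sub {a b : ℕ} (D : Data q a b) (A : (Fin a → F) →ₗ[F] (Fin a → F))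
    (B : (Fin b → F) →ₗ[F] (Fin b → F)) :
    Module.finrank F (LinearMap.range (D.kmap A B - LinearMap.id)) =
      ((LinearMap.toMatrix' A ⊗ₖ LinearMap.toMatrix' B) - 1).rank := by
  rw [← finrank_range_conj D.E, map_sub, Matrix.toLin'_one, LinearMap.sub_comp, LinearMap.comp_sub,
    LinearMap.id_comp, LinearEquiv.comp_symm]
  rfl

theorem finrank_range_kmap_id {a b : ℕ} (D : Data q a b) (A : (Fin a → F) →ₗ[F] (Fin a → F)) :
    Module.finrank F (LinearMap.range (D.kmap A LinearMap.id)) = Module.finrank F (LinearMap.range A) * b := by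
  have h := finrank_range_conj D.E (LinearMap.toMatrix' A ⊗ₖ LinearMap.toMatrix' (LinearMap.id : (Fin b → F) →ₗ[F] _))
  rw [show D.kmap A LinearMap.id = _ from rfl]
  refine h.trans (le_antisymm ?_ ?_)
  · -- at most one slice for each dimension of the image
    obtain ⟨R, hR1, hR2, hR3⟩ := exists_idem (LinearMap.range (LinearMap.toMatrix' A).mulVecLin)
    set Am := LinearMap.toMatrix' A
    have hRA : R * Am = Am := Matrix.ext_of_mulVec_single fun i => by
      rw [← Matrix.mulVec_mulVec]
      exact hR2 _ (LinearMap.mem_range_self Am.mulVecLin _)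
    have hRR : (1 - R) * R = 0 := Matrix.ext_of_mulVec_single fun i => by
      rw [← Matrix.mulVec_mulVec, Matrix.sub_mulVec, Matrix.one_mulVec, hR2 _ (hR1 _), sub_self, Matrix.zero_mulVec]
    have h3 : ((1 - R) ⊗ₖ (1 : Matrix (Fin b) (Fin b) F)) * 1 * (R ⊗ₖ (1 : Matrix (Fin b) (Fin b) F)) = 0 := by
      rw [mul_one, ← Matrix.mul_kronecker_mul, hRR, zero_kronecker]
    have h4 := CfsgLib.TensorWreathMax.rank_mul_add_rank_mul_le h3
    rw [mul_one, one_mul, Matrix.rank_one, Fintype.card_prod, Fintype.card_fin, Fintype.card_fin] at h4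
    have h5 := CfsgLib.TensorWreathMax.rank_kronecker_ge (1 - R) (1 : Matrix (Fin b) (Fin b) F)
    rw [Matrix.rank_one, Fintype.card_fin] at h5
    have h6 : (Fintype.card (Fin a)) ≤ (1 - R).rank + R.rank := by
      rw [← Matrix.rank_one (R := F) (n := Fin a)]
      calc (1 : Matrix (Fin a) (Fin a) F).rank = ((1 - R) + R).rank := by rw [sub_add_cancel]
        _ ≤ _ := rank_add_le' _ _
    have h7 : (Am ⊗ₖ LinearMap.toMatrix' (LinearMap.id : (Fin b → F) →ₗ[F] _)).rank ≤
        (R ⊗ₖ (1 : Matrix (Fin b) (Fin b) F)).rank := by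
      refine le_trans (le_of_eq ?_) (Matrix.rank_mul_le_left _ (Am ⊗ₖ (1 : Matrix (Fin b) (Fin b) F)))
      rw [← Matrix.mul_kronecker_mul, hRA, LinearMap.toMatrix'_id, Matrix.one_mul]
    have h8 : Module.finrank F (LinearMap.range A) = R.rank := by
      rw [hR3, ← Matrix.toLin'_apply', Matrix.toLin'_toMatrix']
    rw [h8]
    rw [Fintype.card_fin] at h6
    have h9 := Nat.mul_le_mul_right b h6
    rw [add_mul] at h9
    omega
  · refine le_trans (le_of_eq ?_) (CfsgLib.TensorWreathMax.rank_kronecker_ge _ _)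
    rw [LinearMap.toMatrix'_id, Matrix.rank_one, Fintype.card_fin, Matrix.rank, ← Matrix.toLin'_apply',
      Matrix.toLin'_toMatrix']

/-- The image of the displacement is orthogonal to the fixed vectors. -/
theorem polar_nl_fix {κ : Type} [Fintype κ] [DecidableEq κ] {p : QuadraticForm F (κ → F)} (g : O p) (x : κ → F)
    {z : κ → F} (hz : nl g z = 0) : polar p (nl g x) z = 0 := by
  have e : app g z = z := sub_eq_zero.1 hz
  show polar p (app g x - x) z = 0
  rw [polar_sub_left]
  nth_rewrite 1 [← e]
  rw [polar_app, sub_self]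

/-- A unipotent isometry moving at most one dimension is trivial. -/
theorem two_le_finrank_nl {κ : Type} [Fintype κ] [DecidableEq κ] {p : QuadraticForm F (κ → F)}
    (hp : p.polarBilin.Nondegenerate) (h2 : (2 : F) ≠ 0) {g : O p} (hn : IsNilpotent (nl g)) (h1 : g ≠ 1) :
    2 ≤ Module.finrank F (LinearMap.range (nl g)) := by
  by_contra hlt
  obtain ⟨x₀, hx₀⟩ : ∃ x, nl g x ≠ 0 := by
    by_contra hc
    push Not at hc
    exact h1 (ext_app fun x => by rw [app_one]; exact sub_eq_zero.1 (hc x))
  set e := nl g x₀ with he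
  have hle : LinearMap.range (nl g) ≤ Submodule.span F {e} := by
    refine le_of_eq (Submodule.eq_of_le_of_finrank_le ?_ ?_).symm
    · rw [Submodule.span_singleton_le_iff_mem]; exact ⟨x₀, rfl⟩
    · rw [finrank_span_singleton hx₀]; omega
  have hc : ∀ x, ∃ c : F, c • e = nl g x := fun x => Submodule.mem_span_singleton.1 (hle ⟨x, rfl⟩)
  obtain ⟨a, ha⟩ := exists_polar_eq_one hp hx₀
  set φ : (κ → F) →ₗ[F] F := (p.polarBilin.flip a).comp (nl g) with hφ
  have hg : ∀ x, app g x = x + φ x • e := by
    intro x
    obtain ⟨c, hc⟩ := hc x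
    have : φ x = c := by
      show polar p (nl g x) a = c
      rw [← hc, polar_smul_left, ha, smul_eq_mul, mul_one]
    rw [this, hc]
    show _ = x + (app g x - x)
    abel
  refine h1 (CfsgLib.TensorMax63.eq_one_of_rank_one hp h2 φ hg ?_)
  by_contra hφe
  obtain ⟨n, hn⟩ := hn
  have : ∀ m : ℕ, (nl g ^ m) e = φ e ^ m • e := by
    intro m
    induction m with
    | zero => simp
    | succ m ih =>
      rw [pow_succ', Module.End.mul_apply, ih, map_smul, show nl g e = φ e • e from by
        show app g e - e = _; rw [hg]; abel, smul_smul, pow_succ]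
  have h := this n
  rw [hn, LinearMap.zero_apply] at h
  exact hx₀ ((smul_eq_zero.1 h.symm).resolve_left (pow_ne_zero _ hφe))

/-- In a four-dimensional space without singular planes the square of a displacement is not zero. -/
theorem nl_sq_ne_zero {p : QuadraticForm F (Fin k → F)} (hg : Good p) (hk : k = 4) {g : O p}
    (hn : IsNilpotent (nl g)) (h1 : g ≠ 1) : nl g * nl g ≠ 0 := by
  intro h0
  have hq : ∀ x, p (nl g x) = 0 := fun x => by
    have := polar_nl_fix g x (z := nl g x) (LinearMap.congr_fun h0 x)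
    rw [polar_self'] at this
    exact (mul_eq_zero.1 this).resolve_left hg.two
  have hd := two_le_finrank_nl hg.nd hg.two hn h1
  obtain ⟨x, hx, hx0⟩ : ∃ x ∈ LinearMap.range (nl g), x ≠ 0 := Submodule.exists_mem_ne_zero_of_ne_bot fun h => by
    rw [h, finrank_bot] at hd; omega
  have hle : LinearMap.range (nl g) ≤ Submodule.span F {x} := by
    intro y hy
    obtain ⟨a, rfl⟩ := hx
    obtain ⟨b, rfl⟩ := hy
    obtain ⟨c, hc⟩ := hg.four (by rw [Fintype.card_fin, hk]) (nl g a) (nl g b) (hq a) (hq b)
      (polar_nl_fix g a (LinearMap.congr_fun h0 b)) hx0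
    exact Submodule.mem_span_singleton.2 ⟨c, hc.symm⟩
  have := (Submodule.finrank_mono hle).trans (le_of_eq (finrank_span_singleton hx0))
  omega

namespace Power

variable (P : Power q q1 (t + 1)) (hG : Good q1) (ht : 1 ≤ t)

/-- The slice of a vector at a slot. -/
noncomputable def slice (i : Fin (t + 1)) (u : Fin k → F) : Submodule F (ι → F) :=
  LinearMap.range ((P.D hG ht i).tpR u)

theorem tp_mem_slice (i : Fin (t + 1)) (xs : Fin (t + 1) → Fin k → F) : P.tp xs ∈ P.slice hG ht i (xs i) :=
  ⟨_, (P.D_tp' hG ht i xs).symm⟩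

theorem finrank_slice (i : Fin (t + 1)) {u : Fin k → F} (hu : u ≠ 0) :
    Module.finrank F (P.slice hG ht i u) = k ^ t := by
  rw [slice, LinearMap.finrank_range_of_inj fun v v' h => (P.D hG ht i).tp_right_cancel hu h]
  simp

theorem nl_S (i : Fin (t + 1)) (A : O q1) :
    nl (P.S hG ht i A) = (P.D hG ht i).kmap (nl A) LinearMap.id :=
  (P.D hG ht i).ext_tp fun u v => by
    rw [Data.kmap_tp]
    show app ((P.D hG ht i).L A) ((P.D hG ht i).tp u v) - (P.D hG ht i).tp u v = _
    erw [Data.L_tp]
    exact (Data.tp_sub_left _ _ _ _).symm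

theorem kmap_mul (i : Fin (t + 1)) (A B : Module.End F (Fin k → F)) :
    (P.D hG ht i).kmap A LinearMap.id * (P.D hG ht i).kmap B LinearMap.id =
      (P.D hG ht i).kmap (A * B) LinearMap.id := by
  rw [Module.End.mul_eq_comp, Data.kmap_comp, LinearMap.comp_id]
  rfl

/-- The shape of a root element of a slot. -/
theorem root_shape (i : Fin (t + 1)) {u c : Fin k → F} (hu : q1 u = 0) (hu0 : u ≠ 0) (huc : polar q1 u c = 0)
    (hc : q1 c ≠ 0) : nl (P.S hG ht i (eich q1 u c)) ^ 3 = 0 ∧
      Module.finrank F (LinearMap.range (nl (P.S hG ht i (eich q1 u c)))) = 2 * k ^ t ∧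
      LinearMap.range (nl (P.S hG ht i (eich q1 u c)) ^ 2) = P.slice hG ht i u ∧
      Module.finrank F (LinearMap.range (nl (P.S hG ht i (eich q1 u c)) ^ 2)) = k ^ t := by
  set n := nl (eich q1 u c) with hn
  have hnv : ∀ x, n x = polar q1 x u • c - (polar q1 x c + q1 c * polar q1 x u) • u := fun x => by
    show app (eich q1 u c) x - x = _
    rw [app_eich hu huc, add_smul]
    module
  have hnu : n u = 0 := by
    rw [hnv, polar_self', hu, huc]; simp
  have hnc : n c = -(2 * q1 c) • u := by
    rw [hnv, polar_comm (f := ⇑q1) c u, huc, polar_self']; simp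
  have hn2 : ∀ x, (n * n) x = (-(2 * q1 c) * polar q1 x u) • u := fun x => by
    rw [Module.End.mul_apply, hnv x, map_sub, map_smul, map_smul, hnu, hnc, smul_zero, sub_zero, smul_smul,
      mul_comm]
  have hn3 : n * n * n = 0 := LinearMap.ext fun x => by
    rw [Module.End.mul_apply, hn2, hnv, polar_sub_left, polar_smul_left, polar_smul_left,
      polar_comm (f := ⇑q1) c u, huc, polar_self', hu]
    simp
  obtain ⟨u', P'⟩ := CfsgLib.TensorMax63.exists_hyp hG.nd hu hu0
  have hr2 : LinearMap.range (n * n) = Submodule.span F {u} := by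
    refine le_antisymm ?_ ?_
    · rintro _ ⟨x, rfl⟩
      rw [hn2]; exact Submodule.mem_span_singleton.2 ⟨_, rfl⟩
    · rw [Submodule.span_singleton_le_iff_mem]
      refine ⟨(-(2 * q1 c))⁻¹ • u', ?_⟩
      rw [hn2, polar_smul_left, P'.pair', smul_eq_mul, mul_one,
        mul_inv_cancel₀ (neg_ne_zero.2 (mul_ne_zero hG.two hc)), one_smul]
  have hr1 : Module.finrank F (LinearMap.range n) = 2 := by
    have hli : LinearIndependent F ![c, u] := by
      rw [LinearIndependent.pair_iff' (fun h => hc (by rw [h, QuadraticMap.map_zero]))]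
      intro a h
      rw [← h, QuadraticMap.map_smul, smul_eq_mul, mul_eq_zero, mul_self_eq_zero] at hu
      rw [← h, hu.resolve_right hc, zero_smul] at hu0
      exact hu0 rfl
    have hs : LinearMap.range n = Submodule.span F (Set.range ![c, u]) := by
      refine le_antisymm ?_ (Submodule.span_le.2 ?_)
      · rintro _ ⟨x, rfl⟩
        rw [hnv]
        exact Submodule.sub_mem _ (Submodule.smul_mem _ _ (Submodule.subset_span ⟨0, rfl⟩))
          (Submodule.smul_mem _ _ (Submodule.subset_span ⟨1, rfl⟩))
      · have hu' : u ∈ LinearMap.range n := by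
          obtain ⟨x, hx⟩ : u ∈ LinearMap.range (n * n) := hr2 ▸ Submodule.mem_span_singleton_self u
          exact ⟨n x, hx⟩
        rintro _ ⟨j, rfl⟩
        fin_cases j
        · have h := (LinearMap.range n).add_mem (LinearMap.mem_range_self n u')
            (Submodule.smul_mem _ (polar q1 u' c + q1 c * polar q1 u' u) hu')
          rw [hnv, P'.pair', one_smul, sub_add_cancel] at h
          exact h
        · exact hu'
    rw [hs, finrank_span_eq_card hli, Fintype.card_fin]
  rw [nl_S, ← hn, pow_succ, pow_two, kmap_mul, kmap_mul, hn3]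
  refine ⟨(P.D hG ht i).ext_tp fun v w => by rw [Data.kmap_tp, LinearMap.zero_apply, Data.tp_zero_left]; rfl,
    by rw [finrank_range_kmap_id, hr1], ?_, ?_⟩
  · refine Submodule.eq_of_le_of_finrank_eq ?_ ?_
    · rintro _ ⟨z, rfl⟩
      have : (LinearMap.range ((P.D hG ht i).kmap (n * n) LinearMap.id)) ≤ P.slice hG ht i u := by
        have e : (Submodule.mkQ (P.slice hG ht i u)).comp ((P.D hG ht i).kmap (n * n) LinearMap.id) = 0 :=
          (P.D hG ht i).ext_tp fun x y => by
            rw [LinearMap.comp_apply, Data.kmap_tp, hn2, Data.tp_smul_left, LinearMap.zero_apply,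
              Submodule.mkQ_apply, Submodule.Quotient.mk_eq_zero]
            exact Submodule.smul_mem _ _ ⟨y, rfl⟩
        rintro _ ⟨z, rfl⟩
        have := LinearMap.congr_fun e z
        rwa [LinearMap.comp_apply, LinearMap.zero_apply, Submodule.mkQ_apply,
          Submodule.Quotient.mk_eq_zero] at this
      exact this ⟨z, rfl⟩
    · rw [finrank_range_kmap_id, hr2, finrank_span_singleton hu0, P.finrank_slice hG ht i hu0, one_mul]
  · rw [finrank_range_kmap_id, hr2, finrank_span_singleton hu0, one_mul]

end Power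

/-- The prime of the field. -/
theorem exists_char (h2 : (2 : F) ≠ 0) : ∃ p : ℕ, p.Prime ∧ CharP F p ∧ 3 ≤ p := by
  obtain ⟨p, hp⟩ := CharP.exists F
  have hpr : p.Prime := CharP.char_is_prime F p
  refine ⟨p, hpr, hp, lt_of_le_of_ne hpr.two_le fun h => h2 ?_⟩
  subst h
  exact_mod_cast CharP.cast_eq_zero F 2

theorem end_one_add_pow {V : Type*} [AddCommGroup V] [Module F V] [Nontrivial V] {p : ℕ} [Fact p.Prime]
    [CharP F p] (N : Module.End F V) : (1 + N) ^ p = 1 + N ^ p := by
  haveI : CharP (Module.End F V) p :=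
    charP_of_injective_algebraMap (algebraMap F (Module.End F V)).injective p
  rw [add_pow_char_of_commute p (Commute.one_left N), one_pow]

theorem eq_app_add {κ : Type} [Fintype κ] [DecidableEq κ] {p : QuadraticForm F (κ → F)} (g : O p) :
    (app g : Module.End F (κ → F)) = 1 + nl g := by rw [nl, add_sub_cancel]

/-- Vectors sent outside their span bound the rank. -/
theorem card_le_range {κ : Type*} (b : Module.Basis κ F (ι → F)) (S : Finset κ) (f : (ι → F) →ₗ[F] (ι → F))
    (h : ∀ a ∈ S, f (b a) - b a ∈ Submodule.span F (b '' {a | a ∉ S})) :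
    S.card ≤ Module.finrank F (LinearMap.range f) := by
  classical
  set Z := Submodule.span F (b '' (S : Set κ))
  have hZ : Module.finrank F Z = S.card := by
    have hb : LinearIndependent F fun a : (S : Set κ) => b a := b.linearIndependent.comp _ Subtype.val_injective
    have e := finrank_span_eq_card hb
    simp only [Fintype.card_coe, Finset.coe_sort_coe] at e
    rw [← e]
    exact LinearEquiv.finrank_eq (LinearEquiv.ofEq _ _ (by rw [Set.range_comp' b Subtype.val, Subtype.range_coe]))
  have hinj : Function.Injective (f.domRestrict Z) := by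
    rw [← LinearMap.ker_eq_bot, Submodule.eq_bot_iff]
    rintro ⟨v, hv⟩ hv0
    have e : f v = 0 := hv0
    have hle : Z ≤ (Submodule.span F (b '' {a | a ∉ S})).comap (f - LinearMap.id) :=
      Submodule.span_le.2 fun x ⟨a, ha, hx⟩ => hx ▸ h a ha
    have hv' := hle hv
    rw [Submodule.mem_comap, LinearMap.sub_apply, LinearMap.id_apply, e, zero_sub, Submodule.neg_mem_iff] at hv'
    have hd : Disjoint Z (Submodule.span F (b '' {a | a ∉ S})) :=
      b.linearIndependent.disjoint_span_image (Set.disjoint_left.2 fun a ha hn => hn ha)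
    exact Subtype.ext (Submodule.disjoint_def.1 hd v hv hv')
  rw [← hZ, ← LinearMap.finrank_range_of_inj hinj]
  exact Submodule.finrank_mono fun x ⟨v, hv⟩ => ⟨v.1, hv⟩

namespace Power

theorem IsMonW.pow {P : Power q q1 t} {g : O q} {σ : Equiv.Perm (Fin t)}
    {A : Fin t → (Fin k → F) ≃ₗ[F] (Fin k → F)} (hg : P.IsMonW g σ A) :
    ∀ n : ℕ, ∃ B, P.IsMonW (g ^ n) (σ ^ n) B
  | 0 => ⟨fun _ => LinearEquiv.refl F _, fun xs => by rw [pow_zero, app_one]; rfl⟩
  | n + 1 => by
    obtain ⟨B, hB⟩ := IsMonW.pow hg n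
    refine ⟨fun i => (A ((σ ^ n) i)).trans (B i), ?_⟩
    rw [pow_succ, pow_succ']
    exact hB.mul hg

variable (P : Power q q1 (t + 1)) (hG : Good q1) (ht : 1 ≤ t)

/-- A monomial element with the shape of a root element of a slot belongs to a slot. -/
theorem perm_eq_one_of_shape (hk : 4 ≤ k) {y : O q} {σ : Equiv.Perm (Fin (t + 1))}
    {A : Fin (t + 1) → (Fin k → F) ≃ₗ[F] (Fin k → F)} (hy : P.IsMonW y σ A) (h3 : nl y ^ 3 = 0)
    (h2 : Module.finrank F (LinearMap.range (nl y ^ 2)) = k ^ t) (h2F : (2 : F) ≠ 0) : σ = 1 := by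
  classical
  obtain ⟨p, hp, hcp, hp3⟩ := exists_char (F := F) h2F
  have := Fact.mk hp
  have : Nonempty ι := Fintype.card_pos_iff.1 (by rw [P.card_eq]; exact Nat.pow_pos (by omega))
  have hyp : y ^ p = 1 := ext_app fun x => by
    rw [app_pow, eq_app_add, end_one_add_pow, pow_eq_zero_of_le hp3 h3, add_zero, app_one]
    rfl
  obtain ⟨B, hB⟩ := hy.pow p
  rw [hyp] at hB
  have hσp : σ ^ p = 1 := (scalar_factors (P := P) (A := B) (by omega) one_ne_zero fun xs => by
    rw [one_smul, ← hB, app_one]).1
  refine Equiv.ext fun a => by_contra fun ha => ?_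
  change σ a ≠ a at ha
  have hper : ∀ j, 0 < j → j < p → (σ ^ j) a ≠ a := by
    intro j hj hjp he
    have h1 : Function.IsPeriodicPt (σ : _ → _) j a := by
      rw [Function.IsPeriodicPt, Function.IsFixedPt, ← Equiv.Perm.coe_pow]; exact he
    have h2 : Function.IsPeriodicPt (σ : _ → _) p a := by
      rw [Function.IsPeriodicPt, Function.IsFixedPt, ← Equiv.Perm.coe_pow, hσp]; rfl
    have h3 := h1.gcd h2
    rw [((hp.coprime_iff_not_dvd).2 fun hd => absurd (Nat.le_of_dvd hj hd) (not_le.2 hjp)).symm] at h3
    exact ha h3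
  by_cases hp5 : 5 ≤ p
  · obtain ⟨z0, z1, f, hf0, hf1, hz0, hz1⟩ : ∃ (z0 z1 : Fin k → F) (f : (Fin k → F) →ₗ[F] F),
        f z0 = 1 ∧ f z1 = 0 ∧ z0 ≠ 0 ∧ z1 ≠ 0 :=
      ⟨Pi.single ⟨0, by omega⟩ 1, Pi.single ⟨1, by omega⟩ 1, LinearMap.proj ⟨0, by omega⟩, by simp,
        by simp [Pi.single_apply, Fin.ext_iff], by simp, by simp⟩
    obtain ⟨B1, hB1⟩ := hy.pow 1
    obtain ⟨B2, hB2⟩ := hy.pow 2
    obtain ⟨B3, hB3⟩ := hy.pow 3
    have d1 := hper 1 (by omega) (by omega)
    have d2 := hper 2 (by omega) (by omega)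
    have d3 := hper 3 (by omega) (by omega)
    have d12 : (σ ^ 1) a ≠ (σ ^ 2) a := fun e => by
      rw [pow_succ' σ 1, Equiv.Perm.mul_apply, pow_one] at e
      exact ha (σ.injective e).symm
    have d13 : (σ ^ 1) a ≠ (σ ^ 3) a := fun e => by
      rw [pow_succ' σ 2, Equiv.Perm.mul_apply, pow_one] at e
      exact d2 (σ.injective e).symm
    have d23 : (σ ^ 2) a ≠ (σ ^ 3) a := fun e => by
      rw [pow_succ' σ 2, pow_succ' σ 1, Equiv.Perm.mul_apply, Equiv.Perm.mul_apply, Equiv.Perm.mul_apply,
        pow_one] at e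
      exact ha (σ.injective (σ.injective e)).symm
    set xs : Fin (t + 1) → Fin k → F := Function.update (Function.update (Function.update (Function.update
      (fun _ => z0) ((σ ^ 1) a) ((B1 a).symm z1)) ((σ ^ 2) a) ((B2 a).symm z1)) ((σ ^ 3) a) ((B3 a).symm z1))
      a z0 with hxs
    set C := P.tenL (Function.update (fun _ => LinearMap.id) a (f.smulRight z0))
    have hC : ∀ zs : Fin (t + 1) → Fin k → F, zs a = z1 → C (P.tp zs) = 0 := fun zs h => by
      rw [P.tenL_tp]
      exact P.tp_eq_zero (i := a) (by simp [h, hf1])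
    have hzs : ∀ i, xs i ≠ 0 := by
      intro i
      simp only [hxs, Function.update_apply]
      split_ifs <;> simp [hz0, hz1]
    have key := LinearMap.congr_fun h3 (P.tp xs)
    have e1 := hB1 xs
    have e2 := hB2 xs
    have e3 := hB3 xs
    rw [app_pow, eq_app_add] at e1 e2 e3
    have hz : (nl y ^ 3) (P.tp xs) = (((1 : Module.End F (ι → F)) + nl y) ^ 3) (P.tp xs) - (3 : F) • (((1 : Module.End F (ι → F)) + nl y) ^ 2) (P.tp xs) +
        (3 : F) • (((1 : Module.End F (ι → F)) + nl y) ^ 1) (P.tp xs) - P.tp xs := by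
      simp only [pow_succ, pow_zero, one_mul, Module.End.mul_apply, LinearMap.add_apply, Module.End.one_apply, map_add]
      module
    rw [hz, e1, e2, e3, LinearMap.zero_apply] at key
    have := congrArg C key
    rw [map_sub, map_add, map_sub, map_smul, map_smul, map_zero, hC, hC, hC, smul_zero, sub_zero,
      zero_add, zero_sub, neg_eq_zero, P.tenL_tp] at this
    · refine P.tp_ne_zero (xs := fun i => Function.update (fun _ => LinearMap.id) a (f.smulRight z0) i (xs i))
        (fun i => ?_) this
      rcases eq_or_ne i a with rfl | hi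
      · simp [hxs, hf0, hz0]
      · simpa [Function.update_of_ne hi] using hzs i
    · rw [hxs, Function.update_of_ne d1, Function.update_of_ne d13, Function.update_of_ne d12,
        Function.update_self, LinearEquiv.apply_symm_apply]
    · rw [hxs, Function.update_of_ne d2, Function.update_of_ne d23, Function.update_self,
        LinearEquiv.apply_symm_apply]
    · rw [hxs, Function.update_of_ne d3, Function.update_self, LinearEquiv.apply_symm_apply]
  · -- three slots in a cycle
    obtain rfl : p = 3 := by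
      by_contra hne
      have h4 : p = 4 := by omega
      subst h4
      norm_num at hp
    have hσ3 : ∀ l, σ (σ (σ l)) = l := fun l => by
      have := congrArg (fun e : Equiv.Perm _ => e l) hσp
      simpa [pow_succ] using this
    set b := σ a with hb
    set c := σ b with hc
    have hab : a ≠ b := Ne.symm ha
    have hbc : b ≠ c := fun e => ha (σ.injective e).symm
    have hac : a ≠ c := fun e => hbc (by
      have h1 : b = σ c := by rw [← e]
      rw [h1, hσ3 a]
      exact e)
    have hμ : ∀ l, ∃ μ : F, μ ≠ 0 ∧ ∀ x, A l (A (σ l) (A (σ (σ l)) x)) = μ • x := by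
      have h := scalar_factors (P := P) (σ := σ * σ * σ)
        (A := fun l => ((A (σ (σ l))).trans (A (σ l))).trans (A l)) (by omega) one_ne_zero fun xs => by
          rw [one_smul]
          have e := hy.mul (hy.mul hy) xs
          rw [show y * (y * y) = 1 by rw [← hyp, pow_succ, pow_two, mul_assoc], app_one] at e
          exact e.symm
      exact h.2
    obtain ⟨μ, -, hμ⟩ := hμ a
    let e0 := Pi.basisFun F (Fin k)
    let bs : Fin (t + 1) → Module.Basis (Fin k) F (Fin k → F) :=
      Function.update (Function.update (fun _ => e0) b (e0.map (A a).symm)) c ((e0.map (A a).symm).map (A b).symm)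
    have hbsa : bs a = e0 := by simp [bs, Function.update_of_ne hac, Function.update_of_ne hab]
    have hbsb : bs b = e0.map (A a).symm := by simp [bs, Function.update_of_ne hbc]
    have hbsc : bs c = (e0.map (A a).symm).map (A b).symm := by simp [bs]
    have hσc : σ c = a := by rw [hc, hb, hσ3]
    have hAa : ∀ n, A a (bs b n) = bs a n := fun n => by simp [hbsa, hbsb]
    have hAb : ∀ n, A b (bs c n) = bs b n := fun n => by simp [hbsb, hbsc]
    have hAc : ∀ n, A c (bs a n) = μ • bs c n := fun n => by
      refine (A b).injective ((A a).injective ?_)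
      rw [map_smul, map_smul, hAb, hAa]
      exact hμ _
    have hstep : ∀ α : Idx k (t + 1), app y (P.tpBasis bs α) ∈
        Submodule.span F (P.tpBasis bs '' {β | β a = α b ∧ β b = α c ∧ β c = α a}) := by
      intro α
      rw [P.tpBasis_apply, hy]
      refine tp_mem_span bs _ _ fun β hβ => ?_
      simp only [Set.mem_ofPred_eq, not_and_or] at hβ
      rcases hβ with h | h | h
      · refine ⟨a, ?_⟩
        rw [← hb, hAa, Module.Basis.repr_self, Finsupp.single_eq_of_ne h]
      · refine ⟨b, ?_⟩
        rw [← hc, hAb, Module.Basis.repr_self, Finsupp.single_eq_of_ne h]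
      · refine ⟨c, ?_⟩
        rw [hσc, hAc, map_smul, Finsupp.smul_apply, Module.Basis.repr_self, Finsupp.single_eq_of_ne h, smul_zero]
    let Pp : Idx k (t + 1) → Prop := fun α => α a ≤ α b ∧ α a < α c
    set S := Finset.univ.filter Pp with hS
    have hrange : S.card ≤ Module.finrank F (LinearMap.range (nl y ^ 2)) := by
      refine card_le_range (P.tpBasis bs) S _ fun α hα => ?_
      simp only [hS, Finset.mem_filter, Finset.mem_univ, true_and, Pp] at hα
      have h3' : (3 : F) = 0 := by exact_mod_cast CharP.cast_eq_zero F 3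
      set v := P.tpBasis bs α
      have e : (nl y ^ 2) v - v = app y (app y v) + app y v + (-(3 : F)) • app y v := by
        simp only [nl, pow_two, Module.End.mul_apply, LinearMap.sub_apply, Module.End.one_apply, map_sub]
        module
      rw [e, h3', neg_zero, zero_smul, add_zero]
      have hsub : ∀ X : Set (Idx k (t + 1)), (∀ β ∈ X, ¬ Pp β) →
          Submodule.span F (P.tpBasis bs '' X) ≤ Submodule.span F (P.tpBasis bs '' {β | β ∉ S}) := fun X hX =>
        Submodule.span_mono (Set.image_mono fun β hβ => by simp [hS, hX β hβ])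
      refine Submodule.add_mem _ ?_ (hsub _ (fun β hβ h => ?_) (hstep α))
      · have hle : Submodule.span F (P.tpBasis bs '' {β | β a = α b ∧ β b = α c ∧ β c = α a}) ≤
            (Submodule.span F (P.tpBasis bs '' {β | β ∉ S})).comap (app y) := by
          rw [Submodule.span_le]
          rintro _ ⟨β, ⟨h1, h2, h3⟩, rfl⟩
          refine hsub _ (fun γ hγ h => ?_) (hstep β)
          obtain ⟨g1, g2, g3⟩ := hγ
          obtain ⟨k1, k2⟩ := h
          rw [g1, g2, g3, h2, h3, h1] at *
          omega
        exact hle (hstep α)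
      · obtain ⟨g1, g2, g3⟩ := hβ
        obtain ⟨k1, k2⟩ := h
        rw [g1, g2] at k1
        rw [g1, g3] at k2
        omega
    rw [h2] at hrange
    -- counting
    set E := Finset.univ.filter fun α : Idx k (t + 1) => α a = α b
    set Dg := Finset.univ.filter fun α : Idx k (t + 1) => α a = α b ∧ α a = α c
    have hE : E.card ≤ k ^ t := by
      obtain ⟨c', hc'⟩ := Fin.exists_succAbove_eq hab
      rw [show k ^ t = (Finset.univ : Finset (Idx k t)).card by simp]
      refine Finset.card_le_card_of_injOn (fun α => b.removeNth α) (fun α _ => Finset.mem_univ _) ?_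
      intro α hα β hβ e
      simp only [E, Finset.coe_filter, Finset.mem_univ, true_and, Set.mem_ofPred_eq] at hα hβ
      funext x
      rcases Fin.eq_self_or_eq_succAbove b x with rfl | ⟨y, rfl⟩
      · rw [← hα, ← hβ, ← hc']; exact congrFun e c'
      · exact congrFun e y
    have hD : k * Dg.card ≤ E.card := by
      rw [show k * Dg.card = (Dg ×ˢ (Finset.univ : Finset (Fin k))).card by simp [mul_comm]]
      refine Finset.card_le_card_of_injOn (fun z => Function.update z.1 c z.2) (fun z hz => ?_) ?_
      · simp only [Finset.coe_product, Dg, Finset.coe_filter, Set.mem_prod, Set.mem_ofPred_eq] at hz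
        simp [E, Function.update_of_ne hac, Function.update_of_ne hbc, hz.1.2.1]
      · intro z hz w hw e
        simp only [Finset.coe_product, Dg, Finset.coe_filter, Set.mem_prod, Set.mem_ofPred_eq] at hz hw
        have ez := congrFun e c
        simp only [Function.update_self] at ez
        refine Prod.ext (funext fun x => ?_) ez
        rcases eq_or_ne x c with rfl | hx
        · rw [← hz.1.2.2, ← hw.1.2.2]
          simpa [Function.update_of_ne hac] using congrFun e a
        · simpa [Function.update_of_ne hx] using congrFun e x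
    let r : Equiv.Perm (Idx k (t + 1)) := (Equiv.swap a b * Equiv.swap b c).arrowCongr (Equiv.refl _)
    have hrot : ∀ i : Fin (t + 1), i = a ∨ i = b ∨ i = c → ∀ α : Idx k (t + 1),
        r α i = α ((Equiv.swap a b * Equiv.swap b c).symm i) := fun i _ α => rfl
    have hra : ∀ α, r α a = α c := fun α => by
      rw [hrot a (Or.inl rfl), ← Equiv.Perm.inv_def, _root_.mul_inv_rev, Equiv.swap_inv, Equiv.swap_inv,
        Equiv.Perm.mul_apply, Equiv.swap_apply_left, Equiv.swap_apply_left]
    have hrb : ∀ α, r α b = α a := fun α => by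
      rw [hrot b (Or.inr (Or.inl rfl)), ← Equiv.Perm.inv_def, _root_.mul_inv_rev, Equiv.swap_inv, Equiv.swap_inv,
        Equiv.Perm.mul_apply, Equiv.swap_apply_right, Equiv.swap_apply_of_ne_of_ne hab hac]
    have hrc : ∀ α, r α c = α b := fun α => by
      rw [hrot c (Or.inr (Or.inr rfl)), ← Equiv.Perm.inv_def, _root_.mul_inv_rev, Equiv.swap_inv, Equiv.swap_inv,
        Equiv.Perm.mul_apply, Equiv.swap_apply_of_ne_of_ne (Ne.symm hac) (Ne.symm hbc), Equiv.swap_apply_right]
    have hcov : (Finset.univ : Finset (Idx k (t + 1))) ⊆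
        S ∪ S.image r ∪ (S.image r).image r ∪ Dg := by
      intro α _
      obtain ⟨α1, rfl⟩ := r.surjective α
      obtain ⟨α2, rfl⟩ := r.surjective α1
      simp only [Finset.mem_union, Finset.mem_image, EmbeddingLike.apply_eq_iff_eq, exists_eq_right, hS, Dg,
        Finset.mem_filter, Finset.mem_univ, true_and, Pp, hra, hrb, hrc, Fin.lt_def, Fin.le_def, Fin.ext_iff]
      omega
    have hc3 := Finset.card_le_card hcov
    have u1 := Finset.card_union_le (S ∪ S.image r ∪ (S.image r).image r) Dg
    have u2 := Finset.card_union_le (S ∪ S.image r) ((S.image r).image r)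
    have u3 := Finset.card_union_le S (S.image r)
    have u4 := Finset.card_image_le (s := S) (f := r)
    have u5 := Finset.card_image_le (s := S.image r) (f := r)
    simp only [Finset.card_univ, Fintype.card_fun, Fintype.card_fin] at hc3
    have hmain : k ^ (t + 1) ≤ 3 * k ^ t + Dg.card := by omega
    have hpos : 0 < k ^ t := Nat.pow_pos (by omega)
    have := Nat.mul_le_mul_left k hmain
    rw [pow_succ, mul_add] at this
    nlinarith [Nat.mul_le_mul_right (k ^ t) (Nat.mul_le_mul hk hk)]

/-- The image of the square of the displacement of such an element is a slice of a singular vector. -/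
theorem slice_of_shape (hk : 4 ≤ k) {y : O q} (hy : y ∈ P.Mon) (h3 : nl y ^ 3 = 0)
    (h1 : Module.finrank F (LinearMap.range (nl y)) = 2 * k ^ t)
    (h2 : Module.finrank F (LinearMap.range (nl y ^ 2)) = k ^ t) :
    ∃ j u, q1 u = 0 ∧ u ≠ 0 ∧ LinearMap.range (nl y ^ 2) = P.slice hG ht j u := by
  classical
  obtain ⟨σ, A, hy⟩ := hy
  obtain rfl := perm_eq_one_of_shape P hk hy h3 h2 hG.two
  obtain ⟨p, hp, hcp, hp3⟩ := exists_char (F := F) hG.two
  have := Fact.mk hp
  have : Nonempty ι := Fintype.card_pos_iff.1 (by rw [P.card_eq]; exact Nat.pow_pos (by omega))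
  have : Nonempty (Fin k) := ⟨⟨0, by omega⟩⟩
  have hyp : y ^ p = 1 := ext_app fun x => by
    rw [app_pow, eq_app_add, end_one_add_pow, pow_eq_zero_of_le hp3 h3, add_zero, app_one]
    rfl
  -- normalised factors
  have hpw : ∀ (n : ℕ) xs, app (y ^ n) (P.tp xs) = P.tp fun i => ((A i : Module.End F (Fin k → F)) ^ n) (xs i) := by
    intro n
    induction n with
    | zero => exact fun xs => by simp
    | succ n ih => exact fun xs => by rw [pow_succ, app_mul, hy, ih]; simp [pow_succ]
  have hAn : ∀ (i : Fin (t + 1)) (n : ℕ) (x : Fin k → F),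
      (A i ^ n) x = ((A i : Module.End F (Fin k → F)) ^ n) x := by
    intro i n
    induction n with
    | zero => exact fun x => rfl
    | succ n ih => exact fun x => by rw [pow_succ', pow_succ', Module.End.mul_apply, ← ih]; rfl
  obtain ⟨c, hc, hc1⟩ := hy.sim hG
  have hμ := (scalar_factors (P := P) (σ := 1) (A := fun i => A i ^ p) (by omega) one_ne_zero fun xs => by
    rw [one_smul]
    refine Eq.trans ?_ ((hpw p xs).symm.trans (by rw [hyp, app_one]))
    congr 1
    funext i
    exact hAn i p _).2
  choose lam hlam0 hlam using hμ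
  have hfrob : ∀ a : F, ∃ d, d ^ p = a := fun a => (Finite.injective_iff_surjective.1 (frobenius_inj F p)) a
  choose μ hμ using fun i => hfrob (lam i)
  have hμ0 : ∀ i, μ i ≠ 0 := fun i h0 => hlam0 i (by rw [← hμ, h0, zero_pow hp.ne_zero])
  obtain ⟨z, hz⟩ := exists_anisotropic hG.nd (le_trans (by norm_num) hG.three)
  have hzz : polar q1 z z ≠ 0 := by rw [polar_self']; exact mul_ne_zero hG.two hz
  have hcμ : ∀ i, c i = μ i * μ i := fun i => by
    have hn : ∀ (n : ℕ) x y, polar q1 (((A i : Module.End F (Fin k → F)) ^ n) x)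
        (((A i : Module.End F (Fin k → F)) ^ n) y) = c i ^ n * polar q1 x y := by
      intro n
      induction n with
      | zero => simp
      | succ n ih =>
        intro x y
        rw [pow_succ', Module.End.mul_apply, Module.End.mul_apply, LinearEquiv.coe_coe, hc i, ih, ← mul_assoc,
          ← pow_succ']
    have e := hn p z z
    rw [← hAn, hlam, polar_smul_left, polar_smul_right, ← hμ, smul_eq_mul, smul_eq_mul, ← mul_assoc,
      ← mul_pow] at e
    exact frobenius_inj F p (mul_right_cancel₀ hzz e).symm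
  have hB : ∀ i, ∃ B : O q1, (∀ x, A i x = μ i • app B x) ∧ IsNilpotent (nl B) := by
    intro i
    have hQ : ∀ x, q1 ((μ i)⁻¹ • A i x) = q1 x := fun x => mul_left_cancel₀ hG.two (by
      rw [← polar_self', polar_smul_left, polar_smul_right, hc i, hcμ, polar_self']
      have := hμ0 i
      simp only [smul_eq_mul]
      field_simp)
    let B : O q1 := mkO ((μ i)⁻¹ • (A i).toLinearMap) (μ i • (A i).symm.toLinearMap)
      (LinearMap.ext fun x => by simp [hμ0 i]) (LinearMap.ext fun x => by simp [hμ0 i]) hQ
    have hBapp : app B = (μ i)⁻¹ • (A i : Module.End F (Fin k → F)) := LinearMap.ext fun x => by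
      simp [B, app_mkO]
    refine ⟨B, fun x => by rw [hBapp, LinearMap.smul_apply, LinearEquiv.coe_coe, smul_inv_smul₀ (hμ0 i)], p, ?_⟩
    have e : (app B : Module.End F (Fin k → F)) ^ p = 1 := LinearMap.ext fun x => by
      rw [hBapp, smul_pow, LinearMap.smul_apply, ← hAn, hlam, smul_smul, inv_pow, hμ,
        inv_mul_cancel₀ (hlam0 i), one_smul, Module.End.one_apply]
    rwa [eq_app_add, end_one_add_pow, add_eq_left] at e
  choose B hAB hBn using hB
  -- the product of the scalars is one
  obtain ⟨g₀, hg₀⟩ := P.exists_monW hG.two (fun i => oEquiv (B i)) (fun _ => 1) (fun i x y => by simp) (by simp)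
  have hyg : ∀ x, app y x = (∏ i, μ i) • app g₀ x := LinearMap.congr_fun (P.ext_tp (f := app y)
    (g := (∏ i, μ i) • app g₀) fun xs => by
      rw [hy, LinearMap.smul_apply, hg₀, ← P.tp_smul]
      congr 1
      funext i
      exact hAB i _)
  have hP1 : ∏ i, μ i = 1 := by
    have h2' : (∏ i, μ i) * ∏ i, μ i = 1 := by
      rw [← Finset.prod_mul_distrib, ← Finset.prod_congr rfl fun i _ => hcμ i, hc1]
    obtain ⟨m, hm⟩ := hp.odd_of_ne_two (by omega)
    have hg₀p : g₀ ^ p = 1 := P.ext_tp_O fun xs => by
      have : ∀ (n : ℕ) ys, app (g₀ ^ n) (P.tp ys) = P.tp fun i => app (B i ^ n) (ys i) := by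
        intro n
        induction n with
        | zero => exact fun ys => by simp
        | succ n ih => exact fun ys => by rw [pow_succ, app_mul, hg₀, ih]; simp [pow_succ]
      rw [this, app_one]
      congr 1
      funext i
      obtain ⟨_, _⟩ := hBn i
      have : B i ^ p = 1 := ext_app fun x => by
        rw [app_one, app_pow]
        have e : (app (B i) : Module.End F (Fin k → F)) ^ p = 1 := LinearMap.ext fun x => by
          have e' : (app (B i) : Module.End F (Fin k → F)) = (μ i)⁻¹ • (A i : Module.End F (Fin k → F)) :=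
            LinearMap.ext fun x => by rw [LinearMap.smul_apply, LinearEquiv.coe_coe, hAB, inv_smul_smul₀ (hμ0 i)]
          rw [e', smul_pow, LinearMap.smul_apply, ← hAn, hlam, smul_smul, inv_pow, hμ,
            inv_mul_cancel₀ (hlam0 i), one_smul, Module.End.one_apply]
        rw [e, Module.End.one_apply]
      rw [this, app_one]
    have e : ∀ (n : ℕ) x, app (y ^ n) x = (∏ i, μ i) ^ n • app (g₀ ^ n) x := by
      intro n
      induction n with
      | zero => simp
      | succ n ih => intro x; rw [pow_succ', app_mul, ih, hyg, map_smul, smul_smul, ← app_mul, ← pow_succ', ← pow_succ']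
    have e1 := e p (P.tp fun _ => z)
    rw [hyp, hg₀p, app_one] at e1
    have hz' : P.tp (fun _ : Fin (t + 1) => z) ≠ 0 := P.tp_ne_zero fun _ h => hz (by rw [h, QuadraticMap.map_zero])
    have hpp : (∏ i, μ i) ^ p = 1 := smul_left_injective F hz' (by simp only [one_smul]; exact e1.symm)
    rwa [hm, pow_succ, pow_mul, pow_two, h2', one_pow, one_mul] at hpp
  have hy0 : y = g₀ := ext_app fun x => by rw [hyg, hP1, one_smul]
  subst hy0
  obtain ⟨i, hi⟩ : ∃ i, B i ≠ 1 := by
    by_contra hcon
    push Not at hcon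
    have hy1 : y = 1 := P.ext_tp_O fun xs => by
      rw [hg₀, app_one]; congr 1; funext i; simp [hcon i]
    rw [hy1, show nl (1 : O q) = 0 from LinearMap.ext fun x => by simp [nl]] at h1
    rw [LinearMap.range_zero, finrank_bot] at h1
    have : 0 < k ^ t := Nat.pow_pos (by omega)
    omega
  set D := P.D hG ht i
  obtain ⟨β, hβ⟩ := (std (q1 := q1) hG.two t).exists_monW hG.two (fun j => oEquiv (B (i.succAbove j))) (fun _ => 1)
    (fun j x y => by simp) (by simp)
  have hyt : y = D.ten (B i, β) := P.ext_tp_O fun xs => by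
    rw [P.D_tp' hG ht i xs]
    refine Eq.trans ?_ (D.ten_tp (B i) β _ _).symm
    rw [← P.D_tp' hG ht i xs, hg₀]
    erw [hβ]
    erw [P.D_tp]
    congr 1
    funext l
    rcases Fin.eq_self_or_eq_succAbove i l with rfl | ⟨j, rfl⟩
    · simp; rfl
    · simp [Fin.removeNth]
  have hβp : β ^ p = 1 := by
    refine Data.R_injective (D := D) ?_
    have e := hyp
    rw [hyt, ← map_pow] at e
    have hBp : B i ^ p = 1 := ext_app fun x => by
      obtain ⟨n, hn⟩ := hBn i
      rw [app_one, app_pow]
      have : (app (B i) : Module.End F (Fin k → F)) ^ p = 1 := LinearMap.ext fun x => by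
        have e' : (app (B i) : Module.End F (Fin k → F)) = (μ i)⁻¹ • (A i : Module.End F (Fin k → F)) :=
          LinearMap.ext fun x => by rw [LinearMap.smul_apply, LinearEquiv.coe_coe, hAB, inv_smul_smul₀ (hμ0 i)]
        rw [e', smul_pow, LinearMap.smul_apply, ← hAn, hlam, smul_smul, inv_pow, hμ,
          inv_mul_cancel₀ (hlam0 i), one_smul, Module.End.one_apply]
      rw [this, Module.End.one_apply]
    erw [map_one]
    rw [← e]
    show D.ten (1, β ^ p) = D.ten (B i ^ p, β ^ p)
    rw [hBp]
    rfl
  set α := LinearMap.toMatrix' (nl (B i))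
  set β' := LinearMap.toMatrix' (nl β)
  have eB : LinearMap.toMatrix' (app (B i)) = 1 + α := by
    rw [eq_app_add, map_add, LinearMap.toMatrix'_one]
  have eβ : LinearMap.toMatrix' (app β) = 1 + β' := by
    rw [eq_app_add, map_add, LinearMap.toMatrix'_one]
  have : Nonempty (Fin (k ^ t)) := ⟨⟨0, Nat.pow_pos (by omega)⟩⟩
  have hβn : β' ^ p = 0 := by
    have e : (app β : Module.End F _) ^ p = 1 := by
      rw [← app_pow, hβp]; exact LinearMap.ext fun x => by simp
    rw [eq_app_add, end_one_add_pow, add_eq_left] at e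
    have hm : ∀ n : ℕ, β' ^ n = LinearMap.toMatrix' (nl β ^ n) := by
      intro n
      induction n with
      | zero => rw [pow_zero, pow_zero, LinearMap.toMatrix'_one]
      | succ n ih => rw [pow_succ, pow_succ, LinearMap.toMatrix'_mul, ih]
    rw [hm, e, map_zero]
  have hrank : Module.finrank F (LinearMap.range (nl y)) =
      ((1 + α) ⊗ₖ (1 + β') - 1).rank := by
    rw [← eB, ← eβ]
    refine Eq.trans ?_ (finrank_range_kmap_sub D (app (B i)) (app β))
    suffices hN : nl y = D.kmap (app (B i)) (app β) - LinearMap.id by rw [hN]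
    refine D.ext_tp fun u v => ?_
    show app y _ - D.tp u v = D.kmap _ _ _ - _
    rw [hyt, Data.kmap_tp]
    erw [Data.ten_tp]
    rfl
  have hαr : α.rank = Module.finrank F (LinearMap.range (nl (B i))) := by
    rw [Matrix.rank, ← Matrix.toLin'_apply', Matrix.toLin'_toMatrix']
  have h2le := two_le_finrank_nl hG.nd hG.two (hBn i) hi
  have hmul := mul_card_le_rank α hβn
  rw [← hrank, h1, Fintype.card_fin, hαr] at hmul
  have hpos : 0 < k ^ t := Nat.pow_pos (by omega)
  have hα2 : Module.finrank F (LinearMap.range (nl (B i))) = 2 :=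
    le_antisymm (Nat.le_of_mul_le_mul_right hmul hpos) h2le
  have hβ0 : β' = 0 := by
    by_contra hne
    have := two_mul_card_lt hk (α := α) hβn hne (hαr.trans hα2) fun h4 h0 => by
      refine nl_sq_ne_zero hG h4 (hBn i) hi ?_
      rw [← Matrix.toLin'_toMatrix' (nl (B i) * nl (B i)), LinearMap.toMatrix'_mul, h0, map_zero]
    rw [← hrank, h1, Fintype.card_fin] at this
    omega
  have hβ1 : β = 1 := ext_app fun x => by
    have : nl β = 0 := by rw [← Matrix.toLin'_toMatrix' (nl β)]; show Matrix.toLin' β' = 0; rw [hβ0, map_zero]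
    rw [app_one]; exact sub_eq_zero.1 (LinearMap.congr_fun this x)
  have hyS : y = P.S hG ht i (B i) := by rw [hyt, hβ1]; rfl
  rw [hyS, nl_S, pow_two, kmap_mul, finrank_range_kmap_id] at h2
  obtain ⟨u, hu⟩ : ∃ u, u ∈ LinearMap.range (nl (B i) * nl (B i)) ∧ u ≠ 0 :=
    Submodule.exists_mem_ne_zero_of_ne_bot fun h => by rw [h, finrank_bot, zero_mul] at h2; omega
  have hd1 : Module.finrank F (LinearMap.range (nl (B i) * nl (B i))) = 1 :=
    Nat.eq_of_mul_eq_mul_right hpos (by rw [h2, one_mul])
  have hspan : LinearMap.range (nl (B i) * nl (B i)) = Submodule.span F {u} :=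
    (Submodule.eq_of_le_of_finrank_eq (by rw [Submodule.span_singleton_le_iff_mem]; exact hu.1)
      (by rw [finrank_span_singleton hu.2, hd1])).symm
  have hn3 : ∀ x, nl (B i) (nl (B i) (nl (B i) x)) = 0 := by
    intro x
    have e : nl y ^ 3 = D.kmap (nl (B i) * nl (B i) * nl (B i)) LinearMap.id := by
      rw [hyS, nl_S, pow_succ, pow_two, kmap_mul, kmap_mul]
    rw [h3] at e
    obtain ⟨v, hv⟩ : ∃ v : Fin (k ^ t) → F, v ≠ 0 := ⟨fun _ => 1, fun h => by simpa using congrFun h ⟨0, hpos⟩⟩
    have h0 := LinearMap.congr_fun e (D.tp x v)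
    rw [LinearMap.zero_apply, Data.kmap_tp, LinearMap.id_apply, ← D.tp_zero_left v] at h0
    exact (D.tp_left_cancel hv h0).symm
  obtain ⟨x₀, hx₀⟩ := hu.1
  refine ⟨i, u, ?_, hu.2, ?_⟩
  · have h0 := polar_nl_fix (B i) (nl (B i) x₀) (z := u) (by rw [← hx₀]; exact hn3 x₀)
    rw [show nl (B i) (nl (B i) x₀) = u from hx₀, polar_self'] at h0
    exact (mul_eq_zero.1 h0).resolve_left hG.two
  · refine Submodule.eq_of_le_of_finrank_eq ?_ ?_
    · have e : nl y ^ 2 = D.kmap (nl (B i) * nl (B i)) LinearMap.id := by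
        rw [hyS, nl_S, pow_two, kmap_mul]
      rw [e]
      have e' : (Submodule.mkQ (P.slice hG ht i u)).comp (D.kmap (nl (B i) * nl (B i)) LinearMap.id) = 0 :=
        D.ext_tp fun x w => by
          obtain ⟨a, ha⟩ := Submodule.mem_span_singleton.1 (hspan ▸ LinearMap.mem_range_self _ x)
          rw [LinearMap.comp_apply, Data.kmap_tp, ← ha, Data.tp_smul_left, LinearMap.zero_apply,
            Submodule.mkQ_apply, Submodule.Quotient.mk_eq_zero]
          exact Submodule.smul_mem _ _ ⟨w, rfl⟩
      rintro _ ⟨x, rfl⟩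
      have := LinearMap.congr_fun e' x
      rwa [LinearMap.comp_apply, LinearMap.zero_apply, Submodule.mkQ_apply,
        Submodule.Quotient.mk_eq_zero] at this
    · rw [P.finrank_slice hG ht i hu.2]
      rw [hyS, nl_S, pow_two, kmap_mul, finrank_range_kmap_id, hd1, one_mul]

end Power

end CfsgLib.TensorEven
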