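import Cfsg.Agent.Lib.TensorEven.Slot
import Cfsg.Agent.Lib.TensorEven.Unip
import Cfsg.Agent.Lib.TensorEven.Gen
import Cfsg.Agent.Lib.OrthFix.Omega

/-!
The hypotheses on a group containing the monomial isometries of a tensor power, and the elements which are
the identity modulo a slice and act through one further slot.
-/

set_option autoImplicit false
set_option linter.unusedSectionVars false

namespace CfsgLib.TensorEven

open Matrix QuadraticMap CfsgLib.Orth CfsgLib.TensorOddMinus
open CfsgLib.TensorOdd (IsFrame)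
open CfsgLib.TensorMax63 (Hyp mid mem_mid exists_hyp exists_aniso)

variable {ι : Type} [Fintype ι] [DecidableEq ι] {F : Type*} [Field F] [Fintype F] {k t : ℕ}
variable {q : QuadraticForm F (ι → F)} {q1 : QuadraticForm F (Fin k → F)}

theorem detHom_comm {κ : Type} [Fintype κ] [DecidableEq κ] {p : QuadraticForm F (κ → F)} {g : O p}
    (hg : g ∈ commutator (O p)) : detHom p g = 1 :=
  MonoidHom.mem_ker.1 (Abelianization.commutator_subset_ker (detHom p) hg)

namespace Power

variable (P : Power q q1 (t + 1)) (hG : Good q1) (ht : 1 ≤ t)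

theorem app_S_eq_sl (i : Fin (t + 1)) (A : O q1) :
    (app (P.S hG ht i A) : Module.End F (ι → F)) = P.sl i (app A) :=
  P.ext_tp fun xs => by rw [S_tp, sl_tp]

/-- The weakest hypothesis. -/
structure Base (G : Subgroup (O q)) : Prop where
  det_mem : ∀ i A, detHom q1 A = 1 → P.S hG ht i A ∈ G
  proper : ¬ commutator (O q) ≤ G

/-- All isometries of the slots and the even permutations. -/
structure Full (G : Subgroup (O q)) : Prop where
  S_mem : ∀ i A, P.S hG ht i A ∈ G
  π_mem : ∀ σ, Equiv.Perm.sign σ = 1 → P.π hG.two σ ∈ G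
  proper : ¬ commutator (O q) ≤ G

theorem Full.base {G : Subgroup (O q)} (h : P.Full hG ht G) : P.Base hG ht G :=
  ⟨fun i A _ => h.S_mem i A, h.proper⟩

theorem Base.comm_mem {G : Subgroup (O q)} (h : P.Base hG ht G) (i : Fin (t + 1)) {A : O q1}
    (hA : A ∈ commutator (O q1)) : P.S hG ht i A ∈ G := h.det_mem i A (detHom_comm hA)

/-- An element which is the identity modulo the slice of `u` at `i` and acts by `J` at the slot `m`. -/
def JRad (i m : Fin (t + 1)) (u : Fin k → F) (J : Module.End F (Fin k → F)) (g : O q) : Prop :=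
  ∀ xs, app g (P.tp xs) =
    P.tp xs + polar q1 (xs i) u • P.tp (Function.update (Function.update xs i u) m (J (xs m)))

theorem JRad.ext {i m : Fin (t + 1)} {u : Fin k → F} {J : Module.End F (Fin k → F)} {g g' : O q}
    (h : P.JRad i m u J g) (h' : P.JRad i m u J g') : g = g' := P.ext_tp_O fun xs => by rw [h, h']

theorem JRad.π_conj {i m : Fin (t + 1)} {u : Fin k → F} {J : Module.End F (Fin k → F)} {g : O q}
    (h : P.JRad i m u J g) (σ : Equiv.Perm (Fin (t + 1))) :
    P.JRad (σ i) (σ m) u J (P.π hG.two σ * g * (P.π hG.two σ)⁻¹) := by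
  intro xs
  have e : P.tp xs = app (P.π hG.two σ) (P.tp fun l => xs (σ l)) := by
    rw [π_tp]; congr 1; funext l; simp
  rw [app_mul, app_mul]
  nth_rewrite 1 [e]
  rw [app_inv_app, h, map_add, map_smul, ← e, π_tp]
  congr 3
  funext l
  simp only [Function.update_apply, Equiv.symm_apply_eq, Equiv.apply_symm_apply]

theorem JRad.toInW {i m : Fin (t + 1)} {u : Fin k → F} {J : Module.End F (Fin k → F)} {g : O q}
    (h : P.JRad i m u J g) {m' : Fin t} (hm : i.succAbove m' = m) :
    (P.D hG ht i).swap.IsRad u 0 ((std (q1 := q1) hG.two t).sl m' J) g := by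
  set D := (P.D hG ht i).swap
  refine ⟨fun x => map_zero _, fun z => ?_⟩
  have key : (app g : (ι → F) →ₗ[F] (ι → F)) =
      LinearMap.id + (D.tpL u).comp (((std (q1 := q1) hG.two t).sl m' J).comp (D.C u)) := by
    refine P.ext_tp fun xs => ?_
    have e : D.C u (P.tp xs) = polar q1 (xs i) u • (std (q1 := q1) hG.two t).tp (i.removeNth xs) := by
      rw [P.D_tp' hG ht i xs, ← (P.D hG ht i).swap_tp]
      exact D.C_tp u _ _
    rw [h, LinearMap.add_apply, LinearMap.id_apply, LinearMap.comp_apply, LinearMap.comp_apply, e, map_smul,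
      map_smul, sl_tp]
    congr 2
    show _ = D.tp _ u
    rw [(P.D hG ht i).swap_tp, P.D_tp]
    congr 1
    funext l
    rcases Fin.eq_self_or_eq_succAbove i l with rfl | ⟨l', rfl⟩
    · rw [Fin.insertNth_apply_same, Function.update_of_ne (by rw [← hm]; exact (Fin.succAbove_ne _ m').symm),
        Function.update_self]
    · rw [Fin.insertNth_apply_succAbove]
      rcases eq_or_ne l' m' with rfl | hl
      · subst hm
        simp [Fin.removeNth]
      · rw [Function.update_of_ne hl, Function.update_of_ne (by rw [← hm]; exact Fin.succAbove_right_injective.ne hl),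
          Function.update_of_ne (Fin.succAbove_ne i l'), Fin.removeNth]
  rw [D.adj_zero, D.tp_zero_left, sub_zero, LinearMap.zero_apply, add_zero]
  exact LinearMap.congr_fun key z

theorem sl_ne_zero {κ : Type} [Fintype κ] [DecidableEq κ] {p : QuadraticForm F (κ → F)} {n : ℕ}
    (R : Power p q1 n) (l : Fin n) {A : Module.End F (Fin k → F)} (hA : A ≠ 0) (hk : 1 ≤ k) : R.sl l A ≠ 0 := by
  intro h0
  obtain ⟨x, hx⟩ : ∃ x, A x ≠ 0 := by
    by_contra hc
    push Not at hc
    exact hA (LinearMap.ext hc)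
  have hx0 : x ≠ 0 := fun h => hx (by rw [h, map_zero])
  have e := LinearMap.congr_fun h0 (R.tp (Function.update (fun _ => x) l x))
  rw [sl_tp, LinearMap.zero_apply] at e
  refine R.tp_ne_zero (fun i => ?_) e
  rcases eq_or_ne i l with rfl | hi
  · simpa using hx
  · simpa [Function.update_of_ne hi] using hx0

/-- The isometries of the only other slot. -/
noncomputable def other (P : Power q q1 2) (hG : Good q1) : O (formP q1 1) →* O q1 :=
  let φ : (Fin k → F) →ₗ[F] (Fin (k ^ 1) → F) :=
    { toFun := fun v p => v ((eqv k 1).symm p 0)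
      map_add' := fun _ _ => rfl
      map_smul' := fun _ _ => rfl }
  let ψ : (Fin (k ^ 1) → F) →ₗ[F] (Fin k → F) :=
    { toFun := fun z a => z (eqv k 1 fun _ => a)
      map_add' := fun _ _ => rfl
      map_smul' := fun _ _ => rfl }
  have hψφ : ∀ v, ψ (φ v) = v := fun v => funext fun a => by simp [φ, ψ]
  have hφψ : ∀ z, φ (ψ z) = z := fun z => funext fun p => by
    show z (eqv k 1 fun _ => (eqv k 1).symm p 0) = z p
    rw [show (fun _ : Fin 1 => (eqv k 1).symm p 0) = (eqv k 1).symm p from
      funext fun j => by rw [Subsingleton.elim j 0], Equiv.apply_symm_apply]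
  have hφ : ∀ v, φ v = (std (q1 := q1) hG.two 1).tp fun _ => v := fun v => funext fun p => by
    show v ((eqv k 1).symm p 0) = ∏ i, v ((eqv k 1).symm p i)
    rw [Fin.prod_univ_one]
  have hq : ∀ v, formP q1 1 (φ v) = q1 v := fun v => mul_left_cancel₀ hG.two (by
    rw [← polar_self', ← polar_self', hφ, Power.polar_tp, Fin.prod_univ_one])
  have hQ : ∀ (B : O (formP q1 1)) x, q1 ((ψ.comp ((app B).comp φ)) x) = q1 x := fun B x => by
    rw [← hq, LinearMap.comp_apply, hφψ, LinearMap.comp_apply, Q_app, hq]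
  { toFun := fun B => mkO (ψ.comp ((app B).comp φ)) (ψ.comp ((app B⁻¹).comp φ))
      (LinearMap.ext fun x => by simp [hφψ, hψφ, app_app_inv])
      (LinearMap.ext fun x => by simp [hφψ, hψφ, app_inv_app]) (hQ B)
    map_one' := ext_app fun x => by simp [app_mkO, hψφ]
    map_mul' := fun B B' => ext_app fun x => by simp [app_mkO, hφψ] }

theorem R_eq_S (P : Power q q1 2) (hG : Good q1) (i : Fin 2) (B : O (formP q1 1)) :
    P.R hG le_rfl i B = P.S hG le_rfl (i.succAbove 0) (P.other hG B) := by
  refine P.ext_tp_O fun xs => ?_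
  conv_lhs => rw [P.D_tp' hG le_rfl i xs]
  rw [S_tp, Power.R]
  refine ((P.D hG le_rfl i).R_tp _ _ _).trans ?_
  rw [P.D_tp' hG le_rfl i (Function.update xs _ _), Function.update_of_ne (Fin.ne_succAbove i 0)]
  congr 1
  rw [Fin.removeNth_update_succAbove]
  funext p
  have e : (std (q1 := q1) hG.two 1).tp (i.removeNth xs) = fun p => xs (i.succAbove 0) ((eqv k 1).symm p 0) :=
    funext fun p => by
      show ∏ l, i.removeNth xs l ((eqv k 1).symm p l) = _
      rw [Fin.prod_univ_one]
      rfl
  rw [e]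
  have e' : ∀ v : Fin k → F, (std (q1 := q1) hG.two 1).tp (Function.update (i.removeNth xs) 0 v) =
      fun p => v ((eqv k 1).symm p 0) := fun v => funext fun p => by
    show ∏ l, Function.update (i.removeNth xs) 0 v l ((eqv k 1).symm p l) = _
    rw [Fin.prod_univ_one, Function.update_self]
  rw [e']
  simp only [Power.other, MonoidHom.coe_mk, OneHom.coe_mk, app_mkO]
  show app B _ p = app B _ (eqv k 1 fun _ => (eqv k 1).symm p 0)
  rw [show (fun _ : Fin 1 => (eqv k 1).symm p 0) = (eqv k 1).symm p from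
    funext fun j => by rw [Subsingleton.elim j 0], Equiv.apply_symm_apply]
  rfl

theorem Base.ovr_two {P : Power q q1 2} {hG : Good q1} {G : Subgroup (O q)} (h : P.Base hG le_rfl G)
    (i : Fin 2) : (P.D hG le_rfl i).Ovr G := by
  refine ⟨fun {A} hA => h.comm_mem P hG le_rfl i hA, fun {B} hB => ?_, h.proper⟩
  show P.R hG le_rfl i B ∈ G
  erw [R_eq_S]
  refine h.comm_mem P hG le_rfl _ ?_
  have : (commutator (O (formP q1 1))).map (P.other hG) ≤ commutator (O q1) := by
    rw [commutator_def, Subgroup.map_commutator]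
    exact Subgroup.commutator_mono le_top le_top
  exact this ⟨B, hB, rfl⟩

end Power

namespace Power

variable (P : Power q q1 (t + 2)) (hG : Good q1) (ht : 1 ≤ t)

theorem R_π (j : Fin (t + 2)) (σ : Equiv.Perm (Fin (t + 1))) :
    P.R hG (by omega) j ((std (q1 := q1) hG.two (t + 1)).π hG.two σ) =
      P.π hG.two (σ.extendDomain (finSuccAboveEquiv j)) := by
  refine P.ext_tp_O fun xs => ?_
  conv_lhs => rw [P.D_tp' hG (by omega) j xs]
  rw [π_tp, Power.R]
  refine ((P.D hG (by omega) j).R_tp _ _ _).trans ?_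
  erw [π_tp]
  erw [P.D_tp]
  congr 1
  funext l
  rcases Fin.eq_self_or_eq_succAbove j l with rfl | ⟨l', rfl⟩
  · rw [Fin.insertNth_apply_same, Equiv.Perm.extendDomain_symm,
      Equiv.Perm.extendDomain_apply_not_subtype _ _ (by simp)]
  · rw [Fin.insertNth_apply_succAbove, Fin.removeNth, Equiv.Perm.extendDomain_symm]
    congr 1
    exact (Equiv.Perm.extendDomain_apply_image σ.symm (finSuccAboveEquiv j) l').symm

/-- Inside the other slots. -/
theorem Full.comap {G : Subgroup (O q)} (h : P.Full hG (by omega) G) (j : Fin (t + 2))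
    (hR : ¬ commutator (O (formP q1 (t + 1))) ≤ G.comap (P.R hG (by omega) j)) :
    (std (q1 := q1) hG.two (t + 1)).Full hG ht (G.comap (P.R hG (by omega) j)) where
  S_mem m A := by
    rw [Subgroup.mem_comap, ← P.S_succAbove hG ht j m A]
    exact h.S_mem _ _
  π_mem σ hσ := by
    rw [Subgroup.mem_comap, R_π P hG ht]
    exact h.π_mem _ (by rw [Equiv.Perm.sign_extendDomain]; exact hσ)
  proper := hR

theorem JRad.R {j : Fin (t + 2)} {i m : Fin (t + 1)} {u : Fin k → F} {J : Module.End F (Fin k → F)}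
    {b : O (formP q1 (t + 1))} (h : (std (q1 := q1) hG.two (t + 1)).JRad i m u J b) :
    P.JRad (j.succAbove i) (j.succAbove m) u J (P.R hG (by omega) j b) := by
  intro xs
  conv_lhs => rw [P.D_tp' hG (by omega) j xs]
  rw [Power.R]
  refine ((P.D hG (by omega) j).R_tp _ _ _).trans ?_
  erw [h]
  rw [(P.D hG (by omega) j).tp_add_right, (P.D hG (by omega) j).tp_smul_right]
  erw [P.D_tp, P.D_tp]
  rw [Fin.insertNth_self_removeNth]
  congr 3
  funext l
  rcases Fin.eq_self_or_eq_succAbove j l with rfl | ⟨l', rfl⟩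
  · rw [Fin.insertNth_apply_same, Function.update_of_ne (Fin.succAbove_ne _ m).symm,
      Function.update_of_ne (Fin.succAbove_ne _ i).symm]
  · rw [Fin.insertNth_apply_succAbove]
    simp only [Function.update_apply, Fin.succAbove_right_inj, Fin.removeNth]

end Power

/-- Elements of order the characteristic lie in `Ω`. -/
theorem mem_commutator_of_pow {κ : Type} [Fintype κ] [DecidableEq κ] {p : QuadraticForm F (κ → F)}
    (hp : p.polarBilin.Nondegenerate) (hc : Fintype.card κ ≠ 4) {g : O p} {r : ℕ} (hr : Odd r)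
    (h : g ^ r = 1) : g ∈ commutator (O p) := by
  obtain ⟨s, hs⟩ := hr
  have e : g = (g ^ 2) ^ (s + 1) := by
    calc g = g * g ^ r := by rw [h, mul_one]
      _ = g ^ (r + 1) := (pow_succ' g r).symm
      _ = _ := by rw [← pow_mul, hs]; congr 1
  rw [e]
  exact Subgroup.pow_mem _ (CfsgLib.OrthFix.sq_mem_commutator hp (Or.inl hc) g) _

namespace Power

/-- The group does not contain `Ω` of all but one slot. -/
theorem Full.not_R {t : ℕ} {P : Power q q1 (t + 2)} {hG : Good q1} {ht : 1 ≤ t} {G : Subgroup (O q)}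
    (h : P.Full hG (by omega) G) (hk : 4 ≤ k) (j : Fin (t + 2)) :
    ¬ commutator (O (formP q1 (t + 1))) ≤ G.comap (P.R hG (by omega) j) := by
  intro hR
  have hO : (P.D hG (by omega) j).Ovr G :=
    ⟨fun {A} _ => h.S_mem j A, fun {B} hB => hR hB, h.proper⟩
  -- an element of `Ω` of the other slots moving the slice at the first of them
  set W := std (q1 := q1) hG.two (t + 1)
  set D0 := (W.D hG ht 0).swap
  obtain ⟨u, -, hu0, hu⟩ := CfsgLib.GeomClasses.OrthTools.exists_singular hG.nd (⊤ : Submodule F (Fin k → F))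
    (by rw [finrank_top, Module.finrank_fintype_fun_eq_card]; exact hG.three)
  obtain ⟨u', Pu⟩ := exists_hyp hG.nd hu hu0
  have hPu : Hyp D0.q2 u u' := Pu
  obtain ⟨d, hd, hqd⟩ := exists_aniso (Pu.nondeg_mid hG.nd) (fun hb => by
    have e := Pu.finrank_mid hG.nd
    rw [hb, finrank_bot, Fintype.card_fin] at e
    omega)
  have hJ : ∀ x y, polar q1 (sk q1 u d x) y + polar q1 x (sk q1 u d y) = 0 := fun x y => by
    simp only [sk_apply, polar_sub_left, polar_sub_right, polar_smul_left, polar_smul_right, smul_eq_mul,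
      polar_comm (f := ⇑q1) d y, polar_comm (f := ⇑q1) u y]
    ring
  have hJ0 : sk q1 u d ≠ 0 := fun h0 => by
    have e := LinearMap.congr_fun h0 u'
    rw [sk_apply, Pu.pair', one_smul, polar_comm (f := ⇑q1) u' d, polar_comm (f := ⇑q1) d u', (mem_mid.1 hd).2,
      zero_smul, sub_zero, LinearMap.zero_apply] at e
    exact hqd (by rw [e, QuadraticMap.map_zero])
  have hsk : ∀ x y, polar (formP q1 t) ((std (q1 := q1) hG.two t).sl ⟨0, ht⟩ (sk q1 u d) x) y +
      polar (formP q1 t) x ((std (q1 := q1) hG.two t).sl ⟨0, ht⟩ (sk q1 u d) y) = 0 := by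
    intro x y
    set L := (std (q1 := q1) hG.two t).sl ⟨0, ht⟩ (sk q1 u d)
    have : (formP q1 t).polarBilin.compl₁₂ L LinearMap.id + (formP q1 t).polarBilin.compl₁₂ LinearMap.id L = 0 :=
      (std (q1 := q1) hG.two t).ext_tp fun xs => (std (q1 := q1) hG.two t).ext_tp fun ys => by
        simp only [L, LinearMap.add_apply, LinearMap.compl₁₂_apply, LinearMap.id_apply, LinearMap.zero_apply,
          polarBilin_apply_apply, sl_tp, polar_tp, ← Finset.mul_prod_erase _ _ (Finset.mem_univ (⟨0, ht⟩ : Fin t)),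
          Function.update_self]
        have e1 : ∀ v, ∏ l ∈ (Finset.univ.erase (⟨0, ht⟩ : Fin t)), polar q1 (Function.update xs ⟨0, ht⟩ v l) (ys l) =
            ∏ l ∈ (Finset.univ.erase (⟨0, ht⟩ : Fin t)), polar q1 (xs l) (ys l) := fun v =>
          Finset.prod_congr rfl fun l hl => by rw [Function.update_of_ne (Finset.ne_of_mem_erase hl)]
        have e2 : ∀ v, ∏ l ∈ (Finset.univ.erase (⟨0, ht⟩ : Fin t)), polar q1 (xs l) (Function.update ys ⟨0, ht⟩ v l) =
            ∏ l ∈ (Finset.univ.erase (⟨0, ht⟩ : Fin t)), polar q1 (xs l) (ys l) := fun v =>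
          Finset.prod_congr rfl fun l hl => by rw [Function.update_of_ne (Finset.ne_of_mem_erase hl)]
        rw [e1, e2, ← add_mul, hJ, zero_mul]
    exact LinearMap.congr_fun (LinearMap.congr_fun this x) y
  obtain ⟨b, hb⟩ := Data.exists_rad (D := D0) hPu hsk
  have hbJ : W.JRad 0 ((0 : Fin (t + 1)).succAbove ⟨0, ht⟩) u (sk q1 u d) b := by
    intro xs
    have e := hb.eqn (W.tp xs)
    rw [D0.adj_zero, D0.tp_zero_left, sub_zero, LinearMap.zero_apply, add_zero] at e
    rw [e, W.D_tp' hG ht 0 xs, ← (W.D hG ht 0).swap_tp]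
    congr 1
    erw [D0.C_tp]
    rw [map_smul, D0.tp_smul_left, sl_tp]
    congr 1
    rw [(W.D hG ht 0).swap_tp, W.D_tp]
    congr 1
    funext l
    rcases Fin.eq_self_or_eq_succAbove (0 : Fin (t + 1)) l with rfl | ⟨l', rfl⟩
    · rw [Fin.insertNth_apply_same, Function.update_of_ne (Fin.succAbove_ne _ _).symm, Function.update_self]
    · rw [Fin.insertNth_apply_succAbove]
      simp only [Function.update_apply, Fin.succAbove_right_inj, Fin.removeNth, if_neg (Fin.succAbove_ne _ l')]
  have hbΩ : b ∈ commutator (O (formP q1 (t + 1))) := by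
    obtain ⟨r, hr, hcr, hr3⟩ := exists_char (F := F) hG.two
    have hpow : ∀ n : ℕ, D0.IsRad u 0 ((n : F) • (std (q1 := q1) hG.two t).sl ⟨0, ht⟩ (sk q1 u d)) (b ^ n) := by
      intro n
      induction n with
      | zero => rw [Nat.cast_zero, zero_smul, pow_zero]; exact Data.IsRad.one
      | succ n ih =>
        have := ih.mul hu hb
        rw [Nat.cast_succ, add_smul, one_smul, pow_succ b n]
        rwa [add_zero, show (D0.adj 0).comp (0 : (Fin (k ^ t) → F) →ₗ[F] (Fin (k ^ (t + 1)) → F)) = 0 from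
          LinearMap.comp_zero _, sub_zero] at this
    refine mem_commutator_of_pow (W.nd hG) ?_ (hr.odd_of_ne_two (by omega)) (r := r) ?_
    · rw [Fintype.card_fin]
      intro h4
      have := Nat.pow_le_pow_right (by omega : 0 < k) (by omega : 2 ≤ t + 1)
      nlinarith [Nat.mul_le_mul hk hk, pow_two k]
    · have := hpow r
      rw [CharP.cast_eq_zero F r, zero_smul] at this
      exact this.ext Data.IsRad.one
  -- moved to the slot `j`
  set i' := j.succAbove 0
  set m' := j.succAbove ((0 : Fin (t + 1)).succAbove ⟨0, ht⟩)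
  have hg : P.JRad i' m' u (sk q1 u d) (P.R hG (by omega) j b) := hbJ.R P hG ht
  have him : i' ≠ m' := Fin.succAbove_right_injective.ne (Fin.succAbove_ne _ _).symm
  set σ := Equiv.swap i' j * Equiv.swap j m' with hσ
  have hsign : Equiv.Perm.sign σ = 1 := by
    rw [hσ, map_mul, Equiv.Perm.sign_swap (Fin.succAbove_ne j _), Equiv.Perm.sign_swap (Fin.succAbove_ne j _).symm]
    norm_num
  have hσi : σ i' = j := by
    rw [hσ, Equiv.Perm.mul_apply, Equiv.swap_apply_of_ne_of_ne (Fin.succAbove_ne j _) him, Equiv.swap_apply_left]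
  obtain ⟨m'', hm''⟩ := Fin.exists_succAbove_eq (x := σ m') (y := j)
    (fun e => him (σ.injective (hσi.trans e.symm)))
  have hrad := (hg.π_conj P hG σ)
  rw [hσi] at hrad
  refine sl_ne_zero (k := k) (q1 := q1) (std (q1 := q1) hG.two (t + 1)) m'' hJ0 (by omega)
    (hO.swap.inW_eq_zero hu hu0 ⟨_, ?_, hrad.toInW P hG (by omega) hm''⟩)
  exact G.mul_mem (G.mul_mem (h.π_mem σ hsign) (hR hbΩ)) (G.inv_mem (h.π_mem σ hsign))

end Power

end CfsgLib.TensorEven
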