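import Cfsg.Agent.Lib.TensorEven.Rank

/-!
Monomial involutions moving few dimensions: a single reflection of a slot, or an element commuting with one.
-/

set_option autoImplicit false
set_option linter.unusedSectionVars false

namespace CfsgLib.TensorEven

open Matrix QuadraticMap CfsgLib.Orth CfsgLib.TensorOddMinus
open CfsgLib.TensorOdd (IsFrame blockSign blockSign_app)
open CfsgLib.TensorWreathMax (Idx split)

variable {ι : Type} [Fintype ι] [DecidableEq ι] {F : Type*} [Field F] [Fintype F] {k t : ℕ}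
variable {q : QuadraticForm F (ι → F)} {q1 : QuadraticForm F (Fin k → F)}

/-- The reflections, as linear maps, of a similitude squaring to a scalar. -/
theorem eigen_or_indep {p : QuadraticForm F (Fin k → F)} (hg : Good p) (hk : 4 ≤ k)
    (A : (Fin k → F) ≃ₗ[F] (Fin k → F)) {μ : F} (hμ : ∀ x, A (A x) = μ • x) :
    (∃ (y : Fin k → F) (ν : F), p y ≠ 0 ∧ ν ≠ 0 ∧ ν * ν = μ ∧ A y = ν • y) ∨
      ∃ v w, LinearIndependent F ![v, A v, w, A w] := by
  classical
  have hμ0 : μ ≠ 0 := by
    intro h0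
    obtain ⟨z, hz⟩ := exists_anisotropic hg.nd (le_trans (by norm_num) hg.three)
    have h1 := hμ z
    rw [h0, zero_smul, LinearEquiv.map_eq_zero_iff, LinearEquiv.map_eq_zero_iff] at h1
    exact hz (by rw [h1, QuadraticMap.map_zero])
  -- an eigenspace bigger than half contains an anisotropic vector
  have big : ∀ (ν : F) (E : Submodule F (Fin k → F)), (∀ x ∈ E, A x = ν • x) → k < 2 * Module.finrank F E →
      ∃ (y : Fin k → F) (ν : F), p y ≠ 0 ∧ ν ≠ 0 ∧ ν * ν = μ ∧ A y = ν • y := by
    intro ν E hE hd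
    obtain ⟨y, hy, hqy⟩ : ∃ y ∈ E, p y ≠ 0 := by
      by_contra hc
      push Not at hc
      have := two_finrank_le hg.nd hc
      rw [Fintype.card_fin] at this
      omega
    have hy0 : y ≠ 0 := fun h => hqy (by rw [h, QuadraticMap.map_zero])
    have h2 : ν * ν = μ := by
      have e := hμ y
      rw [hE y hy, map_smul, hE y hy, smul_smul] at e
      exact smul_left_injective F hy0 e
    exact ⟨y, ν, hqy, fun h0 => hμ0 (by rw [← h2, h0, zero_mul]), h2, hE y hy⟩
  by_cases hsc : ∀ x, ∃ c : F, A x = c • x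
  · left
    obtain ⟨c, hc⟩ : ∃ c : F, ∀ x, A x = c • x := by
      obtain ⟨a, ha⟩ := scalar_of_lines hg A.toLinearMap fun x _ _ => hsc x
      exact ⟨a, ha⟩
    exact big c ⊤ (fun x _ => hc x) (by rw [finrank_top, Module.finrank_fintype_fun_eq_card, Fintype.card_fin]; omega)
  push Not at hsc
  obtain ⟨v, hv⟩ := hsc
  have hv0 : v ≠ 0 := fun h => hv 0 (by rw [h, map_zero, smul_zero])
  have h2i : LinearIndependent F ![v, A v] := by
    rw [LinearIndependent.pair_iff' hv0]
    exact fun a h => hv a h.symm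
  set L := Submodule.span F (Set.range ![v, A v]) with hL
  have hLA : ∀ x ∈ L, A x ∈ L := by
    intro x hx
    have : L ≤ L.comap A.toLinearMap := Submodule.span_le.2 (by
      rintro _ ⟨i, rfl⟩
      fin_cases i
      · exact Submodule.subset_span ⟨1, rfl⟩
      · show A (A v) ∈ L
        rw [hμ]; exact Submodule.smul_mem _ _ (Submodule.subset_span ⟨0, rfl⟩))
    exact this hx
  have hLd : Module.finrank F L = 2 := by
    rw [hL, finrank_span_eq_card h2i, Fintype.card_fin]
  by_cases hw : ∃ w, w ∉ L ∧ ∀ c : F, A w - c • w ∉ L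
  · right
    obtain ⟨w, hw, hwc⟩ := hw
    refine ⟨v, w, Fintype.linearIndependent_iff.2 fun c hc => ?_⟩
    simp only [Fin.sum_univ_four, Matrix.cons_val_zero, Matrix.cons_val_one, Matrix.cons_val_two,
      Matrix.cons_val_three, Matrix.tail_cons, Matrix.head_cons] at hc
    have hmem : c 2 • w + c 3 • A w ∈ L := by
      rw [show c 2 • w + c 3 • A w = -(c 0 • v + c 1 • A v) from by
        rw [eq_neg_iff_add_eq_zero, ← hc]; abel]
      exact L.neg_mem (L.add_mem (Submodule.smul_mem _ _ (Submodule.subset_span ⟨0, rfl⟩))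
        (Submodule.smul_mem _ _ (Submodule.subset_span ⟨1, rfl⟩)))
    have h3 : c 3 = 0 := by_contra fun h3 => hwc (-(c 2 / c 3)) (by
      rw [show A w - (-(c 2 / c 3)) • w = (c 3)⁻¹ • (c 2 • w + c 3 • A w) by
        rw [smul_add, inv_smul_smul₀ h3, smul_smul, neg_smul, sub_neg_eq_add, div_eq_inv_mul, add_comm]]
      exact Submodule.smul_mem _ _ hmem)
    rw [h3, zero_smul, add_zero] at hmem
    have h2 : c 2 = 0 := by_contra fun h2 => hw ((Submodule.smul_mem_iff L h2).1 hmem)
    rw [h2, h3, zero_smul, zero_smul, add_zero, add_zero] at hc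
    have h01 := LinearIndependent.pair_iff.1 h2i _ _ hc
    intro i
    fin_cases i
    exacts [h01.1, h01.2, h2, h3]
  -- `A` is a scalar modulo `L`
  left
  push Not at hw
  obtain ⟨w₀, hw₀⟩ : ∃ w, w ∉ L := by
    by_contra hc
    push Not at hc
    have : L = ⊤ := eq_top_iff.2 fun x _ => hc x
    rw [this, finrank_top, Module.finrank_fintype_fun_eq_card, Fintype.card_fin] at hLd
    omega
  obtain ⟨ν, hν⟩ := hw w₀ hw₀
  have hν2 : ν * ν = μ := by
    by_contra hne
    refine hw₀ ((Submodule.smul_mem_iff L (sub_ne_zero.2 (Ne.symm hne))).1 ?_)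
    have := L.add_mem (hLA _ hν) (Submodule.smul_mem _ ν hν)
    convert this using 1
    rw [map_sub, map_smul, hμ, sub_smul, smul_sub, smul_smul]
    abel
  have hall : ∀ w, A w - ν • w ∈ L := by
    intro w
    by_cases hwL : w ∈ L
    · exact L.sub_mem (hLA _ hwL) (Submodule.smul_mem _ _ hwL)
    obtain ⟨c, hc⟩ := hw w hwL
    by_cases hs : w + w₀ ∈ L
    · have := L.sub_mem (L.sub_mem (hLA _ hs) (Submodule.smul_mem _ ν hs)) hν
      convert this using 1
      rw [map_add, smul_add]; abel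
    · obtain ⟨d, hd⟩ := hw (w + w₀) hs
      by_cases hcd : c = d
      · subst hcd
        by_cases hcν : c = ν
        · rwa [hcν] at hc
        · refine absurd ((Submodule.smul_mem_iff L (sub_ne_zero.2 hcν)).1 ?_) hw₀
          have := L.sub_mem (L.add_mem hc hν) hd
          convert this using 1
          rw [map_add, smul_add, sub_smul]; abel
      · exfalso
        have h1 : (c - d) • w + (ν - d) • w₀ ∈ L := by
          have := L.sub_mem hd (L.add_mem hc hν)
          convert this using 1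
          rw [map_add, smul_add, sub_smul, sub_smul]; abel
        have h2 : (c - d) • A w + (ν - d) • A w₀ ∈ L := by
          have := hLA _ h1
          rwa [map_add, map_smul, map_smul] at this
        have h3 := L.sub_mem h2 (L.add_mem (Submodule.smul_mem _ (c - d) hc) (Submodule.smul_mem _ (ν - d) hν))
        have h4 := L.sub_mem h3 (Submodule.smul_mem _ c h1)
        have h5 : ((ν - d) * (ν - c)) • w₀ ∈ L := by
          convert h4 using 1
          simp only [smul_sub, smul_smul, smul_add]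
          match_scalars <;> ring
        by_cases h6 : (ν - d) * (ν - c) = 0
        · rcases mul_eq_zero.1 h6 with h7 | h7
          · rw [h7, zero_smul, add_zero] at h1
            exact hwL ((Submodule.smul_mem_iff L (sub_ne_zero.2 hcd)).1 h1)
          · rw [← sub_eq_zero.1 h7] at hcd h1
            rw [← smul_add] at h1
            exact hs ((Submodule.smul_mem_iff L (sub_ne_zero.2 hcd)).1 h1)
        · exact hw₀ ((Submodule.smul_mem_iff L h6).1 h5)
  -- the eigenspace of `ν`
  set f := A.toLinearMap - ν • LinearMap.id with hf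
  have hR : LinearMap.range f < L := by
    refine lt_of_le_of_ne (by rintro _ ⟨x, rfl⟩; exact hall x) fun he => ?_
    have hneg : ∀ x, A (f x) = -ν • f x := fun x => by
      simp only [hf, LinearMap.sub_apply, LinearMap.smul_apply, LinearMap.id_apply, LinearEquiv.coe_coe, map_sub,
        map_smul, hμ, smul_sub, smul_smul, ← hν2]
      module
    obtain ⟨x, hx⟩ : v ∈ LinearMap.range f := he ▸ Submodule.subset_span ⟨0, rfl⟩
    exact hv (-ν) (by rw [← hx, hneg])
  have hk2 := LinearMap.finrank_range_add_finrank_ker f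
  have := Submodule.finrank_lt_finrank_of_lt hR
  rw [Module.finrank_fintype_fun_eq_card, Fintype.card_fin] at hk2
  exact big ν (LinearMap.ker f) (fun x hx => sub_eq_zero.1 hx) (by omega)

/-- A product of two involutions moving one slice is a reflection of the first factor. -/
theorem single_of_mv {a b : ℕ} (D : Data q a b) {C : O D.q1} {γ : O D.q2}
    (h : D.ten (C, γ) * D.ten (C, γ) = 1) (hC : C * C = 1) (h1 : C ≠ 1) (h2 : C ≠ negId D.q1)
    (hmv : mv (D.ten (C, γ)) = b) : ∃ y, D.q1 y ≠ 0 ∧ D.ten (C, γ) = D.L (refl D.q1 y) := by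
  have ha := D.three_a
  have hb := D.three_b
  have hall : ∀ {κ : Type} [Fintype κ] [DecidableEq κ] {p : QuadraticForm F (κ → F)} {x : O p},
      x * x = 1 → mv x = Fintype.card κ → x = negId p := by
    intro κ _ _ p x hx hm
    refine ext_app fun z => ?_
    have e := mv_add_fix x
    have hz : z + app x z ∈ fixS x := mem_fixS.2 (by rw [map_add, ← app_mul, hx, app_one, add_comm])
    rw [Submodule.finrank_eq_zero.1 (by omega : Module.finrank F (fixS x) = 0), Submodule.mem_bot] at hz
    rw [app_negId, eq_neg_of_add_eq_zero_right hz]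
  have hγ : γ * γ = 1 := by
    refine Data.R_injective (D := D) ?_
    rw [← map_mul, Prod.mk_mul_mk, hC] at h
    rw [map_one, ← h]
    rfl
  have key : ∀ (C' : O D.q1) (γ' : O D.q2), C' * C' = 1 → γ' * γ' = 1 → C' ≠ 1 → C' ≠ negId D.q1 →
      D.ten (C, γ) = D.ten (C', γ') → (mv γ' = 0 ∧ mv C' = 1) ∨ (mv γ' = b ∧ mv C' + 1 = a) := by
    intro C' γ' hC' hγ' n1 n2 e
    obtain ⟨e1, e2, e3⟩ := mv_ten D (A := C') (B := γ') hC' hγ'
    rw [← e, hmv] at e1
    have r0 : mv C' ≠ 0 := fun h0 => n1 (mv_eq_zero h0)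
    have rk : mv C' ≠ a := fun h0 => n2 (hall hC' (by rw [Fintype.card_fin]; exact h0))
    obtain ⟨r, hr⟩ : ∃ r, mv C' = r + 1 := ⟨mv C' - 1, by omega⟩
    obtain ⟨r', hr'⟩ : ∃ r', a - mv C' = r' + 1 := ⟨a - mv C' - 1, by omega⟩
    obtain ⟨s', hs'⟩ : ∃ s', b - mv γ' = s' := ⟨_, rfl⟩
    rw [hs', hr', hr, add_one_mul, add_one_mul] at e1
    have hss : s' + mv γ' = b := by omega
    have h0 : r * s' = 0 ∧ r' * mv γ' = 0 := by omega
    rcases Nat.mul_eq_zero.1 h0.1 with hz | hz
    · rcases Nat.mul_eq_zero.1 h0.2 with hz' | hz'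
      · omega
      · exact Or.inl ⟨hz', by omega⟩
    · rcases Nat.mul_eq_zero.1 h0.2 with hz' | hz'
      · exact Or.inr ⟨by omega, by omega⟩
      · omega
  have hn : ∀ {κ : Type} [Fintype κ] [DecidableEq κ] {p : QuadraticForm F (κ → F)} (x : O p), x * x = 1 →
      (negId p * x) * (negId p * x) = 1 := fun x hx => ext_app fun z => by
    simp only [app_mul, app_negId, map_neg, neg_neg, app_one]
    rw [← app_mul, hx, app_one]
  rcases key C γ hC hγ h1 h2 rfl with ⟨hγ0, hC1⟩ | ⟨hγb, hC1⟩
  · obtain ⟨y, hy, hy'⟩ := eq_refl_of_mv D.good1.nd D.two hC hC1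
    exact ⟨y, hy, by rw [mv_eq_zero hγ0, hy']; rfl⟩
  · have hγ' : γ = negId D.q2 := hall hγ (by rw [Fintype.card_fin]; exact hγb)
    have e2 : D.ten (C, γ) = D.ten (negId D.q1 * C, negId D.q2 * γ) := D.ext_tp_O fun u v => by
      simp [D.ten_tp, D.tp_neg_left, D.tp_neg_right]
    have n1 : negId D.q1 * C ≠ 1 := fun e => h2 (by
      rw [← mul_right_inj (negId D.q1), e]
      exact ext_app fun x => by simp)
    have n2 : negId D.q1 * C ≠ negId D.q1 := fun e => h1 (mul_eq_left.1 e)
    rcases key _ _ (hn _ hC) (hn _ hγ) n1 n2 e2 with ⟨hg0, hC1'⟩ | ⟨hgb, -⟩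
    · obtain ⟨y, hy, hy'⟩ := eq_refl_of_mv D.good1.nd D.two (hn _ hC) hC1'
      exact ⟨y, hy, by rw [e2, mv_eq_zero hg0, hy']; rfl⟩
    · rw [hγ', show negId D.q2 * negId D.q2 = 1 from ext_app fun x => by simp, mv_one] at hgb
      omega

namespace Power

variable {P : Power q q1 t}

theorem tp_repr (bs : Fin t → Module.Basis (Fin k) F (Fin k → F)) (xs : Fin t → Fin k → F) (a : Idx k t) :
    (P.tpBasis bs).repr (P.tp xs) a = ∏ i, (bs i).repr (xs i) (a i) := by
  have e : P.tp xs = ∑ b : Idx k t, (∏ i, (bs i).repr (xs i) (b i)) • P.tpBasis bs b := by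
    simp only [P.tpBasis_apply]
    refine P.E.symm.injective ?_
    simp only [map_sum, map_smul, Power.tp, LinearEquiv.symm_apply_apply]
    funext c
    simp only [Finset.sum_apply, Pi.smul_apply, smul_eq_mul, Maximal.TensorPower.tp, ← Finset.prod_mul_distrib]
    rw [← Fintype.prod_sum (fun i j => (bs i).repr (xs i) j * bs i j (c i))]
    refine Finset.prod_congr rfl fun i _ => ?_
    conv_lhs => rw [← (bs i).sum_repr (xs i), Finset.sum_apply]
    rfl
  rw [e, Module.Basis.repr_sum_self]

/-- Pure tensors with prescribed coordinates. -/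
theorem tp_mem_span (bs : Fin t → Module.Basis (Fin k) F (Fin k → F)) (xs : Fin t → Fin k → F)
    (S : Set (Idx k t)) (h : ∀ a, a ∉ S → ∃ i, (bs i).repr (xs i) (a i) = 0) :
    P.tp xs ∈ Submodule.span F (P.tpBasis bs '' S) := by
  rw [Module.Basis.mem_span_image]
  intro a ha
  by_contra hn
  obtain ⟨i, hi⟩ := h a hn
  rw [Finset.mem_coe, Finsupp.mem_support_iff, tp_repr] at ha
  exact ha (Finset.prod_eq_zero (Finset.mem_univ i) hi)

/-- A scalar monomial map permutes nothing and has scalar factors. -/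
theorem scalar_factors (hk : 2 ≤ k) {σ : Equiv.Perm (Fin t)} {A : Fin t → (Fin k → F) ≃ₗ[F] (Fin k → F)} {c : F}
    (hc : c ≠ 0) (h : ∀ xs, P.tp (fun i => A i (xs (σ i))) = c • P.tp xs) :
    σ = 1 ∧ ∀ i, ∃ μ : F, μ ≠ 0 ∧ ∀ x, A i x = μ • x := by
  classical
  haveI : NeZero k := ⟨by omega⟩
  set z : Fin k → F := Pi.single 0 1 with hz
  have hz0 : z ≠ 0 := fun h => by simpa [hz] using congrFun h 0
  have key : ∀ (j : Fin t) (x : Fin k → F), x ≠ 0 →
      ∃ d : F, d ≠ 0 ∧ A j (Function.update (fun _ => z) j x (σ j)) = d • x := by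
    intro j x hx
    have hne : ∀ i, Function.update (fun _ => z) j x i ≠ 0 := fun i => by
      rcases eq_or_ne i j with rfl | hij
      · simpa using hx
      · simpa [Function.update_of_ne hij] using hz0
    have e := h (Function.update (fun _ => z) j x)
    rw [← P.tp_update_smul (fun _ => z) j] at e
    obtain ⟨d, hd, hd'⟩ := P.tp_eq (xs := Function.update (fun _ => z) j (c • x)) (fun i => by
      rcases eq_or_ne i j with rfl | hij
      · rw [Function.update_self]; exact smul_ne_zero hc hx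
      · rw [Function.update_of_ne hij]; exact hz0) e.symm j
    refine ⟨d * c, mul_ne_zero hd hc, ?_⟩
    rw [Function.update_self, smul_smul] at hd'
    exact hd'
  have hσ : σ = 1 := Equiv.ext fun j => by_contra fun hj => by
    change σ j ≠ j at hj
    obtain ⟨d, -, hd⟩ := key j z hz0
    set x : Fin k → F := Pi.single (⟨1, by omega⟩ : Fin k) 1 with hx
    have hx0 : x ≠ 0 := fun h => by simpa [hx] using congrFun h ⟨1, by omega⟩
    obtain ⟨d', hd'0, hd'⟩ := key j x hx0
    rw [Function.update_of_ne hj] at hd hd'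
    have := congrFun (hd'.symm.trans hd) ⟨1, by omega⟩
    simp [hx, hz, Pi.single_apply] at this
    exact hd'0 this
  subst hσ
  refine ⟨rfl, fun j => ?_⟩
  have hl : ∀ x : Fin k → F, ∃ d : F, A j x = d • x := fun x => by
    by_cases hx : x = 0
    · exact ⟨0, by simp [hx]⟩
    · obtain ⟨d, -, hd⟩ := key j x hx
      exact ⟨d, by simpa using hd⟩
  obtain ⟨μ, hμ⟩ : ∃ μ : F, ∀ x, A j x = μ • x := by
    obtain ⟨a, ha⟩ := hl z
    refine ⟨a, fun x => ?_⟩
    obtain ⟨b, hb⟩ := hl x
    by_cases hli : ∃ r : F, x = r • z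
    · obtain ⟨r, rfl⟩ := hli
      rw [map_smul, ha, smul_comm]
    · push Not at hli
      obtain ⟨d, hd⟩ := hl (x + z)
      rw [map_add, ha, hb, smul_add] at hd
      by_cases hbd : b = d
      · rw [hbd, add_right_inj] at hd
        rw [hb, hbd, smul_left_injective F hz0 hd]
      · refine absurd ?_ (hli ((d - a) / (b - d)))
        rw [div_eq_inv_mul, ← smul_smul, eq_inv_smul_iff₀ (sub_ne_zero.2 hbd), sub_smul, sub_smul]
        linear_combination (norm := module) hd
  refine ⟨μ, fun h0 => hz0 ((A j).map_eq_zero_iff.1 (by rw [hμ, h0, zero_smul])), hμ⟩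

end Power

namespace Power

section Invol

variable {P : Power q q1 t} {g : O q} {σ : Equiv.Perm (Fin t)} {A : Fin t → (Fin k → F) ≃ₗ[F] (Fin k → F)}

/-- The square of an involution is scalar slot by slot. -/
theorem IsMonW.invol (hg : P.IsMonW g σ A) (hk : 2 ≤ k) (h : g * g = 1) :
    σ * σ = 1 ∧ ∀ i, ∃ μ : F, μ ≠ 0 ∧ ∀ x, A i (A (σ i) x) = μ • x :=
  scalar_factors (P := P) (σ := σ * σ) (A := fun i => (A (σ i)).trans (A i)) hk one_ne_zero fun xs => by
    rw [one_smul, ← hg.mul hg xs, h, app_one]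

/-- The number of indices increasing at two slots. -/
theorem card_lt_slots {a b : Fin (t + 1)} (hab : a ≠ b) :
    2 * (Finset.univ.filter fun α : Idx k (t + 1) => α a < α b).card + k ^ t = k ^ (t + 1) := by
  classical
  set L := Finset.univ.filter fun α : Idx k (t + 1) => α a < α b
  set G := Finset.univ.filter fun α : Idx k (t + 1) => α b < α a
  set E := Finset.univ.filter fun α : Idx k (t + 1) => α a = α b
  have hLG : L.card = G.card := Finset.card_bij (fun α _ => α ∘ Equiv.swap a b)
    (fun α hα => by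
      simp only [L, G, Finset.mem_filter, Finset.mem_univ, true_and, Function.comp_apply, Equiv.swap_apply_left,
        Equiv.swap_apply_right] at hα ⊢
      exact hα)
    (fun α _ β _ e => funext fun x => by simpa using congrFun e (Equiv.swap a b x))
    (fun β hβ => ⟨β ∘ Equiv.swap a b, by
      simp only [L, G, Finset.mem_filter, Finset.mem_univ, true_and, Function.comp_apply, Equiv.swap_apply_left,
        Equiv.swap_apply_right] at hβ ⊢
      exact hβ, funext fun x => by simp⟩)
  have hE : E.card = k ^ t := by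
    obtain ⟨c, hc⟩ := Fin.exists_succAbove_eq hab
    rw [show k ^ t = (Finset.univ : Finset (Idx k t)).card by simp]
    refine Finset.card_bij (fun α _ => b.removeNth α) (fun α _ => Finset.mem_univ _) (fun α hα β hβ e => ?_)
      (fun r _ => ⟨b.insertNth (r c) r, ?_, by simp⟩)
    · simp only [E, Finset.mem_filter, Finset.mem_univ, true_and] at hα hβ
      funext x
      rcases Fin.eq_self_or_eq_succAbove b x with rfl | ⟨y, rfl⟩
      · rw [← hα, ← hβ, ← hc]; exact congrFun e c
      · exact congrFun e y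
    · simp only [E, Finset.mem_filter, Finset.mem_univ, true_and]
      rw [← hc]
      simp
  have h1 : L.card + G.card + E.card = k ^ (t + 1) := by
    have d1 : Disjoint L G := Finset.disjoint_filter.2 fun α _ h1 h2 => absurd h1 (not_lt.2 h2.le)
    rw [← Finset.card_union_of_disjoint d1, ← Finset.card_union_of_disjoint]
    · rw [show L ∪ G ∪ E = Finset.univ from Finset.eq_univ_iff_forall.2 fun α => by
        simp only [L, G, E, Finset.mem_union, Finset.mem_filter, Finset.mem_univ, true_and]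
        rcases lt_trichotomy (α a) (α b) with h | h | h <;> simp [h]]
      simp
    · rw [Finset.disjoint_left]
      intro α h1 h2
      simp only [L, G, E, Finset.mem_union, Finset.mem_filter, Finset.mem_univ, true_and] at h1 h2
      rw [h2] at h1
      exact h1.elim (lt_irrefl _) (lt_irrefl _)
  omega

/-- Bases adapted to the moved slots. -/
theorem exists_bases (_hg : P.IsMonW g σ A) (hσ2 : σ * σ = 1)
    (hμ : ∀ i, ∃ μ : F, μ ≠ 0 ∧ ∀ x, A i (A (σ i) x) = μ • x) :
    ∃ (bs : Fin t → Module.Basis (Fin k) F (Fin k → F)),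
      ∀ l, σ l ≠ l → ∀ n, ∃ c : F, A l (bs (σ l) n) = c • bs l n := by
  classical
  refine ⟨fun l => if l < σ l then Pi.basisFun F (Fin k) else (Pi.basisFun F (Fin k)).map (A l), fun l hl n => ?_⟩
  have hσσ : σ (σ l) = l := by rw [← Equiv.Perm.mul_apply, hσ2]; rfl
  show ∃ c : F, A l ((if σ l < σ (σ l) then _ else _ : Module.Basis (Fin k) F (Fin k → F)) n) =
    c • (if l < σ l then _ else _ : Module.Basis (Fin k) F (Fin k → F)) n
  rw [hσσ]
  by_cases h : l < σ l
  · rw [if_pos h, if_neg (not_lt.2 h.le), Module.Basis.map_apply]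
    obtain ⟨μ, -, hμ⟩ := hμ l
    exact ⟨μ, hμ _⟩
  · rw [if_neg h, if_pos (lt_of_le_of_ne (not_lt.1 h) hl), Module.Basis.map_apply]
    exact ⟨1, (one_smul F _).symm⟩

/-- Vectors whose indices are sent outside by the permuted slots are moved. -/
theorem le_mv_of_pred (hg : P.IsMonW g σ A) (bs : Fin t → Module.Basis (Fin k) F (Fin k → F))
    (hbs : ∀ l, σ l ≠ l → ∀ n, ∃ c : F, A l (bs (σ l) n) = c • bs l n) (Pp : Idx k t → Prop) [DecidablePred Pp]
    (hP : ∀ α β : Idx k t, Pp α → (∀ l, σ l ≠ l → β l = α (σ l)) → ¬ Pp β) :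
    (Finset.univ.filter Pp).card ≤ mv g := by
  refine card_le_mv (P.tpBasis bs) _ fun α hα => ?_
  rw [Finset.mem_filter] at hα
  rw [P.tpBasis_apply, hg]
  refine tp_mem_span bs _ _ fun β hβ => ?_
  simp only [Set.mem_ofPred_eq, Finset.mem_filter, Finset.mem_univ, true_and, not_not] at hβ
  obtain ⟨l, hl, hne⟩ : ∃ l, σ l ≠ l ∧ β l ≠ α (σ l) := by
    by_contra hc
    push Not at hc
    exact hP α β hα.2 hc hβ
  obtain ⟨c, hc⟩ := hbs l hl (α (σ l))
  refine ⟨l, ?_⟩
  rw [hc, map_smul, Finsupp.smul_apply, Module.Basis.repr_self, Finsupp.single_eq_of_ne hne, smul_zero]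

end Invol

section Classify

variable {P : Power q q1 (t + 1)} {g : O q} {σ : Equiv.Perm (Fin (t + 1))}
  {A : Fin (t + 1) → (Fin k → F) ≃ₗ[F] (Fin k → F)}

theorem mv_moved (hg : P.IsMonW g σ A) (hk : 2 ≤ k) (h : g * g = 1) {a : Fin (t + 1)} (ha : σ a ≠ a) :
    k ^ (t + 1) ≤ 2 * mv g + k ^ t ∧ (∀ c, c ≠ a → c ≠ σ a → σ c ≠ c → k ^ (t + 1) < 2 * mv g + k ^ t) := by
  classical
  obtain ⟨hσ2, hμ⟩ := hg.invol hk h
  have hσσ : ∀ l, σ (σ l) = l := fun l => by rw [← Equiv.Perm.mul_apply, hσ2]; rfl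
  obtain ⟨bs, hbs⟩ := exists_bases hg hσ2 hμ
  have hc := card_lt_slots (k := k) (t := t) (Ne.symm ha)
  refine ⟨?_, fun c hca hcb hcm => ?_⟩
  · have := le_mv_of_pred hg bs hbs (fun α => α a < α (σ a)) fun α β hα hβ hβ' => by
      rw [hβ a ha, hβ (σ a) (by rw [hσσ]; exact Ne.symm ha), hσσ] at hβ'
      exact lt_asymm hα hβ'
    omega
  · have hlt : (Finset.univ.filter fun α : Idx k (t + 1) => α a < α (σ a)).card <
        (Finset.univ.filter fun α : Idx k (t + 1) => α a < α (σ a) ∨ (α a = α (σ a) ∧ α c < α (σ c))).card := by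
      refine Finset.card_lt_card (Finset.ssubset_iff_of_subset (Finset.monotone_filter_right _ fun α _ h => Or.inl h) |>.2
        ⟨Function.update (fun _ => ⟨0, by omega⟩) (σ c) ⟨1, by omega⟩, ?_, ?_⟩)
      · have h1 : a ≠ σ c := fun e => hcb (by rw [e, hσσ])
        have h2 : σ a ≠ σ c := fun e => hca (σ.injective e).symm
        simp [Function.update_of_ne h1, Function.update_of_ne h2, Function.update_of_ne (Ne.symm hcm)]
      · have h1 : a ≠ σ c := fun e => hcb (by rw [e, hσσ])
        have h2 : σ a ≠ σ c := fun e => hca (σ.injective e).symm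
        simp [Function.update_of_ne h1, Function.update_of_ne h2]
    have := le_mv_of_pred hg bs hbs (fun α => α a < α (σ a) ∨ (α a = α (σ a) ∧ α c < α (σ c)))
      fun α β hα hβ hβ' => by
        rw [hβ a ha, hβ (σ a) (by rw [hσσ]; exact Ne.symm ha), hσσ, hβ c hcm,
          hβ (σ c) (by rw [hσσ]; exact Ne.symm hcm), hσσ] at hβ'
        rcases hα with h1 | ⟨h1, h1'⟩ <;> rcases hβ' with h2 | ⟨h2, h2'⟩
        · exact lt_asymm h1 h2
        · exact h1.ne h2.symm
        · exact h2.ne h1.symm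
        · exact lt_asymm h1' h2'
    omega

/-- A fixed slot contains an anisotropic eigenvector unless many dimensions move. -/
theorem fixed_slot (hg : P.IsMonW g σ A) (hG : Good q1) (hk : 4 ≤ k) (h : g * g = 1) {i : Fin (t + 1)}
    (hi : σ i = i) :
    (∃ (y : Fin k → F) (ν : F), q1 y ≠ 0 ∧ ν ≠ 0 ∧ A i y = ν • y ∧ ∀ x, A i (A i x) = (ν * ν) • x) ∨
      2 * k ^ t ≤ mv g := by
  classical
  obtain ⟨μ, -, hμ⟩ := (hg.invol (by omega) h).2 i
  rw [hi] at hμ
  rcases eigen_or_indep hG hk (A i) hμ with ⟨y, ν, h1, h2, h3, h4⟩ | ⟨v, w, hvw⟩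
  · exact Or.inl ⟨y, ν, h1, h2, h4, fun x => by rw [hμ, h3]⟩
  right
  obtain ⟨n, rfl⟩ : ∃ n, k = 4 + n := ⟨k - 4, by omega⟩
  have hinj : Function.Injective (fun x : Fin 4 ⊕ Module.Basis.sumExtendIndex hvw => x) := fun _ _ e => e
  let B₀ := Module.Basis.sumExtend hvw
  haveI := Module.Finite.finite_basis B₀
  haveI : Fintype (Fin 4 ⊕ Module.Basis.sumExtendIndex hvw) := Fintype.ofFinite _
  have hcard : Fintype.card (Fin 4 ⊕ Module.Basis.sumExtendIndex hvw) = 4 + n := by
    rw [← Module.finrank_eq_card_basis B₀, Module.finrank_fintype_fun_eq_card, Fintype.card_fin]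
  let e := Fintype.equivFinOfCardEq hcard
  let B := B₀.reindex e
  have hB : ∀ j : Fin 4, B (e (Sum.inl j)) = ![v, A i v, w, A i w] j := fun j => by
    simp [B, B₀, Module.Basis.sumExtend]
    rfl
  let bs : Fin (t + 1) → Module.Basis (Fin (4 + n)) F (Fin (4 + n) → F) :=
    Function.update (fun _ => Pi.basisFun F _) i B
  let J : Finset (Fin (4 + n)) := {e (Sum.inl 0), e (Sum.inl 2)}
  have hJ : J.card = 2 := Finset.card_pair (fun h => by
    have := Sum.inl_injective (e.injective h)
    exact absurd this (by decide))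
  have hS : (Finset.univ.filter fun α : Idx (4 + n) (t + 1) => α i ∈ J).card = 2 * (4 + n) ^ t := by
    rw [show 2 * (4 + n) ^ t = (J ×ˢ (Finset.univ : Finset (Idx (4 + n) t))).card by simp [hJ]]
    exact Finset.card_equiv (split i) fun α => by simp [split, Fin.insertNthEquiv]
  rw [← hS]
  refine card_le_mv (P.tpBasis bs) _ fun α hα => ?_
  simp only [Finset.mem_filter, Finset.mem_univ, true_and] at hα
  rw [P.tpBasis_apply, hg]
  refine tp_mem_span bs _ _ fun β hβ => ⟨i, ?_⟩
  simp only [Set.mem_ofPred_eq, Finset.mem_filter, Finset.mem_univ, true_and, not_not] at hβ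
  obtain ⟨j, hj, hjne⟩ : ∃ j : Fin 4, A i (bs i (α i)) = B (e (Sum.inl j)) ∧ e (Sum.inl j) ∉ J := by
    have hne : ∀ j l : Fin 4, j ≠ l → e (Sum.inl j) ≠ e (Sum.inl l) := fun j l hjl h =>
      hjl (Sum.inl_injective (e.injective h))
    simp only [J, Finset.mem_insert, Finset.mem_singleton] at hα ⊢
    simp only [bs, Function.update_self]
    rcases hα with h' | h' <;> rw [h', hB]
    · exact ⟨1, by rw [hB]; simp, not_or.2 ⟨hne _ _ (by decide), hne _ _ (by decide)⟩⟩
    · exact ⟨3, by rw [hB]; simp, not_or.2 ⟨hne _ _ (by decide), hne _ _ (by decide)⟩⟩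
  show (bs i).repr (A i (bs (σ i) (α (σ i)))) (β i) = 0
  rw [hi, hj, show bs i = B from Function.update_self .., Module.Basis.repr_self,
    Finsupp.single_eq_of_ne fun h => hjne (by rw [← h]; exact hβ)]

/-- An element moving few dimensions commutes with a reflection of a slot, with one exception. -/
theorem commutes_single (hg : P.IsMonW g σ A) (hG : Good q1) (hk : 4 ≤ k) (ht : 1 ≤ t) (h : g * g = 1)
    (hmv : k * mv g ≤ 2 * (k - 1) * k ^ t) :
    (∃ i y, q1 y ≠ 0 ∧ g * P.S hG ht i (refl q1 y) = P.S hG ht i (refl q1 y) * g) ∨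
      (k = 4 ∧ t = 1 ∧ ∀ i, σ i ≠ i) := by
  classical
  obtain ⟨hσ2, -⟩ := hg.invol (by omega) h
  by_cases hfix : ∃ i, σ i = i
  · left
    obtain ⟨i, hi⟩ := hfix
    rcases fixed_slot hg hG hk h hi with ⟨y, ν, hy, hν, hyν, -⟩ | hbad
    · obtain ⟨B', hB', e⟩ := hg.conj_S hG ht i (refl q1 y)
      rw [hi] at e
      obtain ⟨c, hc, hc1⟩ := hg.sim hG
      have hci : c i ≠ 0 := fun h0 => by
        rw [Finset.prod_eq_zero (Finset.mem_univ i) h0] at hc1; exact zero_ne_one hc1
      have : B' = refl q1 y := ext_app fun x => by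
        rw [hB', (hc i).refl_conj hci hG.two, hyν, refl_smul hν]
      exact ⟨i, y, hy, by rw [this] at e; exact (mul_inv_eq_iff_eq_mul.1 e)⟩
    · exfalso
      have h0 := Nat.mul_le_mul_left k hbad
      have : 0 < k ^ t := Nat.pow_pos (by omega)
      obtain ⟨n, rfl⟩ : ∃ n, k = 1 + n := ⟨k - 1, by omega⟩
      simp only [Nat.add_sub_cancel_left] at hmv
      nlinarith
  · right
    push Not at hfix
    have h2 := mv_moved hg (by omega) h (hfix 0)
    have hpos : 0 < k ^ t := Nat.pow_pos (by omega)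
    have hk4 : k = 4 := by
      by_contra hne
      have h0 := Nat.mul_le_mul_left k h2.1
      obtain ⟨n, rfl⟩ : ∃ n, k = 5 + n := ⟨k - 5, by omega⟩
      rw [show 5 + n - 1 = 4 + n by omega] at hmv
      rw [pow_succ] at h0
      have := Nat.mul_pos (Nat.mul_pos (by omega : 0 < 1 + n) (by omega : 0 < 4 + n)) hpos
      nlinarith
    refine ⟨hk4, ?_, hfix⟩
    by_contra hne
    obtain ⟨c, hc0, hc1⟩ : ∃ c : Fin (t + 1), c ≠ 0 ∧ c ≠ σ 0 := by
      have : 2 < (Finset.univ : Finset (Fin (t + 1))).card := by simp; omega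
      obtain ⟨c, -, hc⟩ := Finset.exists_mem_notMem_of_card_lt_card
        (lt_of_le_of_lt (Finset.card_le_two (a := (0 : Fin (t + 1))) (b := σ 0)) this)
      exact ⟨c, fun h => hc (by simp [h]), fun h => hc (by simp [h])⟩
    have h3 := Nat.mul_lt_mul_of_pos_left (h2.2 c hc0 hc1 (hfix c)) (by omega : 0 < k)
    subst hk4
    rw [pow_succ] at h3
    omega

set_option maxHeartbeats 1000000 in
/-- An involution moving as little as a reflection of a slot is one. -/
theorem eq_single (hg : P.IsMonW g σ A) (hG : Good q1) (hk : 4 ≤ k) (ht : 1 ≤ t) (h : g * g = 1)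
    (hmv : mv g = k ^ t) : ∃ i y, q1 y ≠ 0 ∧ g = P.S hG ht i (refl q1 y) := by
  classical
  obtain ⟨hσ2, -⟩ := hg.invol (by omega) h
  have hpos : 0 < k ^ t := Nat.pow_pos (by omega)
  have hσ : σ = 1 := Equiv.ext fun a => by_contra fun ha => by
    have h1 := (mv_moved hg (by omega) h (a := a) ha).1
    rw [hmv, pow_succ] at h1
    nlinarith
  subst hσ
  obtain ⟨c, hc, hc1⟩ := hg.sim hG
  have hslot : ∀ i, ∃ (ν : F) (B : O q1), ν ≠ 0 ∧ c i = ν * ν ∧ B * B = 1 ∧ ∀ x, A i x = ν • app B x := by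
    intro i
    rcases fixed_slot hg hG hk h (i := i) rfl with ⟨y, ν, hy, hν, hyν, hA2⟩ | hbad
    swap
    · omega
    have hci : c i = ν * ν := by
      have e := hc i y y
      rw [hyν, polar_smul_left, polar_smul_right, polar_self', smul_eq_mul, smul_eq_mul, ← mul_assoc] at e
      exact (mul_right_cancel₀ (mul_ne_zero hG.two hy) e).symm
    have hQ : ∀ x, q1 (ν⁻¹ • A i x) = q1 x := fun x => mul_left_cancel₀ hG.two (by
      rw [← polar_self', polar_smul_left, polar_smul_right, hc i, hci, polar_self']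
      simp only [smul_eq_mul]
      field_simp)
    have hAA : (ν⁻¹ • (A i).toLinearMap).comp (ν⁻¹ • (A i).toLinearMap) = LinearMap.id :=
      LinearMap.ext fun x => by
        simp only [LinearMap.comp_apply, LinearMap.smul_apply, LinearEquiv.coe_coe, map_smul, hA2, smul_smul,
          LinearMap.id_apply]
        rw [show ν⁻¹ * (ν⁻¹ * (ν * ν)) = 1 by field_simp, one_smul]
    let B : O q1 := mkO (ν⁻¹ • (A i).toLinearMap) (ν⁻¹ • (A i).toLinearMap) hAA hAA hQ
    have hBapp : ∀ x, app B x = ν⁻¹ • A i x := fun x => by simp [B, app_mkO]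
    refine ⟨ν, B, hν, hci, ext_app fun x => ?_, fun x => by rw [hBapp, smul_inv_smul₀ hν]⟩
    rw [app_mul, app_one, hBapp, hBapp]
    exact LinearMap.congr_fun hAA x
  choose ν B hν hcν hB2 hAB using hslot
  have hε : (∏ i, ν i) * (∏ i, ν i) = 1 := by
    rw [← Finset.prod_mul_distrib, ← Finset.prod_congr rfl fun i _ => hcν i, hc1]
  obtain ⟨i, hi⟩ : ∃ i, B i ≠ 1 ∧ B i ≠ negId q1 := by
    by_contra hcon
    push Not at hcon
    have hs : ∀ i, ∃ d : F, d * d = 1 ∧ ∀ x, app (B i) x = d • x := fun i => by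
      by_cases h1 : B i = 1
      · exact ⟨1, by norm_num, fun x => by rw [h1, app_one, one_smul]⟩
      · exact ⟨-1, by norm_num, fun x => by rw [hcon i h1, app_negId, neg_one_smul]⟩
    choose d hd hd' using hs
    set e := (∏ i, ν i) * ∏ i, d i with he
    have hge : ∀ x, app g x = e • x := LinearMap.congr_fun (P.ext_tp (f := app g) (g := e • LinearMap.id) fun xs => by
      rw [hg, LinearMap.smul_apply, LinearMap.id_apply, show (fun l => A l (xs ((1 : Equiv.Perm (Fin (t + 1))) l))) =
        fun l => (ν l * d l) • xs l from funext fun l => by rw [hAB, hd', smul_smul]; rfl,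
        P.tp_smul, Finset.prod_mul_distrib])
    have he2 : e * e = 1 := by
      rw [he, mul_mul_mul_comm, hε, ← Finset.prod_mul_distrib, Finset.prod_congr rfl fun i _ => hd i]
      simp
    rcases mul_self_eq_one_iff.1 he2 with h1 | h1
    · rw [show g = 1 from ext_app fun x => by rw [hge, h1, one_smul, app_one], mv_one] at hmv
      omega
    · rw [show g = negId q from ext_app fun x => by rw [hge, h1, neg_one_smul, app_negId], mv_negId hG.two,
        P.card_eq, pow_succ] at hmv
      nlinarith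
  -- the other slots
  set D := P.D hG ht i
  obtain ⟨β₀, hβ₀⟩ := (std (q1 := q1) hG.two t).exists_monW hG.two (fun j => oEquiv (B (i.succAbove j))) (fun _ => 1)
    (fun j x y => by simp) (by simp)
  obtain ⟨β, hβ⟩ : ∃ β : O (formP q1 t), ∀ ys, app β ((std (q1 := q1) hG.two t).tp ys) =
      (∏ l, ν l) • (std (q1 := q1) hG.two t).tp (fun j => app (B (i.succAbove j)) (ys j)) := by
    rcases mul_self_eq_one_iff.1 hε with h1 | h1
    · exact ⟨β₀, fun ys => by rw [hβ₀, h1, one_smul]; rfl⟩
    · exact ⟨negId _ * β₀, fun ys => by rw [app_mul, hβ₀, app_negId, h1, neg_one_smul]; rfl⟩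
  have hgt : g = D.ten (B i, β) := P.ext_tp_O fun xs => by
    rw [P.D_tp' hG ht i xs]
    refine Eq.trans ?_ (D.ten_tp (B i) β _ _).symm
    rw [← P.D_tp' hG ht i xs, hg]
    erw [hβ]
    rw [D.tp_smul_right]
    erw [P.D_tp]
    rw [show (fun l => A l (xs ((1 : Equiv.Perm (Fin (t + 1))) l))) = fun l => ν l • app (B l) (xs l) from
      funext fun l => hAB l _, P.tp_smul]
    congr 2
    funext l
    rcases Fin.eq_self_or_eq_succAbove i l with rfl | ⟨j, rfl⟩
    · simp; rfl
    · simp [Fin.removeNth]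
  obtain ⟨y, hy, hy'⟩ := single_of_mv D (C := B i) (γ := β) (by rw [← hgt]; exact h) (hB2 i) hi.1 hi.2
    (by rw [← hgt]; exact hmv)
  exact ⟨i, y, hy, hgt.trans hy'⟩

end Classify

end Power

end CfsgLib.TensorEven
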