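import Cfsg.Agent.Lib.TensorEven.Slot
import Cfsg.Agent.Lib.TensorEven.Pure

/-!
A linear bijection carrying the reflections of the slots to reflections of the slots is monomial.
-/

set_option autoImplicit false
set_option linter.unusedSectionVars false

namespace CfsgLib.TensorEven

open Matrix QuadraticMap CfsgLib.Orth CfsgLib.TensorOddMinus
open CfsgLib.TensorOdd (IsFrame InBlock refr_vec exists_frame)

variable {ι : Type} [Fintype ι] [DecidableEq ι] {F : Type*} [Field F] [Fintype F] {k t : ℕ}
variable {q : QuadraticForm F (ι → F)} {q1 : QuadraticForm F (Fin k → F)}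

theorem refl_comm_smul (h2 : (2 : F) ≠ 0) {a b : Fin k → F} (ha : q1 a ≠ 0) (hb : q1 b ≠ 0)
    (h : refl q1 a * refl q1 b = refl q1 b * refl q1 a) :
    polar q1 a b = 0 ∨ ∃ c : F, c ≠ 0 ∧ a = c • b := by
  by_cases h0 : polar q1 a b = 0
  · exact Or.inl h0
  right
  have hb' : b ≠ 0 := fun h => hb (by rw [h, QuadraticMap.map_zero])
  have ha' : a ≠ 0 := fun h => ha (by rw [h, QuadraticMap.map_zero])
  have e := congrArg (fun g : O q1 => app g b) h
  simp only [app_mul, app_refl, polar_self', map_sub, map_smul, polar_sub_left, polar_smul_left, smul_eq_mul,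
    polar_comm (f := ⇑q1) b a] at e
  set s := (q1 a)⁻¹ * polar q1 a b with hs
  have hs0 : s ≠ 0 := mul_ne_zero (inv_ne_zero ha) h0
  have e2 : ((2 : F) * s) • a = (((q1 b)⁻¹ * polar q1 a b) * s) • b := by
    linear_combination (norm := (match_scalars <;> field_simp <;> ring)) e
  set u := ((2 : F) * s)⁻¹ * (((q1 b)⁻¹ * polar q1 a b) * s) with hu
  have ea : a = u • b := by
    rw [hu, ← smul_smul, ← e2, inv_smul_smul₀ (mul_ne_zero h2 hs0)]
  exact ⟨u, fun hu0 => ha' (by rw [ea, hu0, zero_smul]), ea⟩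

namespace Power

/-- The map putting a vector into one slot. -/
def tpAt (R : Power q q1 t) (xs : Fin t → Fin k → F) (l : Fin t) : (Fin k → F) →ₗ[F] (ι → F) where
  toFun x := R.tp (Function.update xs l x)
  map_add' x y := R.tp_update_add xs l x y
  map_smul' c x := R.tp_update_smul xs l c x

theorem tpAt_apply (R : Power q q1 t) (xs : Fin t → Fin k → F) (l : Fin t) (x : Fin k → F) :
    R.tpAt xs l x = R.tp (Function.update xs l x) := rfl

/-- Maps equal on the pure tensors of spanning sets are equal. -/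
theorem ext_span (R : Power q q1 t) {S : Set (Fin k → F)} (hS : Submodule.span F S = ⊤) {M : Type*}
    [AddCommGroup M] [Module F M] {f g : (ι → F) →ₗ[F] M}
    (h : ∀ xs, (∀ l, xs l ∈ S) → f (R.tp xs) = g (R.tp xs)) : f = g := by
  classical
  have key : ∀ (U : Finset (Fin t)) xs, (∀ l, l ∉ U → xs l ∈ S) → f (R.tp xs) = g (R.tp xs) := by
    intro U
    induction U using Finset.induction_on with
    | empty => exact fun xs hxs => h xs fun l => hxs l (Finset.notMem_empty l)
    | @insert l U hl ih =>
      intro xs hxs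
      have : (f - g).comp (R.tpAt xs l) = 0 := LinearMap.ext_on hS fun x hx => by
        show f _ - g _ = 0
        rw [tpAt_apply, ih, sub_self]
        intro m hm
        rcases eq_or_ne m l with rfl | hml
        · rwa [Function.update_self]
        · rw [Function.update_of_ne hml]; exact hxs m (by simp [hm, hml])
      have h1 := LinearMap.congr_fun this (xs l)
      rwa [LinearMap.comp_apply, tpAt_apply, Function.update_eq_self, LinearMap.zero_apply, LinearMap.sub_apply,
        sub_eq_zero] at h1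
  exact R.ext_tp fun xs => key Finset.univ xs fun l hl => absurd (Finset.mem_univ l) hl

/-- A common eigenvector of reflections of all slots but one is pure. -/
theorem eigen_pure (P : Power q q1 (t + 1)) (hG : Good q1) (ht : 1 ≤ t) {zs : Fin (t + 1) → Fin k → F}
    (hz : ∀ n, q1 (zs n) ≠ 0) (n0 : Fin (t + 1)) {w : ι → F}
    (h : ∀ n, n ≠ n0 → app (P.S hG ht n (refl q1 (zs n))) w = -w) : ∃ v, w = P.tpAt zs n0 v := by
  classical
  obtain ⟨u, hu⟩ : ∃ u : Fin k → Fin k → F, IsFrame q1 u := exists_frame hG.nd hG.two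
  have hfr : ∀ n, ∃ (e : Fin k → Fin k → F) (j : Fin k), IsFrame q1 e ∧ e j = zs n := fun n => by
    obtain ⟨v, l, -, hvl, hR⟩ := refr_vec hu Finset.univ (y := zs n) (fun m hm => absurd (Finset.mem_univ m) hm) (hz n)
    exact ⟨v, l, hR.1, hvl⟩
  choose e j he hej using hfr
  have hp : ∀ n, n ≠ n0 → ∀ ys, polar q1 (ys n) (zs n) = 0 → polar q w (P.tp ys) = 0 := by
    intro n hn ys h0
    have h1 := polar_app (P.S hG ht n (refl q1 (zs n))) w (P.tp ys)
    rw [h n hn, P.S_tp, app_refl_of_ortho h0, Function.update_eq_self, polar_neg_left] at h1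
    exact (mul_eq_zero.1 (show (2 : F) * polar q w (P.tp ys) = 0 by linear_combination -h1)).resolve_left hG.two
  set C := ∏ n ∈ Finset.univ.erase n0, polar q1 (zs n) (zs n)
  have hC : C ≠ 0 := Finset.prod_ne_zero_iff.2 fun n _ => by rw [polar_self']; exact mul_ne_zero hG.two (hz n)
  set v := C⁻¹ • CfsgLib.TensorMax63.toVec hG.nd ((q.polarBilin w).comp (P.tpAt zs n0))
  have hv : ∀ y, C * polar q1 v y = polar q w (P.tpAt zs n0 y) := fun y => by
    rw [polar_smul_left, CfsgLib.TensorMax63.polar_toVec, smul_eq_mul, mul_inv_cancel_left₀ hC]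
    rfl
  refine ⟨v, sub_eq_zero.1 ((P.nd hG).1 _ fun y => ?_)⟩
  have e1 : q.polarBilin w = q.polarBilin (P.tpAt zs n0 v) := (P.tpBasis fun n => (he n).basis).ext fun γ => by
    rw [P.tpBasis_apply]
    simp only [IsFrame.basis_apply]
    set ys := fun n => e n (γ n) with hys
    rw [polarBilin_apply_apply, polarBilin_apply_apply, tpAt_apply, P.polar_tp,
      ← Finset.mul_prod_erase _ _ (Finset.mem_univ n0), Function.update_self]
    by_cases hall : ∀ n, n ≠ n0 → γ n = j n
    · have e2 : ys = Function.update zs n0 (ys n0) := funext fun n => by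
        rcases eq_or_ne n n0 with rfl | hn
        · rw [Function.update_self]
        · rw [Function.update_of_ne hn, hys]; simp only; rw [hall n hn, hej]
      have e3 : (∏ n ∈ Finset.univ.erase n0, polar q1 (Function.update zs n0 v n) (ys n)) = C :=
        Finset.prod_congr rfl fun n hn => by
          have hn' := Finset.ne_of_mem_erase hn
          rw [Function.update_of_ne hn', congrFun e2 n, Function.update_of_ne hn']
      rw [e3, mul_comm, hv, tpAt_apply, ← e2]
    · push Not at hall
      obtain ⟨n, hn, hγ⟩ := hall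
      have h0 : polar q1 (ys n) (zs n) = 0 := by rw [← hej n]; exact (he n).orth _ _ hγ
      rw [hp n hn ys h0, Finset.prod_eq_zero (Finset.mem_erase.2 ⟨hn, Finset.mem_univ n⟩) (by
        rw [Function.update_of_ne hn, polar_comm]; exact h0), mul_zero]
  rw [map_sub, LinearMap.sub_apply, LinearMap.congr_fun e1 y, sub_self]

/-- Reflections of different slots differ. -/
theorem S_refl_ne (P : Power q q1 (t + 1)) (hG : Good q1) (ht : 1 ≤ t) {i j : Fin (t + 1)} (hij : i ≠ j)
    {y z : Fin k → F} (hy : q1 y ≠ 0) (hz : q1 z ≠ 0) :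
    P.S hG ht i (refl q1 y) ≠ P.S hG ht j (refl q1 z) := by
  intro h
  obtain ⟨u, hu⟩ : ∃ u : Fin k → Fin k → F, IsFrame q1 u := exists_frame hG.nd hG.two
  obtain ⟨v, l, -, hvl, hR⟩ := refr_vec hu Finset.univ (y := z) (fun m hm => absurd (Finset.mem_univ m) hm) hz
  obtain ⟨m, hm⟩ : ∃ m, m ≠ l := by
    have : 1 < Fintype.card (Fin k) := by rw [hR.1.card, Fintype.card_fin]; have := hG.three; simp at this; omega
    exact Fintype.exists_ne_of_one_lt_card this l
  have hp : polar q1 (v m) z = 0 := by rw [← hvl]; exact hR.1.orth _ _ hm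
  have hne : ∀ {x : Fin k → F}, q1 x ≠ 0 → x ≠ 0 := fun hx h => hx (by rw [h, QuadraticMap.map_zero])
  set xs := Function.update (Function.update (fun _ : Fin (t + 1) => y) j (v m)) i y with hxs
  have e := congrArg (fun g : O q => app g (P.tp xs)) h
  simp only [P.S_tp] at e
  rw [show xs i = y from Function.update_self .., show xs j = v m by
      rw [hxs, Function.update_of_ne hij.symm, Function.update_self], app_refl_self hy,
    app_refl_of_ortho hp] at e
  rw [show Function.update xs j (v m) = xs from Function.update_eq_iff.2 ⟨by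
    rw [hxs, Function.update_of_ne hij.symm, Function.update_self], fun _ _ => rfl⟩, show (-y : Fin k → F) = (-1 : F) • y by rw [neg_one_smul],
    tp_update_smul, neg_one_smul] at e
  have e2 : P.tp xs = P.tp (Function.update xs i y) := by
    rw [show Function.update xs i y = xs from Function.update_eq_iff.2 ⟨by rw [hxs, Function.update_self], fun _ _ => rfl⟩]
  rw [← e2] at e
  have h4 : (2 : F) • P.tp xs = 0 := by rw [two_smul]; nth_rewrite 1 [← e]; exact neg_add_cancel _
  refine P.tp_ne_zero (fun l' => ?_) ((smul_eq_zero.1 h4).resolve_left hG.two)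
  simp only [hxs, Function.update_apply]
  split_ifs
  · exact hne hy
  · exact hne (hR.1.nz m)
  · exact hne hy

/-- A bijection permuting the reflections of the slots permutes the slots. -/
theorem exists_slot_map (P : Power q q1 (t + 1)) (hG : Good q1) (ht : 1 ≤ t) (hk : 4 ≤ k)
    (α : (ι → F) ≃ₗ[F] (ι → F))
    (hα : ∀ m y, q1 y ≠ 0 → ∃ m' y', q1 y' ≠ 0 ∧
      ∀ z, α (app (P.S hG ht m (refl q1 y)) z) = app (P.S hG ht m' (refl q1 y')) (α z)) :
    ∃ (σ0 : Fin (t + 1) → Fin (t + 1)) (ν : Fin (t + 1) → {y : Fin k → F // q1 y ≠ 0} → (Fin k → F)),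
      Function.Injective σ0 ∧ (∀ m a, q1 (ν m a) ≠ 0) ∧ ∀ (m : Fin (t + 1)) (a : {y : Fin k → F // q1 y ≠ 0}) z,
        α (app (P.S hG ht m (refl q1 a.1)) z) = app (P.S hG ht (σ0 m) (refl q1 (ν m a))) (α z) := by
  classical
  obtain ⟨x0, hx0⟩ := exists_anisotropic hG.nd (le_trans (by norm_num) hG.three)
  have hex : ∀ (m : Fin (t + 1)) (y : {y : Fin k → F // q1 y ≠ 0}), ∃ (m' : Fin (t + 1))
      (y' : Fin k → F), q1 y' ≠ 0 ∧
      ∀ z, α (app (P.S hG ht m (refl q1 y.1)) z) = app (P.S hG ht m' (refl q1 y')) (α z) := fun m y => hα m y y.2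
  choose μ ν hν hint using hex
  have hinj : ∀ m a m' a', μ m a = μ m' a' → refl q1 (ν m a) = refl q1 (ν m' a') →
      P.S hG ht m (refl q1 a.1) = P.S hG ht m' (refl q1 a'.1) := fun m a m' a' h1 h2 =>
    ext_app fun z => α.injective (by rw [hint, hint, h1, h2])
  have hcom : ∀ m a m' a', P.S hG ht m (refl q1 a.1) * P.S hG ht m' (refl q1 a'.1) =
      P.S hG ht m' (refl q1 a'.1) * P.S hG ht m (refl q1 a.1) ↔
      P.S hG ht (μ m a) (refl q1 (ν m a)) * P.S hG ht (μ m' a') (refl q1 (ν m' a')) =
      P.S hG ht (μ m' a') (refl q1 (ν m' a')) * P.S hG ht (μ m a) (refl q1 (ν m a)) := by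
    intro m a m' a'
    constructor <;> intro h <;> refine ext_app fun z => ?_
    · obtain ⟨z, rfl⟩ := α.surjective z
      rw [app_mul, app_mul, ← hint, ← hint, ← hint, ← hint, ← app_mul, h, app_mul]
    · refine α.injective ?_
      rw [app_mul, app_mul, hint, hint, hint, hint, ← app_mul, h, app_mul]
  have hSinj : ∀ (i : Fin (t + 1)) {A A' : O q1}, P.S hG ht i A = P.S hG ht i A' → A = A' := by
    intro i A A' h
    refine ext_app fun x => ?_
    by_cases hx : x = 0
    · rw [hx, map_zero, map_zero]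
    have hx0' : x0 ≠ 0 := fun h => hx0 (by rw [h, QuadraticMap.map_zero])
    have e := congrArg (fun g : O q => app g (P.tp (Function.update (fun _ => x0) i x))) h
    simp only [P.S_tp, Function.update_self, Function.update_idem] at e
    obtain ⟨n, hn⟩ : ∃ n : Fin (t + 1), n ≠ i := by
      rcases Decidable.em (i = 0) with rfl | hi
      · exact ⟨⟨1, by omega⟩, fun h => by simpa using congrArg Fin.val h⟩
      · exact ⟨0, Ne.symm hi⟩
    by_contra hne
    have h' : P.tp (Function.update (fun _ => x0) i (app A x - app A' x)) = 0 := by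
      rw [← tpAt_apply, map_sub, tpAt_apply, tpAt_apply, e, sub_self]
    refine P.tp_ne_zero (fun l => ?_) h'
    rcases eq_or_ne l i with rfl | hl
    · rwa [Function.update_self, sub_ne_zero]
    · rwa [Function.update_of_ne hl]
  -- the slot of the image depends on the slot only
  have hnc : ∀ m (a a' : {y : Fin k → F // q1 y ≠ 0}), polar q1 a.1 a'.1 ≠ 0 → μ m a = μ m a' := by
    intro m a a' h
    by_contra hne
    have h1 := (hcom m a m a').2 (P.S_comm hG ht _ hne _ _)
    rw [← map_mul, ← map_mul] at h1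
    rcases refl_comm_smul hG.two a.2 a'.2 (hSinj m h1) with h2 | ⟨c, hc, h2⟩
    · exact h h2
    · refine S_refl_ne P hG ht hne (hν m a) (hν m a') (ext_app fun z => ?_)
      obtain ⟨z, rfl⟩ := α.surjective z
      rw [← hint, ← hint, h2, refl_smul hc]
  set σ0 : Fin (t + 1) → Fin (t + 1) := fun m => μ m ⟨x0, hx0⟩ with hσ0
  obtain ⟨u, hu⟩ : ∃ u : Fin k → Fin k → F, IsFrame q1 u := exists_frame hG.nd hG.two
  have hμ : ∀ m a, μ m a = σ0 m := by
    intro m a
    by_cases h : polar q1 a.1 x0 = 0
    · have hb : q1 (a.1 + x0) ≠ 0 ∨ q1 (a.1 + x0) = 0 := (ne_or_eq _ _)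
      obtain ⟨b, hb, h1, h2⟩ : ∃ b, q1 b ≠ 0 ∧ polar q1 a.1 b ≠ 0 ∧ polar q1 b x0 ≠ 0 := by
        have key : ∀ c : F, c ≠ 0 → q1 a.1 + c * c * q1 x0 ≠ 0 → ∃ b, q1 b ≠ 0 ∧ polar q1 a.1 b ≠ 0 ∧
            polar q1 b x0 ≠ 0 := fun c hc hne => ⟨a.1 + c • x0, by
          rw [QuadraticMap.map_add ⇑q1, QuadraticMap.map_smul, polar_smul_right, h, smul_zero, add_zero,
            smul_eq_mul]
          exact hne, by
          rw [polar_add_right, polar_smul_right, h, smul_zero, add_zero, polar_self']
          exact mul_ne_zero hG.two a.2, by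
          rw [polar_add_left, polar_smul_left, h, zero_add, polar_self', smul_eq_mul]
          exact mul_ne_zero hc (mul_ne_zero hG.two hx0)⟩
        by_cases h1 : q1 a.1 + q1 x0 = 0
        · by_cases h3 : (3 : F) = 0
          · obtain ⟨z, hz, h4, h5⟩ : ∃ z, q1 (a.1 + x0 + z) ≠ 0 ∧ polar q1 a.1 z = 0 ∧ polar q1 x0 z = 0 := by
              obtain ⟨v, i, j, hij, hv, hi, hj⟩ := exists_frame_pair hG a.2 hx0 h
              obtain ⟨l, hli, hlj⟩ : ∃ l, l ≠ i ∧ l ≠ j := by
                have : 2 < (Finset.univ : Finset (Fin k)).card := by simp; omega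
                obtain ⟨c, -, hc⟩ := Finset.exists_mem_notMem_of_card_lt_card
                  (lt_of_le_of_lt (Finset.card_le_two (a := i) (b := j)) this)
                exact ⟨c, fun h => hc (by simp [h]), fun h => hc (by simp [h])⟩
              have e4 : polar q1 a.1 (v l) = 0 := by rw [← hi]; exact hv.orth _ _ (Ne.symm hli)
              have e5 : polar q1 x0 (v l) = 0 := by rw [← hj]; exact hv.orth _ _ (Ne.symm hlj)
              refine ⟨v l, ?_, e4, e5⟩
              rw [QuadraticMap.map_add ⇑q1 (a.1 + x0), QuadraticMap.map_add ⇑q1 a.1, h1, polar_add_left, e4, e5, h]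
              simpa using hv.nz l
            refine ⟨_, hz, ?_, ?_⟩
            · rw [polar_add_right, polar_add_right, polar_self', h, h4, add_zero, add_zero]
              exact mul_ne_zero hG.two a.2
            · rw [polar_add_left, polar_add_left, polar_self', h, polar_comm (f := ⇑q1) z, h5, zero_add, add_zero]
              exact mul_ne_zero hG.two hx0
          · refine key 2 hG.two (fun h4 => mul_ne_zero h3 hx0 ?_)
            linear_combination h4 - h1
        · exact key 1 one_ne_zero (by rwa [one_mul, one_mul])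
      exact (hnc m a ⟨b, hb⟩ h1).trans (hnc m ⟨b, hb⟩ ⟨x0, hx0⟩ h2)
    · exact hnc m a ⟨x0, hx0⟩ h
  -- different slots go to different slots
  have hσ : Function.Injective σ0 := by
    intro m n hmn
    by_contra hne
    have hfr : IsFrame q1 fun a => ν m ⟨u a, hu.nz a⟩ := ⟨hu.card, fun a b hab => by
      have hc0 := (hcom m ⟨u a, hu.nz a⟩ m ⟨u b, hu.nz b⟩).1 (by
        rw [← map_mul, ← map_mul, show refl q1 (u a) * refl q1 (u b) = refl q1 (u b) * refl q1 (u a) from
          ext_app fun x => by
            simp only [app_mul, app_refl, polar_sub_left, polar_smul_left, hu.orth a b hab, hu.orth b a hab.symm,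
              smul_eq_mul, mul_zero, sub_zero]
            abel])
      rw [hμ, hμ, ← map_mul, ← map_mul] at hc0
      refine (refl_comm_smul hG.two (hν m _) (hν m _) (hSinj _ hc0)).resolve_right ?_
      rintro ⟨c, hc, e⟩
      have h2 := hSinj m (hinj m ⟨u a, hu.nz a⟩ m ⟨u b, hu.nz b⟩ (by rw [hμ, hμ]) (by rw [e, refl_smul hc]))
      have h3 := congrArg (fun g : O q1 => app g (u a)) h2
      simp only [app_refl_self (hu.nz a), app_refl_of_ortho (hu.orth a b hab)] at h3
      have h4 : (2 : F) • u a = 0 := by rw [two_smul]; nth_rewrite 1 [← h3]; exact neg_add_cancel _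
      exact hu.nz a (by rw [(smul_eq_zero.1 h4).resolve_left hG.two, QuadraticMap.map_zero]), fun a => hν _ _,
      hG.two⟩
    refine hν n ⟨x0, hx0⟩ ?_
    have hall : ∀ a, polar q1 (ν n ⟨x0, hx0⟩) (ν m ⟨u a, hu.nz a⟩) = 0 := by
      intro a
      have hc := (hcom n ⟨x0, hx0⟩ m ⟨u a, hu.nz a⟩).1 (P.S_comm hG ht _ (Ne.symm hne) _ _)
      rw [hμ n, hμ m, ← hmn, ← map_mul, ← map_mul] at hc
      refine (refl_comm_smul hG.two (hν n _) (hν m _) (hSinj _ hc)).resolve_right ?_
      rintro ⟨c, hc, e⟩
      have h1 : μ n ⟨x0, hx0⟩ = μ m ⟨u a, hu.nz a⟩ := by rw [hμ n, hμ m, hmn]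
      have h2 : refl q1 (ν n ⟨x0, hx0⟩) = refl q1 (ν m ⟨u a, hu.nz a⟩) := by rw [e, refl_smul hc]
      exact S_refl_ne P hG ht (Ne.symm hne) hx0 (hu.nz a) (hinj n ⟨x0, hx0⟩ m ⟨u a, hu.nz a⟩ h1 h2)
    have h0 : ν n ⟨x0, hx0⟩ = 0 := by
      refine hG.nd.1 _ ?_
      have e : q1.polarBilin (ν n ⟨x0, hx0⟩) = 0 := by
        refine hfr.ext_lin fun a => ?_
        rw [polarBilin_apply_apply, LinearMap.zero_apply]
        exact hall a
      intro y
      rw [e, LinearMap.zero_apply]
    rw [h0, QuadraticMap.map_zero]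
  exact ⟨σ0, ν, hσ, hν, fun m a z => by rw [hint m a, hμ]⟩

/-- The images of an anisotropic vector under reflections span. -/
theorem span_refl_orbit (hG : Good q1) (hk : 4 ≤ k) {x0 : Fin k → F} (hx0 : q1 x0 ≠ 0) :
    Submodule.span F {v : Fin k → F | v = x0 ∨
      ∃ a : {y : Fin k → F // q1 y ≠ 0}, v = app (refl q1 a.1) x0} = ⊤ := by
  classical
  obtain ⟨u, hu⟩ : ∃ u : Fin k → Fin k → F, IsFrame q1 u := exists_frame hG.nd hG.two
  set S : Set (Fin k → F) := {v | v = x0 ∨ ∃ a : {y : Fin k → F // q1 y ≠ 0}, v = app (refl q1 a.1) x0}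
  have hS : Submodule.span F S = ⊤ := by
    rw [eq_top_iff]
    have hz : ∀ a : {y : Fin k → F // q1 y ≠ 0}, polar q1 x0 a.1 ≠ 0 → a.1 ∈ Submodule.span F S := by
      intro a ha
      have h : app (refl q1 a.1) x0 ∈ Submodule.span F S := Submodule.subset_span (Or.inr ⟨a, rfl⟩)
      rw [app_refl] at h
      have hm0 : x0 ∈ S := Or.inl rfl
      have h' := Submodule.sub_mem _ (Submodule.subset_span hm0) h
      rw [sub_sub_cancel] at h'
      have h'' := Submodule.smul_mem _ ((q1 a.1)⁻¹ * polar q1 x0 a.1)⁻¹ h'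
      rwa [inv_smul_smul₀ (mul_ne_zero (inv_ne_zero a.2) ha)] at h''
    obtain ⟨v, l, -, hvl, hR⟩ := refr_vec hu Finset.univ (y := x0) (fun m hm => absurd (Finset.mem_univ m) hm) hx0
    have hx0S : x0 ∈ Submodule.span F S := Submodule.subset_span (Or.inl rfl)
    rw [← hR.1.span_top, Submodule.span_le]
    rintro _ ⟨m, rfl⟩
    rcases eq_or_ne m l with rfl | hml
    · rwa [hvl]
    have hp : polar q1 x0 (v m) = 0 := by rw [← hvl]; exact hR.1.orth _ _ (Ne.symm hml)
    obtain ⟨e, ⟨he, hne⟩ | hne⟩ : ∃ e : F,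
        (e ≠ 0 ∧ e * e * q1 x0 + q1 (v m) ≠ 0) ∨ ((3 : F) = 0 ∧ q1 x0 + q1 (v m) = 0) := by
      by_cases h1 : q1 x0 + q1 (v m) = 0
      · by_cases h3 : (3 : F) = 0
        · exact ⟨0, Or.inr ⟨h3, h1⟩⟩
        · refine ⟨2, Or.inl ⟨hG.two, fun h4 => mul_ne_zero h3 hx0 ?_⟩⟩
          linear_combination h4 - h1
      · exact ⟨1, Or.inl ⟨one_ne_zero, by rwa [one_mul, one_mul]⟩⟩
    · have := hz ⟨e • x0 + v m, by
        rw [QuadraticMap.map_add ⇑q1, QuadraticMap.map_smul, polar_smul_left, hp, smul_zero, add_zero, smul_eq_mul]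
        exact hne⟩ (by
        rw [polar_add_right, polar_smul_right, hp, add_zero, polar_self', smul_eq_mul]
        exact mul_ne_zero he (mul_ne_zero hG.two hx0))
      have h' := Submodule.sub_mem _ this (Submodule.smul_mem _ e hx0S)
      rwa [add_sub_cancel_left] at h'
    · obtain ⟨h3, h1⟩ := hne
      obtain ⟨l', hl1, hl2⟩ : ∃ l', l' ≠ l ∧ l' ≠ m := by
        have : 2 < (Finset.univ : Finset (Fin k)).card := by simp; omega
        obtain ⟨c, -, hc⟩ := Finset.exists_mem_notMem_of_card_lt_card
          (lt_of_le_of_lt (Finset.card_le_two (a := l) (b := m)) this)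
        exact ⟨c, fun h => hc (by simp [h]), fun h => hc (by simp [h])⟩
      have hp2 : polar q1 x0 (v l') = 0 := by rw [← hvl]; exact hR.1.orth _ _ (Ne.symm hl1)
      have hp3 := hR.1.orth _ _ hl2
      have key : ∀ s : F, s * s = 1 → x0 + v m + s • v l' ∈ Submodule.span F S := fun s hs => hz ⟨_, by
        rw [QuadraticMap.map_add ⇑q1 (x0 + v m), QuadraticMap.map_add ⇑q1 x0, h1, hp, polar_smul_right,
          polar_add_left, hp2, polar_comm (f := ⇑q1) (v m), hp3, QuadraticMap.map_smul, hs]
        simpa using hR.1.nz l'⟩ (by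
        rw [polar_add_right, polar_add_right, polar_smul_right, hp, hp2, smul_zero, add_zero, add_zero, polar_self']
        exact mul_ne_zero hG.two hx0)
      have h' := Submodule.sub_mem _ (Submodule.smul_mem _ (2 : F)⁻¹
        (Submodule.add_mem _ (key 1 (one_mul 1)) (key (-1) (by ring)))) hx0S
      show v m ∈ Submodule.span F S
      rw [one_smul, neg_one_smul, show x0 + v m + v l' + (x0 + v m + -v l') = (2 : F) • (x0 + v m) by
        rw [two_smul]; abel, inv_smul_smul₀ hG.two, add_sub_cancel_left] at h'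
      exact h'
  exact hS

set_option maxHeartbeats 1000000 in
/-- A linear bijection permuting the reflections of the slots is monomial. -/
theorem monomial_of_singles (P : Power q q1 (t + 1)) (hG : Good q1) (ht : 1 ≤ t) (hk : 4 ≤ k)
    (α : (ι → F) ≃ₗ[F] (ι → F))
    (hα : ∀ m y, q1 y ≠ 0 → ∃ m' y', q1 y' ≠ 0 ∧
      ∀ z, α (app (P.S hG ht m (refl q1 y)) z) = app (P.S hG ht m' (refl q1 y')) (α z)) :
    ∃ (σ : Equiv.Perm (Fin (t + 1))) (B : Fin (t + 1) → (Fin k → F) ≃ₗ[F] (Fin k → F)),
      ∀ xs, α (P.tp xs) = P.tp fun i => B i (xs (σ i)) := by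
  classical
  obtain ⟨x0, hx0⟩ := exists_anisotropic hG.nd (le_trans (by norm_num) hG.three)
  obtain ⟨σ0, ν, hσ, hν, hstep⟩ := P.exists_slot_map hG ht hk α hα
  let σ : Equiv.Perm (Fin (t + 1)) := (Equiv.ofBijective σ0 (Finite.injective_iff_bijective.1 hσ)).symm
  have hσs : ∀ m, σ.symm m = σ0 m := fun m => rfl
  have hσ' : ∀ m, σ (σ0 m) = m := fun m => Equiv.ofBijective_symm_apply_apply _ _ _
  let zs : Fin (t + 1) → Fin k → F := fun n => ν (σ n) ⟨x0, hx0⟩
  have hzs : ∀ n, q1 (zs n) ≠ 0 := fun n => hν _ _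
  have hsl : ∀ l x, ∃ v, α (P.tpAt (fun _ => x0) l x) = P.tpAt zs (σ0 l) v := by
    intro l x
    refine P.eigen_pure hG ht hzs _ fun n hn => ?_
    obtain ⟨m, rfl⟩ : ∃ m, σ0 m = n := (Finite.injective_iff_surjective.1 hσ) n
    have hml : m ≠ l := fun h => hn (by rw [h])
    rw [show zs (σ0 m) = ν m ⟨x0, hx0⟩ by simp only [zs]; rw [hσ'], ← hstep]
    rw [tpAt_apply, P.S_tp, Function.update_of_ne hml, app_refl_self hx0]
    rw [show Function.update (Function.update (fun _ : Fin (t + 1) => x0) l x) m (-x0) =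
      Function.update (Function.update (fun _ : Fin (t + 1) => x0) l x) m ((-1 : F) • x0) by rw [neg_one_smul]]
    rw [tp_update_smul, neg_one_smul, map_neg]
    refine congrArg Neg.neg (congrArg α (congrArg P.tp ?_))
    exact Function.update_eq_iff.2 ⟨by rw [Function.update_of_ne hml], fun _ _ => rfl⟩
  set C : Fin (t + 1) → F := fun l => ∏ n ∈ Finset.univ.erase (σ0 l), polar q1 (zs n) (zs n)
  have hzz : ∀ n, zs n ≠ 0 := fun n h => hzs n (by rw [h, QuadraticMap.map_zero])
  have htinj : ∀ n, Function.Injective (P.tpAt zs n) := fun n => (injective_iff_map_eq_zero _).2 fun x hx => by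
    by_contra hne
    refine P.tp_ne_zero (fun m => ?_) hx
    rcases eq_or_ne m n with rfl | hm
    · rwa [Function.update_self]
    · rw [Function.update_of_ne hm]; exact hzz m
  have htinj0 : ∀ n, Function.Injective (P.tpAt (fun _ : Fin (t + 1) => x0) n) := fun n =>
    (injective_iff_map_eq_zero _).2 fun x hx => by
      by_contra hne
      refine P.tp_ne_zero (fun m => ?_) hx
      rcases eq_or_ne m n with rfl | hm
      · rwa [Function.update_self]
      · rw [Function.update_of_ne hm]; exact fun h => hx0 (by rw [h, QuadraticMap.map_zero])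
  choose Bf hBf using hsl
  let Bl : ∀ l : Fin (t + 1), (Fin k → F) →ₗ[F] (Fin k → F) := fun l =>
    { toFun := Bf l
      map_add' := fun x y => htinj (σ0 l) (by rw [← hBf, map_add, map_add, map_add, hBf, hBf])
      map_smul' := fun c x => htinj (σ0 l) (by rw [← hBf, map_smul, map_smul, RingHom.id_apply, map_smul, hBf]) }
  have hBi : ∀ l, Function.Injective (Bl l) := fun l x y h =>
    htinj0 l (α.injective (by rw [hBf, hBf]; exact congrArg _ h))
  let Be := fun l => LinearEquiv.ofInjectiveEndo (Bl l) (hBi l)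
  obtain ⟨c, hc, hbase⟩ : ∃ c : F, c ≠ 0 ∧ ∀ l, Bf l x0 = c • zs (σ0 l) := by
    obtain ⟨v, hv⟩ : ∃ v, α (P.tp fun _ => x0) = P.tpAt zs (σ0 0) v := ⟨Bf 0 x0, by
      rw [← hBf, tpAt_apply, Function.update_eq_self]⟩
    have hdiag : ∀ l, α (P.tp fun _ => x0) = P.tpAt zs (σ0 l) (Bf l x0) := fun l => by
      rw [← hBf, tpAt_apply, Function.update_eq_self]
    have hne0 : ∀ l, Bf l x0 ≠ 0 := fun l h => by
      have := hBi l (a₁ := x0) (a₂ := 0) (by show Bf l x0 = _; rw [map_zero]; exact h)
      exact hx0 (by rw [this, QuadraticMap.map_zero])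
    have key : ∀ l, ∃ d : F, Bf l x0 = d • zs (σ0 l) := by
      intro l
      obtain ⟨l', hl'⟩ : ∃ l', l' ≠ l := by
        rcases Decidable.em (l = 0) with rfl | hi
        · exact ⟨⟨1, by omega⟩, fun h => by simpa using congrArg Fin.val h⟩
        · exact ⟨0, Ne.symm hi⟩
      have hl'' : σ0 l ≠ σ0 l' := fun h => hl' (hσ h).symm
      obtain ⟨d, -, hd⟩ := P.tp_eq (xs := Function.update zs (σ0 l') (Bf l' x0))
        (ys := Function.update zs (σ0 l) (Bf l x0)) (fun n => by
          rcases eq_or_ne n (σ0 l') with rfl | hn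
          · rw [Function.update_self]; exact hne0 l'
          · rw [Function.update_of_ne hn]; exact hzz n) ((hdiag l').symm.trans (hdiag l)) (σ0 l)
      rw [Function.update_self, Function.update_of_ne hl''] at hd
      exact ⟨d, hd⟩
    choose d hd using key
    have hdd : ∀ l, d l = d 0 := fun l => by
      have h := (hdiag l).symm.trans (hdiag 0)
      rw [hd, hd, map_smul, map_smul, tpAt_apply, tpAt_apply, Function.update_eq_self,
        Function.update_eq_self] at h
      exact smul_left_injective F (P.tp_ne_zero hzz) h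
    exact ⟨d 0, fun h => hne0 0 (by rw [hd, h, zero_smul]), fun l => by rw [hd, hdd]⟩
  set S : Set (Fin k → F) := {v | v = x0 ∨ ∃ a : {y : Fin k → F // q1 y ≠ 0}, v = app (refl q1 a.1) x0}
  have hS : Submodule.span F S = ⊤ := span_refl_orbit hG hk hx0
  -- general pure tensors
  let nf : Fin (t + 1) → F := fun n => if n = 0 then 1 else c⁻¹
  let B : Fin (t + 1) → (Fin k → F) ≃ₗ[F] (Fin k → F) := fun n =>
    (Be (σ n)).trans (LinearEquiv.smulOfUnit (Units.mk0 (nf n) (by
      simp only [nf]; split_ifs <;> first | exact one_ne_zero | exact inv_ne_zero hc)))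
  have hBapp : ∀ n x, B n x = nf n • Bf (σ n) x := fun n x => rfl
  refine ⟨σ, B, fun xs => ?_⟩
  have key : α.toLinearMap = (P.tenL fun n => (B n).toLinearMap).comp (P.permL σ.symm) := by
    refine P.ext_span hS fun xs hxs => ?_
    have hind : ∀ (U : Finset (Fin (t + 1))) (ys : Fin (t + 1) → Fin k → F),
        (∀ l, l ∈ U → ys l ∈ S) → (∀ l, l ∉ U → ys l = x0) →
        α (P.tp ys) = c • P.tp fun n => c⁻¹ • Bf (σ n) (ys (σ n)) := by
      intro U
      induction U using Finset.induction_on with
      | empty =>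
        intro ys _ h
        rw [show ys = fun _ => x0 from funext fun l => h l (Finset.notMem_empty l)]
        have := hBf 0 x0
        rw [tpAt_apply, Function.update_eq_self, hbase, map_smul, tpAt_apply, Function.update_eq_self] at this
        rw [this]
        congr 1
        exact congrArg _ (funext fun n => by rw [hbase, inv_smul_smul₀ hc, ← hσs, Equiv.symm_apply_apply])
      | @insert l U hl ih =>
        intro ys h1 h2
        have h0 := ih (Function.update ys l x0) (fun m hm => by
            rw [Function.update_of_ne (fun h : m = l => hl (h ▸ hm))]; exact h1 m (Finset.mem_insert_of_mem hm))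
          (fun m hm => by
            rcases eq_or_ne m l with rfl | hml
            · rw [Function.update_self]
            · rw [Function.update_of_ne hml]; exact h2 m (by simp [hm, hml]))
        rcases h1 l (Finset.mem_insert_self l U) with hv | ⟨a, hv⟩
        · rwa [← hv, Function.update_eq_self] at h0
        have hys : P.tp ys = app (P.S hG ht l (refl q1 a.1)) (P.tp (Function.update ys l x0)) := by
          rw [P.S_tp, Function.update_self, Function.update_idem, ← hv, Function.update_eq_self]
        rw [hys, hstep, h0, map_smul, P.S_tp]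
        congr 2
        have hBl : Bf l (ys l) = app (refl q1 (ν l a)) (Bf l x0) := by
          apply htinj (σ0 l)
          rw [← hBf, hv, show P.tpAt (fun _ : Fin (t + 1) => x0) l (app (refl q1 a.1) x0) =
              app (P.S hG ht l (refl q1 a.1)) (P.tp fun _ => x0) by rw [P.S_tp, tpAt_apply],
            hstep]
          have h00 := hBf l x0
          rw [tpAt_apply, Function.update_eq_self] at h00
          rw [h00, tpAt_apply, P.S_tp, Function.update_self, Function.update_idem, tpAt_apply]
        funext n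
        rcases eq_or_ne n (σ0 l) with rfl | hn
        · rw [Function.update_self, hσ', Function.update_self, map_smul, hBl]
        · rw [Function.update_of_ne hn]
          have : σ n ≠ l := fun h => hn (by rw [← h, ← hσs, Equiv.symm_apply_apply])
          rw [Function.update_of_ne this]
    rw [LinearEquiv.coe_coe, hind Finset.univ xs (fun l _ => hxs l) (fun l hl => absurd (Finset.mem_univ l) hl),
      LinearMap.comp_apply, P.permL_tp, P.tenL_tp, Equiv.symm_symm]
    simp only [LinearEquiv.coe_coe, hBapp]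
    rw [P.tp_smul, P.tp_smul, smul_smul]
    congr 1
    rw [Finset.prod_const, ← Finset.mul_prod_erase Finset.univ nf (Finset.mem_univ 0),
      Finset.prod_congr (g := fun _ => c⁻¹) rfl fun n hn => by simp [nf, Finset.ne_of_mem_erase hn],
      Finset.prod_const, Finset.card_erase_of_mem (Finset.mem_univ 0)]
    simp only [nf, if_pos, Finset.card_univ, Fintype.card_fin, Nat.add_sub_cancel, one_mul, pow_succ']
    rw [mul_inv_cancel_left₀ hc]
  have := LinearMap.congr_fun key (P.tp xs)
  rw [LinearEquiv.coe_coe, LinearMap.comp_apply, P.permL_tp, P.tenL_tp, Equiv.symm_symm] at this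
  exact this

end Power

end CfsgLib.TensorEven
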