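import Cfsg.Agent.Lib.TensorEven.Gam

/-!
The isometries of the first factor induced on a slice by the elements of a group preserving it.
-/

set_option autoImplicit false
set_option linter.unusedSectionVars false

namespace CfsgLib.TensorOddMinus

open Matrix QuadraticMap CfsgLib.Orth
open CfsgLib.TensorEven (IsSim)
open CfsgLib.TensorMax63 (Hyp mid mem_mid ext_polar exists_aniso)

variable {ι : Type} [Fintype ι] [DecidableEq ι] {F : Type*} [Field F] [Fintype F]
variable {q : QuadraticForm F (ι → F)} {a b : ℕ}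

namespace Data

variable {D : Data q a b}

/-- The isometries of the first factor induced on the slice of `w`. -/
noncomputable def sliceGroup (D : Data q a b) (G : Subgroup (O q)) {w : Fin b → F} (hw : D.q2 w = 0) :
    Subgroup (O D.q1) :=
  have h0 : ∀ (β : O D.q1), (app (D.L β)).comp ((0 : (Fin a → F) →ₗ[F] (ι → F)).comp (app β⁻¹)) = 0 :=
    fun β => by simp
  { carrier := {β | ∃ K r, D.IsRad w 0 K r ∧ D.L β * r ∈ G}
    one_mem' := ⟨0, 1, IsRad.one, by rw [map_one, one_mul]; exact G.one_mem⟩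
    mul_mem' := by
      rintro β γ ⟨K, r, hr, hm⟩ ⟨K', r', hr', hm'⟩
      have h1 := hr.conj_L γ⁻¹
      rw [h0] at h1
      have h2 := h1.mul hw hr'
      rw [add_zero] at h2
      refine ⟨_, _, h2, ?_⟩
      have := G.mul_mem hm hm'
      convert this using 1
      rw [map_mul, map_inv]
      group
    inv_mem' := by
      rintro β ⟨K, r, hr, hm⟩
      have h1 := (hr.inv hw).conj_L β
      rw [neg_zero, h0] at h1
      refine ⟨_, _, h1, ?_⟩
      have := G.inv_mem hm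
      convert this using 1
      rw [map_inv]
      group }

variable {w w' : Fin b → F}

/-- An element preserving the slice gives an element of the group of the slice. -/
theorem mem_sliceGroup_of_stab (P : Hyp D.q2 w w') (hb : 4 ≤ b) {G : Subgroup (O q)}
    (hRG : ∀ ρ : O D.q2, D.R ρ ∈ G)
    (hclean : ∀ Θ K g, g ∈ G → D.IsRad w Θ K g → ∃ c ∈ mid D.q2 w w', g = D.R (eich D.q2 w c))
    {g : O q} (hg : g ∈ G) {β : O D.q1} (hβ : ∀ y, app g (D.tp y w) = D.tp (app β y) w) :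
    β ∈ D.sliceGroup G P.q₁ := by
  classical
  have hstab : ∀ y, ∃ y', app g (D.tp y w) = D.tp y' w := fun y => ⟨_, hβ y⟩
  obtain ⟨α, A, l, hl, hαs, hAs, hAu, hαu, hmid⟩ := exists_slice_action P hstab fun c hc => by
      obtain ⟨Θ, K, hrad⟩ := isRad_conj P hstab (D.isRad_R P.q₁ (mem_mid.1 hc).1)
      exact hclean Θ K _ (G.mul_mem (G.mul_mem hg (hRG _)) (G.inv_mem hg)) hrad
  have hαβ : ∀ y, α y = app β y := fun y => D.tp_left_cancel P.ne₁ ((hαu y).symm.trans (hβ y))
  have hl1 : l = 1 := by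
    obtain ⟨z, hz⟩ := exists_anisotropic D.good1.nd (le_trans (by norm_num) D.good1.three)
    have e := hαs z z
    rw [hαβ, polar_app β z z] at e
    exact (mul_eq_right₀ (by rw [polar_self']; exact mul_ne_zero D.two hz)).1 e.symm
  subst hl1
  rw [inv_one] at hAs
  have hAQ : ∀ x, D.q2 (A x) = D.q2 x := fun x => mul_left_cancel₀ D.two (by
    rw [← polar_self', ← polar_self', hAs, one_mul])
  let ρ : O D.q2 := mkO A.toLinearMap A.symm.toLinearMap (LinearMap.ext fun x => by simp)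
    (LinearMap.ext fun x => by simp) hAQ
  have hρ : ∀ x, app ρ x = A x := fun x => by rw [app_mkO]; rfl
  set r := (D.L β)⁻¹ * (D.R ρ)⁻¹ * g
  have hback : ∀ y v, app ((D.L β)⁻¹ * (D.R ρ)⁻¹) (D.tp (α y) (A v)) = D.tp y v := fun y v => by
    have e : D.tp (α y) (A v) = app (D.R ρ * D.L β) (D.tp y v) := by
      rw [app_mul, D.L_tp, D.R_tp, hρ, hαβ]
    rw [e, ← app_mul]
    simp [mul_assoc]
  obtain ⟨Θ, K, hr⟩ : ∃ Θ K, D.IsRad w Θ K r := by
    refine isRad_of_stab P (fun y => ?_) fun y d hd => ?_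
    · rw [app_mul, hαu]
      nth_rewrite 1 [← hAu]
      exact hback y w
    · obtain ⟨x, hx⟩ := hmid y d hd
      obtain ⟨x', rfl⟩ := α.surjective x
      refine ⟨x', ?_⟩
      rw [app_mul, hx, map_add, hback]
      nth_rewrite 1 [← hAu]
      rw [hback]
  have hLr : D.L β * r ∈ G := by
    have e : D.L β * r = (D.R ρ)⁻¹ * g := by simp only [r]; group
    rw [e]; exact G.mul_mem (G.inv_mem (hRG ρ)) hg
  have hLR : ∀ ρ' : O D.q2, Commute (D.L β) (D.R ρ') := fun ρ' =>
    ((Commute.one_right β).prod (Commute.one_left ρ')).map D.ten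
  have hcomp : ∀ c ∈ mid D.q2 w w', D.q2 c ≠ 0 → ∃ s : F, ∀ x, D.C c (Θ x) = s • x := by
    intro c hc hqc
    set σ := D.R (refl D.q2 c)
    have hsu : app (refl D.q2 c) w = w := app_refl_of_ortho (mem_mid.1 hc).1
    have h1 := (hr.inv P.q₁).conj_R (refl D.q2 c)
    rw [hsu] at h1
    have h2 := hr.mul P.q₁ h1
    have h3 := h2.conj_L β
    have hmem : D.L β * (r * (σ * r⁻¹ * σ⁻¹)) * (D.L β)⁻¹ ∈ G := by
      have e : D.L β * (r * (σ * r⁻¹ * σ⁻¹)) * (D.L β)⁻¹ = (D.L β * r) * σ * (D.L β * r)⁻¹ * σ⁻¹ := by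
        have e1 : σ⁻¹ * (D.L β)⁻¹ = (D.L β)⁻¹ * σ⁻¹ := ((hLR _).inv_inv).eq.symm
        calc _ = D.L β * r * σ * r⁻¹ * (σ⁻¹ * (D.L β)⁻¹) := by group
          _ = _ := by rw [e1]; group
      rw [e]
      exact G.mul_mem (G.mul_mem (G.mul_mem hLr (hRG _)) (G.inv_mem hLr)) (G.inv_mem (hRG _))
    obtain ⟨c', hc', e'⟩ := hclean _ _ _ hmem h3
    have e2 : r * (σ * r⁻¹ * σ⁻¹) = D.R (eich D.q2 w c') := by
      have e3 : r * (σ * r⁻¹ * σ⁻¹) = (D.L β)⁻¹ * D.R (eich D.q2 w c') * D.L β := by rw [← e']; group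
      rw [e3, ((hLR _).inv_left).eq, inv_mul_cancel_right]
    rw [e2] at h2
    refine ⟨(2 : F)⁻¹ * polar D.q2 c' c, fun x => ?_⟩
    have e4 := C_root P hc' h2 hc x
    simp only [LinearMap.add_apply, LinearMap.comp_apply, LinearMap.neg_apply, map_add, map_neg] at e4
    rw [C_refl_comp P c Θ x, polar_self', mul_comm (2 : F), ← mul_assoc, inv_mul_cancel₀ hqc, one_mul] at e4
    rw [← smul_smul, ← e4, eq_inv_smul_iff₀ D.two, two_smul]
    module
  obtain ⟨c0, hc0, K0, hr0⟩ := exists_center P hb hr hcomp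
  refine ⟨K0, _, hr0, ?_⟩
  rw [← mul_assoc]
  exact G.mul_mem hLr (G.inv_mem (hRG _))

/-- The coefficient is fixed by the elements of the first factor in `G` commuting with the isometry. -/
theorem sliceGroup_K_fix (P : Hyp D.q2 w w') {G : Subgroup (O q)} (hzero : ∀ K, D.InW G w K → K = 0)
    {β γ : O D.q1} {K : (Fin a → F) →ₗ[F] (Fin a → F)} {r : O q} (hr : D.IsRad w 0 K r)
    (hm : D.L β * r ∈ G) (hγ : D.L γ ∈ G) (hc : γ * β * γ⁻¹ = β) :
    (app γ).comp (K.comp (app γ⁻¹)) = K := by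
  have h1 := hr.conj_L γ
  rw [show (app (D.L γ)).comp ((0 : (Fin a → F) →ₗ[F] (ι → F)).comp (app γ⁻¹)) = 0 by simp] at h1
  have hm2 : D.L β * (D.L γ * r * (D.L γ)⁻¹) ∈ G := by
    have e3 := G.mul_mem (G.mul_mem hγ hm) (G.inv_mem hγ)
    convert e3 using 1
    nth_rewrite 1 [← hc]
    rw [map_mul, map_mul, map_inv]
    group
  have h2 := (hr.inv P.q₁).mul P.q₁ h1
  rw [neg_zero, add_zero] at h2
  have hmem := G.mul_mem (G.inv_mem hm) hm2
  rw [_root_.mul_inv_rev, mul_assoc, inv_mul_cancel_left] at hmem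
  rw [hzero _ ⟨_, hmem, h2⟩] at h2
  have heq : r = D.L γ * r * (D.L γ)⁻¹ := inv_mul_eq_one.1 (h2.ext IsRad.one)
  rw [← heq] at h1
  exact IsRad.K_eq P h1 hr

end Data

end CfsgLib.TensorOddMinus
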