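import Cfsg.Agent.Lib.TensorEven.Slice
import Cfsg.Agent.Lib.TensorEven.Mono
import Cfsg.Agent.Lib.TensorEven.Invol
import Cfsg.Agent.Lib.TensorEven.SliceGrp

/-!
Monomial isometries with a prescribed action on a slice; the action on the slice of an isometry carrying the
slot groups of one group into another is monomial, by induction on the number of slots.
-/

set_option autoImplicit false
set_option linter.unusedSectionVars false

namespace CfsgLib.TensorEven

open Matrix QuadraticMap CfsgLib.Orth CfsgLib.TensorOddMinus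
open CfsgLib.TensorOdd (IsFrame exists_frame)
open CfsgLib.TensorWreathMax (Idx)
open CfsgLib.TensorMax63 (Hyp mid mem_mid ext_polar exists_hyp exists_aniso)

variable {ι : Type} [Fintype ι] [DecidableEq ι] {F : Type*} [Field F] [Fintype F] {k t : ℕ}
variable {q : QuadraticForm F (ι → F)} {q1 : QuadraticForm F (Fin k → F)}

namespace Power

variable {P : Power q q1 (t + 2)} {hG : Good q1}

/-- A monomial isometry acting on the two factors by given similitudes. -/
theorem mon_of_action (i : Fin (t + 2)) (α : (Fin (k ^ (t + 1)) → F) ≃ₗ[F] (Fin (k ^ (t + 1)) → F))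
    (A : (Fin k → F) ≃ₗ[F] (Fin k → F)) {l : F} (hl : l ≠ 0) (hαs : IsSim (formP q1 (t + 1)) α l)
    (hAs : IsSim q1 A l⁻¹) (σ : Equiv.Perm (Fin (t + 1))) (B : Fin (t + 1) → (Fin k → F) ≃ₗ[F] (Fin k → F))
    (hform : ∀ ys, α ((std (q1 := q1) hG.two (t + 1)).tp ys) =
      (std (q1 := q1) hG.two (t + 1)).tp fun m => B m (ys (σ m))) :
    ∃ f0 ∈ P.Mon, ∀ y v, app f0 ((P.D hG (by omega) i).swap.tp y v) =
      (P.D hG (by omega) i).swap.tp (α y) (A v) := by
  classical
  set D := (P.D hG (by omega : 1 ≤ t + 1) i).swap with hD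
  set L := D.kmap α.toLinearMap A.toLinearMap
  set M := D.kmap α.symm.toLinearMap A.symm.toLinearMap
  have hLM : L.comp M = LinearMap.id := by
    rw [Data.kmap_comp, ← D.kmap_id]
    congr 1 <;> exact LinearMap.ext fun x => by simp
  have hML : M.comp L = LinearMap.id := by
    rw [Data.kmap_comp, ← D.kmap_id]
    congr 1 <;> exact LinearMap.ext fun x => by simp
  have hQ : ∀ x, q (L x) = q x := by
    have h : q.polarBilin.compl₁₂ L L = q.polarBilin := D.ext_tp fun y v => D.ext_tp fun y' v' => by
      simp only [LinearMap.compl₁₂_apply, polarBilin_apply_apply, L, D.kmap_tp, LinearEquiv.coe_coe, D.polar_tp]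
      erw [hαs, hAs]
      field_simp
      rfl
    intro x
    have e := LinearMap.congr_fun (LinearMap.congr_fun h x) x
    rw [LinearMap.compl₁₂_apply, polarBilin_apply_apply, polarBilin_apply_apply, polar_self', polar_self'] at e
    exact mul_left_cancel₀ hG.two e
  refine ⟨mkO L M hLM hML hQ, ⟨σ.extendDomain (finSuccAboveEquiv i), i.insertNth A B, fun xs => ?_⟩,
    fun y v => by rw [app_mkO, D.kmap_tp]; rfl⟩
  rw [P.D_tp' hG (by omega) i xs, ← (P.D hG (by omega) i).swap_tp, app_mkO, D.kmap_tp, LinearEquiv.coe_coe,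
    LinearEquiv.coe_coe, hform, (P.D hG (by omega) i).swap_tp]
  erw [P.D_tp]
  congr 1
  funext m
  rcases Fin.eq_self_or_eq_succAbove i m with rfl | ⟨m', rfl⟩
  · rw [Fin.insertNth_apply_same, Fin.insertNth_apply_same,
      Equiv.Perm.extendDomain_apply_not_subtype _ _ (by simp)]
  · rw [Fin.insertNth_apply_succAbove, Fin.insertNth_apply_succAbove, Fin.removeNth]
    congr 2
    exact (Equiv.Perm.extendDomain_apply_image σ (finSuccAboveEquiv i) m').symm

/-- One other slot: the action on the slice is monomial. -/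
theorem hmon_one {P : Power q q1 2} {hG : Good q1} (hk : 4 ≤ k) (i : Fin 2)
    (α : (Fin (k ^ 1) → F) ≃ₗ[F] (Fin (k ^ 1) → F)) (A : (Fin k → F) ≃ₗ[F] (Fin k → F)) {l : F} (hl : l ≠ 0)
    (hαs : IsSim (formP q1 1) α l) (hAs : IsSim q1 A l⁻¹) :
    ∃ f0 ∈ P.Mon, ∀ y v, app f0 ((P.D hG le_rfl i).swap.tp y v) =
      (P.D hG le_rfl i).swap.tp (α y) (A v) := by
  set W := std (q1 := q1) hG.two 1
  set e := W.tpAt (fun _ => 0) 0
  have he : ∀ ys : Fin 1 → Fin k → F, e (ys 0) = W.tp ys := fun ys => by
    rw [tpAt_apply]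
    congr 1
    funext n
    rw [Subsingleton.elim n 0, Function.update_self]
  have hinj : Function.Injective e := (injective_iff_map_eq_zero _).2 fun x hx => by
    by_contra hne
    refine W.tp_ne_zero (fun n => ?_) hx
    rw [Subsingleton.elim n 0, Function.update_self]
    exact hne
  set E := LinearMap.linearEquivOfInjective e hinj (by simp)
  have hE : ∀ x, E x = e x := fun x => rfl
  refine mon_of_action (t := 0) (hG := hG) i α A hl hαs hAs 1 (fun _ => (E.trans α).trans E.symm) fun ys => ?_
  rw [← he ys, ← he fun m => ((E.trans α).trans E.symm) (ys ((1 : Equiv.Perm (Fin 1)) m)), ← hE, ← hE]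
  simp

/-- Two members of the product frame with values in one square class give an element of `Ω` outside the
monomial group. -/
theorem exists_pair_not_mon (W : Power q q1 (t + 2)) (hG : Good q1) (hk : 4 ≤ k) {e : Fin k → Fin k → F}
    (he : IsFrame q1 e) : ∃ a b : Idx k (t + 2), a ≠ b ∧
      refl q (W.tp fun l => e (a l)) * refl q (W.tp fun l => e (b l)) ∈ commutator (O q) ∧
      refl q (W.tp fun l => e (a l)) * refl q (W.tp fun l => e (b l)) ∉ W.Mon := by
  classical
  set v : Idx k (t + 2) → ι → F := fun a => W.tp fun l => e (a l)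
  have hv : IsFrame q v := W.isFrame hG.two he
  obtain ⟨a, b, hab, hcl⟩ : ∃ a b : Idx k (t + 2), a ≠ b ∧ (IsSquare (q (v a)) ↔ IsSquare (q (v b))) := by
    by_contra hcon
    push Not at hcon
    have hinj : Function.Injective fun a : Idx k (t + 2) => decide (IsSquare (q (v a))) := by
      intro a b hab
      by_contra hne
      simp only [decide_eq_decide] at hab
      rcases hcon a b hne with ⟨h1, h2⟩ | ⟨h1, h2⟩
      · exact h2 (hab.1 h1)
      · exact h1 (hab.2 h2)
    have := Fintype.card_le_of_injective _ hinj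
    simp only [Fintype.card_pi, Fintype.card_fin, Finset.prod_const, Finset.card_univ, Fintype.card_bool] at this
    have h16 : k ^ 2 ≤ k ^ (t + 2) := Nat.pow_le_pow_right (by omega) (by omega)
    have : 4 ^ 2 ≤ k ^ 2 := Nat.pow_le_pow_left hk 2
    omega
  refine ⟨a, b, hab, ?_, ?_⟩
  · obtain ⟨s, hs, hval⟩ : ∃ s : F, s ≠ 0 ∧ q (v a) = s * s * q (v b) := by
      have hsq : IsSquare (q (v a) * (q (v b))⁻¹) := by
        by_cases h : IsSquare (q (v a))
        · exact h.mul (IsSquare.inv (hcl.1 h))
        · have hb' : ¬ IsSquare (q (v b))⁻¹ := fun h' => h (hcl.2 (by simpa using IsSquare.inv h'))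
          rw [← quadraticChar_one_iff_isSquare (mul_ne_zero (hv.nz a) (inv_ne_zero (hv.nz b))), map_mul,
            quadraticChar_neg_one_iff_not_isSquare.2 h, quadraticChar_neg_one_iff_not_isSquare.2 hb']
          norm_num
      obtain ⟨s, hs⟩ := hsq
      have hqa : q (v a) = s * s * q (v b) := by rw [← hs, inv_mul_cancel_right₀ (hv.nz b)]
      exact ⟨s, fun h0 => hv.nz a (by rw [hqa, h0]; ring), hqa⟩
    rw [show refl q (W.tp fun l => e (b l)) = refl q (s • v b) from (refl_smul hs _).symm]
    exact CfsgLib.TensorOddMinus.pair_mem hG.two (hv.nz a) (by rw [QuadraticMap.map_smul, smul_eq_mul]; exact hval)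
  · rintro ⟨σ, A, hA⟩
    set g := refl q (v a) * refl q (v b)
    have hsign : ∀ c, app g (v c) = (if c = a ∨ c = b then (-1 : F) else 1) • v c := by
      intro c
      rw [app_mul]
      rcases eq_or_ne c b with rfl | hcb
      · rw [app_refl_self (hv.nz c), map_neg, app_refl_of_ortho (hv.orth c a (Ne.symm hab)), if_pos (Or.inr rfl),
          neg_one_smul]
      · rw [app_refl_of_ortho (hv.orth c b hcb)]
        rcases eq_or_ne c a with rfl | hca
        · rw [app_refl_self (hv.nz c), if_pos (Or.inl rfl), neg_one_smul]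
        · rw [app_refl_of_ortho (hv.orth c a hca), if_neg (by tauto), one_smul]
    have hne : ∀ x : Fin k → F, q1 x ≠ 0 → x ≠ 0 := fun x hx h => hx (by rw [h, QuadraticMap.map_zero])
    have key : ∀ (c : Idx k (t + 2)) l, ∃ d : F, d ≠ 0 ∧ A l (e (c (σ l))) = d • e (c l) := by
      intro c l
      have h := hsign c
      have h1 := hA fun l => e (c l)
      rw [h] at h1
      set ε : F := if c = a ∨ c = b then (-1 : F) else 1
      have hε : ε ≠ 0 := by simp only [ε]; split_ifs <;> simp
      have h2 : ε • v c = W.tp (Function.update (fun l => e (c l)) 0 (ε • e (c 0))) := by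
        rw [W.tp_update_smul, Function.update_eq_self]
      rw [h2] at h1
      obtain ⟨d, hd, hd'⟩ := W.tp_eq (fun m => by
        rcases eq_or_ne m 0 with rfl | hm
        · rw [Function.update_self]; exact smul_ne_zero hε (hne _ (he.nz _))
        · rw [Function.update_of_ne hm]; exact hne _ (he.nz _)) h1 l
      rcases eq_or_ne l 0 with rfl | hl
      · rw [Function.update_self, smul_smul] at hd'; exact ⟨_, mul_ne_zero hd hε, hd'⟩
      · rw [Function.update_of_ne hl] at hd'; exact ⟨d, hd, hd'⟩
    have hσ : ∀ l, σ l = l := by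
      intro l
      by_contra hl
      obtain ⟨x, hx⟩ : ∃ x : Fin k, x ≠ a (σ l) := Fintype.exists_ne_of_one_lt_card (by simp; omega) _
      obtain ⟨d, hd, h1⟩ := key a l
      obtain ⟨d', hd', h2⟩ := key (Function.update a (σ l) x) l
      rw [Function.update_self, Function.update_of_ne (Ne.symm hl)] at h2
      have h3 : A l (d' • e (a (σ l))) = A l (d • e x) := by rw [map_smul, map_smul, h1, h2, smul_comm]
      have h4 := (A l).injective h3
      have h5 := congrArg (fun z => polar q1 z (e x)) h4
      simp only [polar_smul_left, he.orth _ _ (Ne.symm hx), polar_self', smul_eq_mul, mul_zero] at h5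
      exact mul_ne_zero hd (mul_ne_zero hG.two (he.nz x)) h5.symm
    -- the signs form a product
    have hd : ∀ l x, ∃ d : F, A l (e x) = d • e x := fun l x => by
      obtain ⟨d, -, h⟩ := key (fun _ => x) l
      exact ⟨d, h⟩
    choose d hd using hd
    have hsgn : ∀ c : Idx k (t + 2), ∏ l, d l (c l) = (if c = a ∨ c = b then (-1 : F) else 1) := by
      intro c
      have h := hsign c
      rw [hA] at h
      simp only [hσ, hd, W.tp_smul] at h
      exact smul_left_injective F (W.tp_ne_zero fun l => hne _ (he.nz _)) h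
    obtain ⟨l0, hl0⟩ := Function.ne_iff.1 hab
    obtain ⟨l1, hl1⟩ : ∃ l1 : Fin (t + 2), l1 ≠ l0 := Fintype.exists_ne_of_one_lt_card (by simp) _
    obtain ⟨x, hxa, hxb⟩ : ∃ x, x ≠ a l0 ∧ x ≠ b l0 := by
      have : 2 < (Finset.univ : Finset (Fin k)).card := by simp; omega
      obtain ⟨c, -, hc⟩ := Finset.exists_mem_notMem_of_card_lt_card
        (lt_of_le_of_lt (Finset.card_le_two (a := a l0) (b := b l0)) this)
      exact ⟨c, fun h => hc (by simp [h]), fun h => hc (by simp [h])⟩
    obtain ⟨y, hya, hyb⟩ : ∃ y, y ≠ a l1 ∧ y ≠ b l1 := by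
      have : 2 < (Finset.univ : Finset (Fin k)).card := by simp; omega
      obtain ⟨c, -, hc⟩ := Finset.exists_mem_notMem_of_card_lt_card
        (lt_of_le_of_lt (Finset.card_le_two (a := a l1) (b := b l1)) this)
      exact ⟨c, fun h => hc (by simp [h]), fun h => hc (by simp [h])⟩
    set c1 := Function.update a l0 x with hc1
    set c2 := Function.update a l1 y with hc2
    set c3 := Function.update (Function.update a l0 x) l1 y with hc3
    have p1 : ¬ (c1 = a ∨ c1 = b) := by
      rintro (h | h) <;> have := congrFun h l0 <;> rw [hc1, Function.update_self] at this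
      exacts [hxa this, hxb this]
    have p2 : ¬ (c2 = a ∨ c2 = b) := by
      rintro (h | h) <;> have := congrFun h l1 <;> rw [hc2, Function.update_self] at this
      exacts [hya this, hyb this]
    have p3 : ¬ (c3 = a ∨ c3 = b) := by
      rintro (h | h) <;> have := congrFun h l1 <;> rw [hc3, Function.update_self] at this
      exacts [hya this, hyb this]
    have hprod : (∏ l, d l (a l)) * ∏ l, d l (c3 l) = (∏ l, d l (c1 l)) * ∏ l, d l (c2 l) := by
      rw [← Finset.prod_mul_distrib, ← Finset.prod_mul_distrib]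
      refine Finset.prod_congr rfl fun l _ => ?_
      rcases eq_or_ne l l1 with rfl | h1
      · simp [hc1, hc2, hc3, Function.update_of_ne hl1]
      · simp only [hc1, hc2, hc3, Function.update_of_ne h1]
        exact mul_comm _ _
    rw [hsgn, hsgn, hsgn, hsgn, if_pos (Or.inl rfl), if_neg p1, if_neg p2, if_neg p3, one_mul, mul_one] at hprod
    exact hG.two (by linear_combination -hprod)

/-- A skew map commuting with the reflections of the slots in the members of a frame vanishes. -/
theorem skew_eq_zero (W : Power q q1 (t + 1)) (hG : Good q1) (ht : 1 ≤ t) {e : Fin k → Fin k → F}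
    (he : IsFrame q1 e) {K : Module.End F (ι → F)}
    (hsk : ∀ x y, polar q (K x) y + polar q x (K y) = 0)
    (h : ∀ m x, ∀ z, app (W.S hG ht m (refl q1 (e x))) (K z) = K (app (W.S hG ht m (refl q1 (e x))) z)) :
    K = 0 := by
  classical
  have hfr := W.isFrame hG.two he
  refine hfr.ext_lin fun c => (W.nd hG).1 _ fun z => ?_
  have e1 : q.polarBilin (K (W.tp fun l => e (c l))) = 0 := hfr.ext_lin fun c' => by
    rw [polarBilin_apply_apply, LinearMap.zero_apply]
    rcases eq_or_ne c c' with rfl | hne
    · have e2 := hsk (W.tp fun l => e (c l)) (W.tp fun l => e (c l))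
      rw [polar_comm (f := ⇑q) (W.tp fun l => e (c l)), ← two_mul] at e2
      exact (mul_eq_zero.1 e2).resolve_left hG.two
    obtain ⟨m, hm'⟩ := Function.ne_iff.1 hne
    set γ := W.S hG ht m (refl q1 (e (c' m)))
    have hγ : ∀ d : Idx k (t + 1), app γ (W.tp fun l => e (d l)) =
        (if d m = c' m then (-1 : F) else 1) • W.tp fun l => e (d l) := by
      intro d
      rw [W.S_tp]
      split_ifs with hd
      · rw [hd, app_refl_self (he.nz _), show -e (c' m) = (-1 : F) • e (c' m) by rw [neg_one_smul],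
          W.tp_update_smul, ← hd, Function.update_eq_self m fun l => e (d l)]
      · rw [app_refl_of_ortho (he.orth _ _ hd), one_smul, Function.update_eq_self m fun l => e (d l)]
    have e6 : app γ (K (W.tp fun l => e (c l))) = K (W.tp fun l => e (c l)) := by
      rw [h m (c' m), hγ c, if_neg hm', one_smul]
    have e7 := polar_app γ (K (W.tp fun l => e (c l))) (W.tp fun l => e (c' l))
    rw [hγ c', if_pos rfl, e6, neg_one_smul, polar_neg_right] at e7
    exact (mul_eq_zero.1 (show (2 : F) * polar q (K (W.tp fun l => e (c l)))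
      (W.tp fun l => e (c' l)) = 0 by linear_combination -e7)).resolve_left hG.two
  exact LinearMap.congr_fun e1 z

/-- Reflections in members of the product frame commute with the reflections of the slots in the frame. -/
theorem S_refl_comm_pair (W : Power q q1 (t + 1)) (hG : Good q1) (ht : 1 ≤ t) {e : Fin k → Fin k → F}
    (he : IsFrame q1 e) (m : Fin (t + 1)) (x : Fin k) (a b : Idx k (t + 1)) :
    W.S hG ht m (refl q1 (e x)) * (refl q (W.tp fun l => e (a l)) * refl q (W.tp fun l => e (b l))) *
      (W.S hG ht m (refl q1 (e x)))⁻¹ = refl q (W.tp fun l => e (a l)) * refl q (W.tp fun l => e (b l)) := by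
  classical
  have hrefl : ∀ d : Idx k (t + 1), W.S hG ht m (refl q1 (e x)) * refl q (W.tp fun l => e (d l)) *
      (W.S hG ht m (refl q1 (e x)))⁻¹ = refl q (W.tp fun l => e (d l)) := fun d => by
    rw [refl_conj, W.S_tp]
    by_cases hd : d m = x
    · rw [hd, app_refl_self (he.nz _), show -e x = (-1 : F) • e x by rw [neg_one_smul], W.tp_update_smul,
        refl_smul (by simp), ← hd, Function.update_eq_self m fun l => e (d l)]
    · rw [app_refl_of_ortho (he.orth _ _ hd), Function.update_eq_self m fun l => e (d l)]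
  conv_rhs => rw [← hrefl a, ← hrefl b]
  group

end Power

namespace Power

variable {P : Power q q1 (t + 2)} {hG : Good q1}

/-- The coefficient of an element of the group of a slice is fixed by the isometries commuting with it. -/
theorem Full.K_fix {G : Subgroup (O q)} (h : P.Full hG (by omega) G) (hk : 4 ≤ k) (i : Fin (t + 2))
    {u u' : Fin k → F} (Pu : Hyp q1 u u') {β γ : O (formP q1 (t + 1))}
    {K : Module.End F (Fin (k ^ (t + 1)) → F)} {r : O q}
    (hr : (P.D hG (by omega) i).swap.IsRad u 0 K r) (hm : P.R hG (by omega) i β * r ∈ G)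
    (hγ : P.R hG (by omega) i γ ∈ G) (hc : γ * β * γ⁻¹ = β) (z : Fin (k ^ (t + 1)) → F) :
    app γ (K z) = K (app γ z) := by
  set D := (P.D hG (by omega : 1 ≤ t + 1) i).swap
  have hL : ∀ δ : O (formP q1 (t + 1)), D.L δ = P.R hG (by omega) i δ := fun δ => by
    erw [(P.D hG (by omega) i).swap_L]; rfl
  have hfix := Data.sliceGroup_K_fix (D := D) (w := u) (w' := u') Pu
    (fun K hK => Power.Full.inW_eq_zero hk t h i Pu.q₁ Pu.ne₁ hK) hr
    (β := β) (γ := γ) (by rw [hL]; exact hm) (by rw [hL]; exact hγ) hc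
  have := LinearMap.congr_fun hfix (app γ z)
  change app γ (K (app γ⁻¹ (app γ z))) = K (app γ z) at this
  rwa [app_inv_app] at this

/-- The group of a slice contains all isometries of each of the other slots and their even permutations, and
so is monomial, given the case of fewer slots. -/
theorem Full.sliceGroup_le {G : Subgroup (O q)} (h : P.Full hG (by omega) G) (hk : 4 ≤ k) (ht : 1 ≤ t)
    (hIH : ∀ Γ : Subgroup (O (formP q1 (t + 1))), (std (q1 := q1) hG.two (t + 1)).Full hG ht Γ →
      Γ ≤ (std (q1 := q1) hG.two (t + 1)).Mon)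
    (i : Fin (t + 2)) {u u' : Fin k → F} (Pu : Hyp q1 u u')
    (Γ : Subgroup (O (formP q1 (t + 1))))
    (hΓ : Γ = (P.D hG (by omega) i).swap.sliceGroup G (w := u) Pu.q₁) :
    Γ ≤ (std (q1 := q1) hG.two (t + 1)).Mon := by
  classical
  obtain ⟨t', rfl⟩ : ∃ t', t = t' + 1 := ⟨t - 1, by omega⟩
  set W := std (q1 := q1) hG.two (t' + 1 + 1)
  set D := (P.D hG (by omega : 1 ≤ t' + 1 + 1) i).swap
  set Γ0 := G.comap (P.R hG (by omega) i)
  have hfull : W.Full hG ht Γ0 := h.comap P hG ht i (Full.not_R (ht := ht) h hk i)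
  have hmem : ∀ β : O (formP q1 (t' + 1 + 1)), β ∈ Γ ↔ ∃ K r, D.IsRad u 0 K r ∧ P.R hG (by omega) i β * r ∈ G := by
    intro β
    rw [hΓ]
    show (∃ K r, D.IsRad u 0 K r ∧ D.L β * r ∈ G) ↔ _
    erw [(P.D hG (by omega) i).swap_L]
    rfl
  have h0le : Γ0 ≤ Γ := fun β hβ => (hmem β).2 ⟨0, 1, Data.IsRad.one, by rw [mul_one]; exact hβ⟩
  refine hIH Γ ⟨fun m A => h0le (hfull.S_mem m A), fun σ hσ => h0le (hfull.π_mem σ hσ), fun hΩ => ?_⟩
  obtain ⟨e, he⟩ : ∃ e : Fin k → Fin k → F, IsFrame q1 e := exists_frame hG.nd hG.two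
  obtain ⟨a, b, hab, hcom, hnot⟩ := exists_pair_not_mon W hG hk he
  set β0 := refl (formP q1 (t' + 1 + 1)) (W.tp fun l => e (a l)) *
    refl (formP q1 (t' + 1 + 1)) (W.tp fun l => e (b l))
  obtain ⟨K, r, hr, hm⟩ := (hmem β0).1 (hΩ hcom)
  refine hnot (hIH Γ0 hfull ?_)
  show P.R hG (by omega) i β0 ∈ G
  have hsk := Data.InW.skew (D := D) (M := ⊤) (w := u) Pu.q₁ Pu.ne₁ ⟨r, trivial, hr⟩
  have hK : K = 0 := skew_eq_zero W hG ht he hsk fun m x z =>
    h.K_fix hk i Pu hr hm (hfull.S_mem m _) (W.S_refl_comm_pair hG ht he m x a b) z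
  rw [hK] at hr
  have hr1 : r = 1 := hr.ext Data.IsRad.one
  rwa [hr1, mul_one] at hm

end Power

end CfsgLib.TensorEven
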