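import Cfsg.Agent.Lib.TensorEven.RadW
import Cfsg.Agent.Lib.TensorEven.Invol

/-!
The interface between the slice lemma and the involution arguments: a group is rigid if it only conjugates
root elements of the slots into the monomial group by monomial elements.
-/

set_option autoImplicit false
set_option linter.unusedSectionVars false

namespace CfsgLib.TensorEven

open Matrix QuadraticMap CfsgLib.Orth CfsgLib.TensorOddMinus
open CfsgLib.TensorMax63 (Hyp mid mem_mid exists_hyp exists_aniso)

variable {ι : Type} [Fintype ι] [DecidableEq ι] {F : Type*} [Field F] [Fintype F] {k t : ℕ}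
variable {q : QuadraticForm F (ι → F)} {q1 : QuadraticForm F (Fin k → F)}

namespace Power

variable (P : Power q q1 (t + 1)) (hG : Good q1) (ht : 1 ≤ t)

/-- The data of a root element of a slot. -/
structure RootVec (q1 : QuadraticForm F (Fin k → F)) (u c : Fin k → F) : Prop where
  sing : q1 u = 0
  ne : u ≠ 0
  orth : polar q1 u c = 0
  aniso : q1 c ≠ 0

/-- Only monomial elements of `G` conjugate a root element of a slot to a monomial element. -/
def Uni (G : Subgroup (O q)) : Prop :=
  ∀ g ∈ G, ∀ (i : Fin (t + 1)) (u c : Fin k → F), RootVec q1 u c →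
    g * P.S hG ht i (eich q1 u c) * g⁻¹ ∈ P.Mon → g ∈ P.Mon

/-- The elements of `G` commuting with `z` are monomial. -/
def CentMon (G : Subgroup (O q)) (z : O q) : Prop := ∀ g ∈ G, Commute g z → g ∈ P.Mon

variable {P hG ht}

theorem Base.root_mem {G : Subgroup (O q)} (h : P.Base hG ht G) (i : Fin (t + 1)) {u c : Fin k → F}
    (hr : RootVec q1 u c) : P.S hG ht i (eich q1 u c) ∈ G :=
  h.comm_mem P hG ht i (eich_mem hG hr.sing hr.orth)

/-- The centraliser of a root element is monomial. -/
theorem Uni.cent {G : Subgroup (O q)} (hU : P.Uni hG ht G) (i : Fin (t + 1)) {u c : Fin k → F}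
    (hr : RootVec q1 u c) : P.CentMon G (P.S hG ht i (eich q1 u c)) := fun g hg hc => by
  refine hU g hg i u c hr ?_
  rw [hc.eq, mul_inv_cancel_right]
  exact P.S_mem hG ht i _

/-- Fusion into an element commuting with a root element is monomial. -/
theorem Uni.fus {G : Subgroup (O q)} (hU : P.Uni hG ht G) (hB : P.Base hG ht G) {u' g : O q}
    (hC : P.CentMon G u') (hg : g ∈ G) {i : Fin (t + 1)} {u c : Fin k → F} (hr : RootVec q1 u c)
    (hx : Commute (g * u' * g⁻¹) (P.S hG ht i (eich q1 u c))) : g ∈ P.Mon := by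
  have hy : g⁻¹ * P.S hG ht i (eich q1 u c) * g ∈ G := G.mul_mem (G.mul_mem (G.inv_mem hg) (hB.root_mem i hr)) hg
  have hy' : g⁻¹ * P.S hG ht i (eich q1 u c) * g ∈ P.Mon := by
    refine hC _ hy ?_
    have e := hx.eq
    unfold Commute SemiconjBy
    calc g⁻¹ * P.S hG ht i (eich q1 u c) * g * u'
        = g⁻¹ * (P.S hG ht i (eich q1 u c) * (g * u' * g⁻¹)) * g := by group
      _ = g⁻¹ * ((g * u' * g⁻¹) * P.S hG ht i (eich q1 u c)) * g := by rw [e]
      _ = u' * (g⁻¹ * P.S hG ht i (eich q1 u c) * g) := by group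
  have h1 := hU g⁻¹ (G.inv_mem hg) i u c hr (by rw [inv_inv]; exact hy')
  simpa using P.Mon.inv_mem h1

end Power

end CfsgLib.TensorEven
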