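import Cfsg.Agent.Lib.TensorEven.RadB
import Cfsg.Agent.Lib.POmega.Basic

/-!
Two slots, only the isometries of determinant one of each and the pairs of reflections: the part of the group
normalised by one reflection gives a group containing all isometries of both slots.
-/

set_option autoImplicit false
set_option linter.unusedSectionVars false

namespace CfsgLib.TensorEven

open Matrix QuadraticMap CfsgLib.Orth CfsgLib.TensorOddMinus
open CfsgLib.TensorOdd (IsFrame)
open CfsgLib.TensorMax63 (Hyp mid mem_mid)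
open scoped commutatorElement

variable {ι : Type} [Fintype ι] [DecidableEq ι] {F : Type*} [Field F] [Fintype F] {k : ℕ}
variable {q : QuadraticForm F (ι → F)} {q1 : QuadraticForm F (Fin k → F)}

namespace Power

variable (P : Power q q1 2) (hG : Good q1)

/-- Two slots without single reflections. -/
structure Weak (G : Subgroup (O q)) : Prop where
  base : P.Base hG le_rfl G
  pair_mem : ∀ i j v w, i ≠ j → q1 v ≠ 0 → q1 w ≠ 0 →
    P.S hG le_rfl i (refl q1 v) * P.S hG le_rfl j (refl q1 w) ∈ G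

end Power

/-- The largest subgroup normalised by an involution, extended by it. -/
def splitGroup {H : Type*} [Group H] (G : Subgroup H) (σ : H) (hσ : σ * σ = 1) : Subgroup H where
  carrier := {g | (g ∈ G ∧ σ * g * σ ∈ G) ∨ (g * σ ∈ G ∧ σ * g ∈ G)}
  one_mem' := Or.inl ⟨G.one_mem, by rw [mul_one, hσ]; exact G.one_mem⟩
  mul_mem' := by
    intro a b ha hb
    have hσ' : ∀ x : H, σ * (σ * x) = x := fun x => by rw [← mul_assoc, hσ, one_mul]
    rcases ha with ⟨a1, a2⟩ | ⟨a1, a2⟩ <;> rcases hb with ⟨b1, b2⟩ | ⟨b1, b2⟩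
    · exact Or.inl ⟨G.mul_mem a1 b1, by simpa [mul_assoc, hσ'] using G.mul_mem a2 b2⟩
    · exact Or.inr ⟨by simpa [mul_assoc] using G.mul_mem a1 b1,
        by simpa [mul_assoc, hσ'] using G.mul_mem a2 b2⟩
    · exact Or.inr ⟨by simpa [mul_assoc, hσ'] using G.mul_mem a1 b2,
        by simpa [mul_assoc] using G.mul_mem a2 b1⟩
    · exact Or.inl ⟨by simpa [mul_assoc, hσ'] using G.mul_mem a1 b2,
        by simpa [mul_assoc, hσ'] using G.mul_mem a2 b1⟩
  inv_mem' := by
    intro a ha
    have hi : σ⁻¹ = σ := inv_eq_of_mul_eq_one_right hσ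
    rcases ha with ⟨a1, a2⟩ | ⟨a1, a2⟩
    · exact Or.inl ⟨G.inv_mem a1, by simpa [mul_assoc, hi] using G.inv_mem a2⟩
    · exact Or.inr ⟨by simpa [hi] using G.inv_mem a2, by simpa [hi] using G.inv_mem a1⟩

theorem mem_splitGroup {H : Type*} [Group H] {G : Subgroup H} {σ : H} {hσ : σ * σ = 1} {g : H} :
    g ∈ splitGroup G σ hσ ↔ (g ∈ G ∧ σ * g * σ ∈ G) ∨ (g * σ ∈ G ∧ σ * g ∈ G) := Iff.rfl

/-- Commutators in the extension lie in the group. -/
theorem splitGroup_comm {H : Type*} [Group H] {G : Subgroup H} {σ : H} {hσ : σ * σ = 1} {a b : H}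
    (ha : a ∈ splitGroup G σ hσ) (hb : b ∈ splitGroup G σ hσ) : ⁅a, b⁆ ∈ G := by
  have hσ' : ∀ x : H, σ * (σ * x) = x := fun x => by rw [← mul_assoc, hσ, one_mul]
  have hi : σ⁻¹ = σ := inv_eq_of_mul_eq_one_right hσ
  rw [commutatorElement_def]
  rcases mem_splitGroup.1 ha with ⟨a1, a2⟩ | ⟨a1, a2⟩ <;> rcases mem_splitGroup.1 hb with ⟨b1, b2⟩ | ⟨b1, b2⟩
  · exact G.mul_mem (G.mul_mem (G.mul_mem a1 b1) (G.inv_mem a1)) (G.inv_mem b1)
  · have := G.mul_mem (G.mul_mem (G.mul_mem a1 b1) (G.inv_mem a2)) (G.inv_mem b1)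
    simpa [mul_assoc, hi, hσ'] using this
  · have := G.mul_mem (G.mul_mem (G.mul_mem a1 b2) (G.inv_mem a1)) (G.inv_mem b1)
    simpa [mul_assoc, hi, hσ'] using this
  · have := G.mul_mem (G.mul_mem (G.mul_mem a1 b2) (G.inv_mem a2)) (G.inv_mem b1)
    simpa [mul_assoc, hi, hσ'] using this

namespace Power

variable {P : Power q q1 2} {hG : Good q1} {G : Subgroup (O q)}

theorem S_refl_sq (i : Fin 2) {d : Fin k → F} :
    P.S hG le_rfl i (refl q1 d) * P.S hG le_rfl i (refl q1 d) = 1 := by
  rw [← map_mul, refl_mul_self, map_one]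

/-- The group normalised by one reflection. -/
noncomputable def Weak.split (_h : P.Weak hG G) (i : Fin 2) (d : Fin k → F) : Subgroup (O q) :=
  splitGroup G (P.S hG le_rfl i (refl q1 d)) (S_refl_sq i)

theorem Weak.split_full (h : P.Weak hG G) (hk : 4 ≤ k) (i : Fin 2) {d : Fin k → F} (hd : q1 d ≠ 0) :
    P.Full hG le_rfl (h.split i d) := by
  have hd2 : detHom q1 (refl q1 d) = -1 := detHom_refl hd
  refine ⟨fun j A => ?_, fun π hπ => ?_, fun hΩ => h.base.proper ?_⟩
  · rw [Weak.split, mem_splitGroup]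
    rcases det_eq_one_or hG.nd A with hA | hA
    · refine Or.inl ⟨h.base.det_mem j A hA, ?_⟩
      rcases eq_or_ne j i with rfl | hj
      · rw [← map_mul, ← map_mul]
        exact h.base.det_mem _ _ (by rw [map_mul, map_mul, hA, hd2]; norm_num)
      · rw [mul_assoc, P.S_comm hG le_rfl j hj, ← mul_assoc, S_refl_sq, one_mul]
        exact h.base.det_mem j A hA
    · refine Or.inr ?_
      rcases eq_or_ne j i with rfl | hj
      · rw [← map_mul, ← map_mul]
        exact ⟨h.base.det_mem _ _ (by rw [map_mul, hA, hd2]; norm_num),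
          h.base.det_mem _ _ (by rw [map_mul, hA, hd2]; norm_num)⟩
      · have e : P.S hG le_rfl j A * P.S hG le_rfl i (refl q1 d) ∈ G := by
          have e1 := G.mul_mem (h.base.det_mem j (A * refl q1 d) (by rw [map_mul, hA, hd2]; norm_num))
            (h.pair_mem j i d d hj hd hd)
          rwa [map_mul, mul_assoc, ← mul_assoc (P.S hG le_rfl j (refl q1 d)), S_refl_sq, one_mul] at e1
        refine ⟨e, ?_⟩
        rwa [← P.S_comm hG le_rfl j hj]
  · have : π = 1 := by
      revert hπ
      revert π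
      decide
    rw [this, map_one]
    exact one_mem _
  · have hp := CfsgLib.POmega.omega_perfect (P.nd hG) (by
      rw [P.card_eq]
      have := Nat.pow_le_pow_left hk 2
      omega)
    intro g hg
    have hg' : (⟨g, hg⟩ : commutator (O q)) ∈ commutator (commutator (O q)) := by rw [hp]; trivial
    have hle : commutator (commutator (O q)) ≤ G.comap (commutator (O q)).subtype := by
      refine le_of_eq_of_le (commutator_def _) (Subgroup.commutator_le.2 fun a _ b _ => ?_)
      show ((⁅a, b⁆ : commutator (O q)) : O q) ∈ G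
      have hc : ((⁅a, b⁆ : commutator (O q)) : O q) = ⁅(a : O q), (b : O q)⁆ := rfl
      rw [hc]
      exact splitGroup_comm (hΩ a.2) (hΩ b.2)
    exact hle hg'

/-- An element of the group normalised by the reflection. -/
theorem Weak.mem_split (h : P.Weak hG G) (i : Fin 2) {d : Fin k → F} {g : O q} (hg : g ∈ G)
    (hc : P.S hG le_rfl i (refl q1 d) * g = g * P.S hG le_rfl i (refl q1 d)) : g ∈ h.split i d :=
  Or.inl ⟨hg, by rw [hc, mul_assoc, S_refl_sq, mul_one]; exact hg⟩

end Power

end CfsgLib.TensorEven
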