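import Cfsg.Agent.Lib.TensorEven.Chi
import Cfsg.Agent.Lib.TensorEven.Split
import Cfsg.Agent.Lib.TensorEven.Setup

/-!
Which isometries of the slots and which permutations of a tensor power of an even dimensional space lie in
`Ω`: an overgroup of the monomial elements of `Ω` satisfies one of the two hypotheses.
-/

set_option autoImplicit false
set_option linter.unusedSectionVars false

namespace CfsgLib.TensorEven

open Matrix QuadraticMap CfsgLib.Orth CfsgLib.TensorOddMinus
open CfsgLib.TensorOdd (IsFrame blockSign blockSign_app refr_vec InBlock)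
open CfsgLib.TensorWreathMax (Idx split)

variable {ι : Type} [Fintype ι] [DecidableEq ι] {F : Type*} [Field F] [Fintype F] {k t : ℕ}
variable {q : QuadraticForm F (ι → F)} {q1 : QuadraticForm F (Fin k → F)}

/-- The products over all indices of the values at one slot. -/
theorem prod_slot (f : Fin k → F) (n : ℕ) (m : Fin (n + 1)) :
    ∏ b : Idx k (n + 1), f (b m) = (∏ x, f x) ^ k ^ n := by
  rw [← Equiv.prod_comp (split m).symm (fun b : Idx k (n + 1) => f (b m)), Fintype.prod_prod_type]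
  simp only [split, Equiv.symm_symm, Fin.insertNthEquiv_apply, Fin.insertNth_apply_same, Finset.prod_const,
    Finset.card_univ, Fintype.card_fun, Fintype.card_fin, Finset.prod_pow]

/-- The class of the discriminant does not depend on the frame. -/
theorem sqSign_disc (h2 : (2 : F) ≠ 0) {u v : Fin k → Fin k → F} (hu : IsFrame q1 u) (hv : IsFrame q1 v) :
    Cfsg.Agent.Spinor57.sqSign (∏ x, q1 (u x)) = Cfsg.Agent.Spinor57.sqSign (∏ x, q1 (v x)) := by
  classical
  obtain ⟨d, hd⟩ := CfsgLib.OrthOmega.exists_not_square h2 (F := F)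
  have key : ∀ w : Fin k → Fin k → F, IsFrame q1 w →
      (chiPair q1 d (CfsgLib.TensorOdd.negId q1)).2 = Cfsg.Agent.Spinor57.sqSign (∏ x, q1 (w x)) := fun w hw => by
    rw [← CfsgLib.TensorOdd.blockSign_univ hw, blockSign, CfsgLib.TensorOdd.reflList,
      (Cfsg.Agent.Spinor57.chiPair_prod_refl (Q := q1) h2 hd ((Finset.univ : Finset (Fin k)).toList.map w)
        (fun z hz => by obtain ⟨a, -, rfl⟩ := List.mem_map.1 hz; exact hw.nz a)).2]
    dsimp only
    congr 1
    rw [List.map_map, Finset.prod_eq_multiset_prod, ← Finset.coe_toList, Multiset.map_coe, Multiset.prod_coe]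
    rfl
  rw [← key u hu, key v hv]

namespace Power

variable (P : Power q q1 (t + 1)) (hG : Good q1) (ht : 1 ≤ t)

include hG in
theorem q_tp (xs : Fin (t + 1) → Fin k → F) : q (P.tp xs) = 2 ^ t * ∏ l, q1 (xs l) := by
  have h := P.polar_tp xs xs
  rw [polar_self', Finset.prod_congr rfl fun l _ => polar_self' (Q := q1) (xs l), Finset.prod_mul_distrib,
    Finset.prod_const, Finset.card_univ, Fintype.card_fin, pow_succ'] at h
  exact mul_left_cancel₀ hG.two (by linear_combination h)

/-- The images of a reflection of a slot under the two characters. -/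
theorem chiPair_sg [DecidableEq F] (hke : Even k) {d : F} (hd : ¬ IsSquare d) {u0 : Fin k → Fin k → F}
    (hu0 : IsFrame q1 u0) (i : Fin (t + 1)) {y : Fin k → F} (hy : q1 y ≠ 0) :
    chiPair q d (P.S hG ht i (refl q1 y)) =
      (Cfsg.Agent.Spinor57.sqSign (∏ x, q1 (u0 x)) ^ (t * k ^ (t - 1)),
        Cfsg.Agent.Spinor57.sqSign (∏ x, q1 (u0 x)) ^ (t * k ^ (t - 1))) := by
  classical
  obtain ⟨u, i0, -, hi, hR⟩ := refr_vec hu0 Finset.univ (y := y)
    (fun j hj => absurd (Finset.mem_univ j) hj) hy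
  have hu := hR.1
  have hF := P.isFrame hG.two hu
  set v : Idx k (t + 1) → ι → F := fun a => P.tp fun l => u (a l) with hv
  let S : Finset (Idx k (t + 1)) := Finset.univ.image fun b : Idx k t => i.insertNth i0 b
  have hinj : Function.Injective fun b : Idx k t => (i.insertNth i0 b : Idx k (t + 1)) := fun b c h => by
    funext m
    simpa using congrFun h (i.succAbove m)
  have hS : ∀ a, a ∈ S ↔ a i = i0 := fun a => by
    constructor
    · intro ha
      obtain ⟨b, -, rfl⟩ := Finset.mem_image.1 ha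
      simp
    · intro ha
      refine Finset.mem_image.2 ⟨i.removeNth a, Finset.mem_univ _, ?_⟩
      rw [← ha, Fin.insertNth_self_removeNth]
  have e : P.S hG ht i (refl q1 y) = blockSign q v S := hF.ext_O fun a => by
    rw [P.S_tp, blockSign_app hF, ← hi]
    by_cases h : a i = i0
    · rw [if_pos ((hS a).2 h), h, app_refl_self (hu.nz i0), ← neg_one_smul F (u i0),
        P.tp_update_smul, neg_one_smul]
      congr 2
      conv_rhs => rw [← Function.update_eq_self i (fun l => u (a l))]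
      rw [h]
    · rw [if_neg fun hm => h ((hS a).1 hm), app_refl_of_ortho (hu.orth _ _ h)]
      exact congrArg P.tp (Function.update_eq_self i (fun l => u (a l)))
  obtain ⟨n, rfl⟩ : ∃ n, t = n + 1 := ⟨t - 1, by omega⟩
  have hev : Even (k ^ (n + 1)) := hke.pow_of_ne_zero (by omega)
  obtain ⟨p, hp⟩ := hev
  have hprod : ∏ a ∈ S, q (v a) =
      (2 ^ (n + 1) * q1 y) ^ p * (2 ^ (n + 1) * q1 y) ^ p * (∏ x, q1 (u x)) ^ ((n + 1) * k ^ n) := by
    rw [Finset.prod_image hinj.injOn]
    have e2 : ∀ b : Idx k (n + 1), q (v (i.insertNth i0 b)) = 2 ^ (n + 1) * q1 y * ∏ m, q1 (u (b m)) := fun b => by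
      rw [hv, P.q_tp hG, Fin.prod_univ_succAbove _ i]
      simp [hi, mul_assoc]
    simp only [e2, Finset.prod_mul_distrib, Finset.prod_const, Finset.card_univ, Fintype.card_fun,
      Fintype.card_fin]
    rw [Finset.prod_comm, hp, Finset.prod_congr rfl fun m _ => prod_slot (fun x => q1 (u x)) n m,
      Finset.prod_const, Finset.card_univ, Fintype.card_fin]
    ring
  have h := (Cfsg.Agent.Spinor57.chiPair_prod_refl (Q := q) hG.two hd (S.toList.map v) (fun z hz => by
    obtain ⟨a, -, rfl⟩ := List.mem_map.1 hz; exact hF.nz a)).2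
  have h1 : ((S.toList.map v).map fun z => q z).prod = ∏ a ∈ S, q (v a) := by
    rw [List.map_map, Finset.prod_eq_multiset_prod, ← Finset.coe_toList, Multiset.map_coe, Multiset.prod_coe]
    rfl
  have hD0 : ∀ {w : Fin k → Fin k → F}, IsFrame q1 w → ∏ x, q1 (w x) ≠ 0 := fun hw =>
    Finset.prod_ne_zero_iff.2 fun x _ => hw.nz x
  have hsame : Cfsg.Agent.Spinor57.sqSign (∏ x, q1 (u x)) = Cfsg.Agent.Spinor57.sqSign (∏ x, q1 (u0 x)) :=
    sqSign_disc hG.two hu hu0
  have hpow : ∀ (x : F) (m : ℕ), x ≠ 0 →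
      Cfsg.Agent.Spinor57.sqSign (x ^ m) = Cfsg.Agent.Spinor57.sqSign x ^ m := fun x m hx => by
    induction m with
    | zero => rw [pow_zero, pow_zero, Cfsg.Agent.Spinor57.sqSign_eq_one_iff]; exact IsSquare.one
    | succ m ihm => rw [pow_succ, pow_succ, Cfsg.Agent.Spinor57.sqSign_mul (pow_ne_zero m hx) hx, ihm]
  have hc0 : (2 : F) ^ (n + 1) * q1 y ≠ 0 := mul_ne_zero (pow_ne_zero _ hG.two) hy
  have hs : Cfsg.Agent.Spinor57.sqSign (∏ a ∈ S, q (v a)) =
      Cfsg.Agent.Spinor57.sqSign (∏ x, q1 (u0 x)) ^ ((n + 1) * k ^ n) := by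
    rw [hprod, Cfsg.Agent.Spinor57.sqSign_mul (mul_ne_zero (pow_ne_zero p hc0) (pow_ne_zero p hc0))
      (pow_ne_zero _ (hD0 hu)), Cfsg.Agent.Spinor57.sqSign_mul (pow_ne_zero p hc0) (pow_ne_zero p hc0),
      Int.units_mul_self, one_mul, hpow _ _ (hD0 hu), hsame]
  rw [e, blockSign, CfsgLib.TensorOdd.reflList, h, h1, hs, List.length_map, Finset.length_toList,
    Finset.card_image_of_injective _ hinj, Nat.add_sub_cancel]
  congr 1
  rw [Finset.card_univ, Fintype.card_fun, Fintype.card_fin, Fintype.card_fin, hp, ← two_mul, pow_mul]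
  simp

/-- Products of two reflections of slots lie in `Ω`. -/
theorem sg_pair_mem (hke : Even k) (i j : Fin (t + 1)) {y z : Fin k → F} (hy : q1 y ≠ 0) (hz : q1 z ≠ 0) :
    P.S hG ht i (refl q1 y) * P.S hG ht j (refl q1 z) ∈ commutator (O q) := by
  classical
  obtain ⟨d, hd⟩ := CfsgLib.OrthOmega.exists_not_square hG.two (F := F)
  obtain ⟨u0, hu0⟩ : ∃ u : Fin k → Fin k → F, IsFrame q1 u := CfsgLib.TensorOdd.exists_frame hG.nd hG.two
  rw [commutator_eq (P.nd hG) hG.two hd, MonoidHom.mem_ker, map_mul, P.chiPair_sg hG ht hke hd hu0 i hy,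
    P.chiPair_sg hG ht hke hd hu0 j hz, Prod.mk_mul_mk, Int.units_mul_self]
  rfl

/-- Elements of determinant one of a slot lie in `Ω`. -/
theorem S_det_mem (hke : Even k) (i : Fin (t + 1)) {A : O q1} (hA : detHom q1 A = 1) :
    P.S hG ht i A ∈ commutator (O q) := by
  classical
  obtain ⟨d, hd⟩ := CfsgLib.OrthOmega.exists_not_square hG.two (F := F)
  obtain ⟨u0, hu0⟩ : ∃ u : Fin k → Fin k → F, IsFrame q1 u := CfsgLib.TensorOdd.exists_frame hG.nd hG.two
  set e := Cfsg.Agent.Spinor57.sqSign (∏ x, q1 (u0 x)) ^ (t * k ^ (t - 1))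
  -- compose with the sign of the determinant
  have hor : ∀ B : O q1, chiPair q d (P.S hG ht i B) = 1 ∧ detHom q1 B = 1 ∨
      chiPair q d (P.S hG ht i B) = (e, e) ∧ detHom q1 B = -1 := by
    intro B
    have hgen := CfsgLib.Orth.odd_gen hG.nd hG.two (Q := q1)
    have hmem : B ∈ reflClosure q1 := by rw [hgen]; trivial
    induction hmem using Subgroup.closure_induction with
    | mem x hx =>
      obtain ⟨v, rfl⟩ := hx
      by_cases hv : q1 v = 0
      · exact Or.inl ⟨by rw [refl_eq_one hv, map_one, map_one], by rw [refl_eq_one hv, map_one]⟩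
      · exact Or.inr ⟨P.chiPair_sg hG ht hke hd hu0 i hv, detHom_refl hv⟩
    | one => exact Or.inl ⟨by rw [map_one, map_one], map_one _⟩
    | mul x y _ _ hx hy =>
      rcases hx with ⟨a1, a2⟩ | ⟨a1, a2⟩ <;> rcases hy with ⟨b1, b2⟩ | ⟨b1, b2⟩
      · exact Or.inl ⟨by rw [map_mul, map_mul, a1, b1, one_mul], by rw [map_mul, a2, b2, one_mul]⟩
      · exact Or.inr ⟨by rw [map_mul, map_mul, a1, b1, one_mul], by rw [map_mul, a2, b2, one_mul]⟩
      · exact Or.inr ⟨by rw [map_mul, map_mul, a1, b1, mul_one], by rw [map_mul, a2, b2, mul_one]⟩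
      · refine Or.inl ⟨?_, by rw [map_mul, a2, b2]; norm_num⟩
        rw [map_mul, map_mul, a1, b1, Prod.mk_mul_mk, Int.units_mul_self]
        rfl
    | inv x _ hx =>
      rcases hx with ⟨a1, a2⟩ | ⟨a1, a2⟩
      · exact Or.inl ⟨by rw [map_inv, map_inv, a1, inv_one], by rw [map_inv, a2, inv_one]⟩
      · refine Or.inr ⟨?_, by rw [map_inv, a2]; norm_num⟩
        rw [map_inv, map_inv, a1, Prod.inv_mk, Int.units_inv_eq_self]
  rw [commutator_eq (P.nd hG) hG.two hd, MonoidHom.mem_ker]
  rcases hor A with ⟨h, -⟩ | ⟨-, h⟩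
  · exact h
  · exfalso
    rw [hA] at h
    have e2 := congrArg (fun u : Fˣ => (u : F)) h
    simp only [Units.val_neg, Units.val_one] at e2
    exact hG.two (by linear_combination e2)

/-- With three slots or square discriminant every isometry of a slot lies in `Ω`. -/
theorem S_mem_omega (hke : Even k) {u0 : Fin k → Fin k → F} (hu0 : IsFrame q1 u0)
    (h : 2 ≤ t ∨ IsSquare (∏ x, q1 (u0 x))) (i : Fin (t + 1)) (A : O q1) : P.S hG ht i A ∈ commutator (O q) := by
  classical
  obtain ⟨d, hd⟩ := CfsgLib.OrthOmega.exists_not_square hG.two (F := F)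
  have he : Cfsg.Agent.Spinor57.sqSign (∏ x, q1 (u0 x)) ^ (t * k ^ (t - 1)) = 1 := by
    rcases h with h | h
    · obtain ⟨p, hp⟩ : Even (t * k ^ (t - 1)) := (hke.pow_of_ne_zero (by omega)).mul_left t
      rw [hp, pow_add, Int.units_mul_self]
    · rw [(Cfsg.Agent.Spinor57.sqSign_eq_one_iff _).2 h, one_pow]
  have hmem : A ∈ reflClosure q1 := by rw [CfsgLib.Orth.odd_gen hG.nd hG.two]; trivial
  have hle : reflClosure q1 ≤ (commutator (O q)).comap (P.S hG ht i) := by
    refine (Subgroup.closure_le _).2 ?_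
    rintro _ ⟨v, rfl⟩
    show P.S hG ht i (refl q1 v) ∈ commutator (O q)
    by_cases hv : q1 v = 0
    · rw [refl_eq_one hv, map_one]; exact one_mem _
    rw [commutator_eq (P.nd hG) hG.two hd, MonoidHom.mem_ker, P.chiPair_sg hG ht hke hd hu0 i hv, he]
    rfl
  exact hle hmem

/-- The even permutations lie in `Ω`. -/
theorem π_mem_omega {s : ℕ} (W : Power q q1 s) (hG : Good q1) (hcard : Fintype.card ι ≠ 4)
    {σ : Equiv.Perm (Fin s)} (hσ : Equiv.Perm.sign σ = 1) : W.π hG.two σ ∈ commutator (O q) := by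
  have hmem : σ ∈ alternatingGroup (Fin s) := Equiv.Perm.mem_alternatingGroup.2 hσ
  rw [← Equiv.Perm.closure_three_cycles_eq_alternating] at hmem
  have hle : Subgroup.closure {τ : Equiv.Perm (Fin s) | τ.IsThreeCycle} ≤
      (commutator (O q)).comap (W.π hG.two) := by
    refine (Subgroup.closure_le _).2 fun τ hτ => ?_
    show W.π hG.two τ ∈ commutator (O q)
    have e : τ = (τ ^ 2) ^ 2 := by
      have h3 : τ ^ 3 = 1 := by rw [← hτ.orderOf]; exact pow_orderOf_eq_one τ
      rw [← pow_mul, show 2 * 2 = 3 + 1 from rfl, pow_succ, h3, one_mul]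
    rw [e, map_pow]
    exact CfsgLib.OrthFix.sq_mem_commutator (W.nd hG) (Or.inl hcard) _
  exact hle hmem

end Power

end CfsgLib.TensorEven
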