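import Cfsg.Agent.Lib.TensorEven.FullMain
import Cfsg.Agent.Lib.TensorEven.SlotOmega
import Cfsg.Agent.Lib.TensorEven.SliceMon
import Cfsg.Agent.Lib.TensorPowOdd.Maximal

/-!
The stabiliser in `Ω` of a decomposition of an orthogonal space as a tensor power of an orthogonal space of
even dimension is maximal, given the case of two slots without reflections.
-/

set_option autoImplicit false
set_option linter.unusedSectionVars false

namespace CfsgLib.TensorEven

open Matrix QuadraticMap CfsgLib.Orth CfsgLib.TensorOddMinus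
open CfsgLib.TensorOdd (IsFrame)
open CfsgLib.Maximal.TensorTools (coord coord_apply conj_reindex_mulVec quadOf)

variable {F : Type*} [Field F] [Fintype F] {k : ℕ} {q1 : QuadraticForm F (Fin k → F)}

/-- The statement of the case of two slots without reflections. -/
def WeakRigid (hG : Good q1) : Prop :=
  ∀ {ι : Type} [Fintype ι] [DecidableEq ι] {q : QuadraticForm F (ι → F)} (P : Power q q1 2)
    (G : Subgroup (O q)), P.Weak hG G → G ≤ P.Mon

namespace Power

variable {ι : Type} [Fintype ι] [DecidableEq ι] {q : QuadraticForm F (ι → F)} {t : ℕ}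

/-- An overgroup of the monomial elements of `Ω` not containing `Ω` is monomial. -/
theorem rigid (hG : Good q1) (hk : 4 ≤ k) (hke : Even k) (hweak : WeakRigid hG) (P : Power q q1 (t + 2))
    {H : Subgroup (O q)} (hH : P.Mon ⊓ commutator (O q) ≤ H) (hne : ¬ commutator (O q) ≤ H) : H ≤ P.Mon := by
  classical
  obtain ⟨u0, hu0⟩ : ∃ u : Fin k → Fin k → F, IsFrame q1 u := CfsgLib.TensorOdd.exists_frame hG.nd hG.two
  have hcard : Fintype.card ι ≠ 4 := by
    rw [P.card_eq]
    have : k ^ 2 ≤ k ^ (t + 2) := Nat.pow_le_pow_right (by omega) (by omega)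
    have : 4 ^ 2 ≤ k ^ 2 := Nat.pow_le_pow_left hk 2
    omega
  by_cases hbig : 2 ≤ t + 1 ∨ IsSquare (∏ x, q1 (u0 x))
  · refine Full.mon hG hk hke t P ⟨fun i A => hH ⟨P.S_mem hG (by omega) i A, ?_⟩, fun σ hσ => hH ⟨P.π_mem hG.two σ, ?_⟩, hne⟩
    · exact P.S_mem_omega hG (by omega) hke hu0 hbig i A
    · exact P.π_mem_omega hG hcard hσ
  · obtain rfl : t = 0 := by
      by_contra h0
      exact hbig (Or.inl (by omega))
    refine hweak P H ⟨⟨fun i A hA => hH ⟨P.S_mem hG le_rfl i A, P.S_det_mem hG le_rfl hke i hA⟩, hne⟩,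
      fun i j v w _ hv hw => hH ⟨P.Mon.mul_mem (P.S_mem hG le_rfl i _) (P.S_mem hG le_rfl j _), ?_⟩⟩
    exact P.sg_pair_mem hG le_rfl hke i j hv hw

/-- The monomial elements form a maximal subgroup of `Ω`. -/
theorem maximal (hG : Good q1) (hk : 4 ≤ k) (hke : Even k) (hweak : WeakRigid hG) (P : Power q q1 (t + 2)) :
    Cfsg.Geo.IsMaximalIn (commutator (O q)) (P.Mon ⊓ commutator (O q)) := by
  obtain ⟨u0, hu0⟩ : ∃ u : Fin k → Fin k → F, IsFrame q1 u := CfsgLib.TensorOdd.exists_frame hG.nd hG.two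
  obtain ⟨a, b, -, hg, hgM⟩ := P.exists_pair_not_mon hG hk hu0
  refine ⟨lt_of_le_of_ne inf_le_right fun h => hgM ((Subgroup.mem_inf.1 (h.symm ▸ hg)).1), fun M h1 h2 => ?_⟩
  by_cases hM : commutator (O q) ≤ M
  · exact Or.inr (le_antisymm h2 hM)
  · exact Or.inl (le_antisymm (le_inf (rigid hG hk hke hweak P h1 hM) h2) h1)

end Power

/-- Without a totally singular subspace of half the dimension there are no two orthogonal singular lines in
dimension four. -/
theorem four_of_not_plus {f : (Fin k → F) → (Fin k → F) → F} (hp : ∀ x y, polar q1 x y = f x y)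
    (hm : ¬ Cfsg.Geo.IsPlusTypeOn (fun v : Fin k → F => f v v) ⊤) (hk : k = 4) (x y : Fin k → F) (hx : q1 x = 0)
    (hy : q1 y = 0) (hxy : polar q1 x y = 0) (hx0 : x ≠ 0) : ∃ s : F, y = s • x := by
  by_contra hno
  push Not at hno
  have hli : LinearIndependent F ![x, y] := LinearIndependent.pair_iff.2 fun s t hst => by
    by_cases ht : t = 0
    · rw [ht, zero_smul, add_zero] at hst
      exact ⟨(smul_eq_zero.1 hst).resolve_right hx0, ht⟩
    · refine absurd ?_ (hno (-(t⁻¹ * s)))
      have h0 : y = -(t⁻¹ • (s • x)) := by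
        rw [eq_neg_of_add_eq_zero_left hst, smul_neg, neg_neg, inv_smul_smul₀ ht]
      rw [h0, neg_smul, smul_smul]
  refine hm ⟨Submodule.span F (Set.range ![x, y]), le_top, fun z hz => ?_, ?_⟩
  · obtain ⟨r, rfl⟩ := (Submodule.mem_span_range_iff_exists_fun F).1 hz
    show f _ _ = 0
    have e : ∀ v, f v v = 2 * q1 v := fun v => by rw [← polar_self' (Q := q1), hp]
    rw [e, Fin.sum_univ_two]
    simp [QuadraticMap.map_add ⇑q1, QuadraticMap.map_smul, polar_smul_left, polar_smul_right, hx, hy, hxy]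
  · rw [finrank_span_eq_card hli, Fintype.card_fin, finrank_top, Module.finrank_fin_fun, hk]

variable {ι : Type} [Fintype ι] [DecidableEq ι]

/-- The stabiliser of a tensor power decomposition is maximal in `Ω`, even dimensions. -/
theorem isMaximalIn_wreath {k t : ℕ} {Q : (ι → F) → F} (hQ : Cfsg.Geo.IsNondegenerateQuadraticForm Q)
    (h2 : (2 : F) ≠ 0) (hk : 4 ≤ k) (hke : Even k)
    (hweak : ∀ {q1 : QuadraticForm F (Fin k → F)} (hG : Good q1), WeakRigid hG)
    (e : ι ≃ (Fin (t + 2) → Fin k)) (P : GL ι F) {f₁ : (Fin k → F) → (Fin k → F) → F}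
    (hf₁ : Cfsg.Geo.IsSymmetricForm f₁)
    (hminus : k = 4 → ¬ Cfsg.Geo.IsPlusTypeOn (fun v : Fin k → F => f₁ v v) ⊤)
    (hT : Cfsg.Geo.IsTensorPowerFormStructure id (QuadraticMap.polar Q) f₁ e P) :
    Cfsg.Geo.IsMaximalIn (Cfsg.Geo.omegaGL Q)
      (Cfsg.Geo.tensorWreathSubgroup k (t + 2) e P ⊓ Cfsg.Geo.omegaGL Q) := by
  classical
  obtain ⟨c, hc, hform⟩ := hT
  rw [← CfsgLib.TensorPowOdd.omegaGL_scale (inv_ne_zero hc) Q]
  have hQ' := CfsgLib.TensorPowOdd.scale_nondegenerate (inv_ne_zero hc) hQ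
  obtain ⟨q1, hq1, hp1⟩ := CfsgLib.TensorOdd.exists_quad h2 (one_ne_zero (α := F)) hf₁
  have hp1' : ∀ x y, polar q1 x y = f₁ x y := fun x y => by rw [hp1, one_mul]
  have hG : Good q1 := ⟨hq1, h2, by rw [Fintype.card_fin]; omega,
    fun h => absurd (show k = 3 by rwa [Fintype.card_fin] at h) (by omega),
    fun h x y hx hy hxy hx0 => by
      have hk4 : k = 4 := by rwa [Fintype.card_fin] at h
      exact four_of_not_plus hp1' (hminus hk4) hk4 x y hx hy hxy hx0⟩
  set W : Power (quadOf hQ') q1 (t + 2) :=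
    { E := coord e P
      polar_E := fun xs ys => by
        show polar (fun x => c⁻¹ * Q x) _ _ = _
        rw [show polar (fun x => c⁻¹ * Q x) (coord e P (Maximal.TensorPower.tp xs))
            (coord e P (Maximal.TensorPower.tp ys)) =
          c⁻¹ * polar Q (coord e P (Maximal.TensorPower.tp xs)) (coord e P (Maximal.TensorPower.tp ys)) by
            simp [polar, mul_sub], coord_apply, coord_apply, hform]
        simp only [id_eq, CfsgLib.Maximal.TensorPower.bilinear_prod hf₁.bilinear]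
        rw [← mul_assoc, inv_mul_cancel₀ hc, one_mul]
        simp [hp1'] } with hW
  have hS : (Cfsg.Geo.tensorWreathSubgroup k (t + 2) e P).comap (O (quadOf hQ')).subtype = W.Mon := by
    ext g
    constructor
    · intro hg
      obtain ⟨-, ⟨K, hK, rfl⟩, hgK⟩ := Subgroup.mem_comap.1 hg
      obtain ⟨σ, as, hmon⟩ := CfsgLib.Maximal.TensorPower.isMonomial_of_mem hK
      let φ : Fin (t + 2) → (Fin k → F) ≃ₗ[F] (Fin k → F) := fun i =>
        LinearEquiv.ofLinearMap (Matrix.mulVecLin (as i : Matrix (Fin k) (Fin k) F))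
          (Matrix.mulVecLin (((as i)⁻¹ : GL (Fin k) F) : Matrix (Fin k) (Fin k) F))
          (by rw [← Matrix.mulVecLin_mul, ← Units.val_mul, mul_inv_cancel, Units.val_one, Matrix.mulVecLin_one])
          (by rw [← Matrix.mulVecLin_mul, ← Units.val_mul, inv_mul_cancel, Units.val_one, Matrix.mulVecLin_one])
      refine ⟨σ, φ, fun xs => ?_⟩
      show ((g : GL ι F) : Matrix ι ι F) *ᵥ coord e P (Maximal.TensorPower.tp xs) =
        coord e P (Maximal.TensorPower.tp fun i => φ i (xs (σ i)))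
      rw [show (g : GL ι F) = MulAut.conj P (Cfsg.Geo.glReindex e.symm K) from hgK.symm, conj_reindex_mulVec,
        hmon]
      rfl
    · rintro ⟨σ, A, hA⟩
      rw [Subgroup.mem_comap]
      set G : GL ι F := (O (quadOf hQ')).subtype g with hGd
      set K : GL (Fin (t + 2) → Fin k) F :=
        (Cfsg.Geo.glReindex e.symm).symm (MulAut.conj P⁻¹ G) with hK
      have hGK : MulAut.conj P (Cfsg.Geo.glReindex e.symm K) = G := by
        rw [hK, MulEquiv.apply_symm_apply, map_inv, MulAut.inv_apply, MulEquiv.apply_symm_apply]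
      let as : Fin (t + 2) → GL (Fin k) F := fun i =>
        ⟨LinearMap.toMatrix' (A i).toLinearMap, LinearMap.toMatrix' (A i).symm.toLinearMap,
          by rw [← LinearMap.toMatrix'_comp, show (A i).toLinearMap.comp (A i).symm.toLinearMap = LinearMap.id from
            LinearMap.ext fun x => (A i).apply_symm_apply x, LinearMap.toMatrix'_id],
          by rw [← LinearMap.toMatrix'_comp, show (A i).symm.toLinearMap.comp (A i).toLinearMap = LinearMap.id from
            LinearMap.ext fun x => (A i).symm_apply_apply x, LinearMap.toMatrix'_id]⟩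
      refine ⟨_, ⟨K, CfsgLib.TensorWreathMax.mem_standard ⟨σ, as, fun xs => ?_⟩, rfl⟩, hGK⟩
      apply (coord e P).injective
      rw [← conj_reindex_mulVec, hGK]
      have hx : (fun i => (as i : Matrix (Fin k) (Fin k) F) *ᵥ xs (σ i)) = fun i => A i (xs (σ i)) :=
        funext fun i => LinearMap.toMatrix'_mulVec _ _
      rw [hx]
      exact hA xs
  refine CfsgLib.GeomClasses.OrthPair.maximal_transport hQ' ?_
  rw [hS]
  exact W.maximal hG hk hke (hweak hG)

/-- The form of the statement with the two admissible types of the factor. -/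
theorem isMaximalIn_plus {n : ℕ} {Q : (Fin n → F) → F} (hQ : Cfsg.Geo.IsNondegenerateQuadraticForm Q)
    (hodd : Odd (Fintype.card F)) {k t : ℕ} (ht : 2 ≤ t) (hke : Even k)
    (hweak : ∀ {q1 : QuadraticForm F (Fin k → F)} (hG : Good q1), WeakRigid hG)
    (e : (Fin n) ≃ (Fin t → Fin k)) (P : GL (Fin n) F) {f₁ : (Fin k → F) → (Fin k → F) → F}
    (hf₁ : Cfsg.Geo.IsSymmetricForm f₁)
    (hsize : (6 ≤ k ∧ Cfsg.Geo.IsPlusTypeOn (fun v : Fin k → F => f₁ v v) ⊤) ∨
      (4 ≤ k ∧ ¬ Cfsg.Geo.IsPlusTypeOn (fun v : Fin k → F => f₁ v v) ⊤))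
    (hT : Cfsg.Geo.IsTensorPowerFormStructure id (QuadraticMap.polar Q) f₁ e P) :
    Cfsg.Geo.IsMaximalIn (Cfsg.Geo.omegaGL Q)
      (Cfsg.Geo.tensorWreathSubgroup k t e P ⊓ Cfsg.Geo.omegaGL Q) := by
  have h2 : (2 : F) ≠ 0 := Ring.two_ne_zero fun hc =>
    (Nat.not_even_iff_odd.2 hodd) ((Nat.even_iff.2 (FiniteField.even_card_of_char_two hc)))
  obtain ⟨t, rfl⟩ : ∃ t', t = t' + 2 := ⟨t - 2, by omega⟩
  refine isMaximalIn_wreath hQ h2 ?_ hke hweak e P hf₁ (fun hk4 => ?_) hT
  · rcases hsize with ⟨h, -⟩ | ⟨h, -⟩ <;> omega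
  · rcases hsize with ⟨h, -⟩ | ⟨-, h⟩
    · omega
    · exact h

end CfsgLib.TensorEven
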