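import Cfsg.Agent.Lib.TensorEven.Gen

/-!
A group containing the isometries of the second factor: the skew maps at a singular slice form a space closed
under an operation which produces the commutator of the projections of two of its cubic members.
-/

set_option autoImplicit false
set_option linter.unusedSectionVars false

namespace CfsgLib.TensorOddMinus

open Matrix QuadraticMap CfsgLib.Orth
open CfsgLib.TensorMax63 (Hyp mid mem_mid exists_hyp ext_polar exists_aniso)

variable {ι : Type} [Fintype ι] [DecidableEq ι] {F : Type*} [Field F] [Fintype F]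
variable {q : QuadraticForm F (ι → F)} {a b : ℕ}

namespace Data

variable {D : Data q a b} {M : Subgroup (O q)} {w w' : Fin b → F} (P : Hyp D.q2 w w')
include P

/-- The exchange of a hyperbolic pair. -/
theorem exists_exchange : ∃ ρ : O D.q2, app ρ w = w' ∧ ∀ d ∈ mid D.q2 w w', app ρ d = d := by
  refine ⟨refl D.q2 (w - w'), ?_, fun d hd => app_refl_of_ortho (by
    rw [polar_sub_right, polar_comm, (mem_mid.1 hd).1, polar_comm, (mem_mid.1 hd).2, sub_zero])⟩
  have e : D.q2 (w - w') = -1 := by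
    rw [sub_eq_add_neg, QuadraticMap.map_add ⇑D.q2, QuadraticMap.map_neg, polar_neg_right, P.pair, P.q₁, P.q₂]
    ring
  rw [app_refl, e, polar_sub_right, P.self₁, P.pair]
  norm_num

/-- Multiplication of the singular vector. -/
theorem exists_scale {l : F} (hl : l ≠ 0) :
    ∃ ρ : O D.q2, app ρ w = l • w ∧ ∀ d ∈ mid D.q2 w w', app ρ d = d := by
  obtain ⟨ρ, hρ, hfix⟩ := exists_exchange P
  refine ⟨refl D.q2 (w' - l • w) * ρ, ?_, fun d hd => by
    rw [app_mul, hfix d hd, app_refl_of_ortho]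
    rw [polar_sub_right, polar_smul_right, polar_comm, (mem_mid.1 hd).2, polar_comm, (mem_mid.1 hd).1, smul_zero,
      sub_zero]⟩
  have e : D.q2 (w' - l • w) = -l := by
    rw [sub_eq_add_neg, QuadraticMap.map_add ⇑D.q2, QuadraticMap.map_neg, polar_neg_right, QuadraticMap.map_smul,
      polar_smul_right, P.pair', P.q₁, P.q₂, smul_zero, zero_add, zero_add, smul_eq_mul, mul_one]
  rw [app_mul, hρ, app_refl, e, polar_sub_right, polar_smul_right, P.self₂, P.pair', zero_sub, smul_eq_mul,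
    mul_one, inv_mul_cancel₀ (neg_ne_zero.2 hl), one_smul]
  abel

omit P in
theorem InW.conjR {K : (Fin a → F) →ₗ[F] (Fin a → F)} {v : Fin b → F} (h : D.InW M v K) {ρ : O D.q2}
    (hρ : D.R ρ ∈ M) : D.InW M (app ρ v) K := by
  obtain ⟨g, hg, e⟩ := h
  refine ⟨_, M.mul_mem (M.mul_mem hρ hg) (M.inv_mem hρ), ?_⟩
  have := e.conj_R ρ
  rwa [LinearMap.comp_zero] at this

/-- The skew maps in a group containing the second factor form a space. -/
theorem InW.smulR (hR : ∀ ρ : O D.q2, D.R ρ ∈ M) {K : (Fin a → F) →ₗ[F] (Fin a → F)} (h : D.InW M w K)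
    (c : F) : D.InW M w (c • K) := by
  have hsq : ∀ l : F, D.InW M w ((l * l) • K) := fun l => by
    by_cases hl : l = 0
    · refine ⟨1, M.one_mem, ?_⟩
      rw [hl, mul_zero, zero_smul]
      exact IsRad.one
    obtain ⟨ρ, hρ, -⟩ := exists_scale P hl
    have h1 := h.conjR (hR ρ)
    rw [hρ] at h1
    obtain ⟨g, hg, e⟩ := h1
    refine ⟨g, hg, ?_⟩
    have := e.smul_w hl
    rwa [smul_zero] at this
  have h2 := D.two
  have e : c • K = (((c + 1) / 2) * ((c + 1) / 2)) • K + -((((c - 1) / 2) * ((c - 1) / 2)) • K) := by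
    rw [← sub_eq_add_neg]
    refine (congrArg (· • K) ?_).trans (sub_smul _ _ K)
    field_simp
    ring
  rw [e]
  exact InW.add P.q₁ (hsq _) (InW.neg P.q₁ (hsq _))

/-- The root element of the second factor. -/
theorem isRad_R_eich {v : Fin b → F} (hv : v ∈ mid D.q2 w w') :
    D.IsRad w (D.tpL v) ((-(D.q2 v)) • LinearMap.id) (D.R (eich D.q2 w v)) := by
  have hwv := (mem_mid.1 hv).1
  have hadj : ∀ z, D.adj (D.tpL v) z = D.C v z := fun z =>
    ext_polar D.good1.nd fun x => by rw [polar_adj, polar_C]; rfl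
  refine isRad_of_eqs P (fun x => ?_) (fun y => ?_) (fun y => ?_) fun y d hd => ?_
  · show D.C w (D.tp x v) = 0
    rw [C_tp, polar_comm, hwv, zero_smul]
  · rw [D.R_tp, app_eich P.q₁ hwv, P.self₁, hwv]
    simp
  · rw [D.R_tp, app_eich P.q₁ hwv, P.pair', (mem_mid.1 hv).2, hadj, C_tp]
    rw [(mem_mid.1 hv).2, zero_smul, D.tp_zero_left, sub_zero, one_smul]
    show D.tp y _ = D.tp y w' + D.tp y v + D.tp (-(D.q2 v) • y) w
    rw [D.tp_smul_left, ← D.tp_smul_right, ← D.tp_add_right, ← D.tp_add_right]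
    congr 2
    ring_nf
  · rw [D.R_tp, app_eich P.q₁ hwv, polar_comm (f := ⇑D.q2) d w, (mem_mid.1 hd).1, hadj, C_tp,
      D.tp_smul_left, ← D.tp_smul_right, D.tp_add_right, zero_smul, add_zero, sub_eq_add_neg (D.tp y d),
      ← D.tp_neg_right]
    simp [neg_smul]

/-- An element supported by the image of a cubic skew map, and the resulting element of the root group. -/
theorem exists_rad_proj (hR : ∀ ρ : O D.q2, D.R ρ ∈ M) {K : (Fin a → F) →ₗ[F] (Fin a → F)}
    (hK : D.InW M w K) {κ : F} (hκ : κ ≠ 0) (hcube : ∀ y, K (K (K y)) = κ • K y) {v : Fin b → F}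
    (hv : v ∈ mid D.q2 w w') :
    ∃ g ∈ M, ∃ K', D.IsRad w ((D.tpL v).comp ((-(2 * κ⁻¹)) • K.comp K)) K' g := by
  obtain ⟨g, hg, eg⟩ := hK
  obtain ⟨ρ, hρ, -⟩ := exists_exchange P
  have hK' : D.InW M w' K := by
    have := InW.conjR (D := D) (M := M) ⟨g, hg, eg⟩ (hR ρ)
    rwa [hρ] at this
  have P' : Hyp D.q2 w' w := ⟨P.q₂, P.q₁, P.pair'⟩
  obtain ⟨h, hh, eh⟩ := InW.smulR P' hR hK' (-κ⁻¹)
  have ag : ∀ z, app g z = z + D.tp (K (D.C w z)) w := fun z => by
    rw [eg.eqn, D.adj_zero, D.tp_zero_left, LinearMap.zero_apply, add_zero, sub_zero]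
  have ah : ∀ z, app h z = z + D.tp ((-κ⁻¹) • K (D.C w' z)) w' := fun z => by
    rw [eh.eqn, D.adj_zero, D.tp_zero_left, LinearMap.zero_apply, add_zero, sub_zero]
    rfl
  -- the projection
  set E : (Fin a → F) →ₗ[F] (Fin a → F) := κ⁻¹ • K.comp K with hE
  have hEy : ∀ y, E y = κ⁻¹ • K (K y) := fun y => rfl
  have hKE : ∀ y, K (E y) = K y := fun y => by rw [hEy, map_smul, hcube, smul_smul, inv_mul_cancel₀ hκ, one_smul]
  have hEK : ∀ y, E (K y) = K y := fun y => by rw [hEy, hcube, smul_smul, inv_mul_cancel₀ hκ, one_smul]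
  have hEE : ∀ y, E (E y) = E y := fun y => by rw [hEy (E y), hKE, hEy]
  set n := g * h * g with hn
  have hgw : ∀ y, app g (D.tp y w) = D.tp y w := fun y => by
    rw [ag, C_tp, P.self₁, zero_smul, map_zero, D.tp_zero_left, add_zero]
  have hgw' : ∀ y, app g (D.tp y w') = D.tp y w' + D.tp (K y) w := fun y => by
    rw [ag, C_tp, P.pair', one_smul]
  have hhw : ∀ y, app h (D.tp y w) = D.tp y w + D.tp ((-κ⁻¹) • K y) w' := fun y => by
    rw [ah, C_tp, P.pair, one_smul]
  have hhw' : ∀ y, app h (D.tp y w') = D.tp y w' := fun y => by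
    rw [ah, C_tp, P.self₂, zero_smul, map_zero, smul_zero, D.tp_zero_left, add_zero]
  have hsm : ∀ (c : F) y, K (c • y) = c • K y := fun c y => map_smul K c y
  have hnw : ∀ y, app n (D.tp y w) = D.tp (y - E y) w + D.tp ((-κ⁻¹) • K y) w' := fun y => by
    rw [hn, app_mul, app_mul, hgw, hhw, map_add, hgw, hgw', hsm, neg_smul κ⁻¹ (K (K y)), ← hEy, D.tp_sub_left,
      D.tp_neg_left]
    abel
  have hnw' : ∀ y, app n (D.tp y w') = D.tp (y - E y) w' + D.tp (K y) w := fun y => by
    rw [hn, app_mul, app_mul, hgw', map_add, hhw', hhw, map_add, map_add, hgw', hgw, hgw', hsm,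
      neg_smul κ⁻¹ (K (K (K y))), hcube, inv_smul_smul₀ hκ, neg_smul κ⁻¹ (K (K y)), ← hEy, D.tp_sub_left,
      D.tp_neg_left, D.tp_neg_left]
    abel
  set o := n * n with ho
  set R : (Fin a → F) →ₗ[F] (Fin a → F) := LinearMap.id - (2 : F) • E with hRdef
  have how : ∀ y, app o (D.tp y w) = D.tp (R y) w := fun y => by
    rw [ho, app_mul, hnw, map_add, hnw, hnw']
    simp only [hRdef, LinearMap.sub_apply, LinearMap.smul_apply, LinearMap.id_apply, map_sub, map_smul, hEE, hKE,
      hEK, D.tp_sub_left, D.tp_smul_left, hcube, ← hEy]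
    rw [← D.tp_smul_left (-κ⁻¹) (K (K y)), neg_smul κ⁻¹ (K (K y)), ← hEy, D.tp_neg_left]
    module
  have how' : ∀ y, app o (D.tp y w') = D.tp (R y) w' := fun y => by
    rw [ho, app_mul, hnw', map_add, hnw', hnw]
    simp only [hRdef, LinearMap.sub_apply, LinearMap.smul_apply, LinearMap.id_apply, map_sub, map_smul, hEE, hKE,
      hEK, D.tp_sub_left, D.tp_smul_left, ← hEy]
    rw [← D.tp_smul_left (-κ⁻¹) (K (K y)), neg_smul κ⁻¹ (K (K y)), ← hEy, D.tp_neg_left]
    module
  have hod : ∀ y d, d ∈ mid D.q2 w w' → app o (D.tp y d) = D.tp y d := by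
    intro y d hd
    have e1 : app g (D.tp y d) = D.tp y d := by
      rw [ag, C_tp, polar_comm, (mem_mid.1 hd).1, zero_smul, map_zero, D.tp_zero_left, add_zero]
    have e2 : app h (D.tp y d) = D.tp y d := by
      rw [ah, C_tp, polar_comm, (mem_mid.1 hd).2, zero_smul, map_zero, smul_zero, D.tp_zero_left, add_zero]
    simp only [ho, hn, app_mul, e1, e2]
  have hRR : ∀ y, R (R y) = y := fun y => by
    simp only [hRdef, LinearMap.sub_apply, LinearMap.smul_apply, LinearMap.id_apply, map_sub, map_smul, hEE]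
    module
  have hoi : ∀ {z z'}, app o z = z' → app o⁻¹ z' = z := fun {z z'} e => by rw [← e, app_inv_app]
  -- the conjugate of the root element
  have hKsk := InW.skew P.q₁ P.ne₁ (D := D) (M := M) ⟨g, hg, eg⟩
  have hsa : ∀ x y, polar D.q1 (E x) y = polar D.q1 x (E y) := fun x y => by
    rw [hEy, hEy, polar_smul_left, polar_smul_right, eq_neg_of_add_eq_zero_left (hKsk (K x) y),
      eq_neg_of_add_eq_zero_left (hKsk x (K y)), neg_neg]
  have hRa : ∀ x y, polar D.q1 (R x) y = polar D.q1 x (R y) := fun x y => by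
    simp only [hRdef, LinearMap.sub_apply, LinearMap.smul_apply, LinearMap.id_apply, polar_sub_left,
      polar_sub_right, polar_smul_left, polar_smul_right, hsa]
  have hwv := (mem_mid.1 hv).1
  set x := D.R (eich D.q2 w v) with hx
  have hX : D.IsRad w ((D.tpL v).comp R) ((-(D.q2 v)) • LinearMap.id) (o * x * o⁻¹) := by
    refine isRad_of_eqs P (fun y => ?_) (fun y => ?_) (fun y => ?_) fun y d hd => ?_
    · show D.C w (D.tp (R y) v) = 0
      rw [C_tp, polar_comm, hwv, zero_smul]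
    · rw [app_mul, app_mul, hoi (z := D.tp (R y) w) (by rw [how, hRR]), (isRad_R_eich P hv).eqn,
        C_tp, P.self₁, zero_smul, map_zero, map_zero, adj_tp (isRad_R_eich P hv).ker, D.tp_zero_left]
      simp [how, hRR, D.tp_zero_left]
    · rw [app_mul, app_mul, hoi (z := D.tp (R y) w') (by rw [how', hRR]), hx, D.R_tp, app_eich P.q₁ hwv, P.pair',
        (mem_mid.1 hv).2, one_smul, D.tp_add_right, D.tp_add_right, D.tp_smul_right, map_add, map_add, map_smul,
        how', how, hRR, hod _ _ hv, adj_tpL_comp hRa, C_tp]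
      rw [(mem_mid.1 hv).2, zero_smul, map_zero, D.tp_zero_left, sub_zero]
      show _ = D.tp y w' + D.tp (R y) v + D.tp ((-(D.q2 v)) • y) w
      rw [D.tp_smul_left]
      congr 2
      ring
    · rw [app_mul, app_mul, hoi (hod y d hd), hx, D.R_tp, app_eich P.q₁ hwv, polar_comm (f := ⇑D.q2) d w,
        (mem_mid.1 hd).1, zero_smul, add_zero, D.tp_add_right, D.tp_smul_right, map_add, map_smul, hod y d hd, how,
        adj_tpL_comp hRa, C_tp, map_smul, D.tp_smul_left]
      module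
  have hoM : o ∈ M := by
    rw [ho, hn]
    exact M.mul_mem (M.mul_mem (M.mul_mem hg hh) hg) (M.mul_mem (M.mul_mem hg hh) hg)
  have hx' : D.IsRad w (D.tpL (-v)) ((-(D.q2 (-v))) • LinearMap.id) x⁻¹ := by
    rw [hx, ← map_inv, CfsgLib.POmega.eich_neg_inv P.q₁ hwv]
    exact isRad_R_eich P (Submodule.neg_mem _ hv)
  have key : (D.tpL v).comp ((-(2 * κ⁻¹)) • K.comp K) = (D.tpL v).comp R + D.tpL (-v) := ?_
  · rw [key]
    exact ⟨o * x * o⁻¹ * x⁻¹, M.mul_mem (M.mul_mem (M.mul_mem hoM (hR _)) (M.inv_mem hoM)) (M.inv_mem (hR _)),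
      _, hX.mul P.q₁ hx'⟩
  refine LinearMap.ext fun y => ?_
  show D.tp _ v = D.tp (R y) v + D.tp y (-v)
  rw [D.tp_neg_right, ← sub_eq_add_neg, ← D.tp_sub_left, hRdef]
  congr 1
  simp only [LinearMap.sub_apply, LinearMap.smul_apply, LinearMap.id_apply, hEy, LinearMap.comp_apply]
  module

/-- The commutator of the projections of two cubic skew maps. -/
theorem InW.proj_comm (hR : ∀ ρ : O D.q2, D.R ρ ∈ M) (hmid : ∃ v ∈ mid D.q2 w w', D.q2 v ≠ 0)
    {K K' : (Fin a → F) →ₗ[F] (Fin a → F)} (hK : D.InW M w K) (hK' : D.InW M w K') {κ κ' : F} (hκ : κ ≠ 0)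
    (hκ' : κ' ≠ 0) (hcube : ∀ y, K (K (K y)) = κ • K y) (hcube' : ∀ y, K' (K' (K' y)) = κ' • K' y) :
    D.InW M w ((K'.comp K').comp (K.comp K) - (K.comp K).comp (K'.comp K')) := by
  obtain ⟨v, hv, hqv⟩ := hmid
  obtain ⟨g, hg, L, eg⟩ := exists_rad_proj P hR hK hκ hcube hv
  obtain ⟨g', hg', L', eg'⟩ := exists_rad_proj P hR hK' hκ' hcube' hv
  have h1 : D.InW M w _ :=
    ⟨_, M.mul_mem (M.mul_mem hg hg') (M.inv_mem (M.mul_mem hg' hg)), eg.commutator P.q₁ eg'⟩
  have hsk := InW.skew P.q₁ P.ne₁ hK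
  have hsk' := InW.skew P.q₁ P.ne₁ hK'
  have hsa : ∀ {J : (Fin a → F) →ₗ[F] (Fin a → F)}, (∀ x y, polar D.q1 (J x) y + polar D.q1 x (J y) = 0) →
      ∀ (c : F) x y, polar D.q1 ((c • J.comp J) x) y = polar D.q1 x ((c • J.comp J) y) := fun {J} hJ c x y => by
    simp only [LinearMap.smul_apply, LinearMap.comp_apply, polar_smul_left, polar_smul_right,
      eq_neg_of_add_eq_zero_left (hJ (J x) y), eq_neg_of_add_eq_zero_left (hJ x (J y)), neg_neg]
  have h2 := InW.smulR P hR h1 ((2 * D.q2 v * (-(2 * κ⁻¹)) * (-(2 * κ'⁻¹)))⁻¹)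
  convert h2 using 1
  have hne : 2 * D.q2 v * (-(2 * κ⁻¹)) * (-(2 * κ'⁻¹)) ≠ 0 := by
    have := D.two
    simp [hqv, hκ, hκ', D.two]
  refine LinearMap.ext fun y => ?_
  simp only [LinearMap.smul_apply, LinearMap.sub_apply, LinearMap.comp_apply,
    adj_tpL_comp (hsa hsk' _), adj_tpL_comp (hsa hsk _)]
  have hC : ∀ z, D.C v (D.tpL v z) = (2 * D.q2 v) • z := fun z => by
    show D.C v (D.tp z v) = _
    rw [C_tp, polar_self']
  rw [hC, hC]
  simp only [LinearMap.smul_apply, LinearMap.comp_apply, map_smul, smul_sub, smul_smul]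
  have h2F : (2 : F) ≠ 0 := D.two
  match_scalars <;> field_simp

end Data

end CfsgLib.TensorOddMinus
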