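import Cfsg.Agent.Lib.TensorOddMinus.Radical

/-!
A proper group containing the commutator subgroups of both factors of a tensor decomposition contains no
non-trivial element which is the identity modulo a singular slice. (The argument of
`TensorOddMinus.Radical`, with the weaker hypothesis on the group.)
-/

set_option autoImplicit false
set_option linter.unusedSectionVars false

namespace CfsgLib.TensorOddMinus

open Matrix QuadraticMap CfsgLib.Orth
open CfsgLib.TensorMax63 (Hyp mid mem_mid exists_hyp ext_polar exists_aniso)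

variable {ι : Type} [Fintype ι] [DecidableEq ι] {F : Type*} [Field F] [Fintype F]
variable {q : QuadraticForm F (ι → F)} {a b : ℕ}

namespace Data

/-- A group containing the commutator subgroups of both factors but not `Ω`. -/
structure Ovr (D : Data q a b) (M : Subgroup (O q)) : Prop where
  le_L : ∀ {A : O D.q1}, A ∈ _root_.commutator (O D.q1) → D.L A ∈ M
  le_R : ∀ {B : O D.q2}, B ∈ _root_.commutator (O D.q2) → D.R B ∈ M
  proper : ¬ _root_.commutator (O q) ≤ M

variable {D : Data q a b} {M : Subgroup (O q)}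

theorem Ovr.swap (hO : D.Ovr M) : D.swap.Ovr M :=
  ⟨fun {A} h => (D.swap_L A).symm ▸ hO.le_R h, fun {B} h => (D.swap_R B).symm ▸ hO.le_L h, hO.proper⟩

theorem InW.conjO (hO : D.Ovr M) {w : Fin b → F} {K : (Fin a → F) →ₗ[F] (Fin a → F)} (h : D.InW M w K)
    {ρ : O D.q1} (hρ : ρ ∈ _root_.commutator (O D.q1)) : D.InW M w ((app ρ).comp (K.comp (app ρ⁻¹))) := by
  obtain ⟨g, hg, e⟩ := h
  refine ⟨_, M.mul_mem (M.mul_mem (hO.le_L hρ) hg) (M.inv_mem (hO.le_L hρ)), ?_⟩
  have := e.conj_L ρ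
  rwa [show (app (D.L ρ)).comp ((0 : (Fin a → F) →ₗ[F] (ι → F)).comp (app ρ⁻¹)) = 0 by simp] at this

/-- One skew map in `M` gives a whole singular point of the first factor. -/
theorem exists_T1O (hO : D.Ovr M) {w : Fin b → F} (hw : D.q2 w = 0) (hw0 : w ≠ 0)
    {K : (Fin a → F) →ₗ[F] (Fin a → F)} (h : D.InW M w K) (hK : K ≠ 0) :
    ∃ s, D.q1 s = 0 ∧ s ≠ 0 ∧ D.T1 M s w := by
  have hsk := h.skew hw hw0
  have h2 := D.two
  obtain ⟨s, hs, hs0, hKs⟩ : ∃ s, D.q1 s = 0 ∧ s ≠ 0 ∧ ∀ t : F, K s ≠ t • s := by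
    by_contra hc
    push Not at hc
    obtain ⟨t, ht⟩ := scalar_of_lines D.good1 K fun s hs hs0 => hc s hs hs0
    obtain ⟨x, hx⟩ := exists_anisotropic D.good1.nd (le_trans (by norm_num) D.good1.three)
    have := hsk x x
    rw [ht, polar_smul_left, polar_smul_right, polar_self', smul_eq_mul, ← two_mul] at this
    have ht0 : t = 0 := ((mul_eq_zero.1 ((mul_eq_zero.1 this).resolve_left h2))).resolve_right
      (mul_ne_zero h2 hx)
    exact hK (LinearMap.ext fun y => by rw [ht, ht0, zero_smul]; rfl)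
  obtain ⟨s', P⟩ := exists_hyp D.good1.nd hs hs0
  have hsKs : polar D.q1 s (K s) = 0 := by
    have := hsk s s
    rw [polar_comm (f := ⇑D.q1) (K s), ← two_mul] at this
    exact (mul_eq_zero.1 this).resolve_left h2
  set r := K s - polar D.q1 s' (K s) • s with hr
  have hrm : r ∈ mid D.q1 s s' := by
    have := P.proj_mem (K s)
    rwa [hsKs, zero_smul, sub_zero] at this
  obtain ⟨c, hc, hqc⟩ := exists_aniso (P.nondeg_mid D.good1.nd) (fun hb => hKs (polar D.q1 s' (K s)) (by
    have : r ∈ (⊥ : Submodule F (Fin a → F)) := hb ▸ hrm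
    rwa [Submodule.mem_bot, hr, sub_eq_zero] at this))
  have hsc := (mem_mid.1 hc).1
  -- the second difference along the root group of `s`
  set d := (-(2 * D.q1 c)) • K s + (2 * polar D.q1 (K s) c) • c with hd
  have hsd : polar D.q1 s d = 0 := by
    rw [hd, polar_add_right, polar_smul_right, polar_smul_right, hsKs, hsc, smul_zero, smul_zero, add_zero]
  have hW : D.InW M w (sk D.q1 s d) := by
    have hnc : polar D.q1 s (-c) = 0 := by rw [polar_neg_right, hsc, neg_zero]
    have e := InW.add hw (InW.add hw (h.conjO hO (eich_mem D.good1 hs hsc)) (h.conjO hO (eich_mem D.good1 hs hnc)))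
      (InW.add hw (InW.neg hw h) (InW.neg hw h))
    convert e using 2
    refine LinearMap.ext fun x => ?_
    have hi : ∀ {v : Fin a → F}, polar D.q1 s v = 0 →
        app (eich D.q1 s v)⁻¹ x = app (eich D.q1 s (-v)) x := fun {v} hv => by
      rw [CfsgLib.POmega.eich_neg_inv hs hv]
    have k1 : polar D.q1 (K c) c = 0 := by
      have := hsk c c
      rw [polar_comm (f := ⇑D.q1) c, ← two_mul] at this
      exact (mul_eq_zero.1 this).resolve_left h2
    have k2 : polar D.q1 (K c) s = -polar D.q1 (K s) c := by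
      rw [polar_comm (f := ⇑D.q1) (K s)]; exact eq_neg_of_add_eq_zero_left (hsk c s)
    have k3 : ∀ v, polar D.q1 (K x) v = -polar D.q1 x (K v) := fun v => eq_neg_of_add_eq_zero_left (hsk x v)
    have k4 : polar D.q1 (K s) s = 0 := by rw [polar_comm, hsKs]
    simp only [LinearMap.add_apply, LinearMap.neg_apply, LinearMap.comp_apply, hi hsc, hi hnc, neg_neg,
      app_eich hs hsc, app_eich hs hnc, map_add, map_smul, map_neg, polar_add_left, polar_smul_left,
      polar_neg_left, polar_neg_right, k1, k2, k3, k4, QuadraticMap.map_neg, smul_eq_mul, sk_apply, hd,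
      polar_add_right, polar_smul_right]
    match_scalars <;> ring
  let S : AddSubgroup (Fin a → F) :=
    { carrier := {m | m ∈ mid D.q1 s s' ∧ D.InW M w (sk D.q1 s m)}
      zero_mem' := ⟨Submodule.zero_mem _, 1, M.one_mem, by
        rw [show sk D.q1 s 0 = 0 from LinearMap.ext fun x => by simp [sk_apply]]; exact IsRad.one⟩
      add_mem' := fun {m n} hm hn => ⟨Submodule.add_mem _ hm.1 hn.1, by
        rw [show sk D.q1 s (m + n) = sk D.q1 s m + sk D.q1 s n from LinearMap.ext fun x => by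
          simp [sk_apply, polar_add_right]; module]
        exact InW.add hw hm.2 hn.2⟩
      neg_mem' := fun {m} hm => ⟨Submodule.neg_mem _ hm.1, by
        rw [show sk D.q1 s (-m) = -sk D.q1 s m from LinearMap.ext fun x => by
          simp [sk_apply, polar_neg_right]; module]
        exact InW.neg hw hm.2⟩ }
  have hskadd : ∀ (m : Fin a → F) (t : F), sk D.q1 s (m + t • s) = sk D.q1 s m := fun m t => LinearMap.ext fun x => by
    simp [sk_apply, polar_add_right, polar_smul_right]; module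
  have hskscale : ∀ (m : Fin a → F) (t : F), sk D.q1 (t • s) m = sk D.q1 s (t • m) := fun m t =>
    LinearMap.ext fun x => by simp [sk_apply, polar_smul_right]; module
  have hm₀ : (-(2 * D.q1 c)) • app (refl D.q1 c) r ∈ S := by
    refine ⟨Submodule.smul_mem _ _ (mid_refl hc hrm), ?_⟩
    convert hW using 1
    conv_rhs => rw [← hskadd d (2 * D.q1 c * polar D.q1 s' (K s))]
    congr 1
    rw [app_refl, hd, hr, polar_sub_left, polar_smul_left, hsc]
    match_scalars <;> field_simp <;> simp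
  have hm0 : (-(2 * D.q1 c)) • app (refl D.q1 c) r ≠ 0 := by
    refine smul_ne_zero (neg_ne_zero.2 (mul_ne_zero h2 hqc)) fun h0 => ?_
    have hr0 : r = 0 := app_injective _ (by rw [h0, map_zero])
    exact hKs _ (sub_eq_zero.1 hr0)
  have hall : ∀ m ∈ mid D.q1 s s', D.InW M w (sk D.q1 s m) := fun m hm => by
    refine (mid_eq_of_stable D.good1 P S (fun m hm => hm.1) (fun k hk m hm => ?_)
      (fun y hy hqy z hz hqz m hm => ?_) hm₀ hm0 hm).2
    · obtain ⟨ρ, hρ, e1, -, e3⟩ := exists_torus D.good1 P hk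
      refine ⟨Submodule.smul_mem _ _ hm.1, ?_⟩
      have := hm.2.conjO hO hρ
      rwa [D.conj_sk, e1, e3 m hm.1, hskscale] at this
    · obtain ⟨ρ, hρ, t, ht, e1, -, e3⟩ := exists_rot D.good1 P hy hqy hz hqz
      refine ⟨t, ht, Submodule.smul_mem _ _ (mid_refl hy (mid_refl hz hm.1)), ?_⟩
      have := hm.2.conjO hO hρ
      rwa [D.conj_sk, e1, e3 m hm.1, hskscale] at this
  refine ⟨s, hs, hs0, fun d' hd' => ?_⟩
  have hproj := P.proj_mem d'
  rw [hd', zero_smul, sub_zero] at hproj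
  obtain ⟨g, hg, e⟩ := hall _ hproj
  have e' := D.isRad_slice hw hd'
  rw [show sk D.q1 s d' = sk D.q1 s (d' - polar D.q1 s' d' • s) by
    conv_lhs => rw [← sub_add_cancel d' (polar D.q1 s' d' • s), hskadd]] at e'
  exact (e'.ext e) ▸ hg

/-- The root elements are moved by the stabiliser. -/
theorem T1.transportO (hO : D.Ovr M) {s : Fin a → F} {w : Fin b → F} (hs : D.q1 s = 0) (hs0 : s ≠ 0)
    (hw : D.q2 w = 0) (hw0 : w ≠ 0) (h : D.T1 M s w) {s' : Fin a → F} {w' : Fin b → F} (hs' : D.q1 s' = 0)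
    (hs'0 : s' ≠ 0) (hw' : D.q2 w' = 0) (hw'0 : w' ≠ 0) : D.T1 M s' w' := by
  intro d hd
  obtain ⟨ρ, hρ, t, ht, e⟩ := exists_line D.good1 hs' hs'0 hs hs0
  obtain ⟨σ, hσ, r, hr, e'⟩ := exists_line D.good2 hw' hw'0 hw hw0
  set g := D.L ρ * D.R σ with hg
  have hgM : g ∈ M := M.mul_mem (hO.le_L hρ) (hO.le_R hσ)
  set d₀ := (t * r * r)⁻¹ • app ρ⁻¹ d with hd₀
  have hsd : polar D.q1 s d₀ = 0 := by
    rw [hd₀, polar_smul_right, ← polar_app ρ, app_app_inv, e, polar_smul_left, hd, smul_zero, smul_zero]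
  have h1 := M.mul_mem (M.mul_mem hgM (h d₀ hsd)) (M.inv_mem hgM)
  have h0 : ∀ x, q (D.tp x w) = 0 := fun x => by rw [D.Q_tp, hw, mul_zero]
  have h0' : ∀ x, q (D.tp x w') = 0 := fun x => by rw [D.Q_tp, hw', mul_zero]
  rw [eich_conj (h0 s) (by rw [D.polar_tp, hsd, zero_mul])] at h1
  simp only [hg, app_mul, D.R_tp, D.L_tp, e, e', hd₀, map_smul, app_app_inv, D.tp_smul_left, D.tp_smul_right,
    smul_smul] at h1
  rw [CfsgLib.POmega.eich_smul (h0' s') (by rw [polar_smul_right, D.polar_tp, hd, zero_mul, smul_zero])] at h1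
  convert h1 using 2
  rw [smul_smul]
  convert (one_smul F (D.tp d w')).symm using 2
  field_simp

/-- Both kinds of root elements. -/
theorem exists_swapO (hO : D.Ovr M) {s : Fin a → F} {w : Fin b → F} (hs : D.q1 s = 0) (hs0 : s ≠ 0)
    (hw : D.q2 w = 0) (hw0 : w ≠ 0) (h : D.T1 M s w) :
    ∃ K, D.swap.InW M s K ∧ K ≠ 0 := by
  obtain ⟨s', P⟩ := exists_hyp D.good1.nd hs hs0
  obtain ⟨d, hdm, hqd⟩ := exists_aniso (P.nondeg_mid D.good1.nd) (fun hb => by
    have e := P.finrank_mid D.good1.nd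
    rw [hb, finrank_bot] at e
    have := D.good1.three
    omega)
  have hsd := (mem_mid.1 hdm).1
  obtain ⟨w', P'⟩ := exists_hyp D.good2.nd hw hw0
  have hw'0 : w' ≠ 0 := fun h0 => one_ne_zero (by rw [← P'.pair, h0, polar_zero_right])
  have h' := T1.transportO hO hs hs0 hw hw0 h hs hs0 P'.q₂ hw'0
  have hrad : ∀ v : Fin b → F, D.q2 v = 0 → D.swap.IsRad s
      ((D.q2.polarBilin.flip v).smulRight (D.tp d v)) 0 (eich q (D.tp s v) (D.tp d v)) := by
    intro v hv
    refine ⟨fun y => ?_, fun z => ?_⟩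
    · rw [LinearMap.smulRight_apply, map_smul, ← D.swap_tp, Data.C_tp]
      show _ • polar D.q1 d s • _ = 0
      rw [polar_comm, hsd, zero_smul, smul_zero]
    have hC : polar D.q2 (D.swap.C s z) v = polar q z (D.tp s v) := by
      rw [← D.swap_tp]; exact D.swap.polar_C s z v
    have hadj : D.swap.adj ((D.q2.polarBilin.flip v).smulRight (D.tp d v)) z = polar q z (D.tp d v) • v :=
      ext_polar D.good2.nd fun y => by
        refine (D.swap.polar_adj _ z y).trans ?_
        rw [LinearMap.smulRight_apply, polar_smul_right, polar_smul_left, LinearMap.flip_apply,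
          polarBilin_apply_apply, smul_eq_mul, smul_eq_mul, polar_comm (f := ⇑D.q2) y, mul_comm]
    have e1 : q (D.tp s v) = 0 := by rw [D.Q_tp, hv, mul_zero]
    have e2 : q (D.tp d v) = 0 := by rw [D.Q_tp, hv, mul_zero]
    rw [app_eich e1 (by rw [D.polar_tp, hsd, zero_mul]), e2, hadj, LinearMap.zero_apply, D.swap.tp_zero_left,
      D.swap_tp, LinearMap.smulRight_apply, LinearMap.flip_apply, polarBilin_apply_apply, hC, D.tp_smul_right]
    module
  refine ⟨_, ⟨_, ?_, (hrad w hw).commutator (D := D.swap) hs (hrad w' P'.q₂)⟩, fun h0 => ?_⟩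
  · exact M.mul_mem (M.mul_mem (h d hsd) (h' d hsd)) (M.inv_mem (M.mul_mem (h' d hsd) (h d hsd)))
  have h1 := congrArg (fun f : (Fin b → F) →ₗ[F] (Fin b → F) => polar D.q2 (f w) w') h0
  simp only [LinearMap.sub_apply, LinearMap.comp_apply, LinearMap.smulRight_apply, map_smul,
    LinearMap.flip_apply, polarBilin_apply_apply, P'.self₁, zero_smul, LinearMap.zero_apply, polar_zero_left,
    polar_sub_left, polar_smul_left, P'.pair, smul_zero, one_smul, zero_sub, map_zero, polar_neg_left, neg_eq_zero] at h1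
  have h2 := (D.swap.polar_adj ((D.q2.polarBilin.flip w).smulRight (D.tp d w)) (D.tp d w') w').symm.trans
    h1
  simp only [LinearMap.smulRight_apply, LinearMap.flip_apply, polarBilin_apply_apply, P'.pair', one_smul,
    D.polar_tp, mul_one, polar_self'] at h2
  exact mul_ne_zero D.two hqd h2

/-- A proper overgroup contains no non-trivial element which is the identity modulo a singular slice. -/
theorem Ovr.inW_eq_zero (hO : D.Ovr M) {w : Fin b → F} (hw : D.q2 w = 0) (hw0 : w ≠ 0)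
    {K : (Fin a → F) →ₗ[F] (Fin a → F)} (h : D.InW M w K) : K = 0 := by
  by_contra hK
  obtain ⟨s, hs, hs0, hT⟩ := exists_T1O hO hw hw0 h hK
  have h1 : ∀ s w, D.q1 s = 0 → s ≠ 0 → D.q2 w = 0 → w ≠ 0 → D.T1 M s w := fun s' w' hs' hs'0 hw' hw'0 =>
    T1.transportO hO hs hs0 hw hw0 hT hs' hs'0 hw' hw'0
  obtain ⟨K', hK', hK'0⟩ := exists_swapO hO hs hs0 hw hw0 hT
  obtain ⟨w₁, hw₁, hw₁0, hT'⟩ := exists_T1O hO.swap hs hs0 hK' hK'0
  have h2 : ∀ s w, D.q1 s = 0 → s ≠ 0 → D.q2 w = 0 → w ≠ 0 →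
      ∀ m, polar D.q2 w m = 0 → eich q (D.tp s w) (D.tp s m) ∈ M := fun s' w' hs' hs'0 hw' hw'0 m hm => by
    have := T1.transportO hO.swap hw₁ hw₁0 hs hs0 hT' hw' hw'0 hs' hs'0 m hm
    rwa [D.swap_tp, D.swap_tp] at this
  obtain ⟨s', P⟩ := exists_hyp D.good1.nd hs hs0
  obtain ⟨w', P'⟩ := exists_hyp D.good2.nd hw hw0
  have hL : ∀ ρ ∈ _root_.commutator (O D.q1), D.L ρ ∈ M := fun ρ hρ => hO.le_L hρ
  refine hO.proper (CfsgLib.GeomClasses.OrthEich.commutator_le_of_pair D.nd D.seven (full_of_both h1 h2 hL P P')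
    (full_of_both h1 h2 hL ⟨P.q₂, P.q₁, P.pair'⟩ ⟨P'.q₂, P'.q₁, P'.pair'⟩) ?_)
  rw [D.polar_tp, P.pair', P'.pair', one_mul]
  exact one_ne_zero

/-- The elements of a root group lying in a proper overgroup commute. -/
theorem Ovr.rad_comm (hO : D.Ovr M) {w : Fin b → F} (hw : D.q2 w = 0) (hw0 : w ≠ 0)
    {Θ Θ' : (Fin a → F) →ₗ[F] (ι → F)} {K K' : (Fin a → F) →ₗ[F] (Fin a → F)} {g g' : O q}
    (hg : g ∈ M) (hg' : g' ∈ M) (h : D.IsRad w Θ K g) (h' : D.IsRad w Θ' K' g') (x : Fin a → F) :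
    D.adj Θ' (Θ x) = D.adj Θ (Θ' x) := by
  have := hO.inW_eq_zero hw hw0
    ⟨_, M.mul_mem (M.mul_mem hg hg') (M.inv_mem (M.mul_mem hg' hg)), h.commutator hw h'⟩
  exact sub_eq_zero.1 (LinearMap.congr_fun this x)

end Data

end CfsgLib.TensorOddMinus
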