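import Cfsg.Agent.Lib.TensorEven.Plane

/-!
Pairs of self-adjoint maps of a four dimensional space of minus type, closed under differences, conjugation by
products of two reflections and conjugation by a reflection twisted by the sign of the second member: if the
pairs with one zero member are scalar, so are all of them.
-/

set_option autoImplicit false
set_option linter.unusedSectionVars false

namespace CfsgLib.TensorEven

open Matrix QuadraticMap CfsgLib.Orth CfsgLib.TensorOddMinus
open CfsgLib.TensorOdd (IsFrame refr_vec)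

variable {F : Type*} [Field F] [Fintype F] {k : ℕ} {Q : QuadraticForm F (Fin k → F)}

/-- A map for which every anisotropic vector is an eigenvector is a scalar. -/
theorem scalar_of_eigen (hk : 4 ≤ k) {u : Fin k → Fin k → F} (hu : IsFrame Q u) {X : Module.End F (Fin k → F)}
    (h : ∀ v, Q v ≠ 0 → ∃ l : F, X v = l • v) : ∃ s : F, ∀ x, X x = s • x := by
  classical
  choose l hl using fun a => h (u a) (hu.nz a)
  have a0 : Fin k := ⟨0, by omega⟩
  have hne : ∀ a, u a ≠ 0 := fun a h0 => hu.nz a (by rw [h0, QuadraticMap.map_zero])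
  have pick : ∀ a b : Fin k, a ≠ b → l a = l b := by
    intro a b hab
    have coef : ∀ (v : Fin k → F) (m : F), X v = m • v → ∀ d, polar Q (X v) (u d) = m * polar Q v (u d) :=
      fun v m e d => by rw [e, polar_smul_left, smul_eq_mul]
    by_cases hq : Q (u a + u b) = 0
    · obtain ⟨c, -, hc⟩ := Finset.exists_mem_notMem_of_card_lt_card
        (lt_of_le_of_lt (Finset.card_le_two (a := a) (b := b))
          (by simp; omega : 2 < (Finset.univ : Finset (Fin k)).card))
      simp only [Finset.mem_insert, Finset.mem_singleton, not_or] at hc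
      obtain ⟨m, hm⟩ := h (u a + u b + u c) (by
        rw [QuadraticMap.map_add ⇑Q, hq, polar_add_left, hu.orth a c (Ne.symm hc.1), hu.orth b c (Ne.symm hc.2)]
        simpa using hu.nz c)
      have e1 := coef _ m hm a
      have e2 := coef _ m hm b
      simp only [map_add, hl, polar_add_left, polar_smul_left, hu.orth b a (Ne.symm hab), hu.orth c a hc.1,
        hu.orth a b hab, hu.orth c b hc.2, smul_eq_mul, mul_zero, add_zero, zero_add] at e1 e2
      exact (mul_right_cancel₀ (hu.polar_self_ne a) e1).trans (mul_right_cancel₀ (hu.polar_self_ne b) e2).symm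
    · obtain ⟨m, hm⟩ := h (u a + u b) hq
      have e1 := coef _ m hm a
      have e2 := coef _ m hm b
      simp only [map_add, hl, polar_add_left, polar_smul_left, hu.orth b a (Ne.symm hab), hu.orth a b hab,
        smul_eq_mul, mul_zero, add_zero, zero_add] at e1 e2
      exact (mul_right_cancel₀ (hu.polar_self_ne a) e1).trans (mul_right_cancel₀ (hu.polar_self_ne b) e2).symm
  refine ⟨l a0, LinearMap.congr_fun (hu.ext_lin (f := X) (g := (l a0) • LinearMap.id) fun a => ?_)⟩
  rw [hl, LinearMap.smul_apply, LinearMap.id_apply]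
  rcases eq_or_ne a a0 with rfl | hne'
  · rfl
  · rw [pick a a0 hne']

/-- The conjugate by a reflection. -/
noncomputable def sconj (Q : QuadraticForm F (Fin k → F)) (v : Fin k → F) (X : Module.End F (Fin k → F)) :
    Module.End F (Fin k → F) := app (refl Q v) * X * app (refl Q v)

theorem sconj_coef {u : Fin k → Fin k → F} (hu : IsFrame Q u) (X : Module.End F (Fin k → F)) (m a d : Fin k) :
    polar Q (sconj Q (u m) X (u a)) (u d) =
      (if a = m then -1 else 1) * (if d = m then -1 else 1) * polar Q (X (u a)) (u d) := by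
  have hr : ∀ a, app (refl Q (u m)) (u a) = (if a = m then (-1 : F) else 1) • u a := fun a => by
    split_ifs with h
    · rw [h, app_refl_self (hu.nz m), neg_one_smul]
    · rw [app_refl_of_ortho (hu.orth a m h), one_smul]
  have hd : ∀ w, polar Q (app (refl Q (u m)) w) (u d) = (if d = m then (-1 : F) else 1) * polar Q w (u d) :=
    fun w => by
    conv_lhs => rw [← polar_app (refl Q (u m)), ← app_mul, refl_mul_self, app_one, hr, polar_smul_right]
    rfl
  rw [sconj, Module.End.mul_apply, Module.End.mul_apply, hd, hr, map_smul, polar_smul_left, smul_eq_mul]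
  ring

/-- A map supported at a plane, moved only by scalars by the rotations of that plane. -/
theorem plane_key (hQ : Good Q) {u : Fin k → Fin k → F} (hu : IsFrame Q u) (A B : Module.End F (Fin k → F))
    {a c m : Fin k} (hac : a ≠ c) (hma : m ≠ a) (hmc : m ≠ c)
    (hA : ∀ e f, polar Q (A (u e)) (u f) ≠ 0 → (e = a ∧ f = c) ∨ (e = c ∧ f = a))
    (hB : ∀ e f, polar Q (B (u e)) (u f) ≠ 0 → e ≠ a ∧ e ≠ c ∧ f ≠ a ∧ f ≠ c)
    (hAa : ∀ x y, polar Q (A x) y = polar Q x (A y))
    (hsc : ∀ v w, Q v ≠ 0 → Q w ≠ 0 → sconj Q v (sconj Q w B) = B →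
      ∃ t : F, ∀ x, (A - sconj Q v (sconj Q w A)) x = t • x)
    (hne : polar Q (A (u a)) (u c) ≠ 0) : Q (u a) + Q (u c) = 0 := by
  by_contra hq
  set v := u a + u c with hvdef
  have hqv : Q v = Q (u a) + Q (u c) := by
    rw [hvdef, QuadraticMap.map_add ⇑Q, hu.orth a c hac, add_zero]
  have hv : Q v ≠ 0 := by rw [hqv]; exact hq
  have hfix : ∀ {w : Fin k → F} {e : Fin k}, e ≠ a → e ≠ c → (w = u a ∨ w = v) →
      app (refl Q w) (u e) = u e := fun {w e} h1 h2 hw => app_refl_of_ortho (by
    rcases hw with rfl | rfl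
    · exact hu.orth e a h1
    · rw [hvdef, polar_add_right, hu.orth e a h1, hu.orth e c h2, add_zero])
  have hBfix : ∀ {w : Fin k → F}, (w = u a ∨ w = v) → sconj Q w B = B := fun {w} hw => by
    refine hu.ext_lin fun e => hu.ext_vec fun f => ?_
    have hB0 : ∀ e f, (e = a ∨ e = c ∨ f = a ∨ f = c) → polar Q (B (u e)) (u f) = 0 := fun e f h => by
      by_contra hh
      obtain ⟨h1, h2, h3, h4⟩ := hB e f hh
      tauto
    have hBz : ∀ e, (e = a ∨ e = c) → B (u e) = 0 := fun e he => hu.ext_vec fun f => by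
      rw [hB0 e f (by tauto), polar_zero_left]
    have hBi : ∀ y, app (refl Q w) (B y) = B y := fun y => app_refl_of_ortho (by
      have hBa : ∀ f, (f = a ∨ f = c) → polar Q (B y) (u f) = 0 := fun f hf => by
        have : (Q.polarBilin.flip (u f)).comp B = 0 := hu.ext_lin fun e => by
          rw [LinearMap.comp_apply, LinearMap.flip_apply, polarBilin_apply_apply, hB0 e f (by tauto)]
          rfl
        exact LinearMap.congr_fun this y
      rcases hw with rfl | rfl
      · exact hBa a (Or.inl rfl)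
      · rw [hvdef, polar_add_right, hBa a (Or.inl rfl), hBa c (Or.inr rfl), add_zero])
    rw [sconj, Module.End.mul_apply, Module.End.mul_apply, hBi]
    congr 1
    have : B.comp (app (refl Q w)) = B := hu.ext_lin fun e => by
      rw [LinearMap.comp_apply]
      by_cases he : e = a ∨ e = c
      · rw [app_refl, map_sub, map_smul, hBz e he]
        rcases hw with rfl | rfl
        · rw [hBz a (Or.inl rfl), smul_zero, sub_zero]
        · rw [hvdef, map_add B, hBz a (Or.inl rfl), hBz c (Or.inr rfl), add_zero, smul_zero, sub_zero]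
      · push Not at he
        rw [hfix he.1 he.2 hw]
    exact LinearMap.congr_fun this _
  obtain ⟨t, ht⟩ := hsc (u a) v (hu.nz a) hv (by rw [hBfix (Or.inr rfl), hBfix (Or.inl rfl)])
  have hAm : A (u m) = 0 := hu.ext_vec fun f => by
    rw [polar_zero_left]
    by_contra hh
    rcases hA m f hh with ⟨h, -⟩ | ⟨h, -⟩
    · exact hma h
    · exact hmc h
  have ht0 : t = 0 := by
    have e := ht (u m)
    rw [LinearMap.sub_apply, hAm, sconj, sconj, Module.End.mul_apply, Module.End.mul_apply, Module.End.mul_apply,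
      Module.End.mul_apply, hfix hma hmc (Or.inl rfl), hfix hma hmc (Or.inr rfl), hAm, map_zero, map_zero,
      sub_zero] at e
    have := congrArg (fun z => polar Q z (u m)) e.symm
    simp only [polar_smul_left, polar_zero_left, smul_eq_mul, mul_eq_zero] at this
    exact this.resolve_right (hu.polar_self_ne m)
  have hAanti : ∀ z, app (refl Q (u a)) (A z) = -A (app (refl Q (u a)) z) := fun z => by
    have hr : ∀ e, app (refl Q (u a)) (u e) = (if e = a then (-1 : F) else 1) • u e := fun e => by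
      split_ifs with h
      · rw [h, app_refl_self (hu.nz a), neg_one_smul]
      · rw [app_refl_of_ortho (hu.orth e a h), one_smul]
    have : (app (refl Q (u a))).comp A = -(A.comp (app (refl Q (u a)))) := hu.ext_lin fun e => hu.ext_vec fun f => by
      rw [LinearMap.comp_apply, LinearMap.neg_apply, LinearMap.comp_apply, polar_neg_left]
      conv_lhs => rw [← polar_app (refl Q (u a)), ← app_mul, refl_mul_self, app_one, hr, polar_smul_right]
      rw [hr, map_smul, polar_smul_left, smul_eq_mul, smul_eq_mul]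
      by_cases hz : polar Q (A (u e)) (u f) = 0
      · rw [hz, mul_zero, mul_zero, neg_zero]
      · rcases hA e f hz with ⟨h1, h2⟩ | ⟨h1, h2⟩
        · rw [if_pos h1, if_neg (fun h : f = a => hac (h.symm.trans h2))]; ring
        · rw [if_pos h2, if_neg (fun h : e = a => hac (h.symm.trans h1))]; ring
    exact LinearMap.congr_fun this z
  have hA2 : ∀ z, app (refl Q v) (A z) = -A (app (refl Q v) z) := fun z => by
    have e := ht (app (refl Q (u a)) (app (refl Q v) z))
    rw [ht0, zero_smul, LinearMap.sub_apply, sub_eq_zero, sconj, sconj, Module.End.mul_apply,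
      Module.End.mul_apply, Module.End.mul_apply, Module.End.mul_apply, ← app_mul (refl Q (u a)) (refl Q (u a)),
      refl_mul_self, app_one, ← app_mul (refl Q v) (refl Q v), refl_mul_self, app_one] at e
    have e' := congrArg (app (refl Q (u a))) e
    rw [← app_mul (refl Q (u a)) (refl Q (u a)), refl_mul_self, app_one] at e'
    rw [← e', hAanti]
    simp only [← app_mul, ← mul_assoc, refl_mul_self, one_mul]
  have e := hA2 v
  rw [app_refl_self hv, map_neg, neg_neg] at e
  have hz : polar Q (A v) v = 0 := by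
    have e1 : polar Q (A v) v = -polar Q (A v) v := by
      conv_lhs => rw [← polar_app (refl Q v), e, app_refl_self hv, polar_neg_right]
    exact (mul_eq_zero.1 (show (2 : F) * polar Q (A v) v = 0 by linear_combination e1)).resolve_left hQ.two
  have hd : ∀ e, polar Q (A (u e)) (u e) = 0 := fun e => by
    by_contra hh
    rcases hA e e hh with ⟨h1, h2⟩ | ⟨h1, h2⟩ <;> exact hac (h1.symm.trans h2 ▸ rfl)
  rw [hvdef, map_add, polar_add_left, polar_add_right, polar_add_right, hd, hd, zero_add, add_zero,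
    hAa (u c) (u a), polar_comm (f := ⇑Q) (u c)] at hz
  exact hne ((mul_eq_zero.1 (show (2 : F) * polar Q (A (u a)) (u c) = 0 by linear_combination hz)).resolve_left
    hQ.two)

/-- The criterion. -/
theorem pair_scalar (hQ : Good Q) (hk : k = 4)
    (𝒯 : Module.End F (Fin k → F) → Module.End F (Fin k → F) → Prop)
    (hsub : ∀ X Y X' Y', 𝒯 X Y → 𝒯 X' Y' → 𝒯 (X - X') (Y - Y'))
    (htw : ∀ v, Q v ≠ 0 → ∀ X Y, 𝒯 X Y → 𝒯 (sconj Q v X) (-sconj Q v Y))
    (hrot : ∀ v w, Q v ≠ 0 → Q w ≠ 0 → ∀ X Y, 𝒯 X Y → 𝒯 (sconj Q v (sconj Q w X)) (sconj Q v (sconj Q w Y)))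
    (hadj : ∀ X Y, 𝒯 X Y → (∀ x y, polar Q (X x) y = polar Q x (X y)) ∧ ∀ x y, polar Q (Y x) y = polar Q x (Y y))
    (hleft : ∀ X, 𝒯 X 0 → ∃ s : F, ∀ x, X x = s • x)
    (hright : ∀ Y, 𝒯 0 Y → ∃ s : F, ∀ x, Y x = s • x)
    {X Y : Module.End F (Fin k → F)} (h : 𝒯 X Y) : ∃ s : F, ∀ x, X x = s • x := by
  classical
  obtain ⟨u0, hu0⟩ : ∃ u : Fin k → Fin k → F, IsFrame Q u := CfsgLib.TensorOdd.exists_frame hQ.nd hQ.two
  by_contra hns
  obtain ⟨v, hv, hvX⟩ : ∃ v, Q v ≠ 0 ∧ ∀ l : F, X v ≠ l • v := by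
    by_contra hc
    push Not at hc
    exact hns (scalar_of_eigen (by omega) hu0 hc)
  obtain ⟨u, p, -, hup, hR⟩ := refr_vec hu0 Finset.univ (y := v) (fun j hj => absurd (Finset.mem_univ j) hj) hv
  have hu := hR.1
  obtain ⟨b, hbp, hb⟩ : ∃ b, b ≠ p ∧ polar Q (X (u p)) (u b) ≠ 0 := by
    by_contra hc
    push Not at hc
    refine hvX (polar Q (X v) v / (2 * Q v)) ?_
    conv_lhs => rw [hu.eq_sum (X v)]
    rw [Finset.sum_eq_single p]
    · rw [hup]
    · intro j _ hj
      rw [← hup, hc j hj, zero_div, zero_smul]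
    · simp
  obtain ⟨r, hrp, hrb⟩ : ∃ r, r ≠ p ∧ r ≠ b := by
    obtain ⟨r, -, hr⟩ := Finset.exists_mem_notMem_of_card_lt_card
      (lt_of_le_of_lt (Finset.card_le_two (a := p) (b := b)) (by simp; omega : 2 < (Finset.univ : Finset (Fin k)).card))
    simp only [Finset.mem_insert, Finset.mem_singleton, not_or] at hr
    exact ⟨r, hr⟩
  obtain ⟨s, hsp, hsb, hsr⟩ : ∃ s, s ≠ p ∧ s ≠ b ∧ s ≠ r := by
    obtain ⟨s, -, hs⟩ := Finset.exists_mem_notMem_of_card_lt_card
      (lt_of_le_of_lt (Finset.card_le_three (a := p) (b := b) (c := r))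
        (by simp; omega : 3 < (Finset.univ : Finset (Fin k)).card))
    simp only [Finset.mem_insert, Finset.mem_singleton, not_or] at hs
    exact ⟨s, hs⟩
  have huniv : ∀ a : Fin k, a = p ∨ a = b ∨ a = r ∨ a = s := by
    have : ({p, b, r, s} : Finset (Fin k)) = Finset.univ := Finset.eq_univ_of_card _ (by
      rw [Finset.card_insert_of_notMem, Finset.card_insert_of_notMem, Finset.card_insert_of_notMem,
        Finset.card_singleton, Fintype.card_fin, hk] <;>
        simp [hbp.symm, hrp.symm, hsp.symm, hrb.symm, hsb.symm, hsr.symm])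
    intro a
    have ha : a ∈ ({p, b, r, s} : Finset (Fin k)) := by rw [this]; exact Finset.mem_univ a
    simpa using ha
  -- keep the entries of two planes
  have h1 := hsub _ _ _ _ h (htw _ (hu.nz p) _ _ h)
  have h2 := hsub _ _ _ _ h1 (htw _ (hu.nz b) _ _ h1)
  have h3 := hsub _ _ _ _ h2 (hrot _ _ (hu.nz p) (hu.nz r) _ _ h2)
  set X1 := X - sconj Q (u p) X
  set X2 := X1 - sconj Q (u b) X1
  set X3 := X2 - sconj Q (u p) (sconj Q (u r) X2)
  set Y1 := Y - -sconj Q (u p) Y
  set Y2 := Y1 - -sconj Q (u b) Y1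
  set Y3 := Y2 - sconj Q (u p) (sconj Q (u r) Y2)
  let σ : Fin k → Fin k → F := fun m a => if a = m then -1 else 1
  have cX : ∀ a d, polar Q (X3 (u a)) (u d) = (1 - σ p a * σ p d * (σ r a * σ r d)) *
      ((1 - σ b a * σ b d) * ((1 - σ p a * σ p d) * polar Q (X (u a)) (u d))) := fun a d => by
    simp only [X3, X2, X1, LinearMap.sub_apply, polar_sub_left, sconj_coef hu, σ]
    ring
  have cY : ∀ a d, polar Q (Y3 (u a)) (u d) = (1 - σ p a * σ p d * (σ r a * σ r d)) *
      ((1 + σ b a * σ b d) * ((1 + σ p a * σ p d) * polar Q (Y (u a)) (u d))) := fun a d => by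
    simp only [Y3, Y2, Y1, LinearMap.sub_apply, LinearMap.neg_apply, polar_sub_left, polar_neg_left, sconj_coef hu,
      σ]
    ring
  have sX : ∀ a d, polar Q (X3 (u a)) (u d) ≠ 0 → (a = p ∧ d = b) ∨ (a = b ∧ d = p) := by
    intro a d hne
    rw [cX] at hne
    rcases huniv a with rfl | rfl | rfl | rfl <;> rcases huniv d with rfl | rfl | rfl | rfl <;>
      first
      | exact Or.inl ⟨rfl, rfl⟩
      | exact Or.inr ⟨rfl, rfl⟩
      | (exfalso; apply hne
         simp [σ, hbp, hrp, hsp, hrb, hsb, hsr, hbp.symm, hrp.symm, hsp.symm, hrb.symm, hsb.symm, hsr.symm])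
  have sY : ∀ a d, polar Q (Y3 (u a)) (u d) ≠ 0 → (a = r ∧ d = s) ∨ (a = s ∧ d = r) := by
    intro a d hne
    rw [cY] at hne
    rcases huniv a with rfl | rfl | rfl | rfl <;> rcases huniv d with rfl | rfl | rfl | rfl <;>
      first
      | exact Or.inl ⟨rfl, rfl⟩
      | exact Or.inr ⟨rfl, rfl⟩
      | (exfalso; apply hne
         simp [σ, hbp, hrp, hsp, hrb, hsb, hsr, hbp.symm, hrp.symm, hsp.symm, hrb.symm, hsb.symm, hsr.symm])
  have hXpb : polar Q (X3 (u p)) (u b) ≠ 0 := by
    rw [cX]
    have h2 : (2 : F) ≠ 0 := hQ.two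
    simp only [σ, if_pos, if_neg hbp, if_neg hbp.symm, if_neg hrp.symm, if_neg hrb.symm, mul_one]
    norm_num
    exact ⟨by simpa [one_add_one_eq_two] using h2, by simpa [one_add_one_eq_two] using hb⟩
  obtain ⟨hX3a, hY3a⟩ := hadj _ _ h3
  have hq1 : Q (u p) + Q (u b) = 0 := plane_key hQ hu X3 Y3 hbp.symm hrp hrb sX (fun e f hh => by
    rcases sY e f hh with ⟨rfl, rfl⟩ | ⟨rfl, rfl⟩
    · exact ⟨hrp, hrb, hsp, hsb⟩
    · exact ⟨hsp, hsb, hrp, hrb⟩) hX3a (fun v w hv hw hB => by
      have e := hsub _ _ _ _ h3 (hrot v w hv hw _ _ h3)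
      rw [hB, sub_self] at e
      exact hleft _ e) hXpb
  by_cases hY : polar Q (Y3 (u r)) (u s) = 0
  · have hY30 : Y3 = 0 := hu.ext_lin fun e => hu.ext_vec fun f => by
      rw [LinearMap.zero_apply, polar_zero_left]
      by_contra hh
      rcases sY e f hh with ⟨rfl, rfl⟩ | ⟨rfl, rfl⟩
      · exact hh hY
      · exact hh (by rw [hY3a, polar_comm]; exact hY)
    rw [hY30] at h3
    obtain ⟨l, hl⟩ := hleft _ h3
    rw [hl, polar_smul_left, hu.orth p b hbp.symm, smul_zero] at hXpb
    exact hXpb rfl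
  have hq2 : Q (u r) + Q (u s) = 0 := plane_key hQ hu Y3 X3 hsr.symm hrp.symm hsp.symm sY (fun e f hh => by
    rcases sX e f hh with ⟨rfl, rfl⟩ | ⟨rfl, rfl⟩
    · exact ⟨hrp.symm, hsp.symm, hrb.symm, hsb.symm⟩
    · exact ⟨hrb.symm, hsb.symm, hrp.symm, hsp.symm⟩) hY3a (fun v w hv hw hB => by
      have e := hsub _ _ _ _ h3 (hrot v w hv hw _ _ h3)
      rw [hB, sub_self] at e
      exact hright _ e) hY
  -- two orthogonal singular vectors
  obtain ⟨t, ht⟩ := hQ.four (by rw [Fintype.card_fin, hk]) (u p + u b) (u r + u s)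
    (by rw [QuadraticMap.map_add ⇑Q, hu.orth p b hbp.symm, add_zero, hq1])
    (by rw [QuadraticMap.map_add ⇑Q, hu.orth r s hsr.symm, add_zero, hq2])
    (by simp only [polar_add_left, polar_add_right, hu.orth p r hrp.symm, hu.orth p s hsp.symm,
      hu.orth b r hrb.symm, hu.orth b s hsb.symm, add_zero])
    (fun h0 => by
      have := congrArg (fun z => polar Q z (u p)) h0
      simp only [polar_add_left, polar_zero_left, hu.orth b p hbp, add_zero] at this
      exact hu.polar_self_ne p this)
  have := congrArg (fun z => polar Q z (u r)) ht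
  simp only [polar_add_left, polar_smul_left, hu.orth s r hsr, hu.orth p r hrp.symm, hu.orth b r hrb.symm,
    smul_zero, add_zero] at this
  exact hu.polar_self_ne r this

end CfsgLib.TensorEven
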