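import Cfsg.Agent.Lib.TensorEven.Pure

/-!
Projections onto anisotropic lines and planes of one slot, and the two displacements of such a plane: one
after which the product of the projections is the projection onto a line, and one after which the projections
do not commute.
-/

set_option autoImplicit false
set_option linter.unusedSectionVars false

namespace CfsgLib.TensorEven

open Matrix QuadraticMap CfsgLib.Orth CfsgLib.TensorOddMinus
open CfsgLib.TensorOdd (IsFrame Refr refr_vec refr_two)

variable {F : Type*} [Field F] [Fintype F] {k : ℕ} {q1 : QuadraticForm F (Fin k → F)}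

/-- The projection onto a line. -/
noncomputable def proj (q1 : QuadraticForm F (Fin k → F)) (x : Fin k → F) : Module.End F (Fin k → F) :=
  (2 * q1 x)⁻¹ • (q1.polarBilin.flip x).smulRight x

/-- The projection onto a plane with an orthogonal basis. -/
noncomputable def pl (q1 : QuadraticForm F (Fin k → F)) (x y : Fin k → F) : Module.End F (Fin k → F) :=
  proj q1 x + proj q1 y

theorem proj_apply (x z : Fin k → F) : proj q1 x z = ((2 * q1 x)⁻¹ * polar q1 z x) • x := by
  simp [proj, smul_smul]

theorem pl_apply (x y z : Fin k → F) :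
    pl q1 x y z = ((2 * q1 x)⁻¹ * polar q1 z x) • x + ((2 * q1 y)⁻¹ * polar q1 z y) • y := by
  rw [pl, LinearMap.add_apply, proj_apply, proj_apply]

theorem conj_proj (ρ : O q1) (x : Fin k → F) :
    app ρ * proj q1 x * app ρ⁻¹ = proj q1 (app ρ x) :=
  LinearMap.ext fun z => by
    rw [Module.End.mul_apply, Module.End.mul_apply, proj_apply, proj_apply, map_smul, Q_app, ← polar_app ρ,
      app_app_inv]

theorem conj_pl (ρ : O q1) (x y : Fin k → F) :
    app ρ * pl q1 x y * app ρ⁻¹ = pl q1 (app ρ x) (app ρ y) := by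
  rw [pl, pl, mul_add, add_mul, conj_proj, conj_proj]

theorem proj_mul (x y : Fin k → F) (h : polar q1 x y = 0) : proj q1 x * proj q1 y = 0 :=
  LinearMap.ext fun z => by
    rw [Module.End.mul_apply, proj_apply, proj_apply, polar_smul_left, polar_comm (f := ⇑q1) y x, h,
      smul_zero, mul_zero, zero_smul]
    rfl

theorem proj_mul_self (h2 : (2 : F) ≠ 0) {x : Fin k → F} (hx : q1 x ≠ 0) : proj q1 x * proj q1 x = proj q1 x :=
  LinearMap.ext fun z => by
    rw [Module.End.mul_apply, proj_apply, proj_apply, polar_smul_left, polar_self', smul_eq_mul]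
    congr 1
    field_simp

theorem pl_mul_self (h2 : (2 : F) ≠ 0) {x y : Fin k → F} (hx : q1 x ≠ 0) (hy : q1 y ≠ 0)
    (hxy : polar q1 x y = 0) : pl q1 x y * pl q1 x y = pl q1 x y := by
  rw [pl, mul_add, add_mul, add_mul, proj_mul x y hxy, proj_mul y x (by rw [polar_comm]; exact hxy),
    proj_mul_self h2 hx, proj_mul_self h2 hy, add_zero, zero_add]

section Plane

variable (hG : Good q1) {a b : Fin k → F} (ha : q1 a ≠ 0) (hb : q1 b = q1 a) (hab : polar q1 a b = 0)
include hG ha hb hab

theorem tmap_sq (ε : F) : tmap q1 ε a b * tmap q1 ε a b = (4 * ε * q1 a * q1 a) • pl q1 a b :=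
  LinearMap.ext fun z => by
    simp only [Module.End.mul_apply, tmap_apply, polar_add_left, polar_smul_left, polar_self', smul_eq_mul,
      LinearMap.smul_apply, pl_apply, hb, hab, polar_comm (f := ⇑q1) b a]
    have h2 := hG.two
    match_scalars <;> field_simp <;> ring

theorem tmap_pl (ε : F) : pl q1 a b * tmap q1 ε a b = tmap q1 ε a b :=
  LinearMap.ext fun z => by
    simp only [Module.End.mul_apply, tmap_apply, polar_add_left, polar_smul_left, polar_self', smul_eq_mul,
      pl_apply, hb, hab, polar_comm (f := ⇑q1) b a]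
    have h2 := hG.two
    match_scalars <;> field_simp <;> ring

theorem tmap_cube (ε : F) :
    tmap q1 ε a b * (tmap q1 ε a b * tmap q1 ε a b) = (4 * ε * q1 a * q1 a) • tmap q1 ε a b := by
  rw [← mul_assoc, tmap_sq hG ha hb hab, smul_mul_assoc, tmap_pl hG ha hb hab]

/-- The plane has a member of every value. -/
theorem exists_plane_basis {d : F} (hd : d ≠ 0) :
    ∃ x y, q1 x = d ∧ q1 y = d ∧ polar q1 x y = 0 ∧ pl q1 x y = pl q1 a b := by
  obtain ⟨s, r, hsr⟩ := CfsgLib.Orth.exists_binary hG.two ha ha d
  refine ⟨s • a + r • b, (-r) • a + s • b, ?_, ?_, ?_, ?_⟩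
  · simp only [QuadraticMap.map_add ⇑q1, QuadraticMap.map_smul, polar_smul_left, polar_smul_right, hab, hb,
      smul_eq_mul]
    linear_combination hsr
  · simp only [QuadraticMap.map_add ⇑q1, QuadraticMap.map_smul, polar_smul_left, polar_smul_right, hab, hb,
      smul_eq_mul]
    linear_combination hsr
  · simp only [polar_add_left, polar_add_right, polar_smul_left, polar_smul_right, polar_self', hb, hab,
      polar_comm (f := ⇑q1) b a, smul_eq_mul]
    ring
  · refine LinearMap.ext fun z => ?_
    have h2 := hG.two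
    have e1 : q1 (s • a + r • b) = d := by
      simp only [QuadraticMap.map_add ⇑q1, QuadraticMap.map_smul, polar_smul_left, polar_smul_right, hab, hb,
        smul_eq_mul]
      linear_combination hsr
    have e2 : q1 ((-r) • a + s • b) = d := by
      simp only [QuadraticMap.map_add ⇑q1, QuadraticMap.map_smul, polar_smul_left, polar_smul_right, hab, hb,
        smul_eq_mul]
      linear_combination hsr
    rw [pl_apply, pl_apply, e1, e2, hb]
    simp only [polar_add_right, polar_smul_right, smul_eq_mul]
    have hinv : (2 * q1 a)⁻¹ = (s * s + r * r) * (2 * d)⁻¹ := by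
      field_simp
      linear_combination -hsr
    rw [hinv]
    match_scalars <;> ring

end Plane

/-- Two anisotropic vectors of the same value are conjugate. -/
theorem exists_move (h2 : (2 : F) ≠ 0) {x y : Fin k → F} (hx : q1 x ≠ 0) (h : q1 y = q1 x) :
    ∃ ρ : O q1, app ρ x = y := by
  by_cases hd : q1 (x - y) = 0
  · refine ⟨refl q1 y * refl q1 (x + y), ?_⟩
    have hp : polar q1 x y = 2 * q1 x := by
      rw [sub_eq_add_neg, QuadraticMap.map_add ⇑q1, QuadraticMap.map_neg, polar_neg_right, h] at hd
      linear_combination -hd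
    have he : q1 (x + y) = 4 * q1 x := by
      rw [QuadraticMap.map_add ⇑q1, h, hp]; ring
    rw [app_mul, app_refl (x + y) x, he, polar_add_right, polar_self', hp,
      show (4 * q1 x)⁻¹ * (2 * q1 x + 2 * q1 x) = 1 by
        have : (4 : F) ≠ 0 := by rw [show (4 : F) = 2 * 2 by norm_num]; exact mul_ne_zero h2 h2
        field_simp; ring,
      one_smul, show x - (x + y) = -y by abel, map_neg, app_refl_self (by rw [h]; exact hx), neg_neg]
  · refine ⟨refl q1 (x - y), ?_⟩
    have e : q1 (x - y) = 2 * q1 x - polar q1 x y := by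
      rw [sub_eq_add_neg, QuadraticMap.map_add ⇑q1, QuadraticMap.map_neg, polar_neg_right, h]; ring
    rw [app_refl, polar_sub_right, polar_self', ← e, inv_mul_cancel₀ hd, one_smul]
    abel

section Displace

variable (hG : Good q1) (hk : 4 ≤ k) {x y : Fin k → F} (hx : q1 x ≠ 0) (hy : q1 y ≠ 0)
  (hxy : polar q1 x y = 0)
include hG hk hx hy hxy

/-- Two more members of a frame through two orthogonal vectors. -/
theorem exists_two_more : ∃ (u : Fin k → Fin k → F) (i j p r : Fin k), IsFrame q1 u ∧ u i = x ∧ u j = y ∧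
    p ≠ i ∧ p ≠ j ∧ r ≠ i ∧ r ≠ j ∧ r ≠ p := by
  classical
  obtain ⟨u, i, j, hij, hu, hi, hj⟩ := exists_frame_pair hG hx hy hxy
  obtain ⟨p, -, hp⟩ := Finset.exists_mem_notMem_of_card_lt_card
    (lt_of_le_of_lt (Finset.card_le_two (a := i) (b := j)) (by simp; omega : 2 < (Finset.univ : Finset (Fin k)).card))
  obtain ⟨r, -, hr⟩ := Finset.exists_mem_notMem_of_card_lt_card
    (lt_of_le_of_lt (Finset.card_le_three (a := i) (b := j) (c := p))
      (by simp; omega : 3 < (Finset.univ : Finset (Fin k)).card))
  simp only [Finset.mem_insert, Finset.mem_singleton, not_or] at hp hr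
  exact ⟨u, i, j, p, r, hu, hi, hj, hp.1, hp.2, hr.1, hr.2.1, hr.2.2⟩

/-- A displacement after which the product of the projections is that onto a line. -/
theorem exists_common : ∃ ρ : O q1, app ρ x = x ∧ pl q1 x y * pl q1 x (app ρ y) = proj q1 x ∧
    pl q1 x (app ρ y) * pl q1 x y = proj q1 x := by
  obtain ⟨u, i, j, p, r, hu, hi, hj, hpi, hpj, hri, hrj, hrp⟩ := exists_two_more hG hk hx hy hxy
  obtain ⟨s, t, hst⟩ := CfsgLib.Orth.exists_binary hG.two (hu.nz p) (hu.nz r) (q1 y)
  set z := s • u p + t • u r with hz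
  have hqz : q1 z = q1 y := by
    simp only [hz, QuadraticMap.map_add ⇑q1, QuadraticMap.map_smul, polar_smul_left, polar_smul_right,
      hu.orth p r (Ne.symm hrp), smul_eq_mul]
    linear_combination hst
  have hzx : polar q1 z x = 0 := by
    rw [← hi, hz, polar_add_left, polar_smul_left, polar_smul_left, hu.orth p i hpi, hu.orth r i hri]; simp
  have hzy : polar q1 z y = 0 := by
    rw [← hj, hz, polar_add_left, polar_smul_left, polar_smul_left, hu.orth p j hpj, hu.orth r j hrj]; simp
  have hyz : polar q1 y z = 0 := by rw [polar_comm]; exact hzy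
  have hxz : polar q1 x z = 0 := by rw [polar_comm]; exact hzx
  refine ⟨refl q1 (y - z), app_refl_of_ortho (by rw [polar_sub_right, hxy, hxz, sub_zero]), ?_⟩
  have hqd : q1 (y - z) = 2 * q1 y := by
    rw [sub_eq_add_neg, QuadraticMap.map_add ⇑q1, QuadraticMap.map_neg, polar_neg_right, hyz, hqz]; ring
  have hρ : app (refl q1 (y - z)) y = z := by
    rw [app_refl, hqd, polar_sub_right, polar_self', hyz, sub_zero,
      inv_mul_cancel₀ (mul_ne_zero hG.two hy), one_smul]
    abel
  rw [hρ]
  have h1 := proj_mul_self hG.two hx (q1 := q1)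
  constructor
  · rw [pl, pl, mul_add, add_mul, add_mul, h1, proj_mul y x (by rw [polar_comm]; exact hxy), proj_mul x z hxz,
      proj_mul y z hyz, add_zero, add_zero, add_zero]
  · rw [pl, pl, mul_add, add_mul, add_mul, h1, proj_mul z x hzx, proj_mul x y hxy, proj_mul z y hzy, add_zero,
      add_zero, add_zero]

/-- A vector orthogonal to both, avoiding two values. -/
theorem exists_avoid (hxy' : q1 x = q1 y) : ∃ z, z ≠ 0 ∧ polar q1 x z = 0 ∧ polar q1 y z = 0 ∧ q1 z + q1 y ≠ 0 ∧
    q1 z ≠ q1 y := by
  classical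
  obtain ⟨u, i, j, p, r, hu, hi, hj, hpi, hpj, hri, hrj, hrp⟩ := exists_two_more hG hk hx hy hxy
  have ho : ∀ (s t : F), polar q1 x (s • u p + t • u r) = 0 ∧ polar q1 y (s • u p + t • u r) = 0 ∧
      q1 (s • u p + t • u r) = q1 (u p) * s ^ 2 + q1 (u r) * t ^ 2 := fun s t => by
    refine ⟨?_, ?_, ?_⟩
    · rw [← hi, polar_add_right, polar_smul_right, polar_smul_right, hu.orth i p (Ne.symm hpi),
        hu.orth i r (Ne.symm hri)]
      simp
    · rw [← hj, polar_add_right, polar_smul_right, polar_smul_right, hu.orth j p (Ne.symm hpj),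
        hu.orth j r (Ne.symm hrj)]
      simp
    · simp only [QuadraticMap.map_add ⇑q1, QuadraticMap.map_smul, polar_smul_left, polar_smul_right,
        hu.orth p r (Ne.symm hrp), smul_eq_mul]
      ring
  by_cases hη : ∃ η : F, η ≠ 0 ∧ η ≠ q1 y ∧ η ≠ -q1 y
  · obtain ⟨η, h0, h1, h2⟩ := hη
    obtain ⟨s, t, hst⟩ := CfsgLib.Orth.exists_binary hG.two (hu.nz p) (hu.nz r) η
    obtain ⟨e1, e2, e3⟩ := ho s t
    refine ⟨_, fun h => h0 ?_, e1, e2, ?_, by rw [e3, hst]; exact h1⟩
    · rw [← hst, ← e3, h, QuadraticMap.map_zero]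
    · rw [e3, hst]; exact fun h => h2 (eq_neg_of_add_eq_zero_left h)
  push Not at hη
  -- only three scalars: a singular vector
  have hy3 : (3 : F) * q1 y = 0 := by
    have h := hη (2 * q1 y) (mul_ne_zero hG.two hy) (fun h => hy (by linear_combination h))
    linear_combination h
  have h3 : (3 : F) = 0 := (mul_eq_zero.1 hy3).resolve_right hy
  have hpm : ∀ c, q1 (u c) = q1 y ∨ q1 (u c) = -q1 y := fun c =>
    (em (q1 (u c) = q1 y)).imp id fun h => hη _ (hu.nz c) h
  suffices H : ∃ z, z ≠ 0 ∧ polar q1 x z = 0 ∧ polar q1 y z = 0 ∧ q1 z = 0 by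
    obtain ⟨z, a, b, c, e⟩ := H
    exact ⟨z, a, b, c, by rw [e, zero_add]; exact hy, by rw [e]; exact Ne.symm hy⟩
  by_cases hopp : q1 (u p) + q1 (u r) = 0
  · obtain ⟨e1, e2, e3⟩ := ho 1 1
    refine ⟨_, fun h => ?_, e1, e2, by rw [e3]; linear_combination hopp⟩
    have := congrArg (fun z => polar q1 z (u p)) h
    simp only [one_smul, polar_add_left, polar_zero_left, hu.orth r p hrp, add_zero] at this
    exact hu.polar_self_ne p this
  have heq : q1 (u r) = q1 (u p) := by
    rcases hpm p with e | e <;> rcases hpm r with e' | e' <;> rw [e, e'] at hopp ⊢ <;> exact absurd (by ring) hopp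
  by_cases h5 : 5 ≤ k
  · obtain ⟨c, -, hc⟩ := Finset.exists_mem_notMem_of_card_lt_card (s := {i, j, p, r})
      (t := (Finset.univ : Finset (Fin k))) (lt_of_le_of_lt Finset.card_le_four (by simp; omega))
    simp only [Finset.mem_insert, Finset.mem_singleton, not_or] at hc
    obtain ⟨e1, e2, e3⟩ := ho 1 1
    by_cases hcp : q1 (u c) = q1 (u p)
    · refine ⟨((1 : F) • u p + (1 : F) • u r) + u c, fun h => ?_, ?_, ?_, ?_⟩
      · have := congrArg (fun z => polar q1 z (u c)) h
        simp only [one_smul, polar_add_left, polar_zero_left, hu.orth p c (Ne.symm hc.2.2.1),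
          hu.orth r c (Ne.symm hc.2.2.2), zero_add] at this
        exact hu.polar_self_ne c this
      · rw [polar_add_right, e1, ← hi, hu.orth i c (Ne.symm hc.1), add_zero]
      · rw [polar_add_right, e2, ← hj, hu.orth j c (Ne.symm hc.2.1), add_zero]
      · rw [QuadraticMap.map_add ⇑q1, e3, polar_add_left, polar_smul_left, polar_smul_left,
          hu.orth p c (Ne.symm hc.2.2.1), hu.orth r c (Ne.symm hc.2.2.2), heq, hcp, smul_zero]
        linear_combination q1 (u p) * h3
    · have hneg : q1 (u c) = -q1 (u p) := by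
        rcases hpm c with e | e <;> rcases hpm p with e' | e' <;> rw [e, e'] at hcp ⊢ <;>
          first | exact absurd rfl hcp | simp
      refine ⟨u p + u c, fun h => ?_, ?_, ?_, ?_⟩
      · have := congrArg (fun z => polar q1 z (u c)) h
        simp only [polar_add_left, polar_zero_left, hu.orth p c (Ne.symm hc.2.2.1), zero_add] at this
        exact hu.polar_self_ne c this
      · rw [← hi, polar_add_right, hu.orth i p (Ne.symm hpi), hu.orth i c (Ne.symm hc.1), add_zero]
      · rw [← hj, polar_add_right, hu.orth j p (Ne.symm hpj), hu.orth j c (Ne.symm hc.2.1), add_zero]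
      · rw [QuadraticMap.map_add ⇑q1, hneg, hu.orth p c (Ne.symm hc.2.2.1)]
        ring
  -- four dimensions: a totally singular plane
  exfalso
  have hk4 : k = 4 := by omega
  have key : ∀ v w, q1 v = 0 → q1 w = 0 → polar q1 v w = 0 → polar q1 v (u i) ≠ 0 → polar q1 w (u i) = 0 → w ≠ 0 →
      False := fun v w hv hw hvw hvi hwi hw0 => by
    obtain ⟨c, hc⟩ := hG.four (by rw [Fintype.card_fin, hk4]) w v hw hv (by rw [polar_comm]; exact hvw) hw0
    exact hvi (by rw [hc, polar_smul_left, hwi, smul_zero])
  have hyj : q1 (u j) = q1 (u i) := by rw [hi, hj, hxy']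
  have oij := hu.orth i j (fun h => hu.polar_self_ne i (by nth_rewrite 2 [h]; rw [hi, hj]; exact hxy))
  by_cases hpi' : q1 (u p) = q1 (u i)
  · refine key (u i + u j + u p) (u j - u p + u r) ?_ ?_ ?_ ?_ ?_ ?_
    · simp only [QuadraticMap.map_add ⇑q1, polar_add_left, oij, hu.orth i p (Ne.symm hpi),
        hu.orth j p (Ne.symm hpj), hyj, hpi']
      linear_combination q1 (u i) * h3
    · simp only [sub_eq_add_neg, QuadraticMap.map_add ⇑q1, QuadraticMap.map_neg, polar_add_left, polar_neg_left,
        polar_neg_right, hu.orth j p (Ne.symm hpj), hu.orth j r (Ne.symm hrj), hu.orth p r (Ne.symm hrp), hyj,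
        hpi', heq]
      linear_combination q1 (u i) * h3
    · simp only [polar_add_left, polar_add_right, polar_sub_right, polar_self', oij, hu.orth i p (Ne.symm hpi),
        hu.orth i r (Ne.symm hri), hu.orth j p (Ne.symm hpj), hu.orth j r (Ne.symm hrj), hu.orth p j hpj,
        hu.orth p r (Ne.symm hrp), hyj, hpi']
      ring
    · simp only [polar_add_left, hu.orth p i hpi, polar_comm (f := ⇑q1) (u j) (u i), oij, add_zero]
      exact hu.polar_self_ne i
    · simp only [polar_add_left, polar_sub_left, hu.orth p i hpi, hu.orth r i hri,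
        polar_comm (f := ⇑q1) (u j) (u i), oij]
      ring
    · intro h
      have := congrArg (fun z => polar q1 z (u r)) h
      simp only [polar_add_left, polar_sub_left, hu.orth j r (Ne.symm hrj), hu.orth p r (Ne.symm hrp),
        polar_zero_left, sub_zero, zero_add] at this
      exact hu.polar_self_ne r this
  · have hneg : q1 (u p) = -q1 (u i) := by
      rcases hpm p with e | e
      · exact absurd (by rw [e, hi, hxy']) hpi'
      · rw [e, hi, hxy']
    refine key (u i + u p) (u j + u r) ?_ ?_ ?_ ?_ ?_ ?_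
    · rw [QuadraticMap.map_add ⇑q1, hu.orth i p (Ne.symm hpi), hneg]; ring
    · rw [QuadraticMap.map_add ⇑q1, hu.orth j r (Ne.symm hrj), heq, hneg, hyj]; ring
    · simp only [polar_add_left, polar_add_right, oij, hu.orth i r (Ne.symm hri), hu.orth p j hpj,
        hu.orth p r (Ne.symm hrp)]
      ring
    · simp only [polar_add_left, hu.orth p i hpi, add_zero]
      exact hu.polar_self_ne i
    · simp only [polar_add_left, hu.orth r i hri, polar_comm (f := ⇑q1) (u j) (u i), oij, add_zero]
    · intro h
      have := congrArg (fun z => polar q1 z (u r)) h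
      simp only [polar_add_left, hu.orth j r (Ne.symm hrj), polar_zero_left, zero_add] at this
      exact hu.polar_self_ne r this

/-- A displacement after which the projections do not commute. -/
theorem exists_skew (hxy' : q1 x = q1 y) : ∃ (ρ : O q1) (J : Module.End F (Fin k → F)), app ρ x = x ∧ J ≠ 0 ∧
    (∀ v w, polar q1 (J v) w + polar q1 v (J w) = 0) ∧
    pl q1 x (app ρ y) * pl q1 x y - pl q1 x y * pl q1 x (app ρ y) = J := by
  obtain ⟨z, hz0, hxz, hyz, hne, hne'⟩ := exists_avoid hG hk hx hy hxy hxy'
  have hv : q1 (y + z) = q1 z + q1 y := by rw [QuadraticMap.map_add ⇑q1, hyz, add_zero, add_comm]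
  set ρ := refl q1 (y + z) with hρ
  set y' := app ρ y with hy'
  have hfix : app ρ x = x := app_refl_of_ortho (by rw [polar_add_right, hxy, hxz, add_zero])
  have hqy' : q1 y' = q1 y := by rw [hy', Q_app]
  have hxy'' : polar q1 x y' = 0 := by rw [← hfix, hy', polar_app, hxy]
  set c := 2 * q1 y / (q1 z + q1 y) with hc
  have hy'e : y' = y - c • (y + z) := by
    rw [hy', hρ, app_refl, hv, polar_add_right, polar_self', hyz, add_zero, hc]
    congr 2
    rw [div_eq_inv_mul]
  have hc0 : c ≠ 0 := div_ne_zero (mul_ne_zero hG.two hy) hne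
  have hyy' : polar q1 y y' ≠ 0 := by
    rw [hy'e, polar_sub_right, polar_smul_right, polar_add_right, polar_self', hyz, hc, add_zero, smul_eq_mul]
    intro h
    field_simp at h
    rw [mul_zero] at h
    exact hne' (by linear_combination (mul_eq_zero.1 h).resolve_left (mul_ne_zero hG.two hy))
  clear_value y' c
  set J := ((4 * q1 y * q1 y)⁻¹ * polar q1 y y') • sk q1 y y' with hJ
  refine ⟨ρ, J, hfix, fun h0 => ?_, fun v w => ?_, ?_⟩
  · have hsk : sk q1 y y' = 0 := (smul_eq_zero.1 h0).resolve_left
      (mul_ne_zero (inv_ne_zero (mul_ne_zero (mul_ne_zero (by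
        rw [show (4 : F) = 2 * 2 by norm_num]; exact mul_ne_zero hG.two hG.two) hy) hy)) hyy')
    have e := LinearMap.congr_fun hsk y
    rw [sk_apply, polar_self', LinearMap.zero_apply, sub_eq_zero] at e
    -- `y'` would be a multiple of `y`
    have e' : y' = ((2 * q1 y)⁻¹ * polar q1 y y') • y := by
      rw [← smul_smul, ← e, inv_smul_smul₀ (mul_ne_zero hG.two hy)]
    rw [hy'e] at e'
    obtain ⟨r, hr⟩ : ∃ r : F, z = r • y := by
      refine ⟨-(((2 * q1 y)⁻¹ * polar q1 y (y - c • (y + z))) - 1 + c) / c, ?_⟩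
      refine smul_right_injective _ hc0 ?_
      show c • z = c • (_ • y)
      rw [smul_smul, mul_div_cancel₀ _ hc0]
      linear_combination (norm := module) -e'
    refine hz0 ?_
    have := hyz
    rw [hr, polar_smul_right, polar_self', smul_eq_mul] at this
    rw [hr, (mul_eq_zero.1 this).resolve_right (mul_ne_zero hG.two hy), zero_smul]
  · simp only [hJ, LinearMap.smul_apply, sk_apply, polar_sub_left, polar_sub_right, polar_smul_left,
      polar_smul_right, smul_eq_mul, polar_comm (f := ⇑q1) y w, polar_comm (f := ⇑q1) y' w]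
    ring
  · rw [← hy']
    refine LinearMap.ext fun v => ?_
    simp only [LinearMap.sub_apply, Module.End.mul_apply, pl_apply, polar_add_left, polar_smul_left, polar_self',
      hqy', hxy, hxy'', polar_comm (f := ⇑q1) y x, polar_comm (f := ⇑q1) y' x, polar_comm (f := ⇑q1) y' y,
      hJ, LinearMap.smul_apply, sk_apply, smul_eq_mul]
    have h2 := hG.two
    have h4 : (4 : F) ≠ 0 := by rw [show (4 : F) = 2 * 2 by norm_num]; exact mul_ne_zero hG.two hG.two
    match_scalars <;> field_simp <;> ring

end Displace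

end CfsgLib.TensorEven
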