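import Cfsg.Agent.Lib.TensorEven.PlaneSide
import Cfsg.Agent.Lib.TensorEven.Chi

/-!
Two slots of dimension four: the centraliser of a hyperbolic plane involution over a field with at least five
elements preserves or exchanges the slices of the singular lines of the plane.
-/

set_option autoImplicit false
set_option linter.unusedSectionVars false

namespace CfsgLib.TensorEven

open Matrix QuadraticMap CfsgLib.Orth CfsgLib.TensorOddMinus
open CfsgLib.TensorOdd (IsFrame)
open CfsgLib.TensorMax63 (Hyp mid mem_mid exists_hyp exists_aniso)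

variable {ι : Type} [Fintype ι] [DecidableEq ι] {F : Type*} [Field F] [Fintype F] {k : ℕ}
variable {q : QuadraticForm F (ι → F)} {q1 : QuadraticForm F (Fin k → F)}

/-- The discriminant of four orthogonal vectors. -/
theorem Quad.disc (hG : Good q1) (hk : k = 4) {a b c d : Fin k → F} (hq : Quad q1 a b c d) :
    ¬ IsSquare (q1 a * q1 b * q1 c * q1 d) := by
  subst hk
  have hs := hq.symm
  have hu : IsFrame q1 ![a, b, c, d] := by
    refine ⟨rfl, fun i j hij => ?_, fun i => ?_, hG.two⟩
    · fin_cases i <;> fin_cases j <;> first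
        | exact absurd rfl hij
        | exact hq.ab | exact hq.ac | exact hq.ad | exact hq.bc | exact hq.bd | exact hq.cd
        | exact hs.ac | exact hs.ad | exact hs.bc | exact hs.bd
        | (show polar q1 b a = 0; rw [polar_comm]; exact hq.ab)
        | (show polar q1 d c = 0; rw [polar_comm]; exact hq.cd)
    · fin_cases i
      exacts [hq.na, hq.nb, hq.nc, hq.nd]
  have h := disc_not_square hG rfl hu
  rwa [Fin.prod_univ_four] at h

namespace Power

variable {P : Power q q1 2} {hG : Good q1} {a b c d : Fin k → F}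

theorem slice_eq (i : Fin 2) (u : Fin k → F) : P.slice hG le_rfl i u = LinearMap.range (P.ttR i u) := by
  refine le_antisymm ?_ ?_
  · rintro _ ⟨y, rfl⟩
    have h : (Submodule.mkQ (LinearMap.range (P.ttR i u))).comp ((P.D hG le_rfl i).tpR u) = 0 :=
      (std (q1 := q1) hG.two 1).ext_tp fun ys => by
        rw [LinearMap.comp_apply, LinearMap.zero_apply, Submodule.mkQ_apply, Submodule.Quotient.mk_eq_zero]
        refine ⟨ys 0, ?_⟩
        show P.tt i u (ys 0) = (P.D hG le_rfl i).tp u _
        rw [D_tp, tt]
        congr 2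
        funext l
        rw [Subsingleton.elim l 0]
    exact (Submodule.Quotient.mk_eq_zero _).1 (LinearMap.congr_fun h y)
  · rintro _ ⟨w, rfl⟩
    have := P.tp_mem_slice hG le_rfl i (i.insertNth u fun _ => w)
    rwa [Fin.insertNth_apply_same] at this

/-- An isometry fixing two vectors commutes with the involution of the other two. -/
theorem commute_of_fix (hq : Quad q1 a b c d) (i : Fin 2) {ρ : O q1} (hc : app ρ c = c) (hd : app ρ d = d) :
    Commute (P.S hG le_rfl i ρ) (P.zinv hG i a b) := by
  refine commute_symm hq.symm ?_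
  show P.S hG le_rfl i ρ * P.S hG le_rfl i _ = P.S hG le_rfl i _ * P.S hG le_rfl i ρ
  rw [← map_mul, ← map_mul]
  congr 1
  conv_rhs => rw [show refl q1 c * refl q1 d = refl q1 (app ρ c) * refl q1 (app ρ d) by rw [hc, hd]]
  rw [← refl_conj, ← refl_conj]
  group

/-- The centraliser over a field with five elements or more. -/
theorem cent_plane_big {G : Subgroup (O q)} (hB : P.Base hG le_rfl G) (hk : k = 4)
    (hS : ∀ i y, q1 y ≠ 0 → P.CentMon G (P.S hG le_rfl i (refl q1 y)))
    (hslice : ∀ g ∈ G, ∀ i j u v, q1 u = 0 → u ≠ 0 → q1 v = 0 → v ≠ 0 →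
      (P.slice hG le_rfl i u).map (app g) = P.slice hG le_rfl j v → g ∈ P.Mon)
    (h5 : 5 ≤ Fintype.card F) (hq : Quad q1 a b c d) (hab : q1 b = -q1 a) (i : Fin 2) :
    P.CentMon G (P.zinv hG i a b) := by
  classical
  intro g hg hz
  have hs := hq.symm
  have h4 : (4 : F) ≠ 0 := by rw [show (4 : F) = 2 * 2 by norm_num]; exact mul_ne_zero hG.two hG.two
  have hba : polar q1 b a = 0 := by rw [polar_comm]; exact hq.ab
  set u := a + b with hu
  set u' := (4 * q1 a)⁻¹ • (a - b) with hu'
  clear_value u u'
  have hqu : q1 u = 0 := by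
    rw [hu, QuadraticMap.map_add ⇑q1, hq.ab, hab]; ring
  have hqu' : q1 u' = 0 := by
    rw [hu', QuadraticMap.map_smul, sub_eq_add_neg, QuadraticMap.map_add ⇑q1, QuadraticMap.map_neg, polar_neg_right,
      hq.ab, hab]
    simp
  have hpair : polar q1 u u' = 1 := by
    rw [hu, hu', polar_smul_right, polar_sub_right, polar_add_left, polar_add_left, polar_self', polar_self', hab,
      hq.ab, hba, smul_eq_mul]
    have := hq.na
    field_simp
    ring
  have Pu : Hyp q1 u u' := ⟨hqu, hqu', hpair⟩
  have hu0 := Pu.ne₁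
  have hu'0 : u' ≠ 0 := fun h => one_ne_zero (by rw [← hpair, h, polar_zero_right] : (1 : F) = 0)
  have hperp : ∀ v, polar q1 v a = 0 → polar q1 v b = 0 → polar q1 v u = 0 ∧ polar q1 v u' = 0 :=
    fun v h1 h2 => by
      constructor
      · rw [hu, polar_add_right, h1, h2, add_zero]
      · rw [hu', polar_smul_right, polar_sub_right, h1, h2, sub_zero, smul_zero]
  have hcu := hperp c hs.ac hs.ad
  have hdu := hperp d hs.bc hs.bd
  -- a scalar
  obtain ⟨l, hl⟩ : ∃ l : F, l ∉ ({0, 1, -1} : Finset F) := by
    by_contra hcon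
    push Not at hcon
    have h1 : Fintype.card F ≤ ({0, 1, -1} : Finset F).card := Finset.card_le_card fun x _ => hcon x
    have := Finset.card_le_three (a := (0 : F)) (b := 1) (c := -1)
    omega
  simp only [Finset.mem_insert, Finset.mem_singleton, not_or] at hl
  obtain ⟨hl0, hl1, hl2⟩ := hl
  have hll : l * l ≠ 1 := fun h => (mul_self_eq_one_iff.1 h).elim hl1 hl2
  set ρ := refl q1 (u' - l • u) * refl q1 (u - u') with hρ
  have hv1 : q1 (u - u') = -1 := by
    rw [sub_eq_add_neg, QuadraticMap.map_add ⇑q1, QuadraticMap.map_neg, polar_neg_right, hqu, hqu', hpair]; ring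
  have hv2 : q1 (u' - l • u) = -l := by
    rw [sub_eq_add_neg, QuadraticMap.map_add ⇑q1, QuadraticMap.map_neg, polar_neg_right, QuadraticMap.map_smul,
      polar_smul_right, Pu.pair', hqu, hqu', smul_zero, zero_add, zero_add, smul_eq_mul, mul_one]
  have hρu : app ρ u = l • u := by
    have e1 : app (refl q1 (u - u')) u = u' := by
      rw [app_refl, hv1, polar_sub_right, Pu.self₁, hpair]
      norm_num
    rw [hρ, app_mul, e1, app_refl, hv2, polar_sub_right, polar_smul_right, Pu.self₂, Pu.pair', zero_sub, smul_eq_mul,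
      mul_one, inv_mul_cancel₀ (neg_ne_zero.2 hl0), one_smul]
    abel
  have hfix : ∀ v, polar q1 v u = 0 → polar q1 v u' = 0 → app ρ v = v := fun v h1 h2 => by
    rw [hρ, app_mul, app_refl_of_ortho (v := u - u') (x := v) (by rw [polar_sub_right, h1, h2, sub_zero]),
      app_refl_of_ortho (by rw [polar_sub_right, polar_smul_right, h1, h2, smul_zero, sub_zero])]
  have hρc : app ρ c = c ∧ app ρ d = d := ⟨hfix c hcu.1 hcu.2, hfix d hdu.1 hdu.2⟩
  have hρG : P.S hG le_rfl i ρ ∈ G := hB.det_mem i ρ (by
    rw [hρ, map_mul, detHom_refl (by rw [hv2]; exact neg_ne_zero.2 hl0),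
      detHom_refl (by rw [hv1]; exact neg_ne_zero.2 one_ne_zero)]
    norm_num)
  have hρz := commute_of_fix (P := P) (hG := hG) hq i hρc.1 hρc.2
  obtain ⟨ρ', hρ'c, hρ'd, hρ'⟩ := fixer hq hS (G.mul_mem (G.mul_mem hg hρG) (G.inv_mem hg))
    ((hz.mul_left hρz).mul_left hz.inv_left) fun X => by
      obtain ⟨Y, hY⟩ := maps_side hq hz.inv_left X
      rw [app_mul, app_mul, hY]
      have : app (P.S hG le_rfl i ρ) (P.side i c d Y) = P.side i c d Y := by
        obtain ⟨y, y'⟩ := Y
        rw [side_apply, map_add, S_tt, S_tt, hρc.1, hρc.2]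
      rw [this, ← hY, app_app_inv]
  have hgu : ∀ w, app (P.S hG le_rfl i ρ') (app g (P.tt i u w)) = l • app g (P.tt i u w) := fun w => by
    rw [← hρ', app_mul, app_mul, app_inv_app, S_tt, hρu, P.tt_smul_left, map_smul]
  have hdec : ∀ w, ∃ A B, app g (P.tt i u w) = P.tt i u A + P.tt i u' B := fun w => by
    obtain ⟨⟨X1, X2⟩, hX⟩ := maps_side hs (commute_symm hq hz) (w, w)
    refine ⟨(2 : F)⁻¹ • (X1 + X2), (2 * q1 a) • (X1 - X2), ?_⟩
    have hsl : ∀ w x x', P.tt i (x - x') w = P.tt i x w - P.tt i x' w := fun w => map_sub (P.ttL i w)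
    have hsr : ∀ x w w', P.tt i x (w - w') = P.tt i x w - P.tt i x w' := fun x => map_sub (P.ttR i x)
    rw [hu, P.tt_add_left, ← side_apply, hX, side_apply, hu']
    simp only [P.tt_add_left, P.tt_add_right, P.tt_smul_left, P.tt_smul_right, hsl, hsr]
    have h2 := hG.two
    have := hq.na
    match_scalars <;> field_simp <;> ring
  -- the conjugate acts on the two singular lines
  have hρ'v : ∀ v, polar q1 v c = 0 → polar q1 v d = 0 → ∃ x y : F, app ρ' v = x • u + y • u' := fun v h1 h2 => by
    have e1 : polar q1 (app ρ' v) c = 0 := by rw [← hρ'c, polar_app, h1]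
    have e2 : polar q1 (app ρ' v) d = 0 := by rw [← hρ'd, polar_app, h2]
    obtain ⟨r, s, t, m, hr⟩ := hq.span (app ρ' v)
    rw [hr] at e1 e2
    simp only [polar_add_left, polar_smul_left, hq.ac, hq.bc, hq.ad, hq.bd, hq.cd, polar_comm (f := ⇑q1) d c,
      polar_self', smul_eq_mul, mul_zero, zero_add, add_zero, mul_eq_zero, hG.two, hq.nc, hq.nd, or_false] at e1 e2
    refine ⟨(r + s) / 2, 2 * q1 a * (r - s), ?_⟩
    rw [hr, e1, e2, hu, hu']
    have h2 := hG.two
    have := hq.na
    match_scalars <;> field_simp <;> ring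
  have huc : polar q1 u c = 0 ∧ polar q1 u d = 0 ∧ polar q1 u' c = 0 ∧ polar q1 u' d = 0 := by
    rw [polar_comm (f := ⇑q1) u c, polar_comm (f := ⇑q1) u d, polar_comm (f := ⇑q1) u' c,
      polar_comm (f := ⇑q1) u' d]
    exact ⟨hcu.1, hdu.1, hcu.2, hdu.2⟩
  obtain ⟨x, y, hxy⟩ := hρ'v u huc.1 huc.2.1
  obtain ⟨x', y', hxy'⟩ := hρ'v u' huc.2.2.1 huc.2.2.2
  have hxy0 : x * y = 0 := by
    have e := Q_app ρ' u
    rw [hxy, QuadraticMap.map_add ⇑q1, QuadraticMap.map_smul, QuadraticMap.map_smul, polar_smul_left,
      polar_smul_right, hqu, hqu', hpair] at e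
    simpa using e
  have hone : x * y' + y * x' = 1 := by
    have e := polar_app ρ' u u'
    rw [hxy, hxy', hpair, polar_add_left, polar_add_right, polar_add_right] at e
    simp only [polar_smul_left, polar_smul_right, Pu.self₁, Pu.self₂, hpair, Pu.pair', smul_eq_mul] at e
    linear_combination e
  have hxy0' : x' * y' = 0 := by
    have e := Q_app ρ' u'
    rw [hxy', QuadraticMap.map_add ⇑q1, QuadraticMap.map_smul, QuadraticMap.map_smul, polar_smul_left,
      polar_smul_right, hqu, hqu', hpair] at e
    simpa using e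
  obtain ⟨v, hv, hv0, hslc⟩ : ∃ v, q1 v = 0 ∧ v ≠ 0 ∧
      ∀ w, app g (P.tt i u w) ∈ LinearMap.range (P.ttR i v) := by
    rcases mul_eq_zero.1 hxy0 with hx | hy
    · -- the lines would be exchanged
      exfalso
      subst hx
      have hy'0 : y' = 0 := by
        rcases mul_eq_zero.1 hxy0' with h | h
        · rw [h] at hone; simp at hone
        · exact h
      subst hy'0
      simp only [zero_smul, zero_add, add_zero] at hxy hxy'
      have hyx : y * x' = 1 := by simpa using hone
      have hsq : ρ' * ρ' = 1 := ext_app fun v => by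
        obtain ⟨r, s, t, m, rfl⟩ := hq.span v
        have ha : a = (2 : F)⁻¹ • u + (2 * q1 a) • u' := by
          rw [hu, hu']; have h2 := hG.two; have := hq.na; match_scalars <;> field_simp <;> ring
        have hb : b = (2 : F)⁻¹ • u - (2 * q1 a) • u' := by
          rw [hu, hu']; have h2 := hG.two; have := hq.na; match_scalars <;> field_simp <;> ring
        have hfa : ∀ v, v = u ∨ v = u' → app ρ' (app ρ' v) = v := by
          rintro v (rfl | rfl)
          · rw [hxy, map_smul, hxy', smul_smul, hyx, one_smul]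
          · rw [hxy', map_smul, hxy, smul_smul, mul_comm, hyx, one_smul]
        rw [ha, hb]
        simp only [app_mul, app_one, map_add, map_sub, map_smul, hρ'c, hρ'd, hfa u (Or.inl rfl), hfa u' (Or.inr rfl)]
      obtain ⟨w, hw⟩ : ∃ w : Fin k → F, w ≠ 0 := ⟨u, hu0⟩
      have e2 : app (P.S hG le_rfl i ρ' * P.S hG le_rfl i ρ') (app g (P.tt i u w)) = (l * l) • app g (P.tt i u w) := by
        rw [app_mul, hgu, map_smul, hgu, smul_smul]
      rw [← map_mul, hsq, map_one, app_one] at e2
      have hne : app g (P.tt i u w) ≠ 0 := fun h0 => by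
        have : P.tt i u w = P.tt i 0 w := by
          rw [show P.tt i 0 w = 0 from map_zero (P.ttL i w)]
          exact app_injective g (h0.trans (map_zero _).symm)
        exact hu0 (P.tt_cancel_left hG hw this)
      exact hll (smul_left_injective F hne (e2.symm.trans (one_smul F _).symm))
    · subst hy
      simp only [zero_smul, add_zero] at hxy
      have hxy1 : x * y' = 1 := by simpa using hone
      have hx'0 : x' = 0 := (mul_eq_zero.1 hxy0').resolve_right fun h => by simp [h] at hxy1
      subst hx'0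
      simp only [zero_smul, zero_add] at hxy'
      have key : ∀ w A B, app g (P.tt i u w) = P.tt i u A + P.tt i u' B →
          (x ≠ l → A = 0) ∧ (x = l → B = 0) := fun w A B e => by
        have e1 := hgu w
        rw [e, map_add, S_tt, S_tt, hxy, hxy', P.tt_smul_left, P.tt_smul_left] at e1
        refine ⟨fun hne => eq_zero_of_polar hG.nd fun v => ?_, fun heq => eq_zero_of_polar hG.nd fun v => ?_⟩
        · have := congrArg (fun z => polar q z (P.tt i u' v)) e1
          simp only [polar_add_left, polar_smul_left, P.polar_tt, hpair, Pu.self₂, smul_eq_mul, zero_mul, mul_zero,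
            add_zero, one_mul] at this
          exact (mul_eq_zero.1 (show (x - l) * polar q1 A v = 0 by linear_combination this)).resolve_left
            (sub_ne_zero.2 hne)
        · have := congrArg (fun z => polar q z (P.tt i u v)) e1
          simp only [polar_add_left, polar_smul_left, P.polar_tt, Pu.pair', Pu.self₁, smul_eq_mul, zero_mul, mul_zero,
            zero_add, one_mul] at this
          refine (mul_eq_zero.1 (show (y' - l) * polar q1 B v = 0 by linear_combination this)).resolve_left
            (sub_ne_zero.2 fun he => hll ?_)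
          rw [← heq] at he ⊢
          rw [← hxy1, he]
      by_cases hxl : x = l
      · refine ⟨u, hqu, hu0, fun w => ?_⟩
        obtain ⟨A, B, e⟩ := hdec w
        rw [e, (key w A B e).2 hxl]
        exact ⟨A, by rw [show P.tt i u' 0 = 0 from map_zero (P.ttR i u'), add_zero]; rfl⟩
      · refine ⟨u', hqu', hu'0, fun w => ?_⟩
        obtain ⟨A, B, e⟩ := hdec w
        rw [e, (key w A B e).1 hxl]
        exact ⟨B, by rw [show P.tt i u 0 = 0 from map_zero (P.ttR i u), zero_add]; rfl⟩
  refine hslice g hg i i u v hqu hu0 hv hv0 ?_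
  rw [slice_eq, slice_eq]
  have hinj : ∀ x : Fin k → F, x ≠ 0 → Function.Injective (P.ttR i x) := fun x hx => by
    obtain ⟨x', hx'⟩ := exists_polar_eq_one hG.nd hx
    intro w w' e
    refine sub_eq_zero.1 (eq_zero_of_polar hG.nd fun z => ?_)
    have := congrArg (fun m => polar q m (P.tt i x' z)) (show P.tt i x w = P.tt i x w' from e)
    simp only [P.polar_tt, hx', one_mul] at this
    rw [polar_sub_left, this, sub_self]
  refine Submodule.eq_of_le_of_finrank_eq ?_ ?_
  · rintro _ ⟨_, ⟨w, rfl⟩, rfl⟩
    exact hslc w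
  · rw [← LinearMap.range_comp, LinearMap.finrank_range_of_inj (hinj v hv0),
      LinearMap.finrank_range_of_inj (f := (app g).comp (P.ttR i u)) ((app_injective g).comp (hinj u hu0))]

end Power

end CfsgLib.TensorEven
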