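import Cfsg.Agent.Lib.TensorEven.PlaneEll

/-!
Two slots of dimension four: the centraliser of a plane involution of a slot is monomial.
-/

set_option autoImplicit false
set_option linter.unusedSectionVars false

namespace CfsgLib.TensorEven

open Matrix QuadraticMap CfsgLib.Orth CfsgLib.TensorOddMinus
open CfsgLib.TensorOdd (IsFrame)
open CfsgLib.TensorMax63 (Hyp mid mem_mid exists_hyp exists_aniso)

variable {ι : Type} [Fintype ι] [DecidableEq ι] {F : Type*} [Field F] [Fintype F] {k : ℕ}
variable {q : QuadraticForm F (ι → F)} {q1 : QuadraticForm F (Fin k → F)}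

namespace PlaneThree

/-- Two vectors of opposite values, not in one line, with their mutual form normalised. -/
theorem frame_of_beta (hG : Good q1) (h30 : (3 : F) = 0) {A B : Fin k → F} {ε : F}
    (hA : q1 A = -ε) (hB : q1 B = ε) (hAB : polar q1 A B = -ε) :
    q1 (A - B) = ε ∧ q1 B = ε ∧ polar q1 (A - B) B = 0 := by
  refine ⟨?_, hB, ?_⟩
  · rw [sub_eq_add_neg, QuadraticMap.map_add ⇑q1, QuadraticMap.map_neg, polar_neg_right, hA, hB, hAB]
    ring
  · rw [polar_sub_left, polar_self', hAB, hB]
    linear_combination (-ε) * h30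

end PlaneThree

namespace Power

open PlaneThree

variable {P : Power q q1 2} {hG : Good q1} {a b c d : Fin k → F}
variable {G : Subgroup (O q)} (hS : ∀ i y, q1 y ≠ 0 → P.CentMon G (P.S hG le_rfl i (refl q1 y)))
variable (hB : P.Base hG le_rfl G) (hU : P.Uni hG le_rfl G) (hk : k = 4) (h3 : Fintype.card F = 3)
variable (hq : Quad q1 a b c d) (hdc : q1 d = q1 c) {i : Fin 2}

include hS hB hU hk h3 hq hdc

omit hS hB hU hk h3 in
/-- The value of a vector of the side. -/
theorem q_side (hG : Good q1) (X : (Fin k → F) × (Fin k → F)) :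
    q (P.side i c d X) = 2 * q1 c * (q1 X.1 + q1 X.2) := by
  refine mul_left_cancel₀ hG.two ?_
  rw [← polar_self', P.polar_side hq.cd, polar_self', polar_self', hdc]
  ring

/-- No irrational image orthogonal to a rational singular line. -/
theorem no_ell {g : O q} (hg : g ∈ G) (hz : Commute g (P.zinv hG i a b)) {s : Fin k → F} (hs : q1 s = 0)
    (hs0 : s ≠ 0) {A B : Fin k → F}
    (hgs : app g (P.side i c d (s, 0)) = P.side i c d (A, B))
    (hind : ¬ ∃ (σ : Fin k → F) (x y : F), A = x • σ ∧ B = y • σ) {σ : Fin k → F} (hσ : q1 σ = 0) (hσ0 : σ ≠ 0)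
    (hσA : polar q1 A σ = 0) (hσB : polar q1 B σ = 0) : False := by
  classical
  obtain ⟨h30, hsq⟩ := CfsgLib.TensorOdd.three_facts h3
  have hne : 2 * q1 c ≠ 0 := mul_ne_zero hG.two hq.nc
  have hsum : q1 A + q1 B = 0 := by
    have e := Q_app g (P.side i c d (s, 0))
    rw [hgs, q_side hq hdc hG, q_side hq hdc hG, hs, QuadraticMap.map_zero, add_zero, mul_zero] at e
    exact (mul_eq_zero.1 e).resolve_left hne
  have hfour : ∀ x y : Fin k → F, q1 x = 0 → q1 y = 0 → polar q1 x y = 0 → x ≠ 0 → ∃ t : F, y = t • x :=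
    hG.four (by rw [Fintype.card_fin, hk])
  have hA0 : A ≠ 0 := fun h => hind ⟨B, 0, 1, by rw [h, zero_smul], (one_smul F B).symm⟩
  set α := q1 A with hαdef
  set β := polar q1 A B with hβdef
  have hqB : q1 B = -α := by linear_combination hsum
  have hα : α ≠ 0 := fun hα => by
    have hβ : β ≠ 0 := fun hβ => by
      obtain ⟨t, ht⟩ := hfour A B hα (by rw [hqB, hα, neg_zero]) hβ hA0
      exact hind ⟨A, 1, t, (one_smul F A).symm, ht⟩
    obtain ⟨t, rfl⟩ := hfour A σ hα hσ hσA hA0
    rw [polar_smul_right, polar_comm, smul_eq_mul, mul_eq_zero] at hσB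
    exact hσ0 (by rw [hσB.resolve_right hβ, zero_smul])
  have hβ : β ≠ 0 := fun hβ => by
    have hq0 : q1 (A + B) = 0 := by
      rw [QuadraticMap.map_add ⇑q1, ← hαdef, ← hβdef, hqB, hβ]; ring
    obtain ⟨t, ht⟩ := hfour σ (A + B) hσ hq0 (by
      rw [polar_add_right, polar_comm, hσA, polar_comm, hσB, add_zero]) hσ0
    have := congrArg (fun v => polar q1 v A) ht
    simp only [polar_add_left, polar_smul_left, polar_self', ← hαdef, polar_comm (f := ⇑q1) B A, ← hβdef, hβ,
      polar_comm (f := ⇑q1) σ A, hσA, smul_zero, add_zero] at this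
    exact mul_ne_zero hG.two hα this
  -- normalise
  obtain ⟨A', B', j, jj, hj, hj', hA', hB', hAB', hσA', hσB'⟩ : ∃ (A' B' : Fin k → F) (j jj : F × F),
      (A', B') = sm j (A, B) ∧ cm jj j = (1, 0) ∧ q1 A' = α ∧ q1 B' = -α ∧ polar q1 A' B' = α ∧
        polar q1 A' σ = 0 ∧ polar q1 B' σ = 0 := by
    rcases mul_self_eq_one_iff.1 (show (β * α) * (β * α) = 1 by
      linear_combination (β * β) * hsq α hα + hsq β hβ) with h | h
    · refine ⟨A, B, (1, 0), (1, 0), (sm_one _).symm, by simp [cm], rfl, hqB, ?_, hσA, hσB⟩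
      rw [← hβdef]
      exact mul_right_cancel₀ hα (by linear_combination h - hsq α hα)
    · have hβα : β = -α := mul_right_cancel₀ hα (by linear_combination h + hsq α hα)
      refine ⟨A - B, A + B, (1, 1), (-1, 1), by simp [sm, add_comm], ?_, ?_, ?_, ?_, ?_, ?_⟩
      · simp only [cm]
        refine Prod.ext ?_ ?_ <;> dsimp only
        · linear_combination -h30
        · ring
      · rw [sub_eq_add_neg, QuadraticMap.map_add ⇑q1, QuadraticMap.map_neg, polar_neg_right, ← hαdef, ← hβdef, hqB,
          hβα]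
        ring
      · rw [QuadraticMap.map_add ⇑q1, ← hαdef, ← hβdef, hqB, hβα]; ring
      · rw [polar_sub_left, polar_add_right, polar_add_right, polar_self', polar_self', ← hαdef,
          polar_comm (f := ⇑q1) B A, ← hβdef, hqB]
        linear_combination α * h30
      · rw [polar_sub_left, hσA, hσB, sub_zero]
      · rw [polar_add_left, hσA, hσB, add_zero]
  obtain ⟨hqc0, hqe0, hce⟩ := frame_of_beta hG h30 (A := A') (B := B') (ε := -α) (by rw [neg_neg]; exact hA') hB'
    (by rw [neg_neg]; exact hAB')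
  set c0 := A' - B' with hc0
  have hσc : polar q1 σ c0 = 0 := by rw [hc0, polar_sub_right, polar_comm, hσA', polar_comm, hσB', sub_zero]
  have hσe : polar q1 σ B' = 0 := by rw [polar_comm]; exact hσB'
  have hε : -α * -α = 1 := by rw [neg_mul_neg]; exact hsq α hα
  have hec : polar q1 B' c0 = 0 := by rw [polar_comm]; exact hce
  obtain ⟨t, ht⟩ := exists_polar_eq_one hG.nd hσ0
  set t' := t - (polar q1 t c0 / (2 * -α)) • c0 - (polar q1 t B' / (2 * -α)) • B' with ht'
  have hσt : polar q1 σ t' = 1 := by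
    rw [ht', polar_sub_right, polar_sub_right, polar_smul_right, polar_smul_right, ht, hσc, hσe, smul_zero,
      smul_zero, sub_zero, sub_zero]
  have h2α : 2 * -α ≠ 0 := mul_ne_zero hG.two (neg_ne_zero.2 hα)
  have htc : polar q1 t' c0 = 0 := by
    rw [ht', polar_sub_left, polar_sub_left, polar_smul_left, polar_smul_left, polar_self', hqc0, hec, smul_zero,
      sub_zero, smul_eq_mul, div_mul_cancel₀ _ h2α, sub_self]
  have hte : polar q1 t' B' = 0 := by
    rw [ht', polar_sub_left, polar_sub_left, polar_smul_left, polar_smul_left, polar_self', hqe0, hce, smul_zero,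
      sub_zero, smul_eq_mul, div_mul_cancel₀ _ h2α, sub_self]
  clear_value t'
  have hf : EllFrame q1 σ (α • (t' - q1 t' • σ)) c0 B' (-α) := by
    refine ⟨hε, hσ, ?_, hqc0, hqe0, ?_, hσc, hσe, ?_, ?_, hce⟩
    · rw [QuadraticMap.map_smul, sub_eq_add_neg, QuadraticMap.map_add ⇑q1, QuadraticMap.map_neg, polar_neg_right,
        QuadraticMap.map_smul, polar_smul_right, polar_comm (f := ⇑q1) t' σ, hσt, hσ]
      simp
    · rw [polar_smul_right, polar_sub_right, polar_smul_right, hσt, polar_self', hσ, neg_neg]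
      simp
    · rw [polar_smul_left, polar_sub_left, polar_smul_left, htc, hσc, smul_zero, sub_zero, smul_zero]
    · rw [polar_smul_left, polar_sub_left, polar_smul_left, hte, hσe, smul_zero, sub_zero, smul_zero]
  refine ell_false hS hB hU hk h3 hq hdc hg hz hs hs0 hf fun x => ?_
  have hrot : ∃ y : F × F, app g (P.side i c d (sm (0, 1) (s, 0))) = P.side i c d (sm y (A, B)) := by
    rw [← rot_side (P := P) (hG := hG) hq hdc]
    rcases rot_conj hS hB hU hk h3 hq hdc hg hz with e | e
    · refine ⟨(0, 1), ?_⟩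
      rw [← app_mul, show g * P.rot hG i c d = P.rot hG i c d * g by rw [← mul_inv_eq_iff_eq_mul]; exact e,
        app_mul, hgs, rot_side hq hdc]
    · refine ⟨(0, -1), ?_⟩
      rw [← app_mul, show g * P.rot hG i c d = (P.rot hG i c d)⁻¹ * g by rw [← mul_inv_eq_iff_eq_mul]; exact e,
        app_mul, hgs]
      apply app_injective (P.rot hG i c d)
      rw [app_app_inv, rot_side hq hdc, sm_cm]
      simp [cm, sm]
  obtain ⟨y, hy⟩ := hrot
  refine ⟨cm (x.1 • (1, 0) + x.2 • y) jj, ?_⟩
  have hp : (c0 + B', B') = (A', B') := by rw [hc0, sub_add_cancel]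
  rw [hp, hj, sm_cm]
  have hass : ∀ u : F × F, cm (cm u jj) j = u := fun u => by
    have h1 := congrArg Prod.fst hj'
    have h2 := congrArg Prod.snd hj'
    simp only [cm] at h1 h2 ⊢
    refine Prod.ext ?_ ?_ <;> dsimp only
    · linear_combination u.1 * h1 - u.2 * h2
    · linear_combination u.2 * h1 + u.1 * h2
  rw [hass]
  conv_lhs => rw [show x = x.1 • ((1 : F), (0 : F)) + x.2 • ((0 : F), (1 : F)) by ext <;> simp, sm_add, sm_smul,
    sm_smul, map_add, map_smul, map_smul, map_add, map_smul, map_smul, sm_one, hgs, hy]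
  rw [sm_add, sm_smul, sm_smul, sm_one, map_add, map_smul, map_smul]

/-- The centraliser over three elements. -/
theorem cent_plane_three : P.CentMon G (P.zinv hG i a b) := by
  classical
  intro g hg hz
  obtain ⟨h30, hsq⟩ := CfsgLib.TensorOdd.three_facts h3
  obtain ⟨s, -, hs0, hs⟩ := CfsgLib.GeomClasses.OrthTools.exists_singular hG.nd (⊤ : Submodule F (Fin k → F))
    (by rw [finrank_top, Module.finrank_fintype_fun_eq_card]; exact hG.three)
  have hne : 2 * q1 c ≠ 0 := mul_ne_zero hG.two hq.nc
  have hfour : ∀ x y : Fin k → F, q1 x = 0 → q1 y = 0 → polar q1 x y = 0 → x ≠ 0 → ∃ t : F, y = t • x :=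
    hG.four (by rw [Fintype.card_fin, hk])
  obtain ⟨⟨A, B⟩, hgs⟩ := maps_side hq hz (s, 0)
  have hsum : q1 A + q1 B = 0 := by
    have e := Q_app g (P.side i c d (s, 0))
    rw [hgs, q_side hq hdc hG, q_side hq hdc hG, hs, QuadraticMap.map_zero, add_zero, mul_zero] at e
    exact (mul_eq_zero.1 e).resolve_left hne
  by_cases hdep : ∃ (σ : Fin k → F) (x y : F), A = x • σ ∧ B = y • σ
  · obtain ⟨σ, x, y, rfl, rfl⟩ := hdep
    have hxy : x ≠ 0 ∨ y ≠ 0 := by
      by_contra hcon
      push Not at hcon
      rw [hcon.1, hcon.2, zero_smul, show ((0 : Fin k → F), (0 : Fin k → F)) = 0 from rfl, map_zero] at hgs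
      have := P.side_injective hG hq (show P.side i c d (s, 0) = P.side i c d 0 by
        rw [map_zero]; exact app_injective g (hgs.trans (map_zero _).symm))
      exact hs0 (congrArg Prod.fst this)
    have hσ0 : σ ≠ 0 := fun h => by
      rw [h, smul_zero, smul_zero, show ((0 : Fin k → F), (0 : Fin k → F)) = 0 from rfl, map_zero] at hgs
      have := P.side_injective hG hq (show P.side i c d (s, 0) = P.side i c d 0 by
        rw [map_zero]; exact app_injective g (hgs.trans (map_zero _).symm))
      exact hs0 (congrArg Prod.fst this)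
    have hσ : q1 σ = 0 := by
      rw [QuadraticMap.map_smul, QuadraticMap.map_smul, smul_eq_mul, smul_eq_mul, ← add_mul] at hsum
      refine (mul_eq_zero.1 hsum).resolve_left fun h => ?_
      by_cases hx : x = 0
      · have hy : y ≠ 0 := hxy.resolve_left fun e => e hx
        rw [hx, mul_zero, zero_add, hsq y hy] at h
        exact one_ne_zero h
      · by_cases hy : y = 0
        · rw [hy, mul_zero, add_zero, hsq x hx] at h
          exact one_ne_zero h
        · rw [hsq x hx, hsq y hy] at h
          exact hG.two (by linear_combination h)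
    refine mon_of_line hS hB hU hk hq hg hz hs hs0 hσ hσ0 fun r t => ?_
    have e : ∀ w : F, P.side i c d (r • s, t • s) = r • P.side i c d (s, 0) +
        t • app (P.rot hG i c d) (P.side i c d (s, 0)) := fun _ => by
      rw [rot_side hq hdc, ← map_smul, ← map_smul, ← map_add]
      congr 1
      simp [sm, Prod.smul_mk]
    rcases rot_conj hS hB hU hk h3 hq hdc hg hz with h | h
    · refine ⟨r * x - t * y, r * y + t * x, ?_⟩
      rw [e 0, map_add, map_smul, map_smul, ← app_mul,
        show g * P.rot hG i c d = P.rot hG i c d * g by rw [← mul_inv_eq_iff_eq_mul]; exact h, app_mul, hgs,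
        rot_side hq hdc, ← map_smul, ← map_smul, ← map_add]
      congr 1
      simp only [sm, Prod.smul_mk, Prod.mk_add_mk]
      refine Prod.ext ?_ ?_ <;> dsimp only <;> module
    · refine ⟨r * x + t * y, r * y - t * x, ?_⟩
      have hinv : app (P.rot hG i c d)⁻¹ (P.side i c d (x • σ, y • σ)) = P.side i c d (sm (0, -1) (x • σ, y • σ)) := by
        apply app_injective (P.rot hG i c d)
        rw [app_app_inv, rot_side hq hdc, sm_cm]
        simp [cm, sm]
      rw [e 0, map_add, map_smul, map_smul, ← app_mul,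
        show g * P.rot hG i c d = (P.rot hG i c d)⁻¹ * g by rw [← mul_inv_eq_iff_eq_mul]; exact h, app_mul, hgs,
        hinv, ← map_smul, ← map_smul, ← map_add]
      congr 1
      simp only [sm, Prod.smul_mk, Prod.mk_add_mk]
      refine Prod.ext ?_ ?_ <;> dsimp only <;> module
  exfalso
  by_cases hell : ∃ σ, q1 σ = 0 ∧ σ ≠ 0 ∧ polar q1 A σ = 0 ∧ polar q1 B σ = 0
  · obtain ⟨σ, h1, h2, h4, h5⟩ := hell
    exact no_ell hS hB hU hk h3 hq hdc hg hz hs hs0 hgs hdep h1 h2 h4 h5
  push Not at hell
  -- the image is orthogonal to no rational line: make it hyperbolic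
  have hA0 : A ≠ 0 := fun h => hdep ⟨B, 0, 1, by rw [h, zero_smul], (one_smul F B).symm⟩
  obtain ⟨A', B', j, hj0, hj, hα', hβ'⟩ : ∃ (A' B' : Fin k → F) (j : F × F), j ≠ 0 ∧ (A', B') = sm j (A, B) ∧
      q1 A' ≠ 0 ∧ polar q1 A' B' = 0 := by
    have hqB : q1 B = -q1 A := by linear_combination hsum
    by_cases hα : q1 A = 0
    · refine ⟨A - B, A + B, (1, 1), by simp, by simp [sm, add_comm], ?_, ?_⟩
      · rw [sub_eq_add_neg, QuadraticMap.map_add ⇑q1, QuadraticMap.map_neg, polar_neg_right, hqB, hα, neg_zero,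
          add_zero, zero_add, neg_ne_zero]
        intro hβ
        obtain ⟨t, ht⟩ := hfour A B hα (by rw [hqB, hα, neg_zero]) hβ hA0
        exact hdep ⟨A, 1, t, (one_smul F A).symm, ht⟩
      · rw [polar_sub_left, polar_add_right, polar_add_right, polar_self', polar_self', hqB, hα,
          polar_comm (f := ⇑q1) B A]
        ring
    · refine ⟨A, B, (1, 0), by simp, (sm_one _).symm, hα, ?_⟩
      by_contra hβ
      -- an elliptic pair leaves a hyperbolic complement
      set β := polar q1 A B
      obtain ⟨A', B', hA', hB', hAB', hspan⟩ : ∃ A' B' : Fin k → F, q1 A' = q1 A ∧ q1 B' = -q1 A ∧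
          polar q1 A' B' = q1 A ∧ ∀ v, polar q1 A' v = 0 → polar q1 B' v = 0 →
            polar q1 A v = 0 ∧ polar q1 B v = 0 := by
        rcases mul_self_eq_one_iff.1 (show (β * q1 A) * (β * q1 A) = 1 by
          linear_combination (β * β) * hsq _ hα + hsq β hβ) with h | h
        · exact ⟨A, B, rfl, hqB, mul_right_cancel₀ hα (by linear_combination h - hsq _ hα), fun v h1 h2 => ⟨h1, h2⟩⟩
        · have hβα : β = -q1 A := mul_right_cancel₀ hα (by linear_combination h + hsq _ hα)
          refine ⟨A - B, A + B, ?_, ?_, ?_, fun v h1 h2 => ?_⟩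
          · rw [sub_eq_add_neg, QuadraticMap.map_add ⇑q1, QuadraticMap.map_neg, polar_neg_right, hqB]
            show q1 A + -q1 A + -β = q1 A
            rw [hβα]; ring
          · rw [QuadraticMap.map_add ⇑q1, hqB]
            show q1 A + -q1 A + β = -q1 A
            rw [hβα]; ring
          · rw [polar_sub_left, polar_add_right, polar_add_right, polar_self', polar_self', hqB,
              polar_comm (f := ⇑q1) B A]
            linear_combination q1 A * h30
          · rw [polar_sub_left] at h1
            rw [polar_add_left] at h2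
            exact ⟨(mul_eq_zero.1 (show (2 : F) * polar q1 A v = 0 by linear_combination h1 + h2)).resolve_left hG.two,
              (mul_eq_zero.1 (show (2 : F) * polar q1 B v = 0 by linear_combination h2 - h1)).resolve_left hG.two⟩
      obtain ⟨hqc0, hqe0, hce⟩ := frame_of_beta hG h30 (A := A') (B := B') (ε := -q1 A) (by rw [neg_neg]; exact hA') hB'
        (by rw [neg_neg]; exact hAB')
      have hne' : (-q1 A) ≠ 0 := neg_ne_zero.2 hα
      obtain ⟨e3, e4, hQ⟩ := exists_quad hG hk (a := A' - B') (b := B') (by rw [hqc0]; exact hne')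
        (by rw [hqe0]; exact hne') hce
      have hd := hQ.disc hG hk
      rw [hqc0, hqe0, neg_mul_neg, hsq _ hα, one_mul] at hd
      have h43 : q1 e3 + q1 e4 = 0 := by
        rcases mul_self_eq_one_iff.1 (show (q1 e3 * q1 e4) * (q1 e3 * q1 e4) = 1 by
          linear_combination (q1 e4 * q1 e4) * hsq _ hQ.nc + hsq _ hQ.nd) with h | h
        · exact absurd ⟨1, by rw [h, one_mul]⟩ hd
        · exact (mul_eq_zero.1 (show q1 e3 * (q1 e3 + q1 e4) = 0 by
            linear_combination hsq _ hQ.nc + h)).resolve_left hQ.nc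
      have hperp : ∀ v, polar q1 (A' - B') v = 0 → polar q1 B' v = 0 → polar q1 A v = 0 ∧ polar q1 B v = 0 :=
        fun v h1 h2 => hspan v (by rw [← sub_add_cancel A' B', polar_add_left, h1, h2, add_zero]) h2
      obtain ⟨hA3, hB3⟩ := hperp e3 hQ.ac hQ.bc
      obtain ⟨hA4, hB4⟩ := hperp e4 hQ.ad hQ.bd
      refine hell (e3 + e4) ?_ ?_ ?_ ?_
      · rw [QuadraticMap.map_add ⇑q1, hQ.cd, add_zero]; exact h43
      · intro h
        have := congrArg (fun v => polar q1 v e3) h
        simp only [polar_add_left, polar_self', polar_comm (f := ⇑q1) e4 e3, hQ.cd, add_zero, polar_zero_left] at this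
        exact mul_ne_zero hG.two hQ.nc this
      · rw [polar_add_right, hA3, hA4, add_zero]
      · rw [polar_add_right, hB3, hB4, add_zero]
  set α := q1 A' with hαdef
  have hjinj : ∀ X : (Fin k → F) × (Fin k → F), sm j X = 0 → X = 0 := fun X h => by
    have hN : j.1 * j.1 + j.2 * j.2 ≠ 0 := by
      intro hN
      by_cases h1 : j.1 = 0
      · by_cases h2 : j.2 = 0
        · exact hj0 (Prod.ext h1 h2)
        · rw [h1, mul_zero, zero_add, hsq _ h2] at hN; exact one_ne_zero hN
      · by_cases h2 : j.2 = 0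
        · rw [h2, mul_zero, add_zero, hsq _ h1] at hN; exact one_ne_zero hN
        · rw [hsq _ h1, hsq _ h2] at hN; exact hG.two (by linear_combination hN)
    have := congrArg (sm (j.1, -j.2)) h
    rw [sm_cm, show cm (j.1, -j.2) j = (j.1 * j.1 + j.2 * j.2) • ((1 : F), (0 : F)) by
      simp only [cm, Prod.smul_mk, smul_eq_mul]; refine Prod.ext ?_ ?_ <;> dsimp only <;> ring, sm_smul, sm_one, show sm (j.1, -j.2) (0 : (Fin k → F) × (Fin k → F)) = 0 by
      simp [sm]] at this
    exact (smul_eq_zero.1 this).resolve_left hN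
  have hqB' : q1 B' = -α := by
    have hA' : A' = j.1 • A - j.2 • B := congrArg Prod.fst hj
    have hB' : B' = j.2 • A + j.1 • B := congrArg Prod.snd hj
    rw [hαdef, hA', hB', sub_eq_add_neg]
    simp only [QuadraticMap.map_add ⇑q1, QuadraticMap.map_smul, QuadraticMap.map_neg, polar_smul_left,
      polar_smul_right, polar_neg_right, smul_eq_mul]
    linear_combination (j.1 * j.1 + j.2 * j.2) * hsum
  have hB0 : q1 B' ≠ 0 := by rw [hqB']; exact neg_ne_zero.2 hα'
  -- a frame
  obtain ⟨u3, u4, hQ⟩ : ∃ u3 u4, Quad q1 A' B' u3 u4 ∧ q1 u3 = α ∧ q1 u4 = α := by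
    obtain ⟨e3, e4, hQ⟩ := exists_quad hG hk hα' hB0 hβ'
    have hd := hQ.disc hG hk
    rw [← hαdef, hqB'] at hd
    have heq : q1 e4 = q1 e3 := by
      by_contra hne'
      have : q1 e4 = -q1 e3 := by
        rcases mul_self_eq_one_iff.1 (show (q1 e3 * q1 e4) * (q1 e3 * q1 e4) = 1 by
          linear_combination (q1 e4 * q1 e4) * hsq _ hQ.nc + hsq _ hQ.nd) with h | h
        · exact absurd (mul_left_cancel₀ hQ.nc (h.trans (hsq _ hQ.nc).symm)) hne'
        · exact mul_left_cancel₀ hQ.nc (by linear_combination h + hsq _ hQ.nc)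
      exact hd ⟨1, by rw [this]; linear_combination (q1 e3 * q1 e3) * hsq _ hα' + hsq _ hQ.nc⟩
    rcases mul_self_eq_one_iff.1 (show (q1 e3 * α) * (q1 e3 * α) = 1 by
      linear_combination (α * α) * hsq _ hQ.nc + hsq _ hα') with h | h
    · have h3' : q1 e3 = α := mul_right_cancel₀ hα' (by linear_combination h - hsq _ hα')
      exact ⟨e3, e4, hQ, h3', heq.trans h3'⟩
    · have h3' : q1 e3 = -α := mul_right_cancel₀ hα' (by linear_combination h + hsq _ hα')
      have hp : q1 (e3 + e4) = α := by
        rw [QuadraticMap.map_add ⇑q1, hQ.cd, heq, h3']; linear_combination (-α) * h30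
      have hm : q1 (e3 - e4) = α := by
        rw [sub_eq_add_neg, QuadraticMap.map_add ⇑q1, QuadraticMap.map_neg, polar_neg_right, hQ.cd, heq, h3']
        linear_combination (-α) * h30
      refine ⟨e3 + e4, e3 - e4, ⟨hQ.na, hQ.nb, by rw [hp]; exact hα', by rw [hm]; exact hα', hQ.ab, ?_, ?_, ?_, ?_,
        ?_, fun v => ?_⟩, hp, hm⟩
      · rw [polar_add_right, hQ.ac, hQ.ad, add_zero]
      · rw [polar_sub_right, hQ.ac, hQ.ad, sub_zero]
      · rw [polar_add_right, hQ.bc, hQ.bd, add_zero]
      · rw [polar_sub_right, hQ.bc, hQ.bd, sub_zero]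
      · rw [polar_add_left, polar_sub_right, polar_sub_right, polar_self', polar_self', heq,
          polar_comm (f := ⇑q1) e4 e3, hQ.cd]
        ring
      · obtain ⟨r, s, t, m, rfl⟩ := hQ.span v
        refine ⟨r, s, (t + m) / 2, (t - m) / 2, ?_⟩
        have := hG.two
        match_scalars <;> field_simp <;> ring
  obtain ⟨hQ, hq3, hq4⟩ := hQ
  have hs' := hQ.symm
  have h21 : polar q1 B' A' = 0 := by rw [polar_comm]; exact hQ.ab
  have h43' : polar q1 u4 u3 = 0 := by rw [polar_comm]; exact hQ.cd
  set b' := -A' - u3 + B' with hb'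
  set a' := A' + u3 + u4 + B' with ha'
  set v := A' - b' with hv
  set w := (-A' + u3) - (-a') with hw
  have hqv : q1 v = α := by
    rw [hv, hb', show A' - (-A' - u3 + B') = (2 : F) • A' + u3 + (-1 : F) • B' by module]
    simp only [QuadraticMap.map_add ⇑q1, QuadraticMap.map_smul, polar_add_left, polar_smul_left, polar_smul_right,
      hQ.ac, hQ.ab, hs'.ad, hq3, hqB', ← hαdef, smul_eq_mul]
    linear_combination α * h30
  have hqw : q1 w = α := by
    rw [hw, ha', show -A' + u3 - -(A' + u3 + u4 + B') = (2 : F) • u3 + u4 + B' by module]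
    simp only [QuadraticMap.map_add ⇑q1, QuadraticMap.map_smul, polar_add_left, polar_smul_left, hQ.cd, hs'.ad,
      hs'.bd, hq3, hq4, hqB', smul_eq_mul]
    linear_combination α * h30
  set ρ := refl q1 w * refl q1 v with hρ
  have hρA : app ρ A' = b' := by
    have e1 : app (refl q1 v) A' = b' := by
      rw [app_refl, hqv]
      have : polar q1 A' v = α := by
        rw [hv, hb']
        simp only [polar_sub_right, polar_add_right, polar_neg_right, polar_self', hQ.ac, hQ.ab, ← hαdef]
        linear_combination α * h30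
      rw [this, inv_mul_cancel₀ hα', one_smul, hv]
      abel
    rw [hρ, app_mul, e1, app_refl_of_ortho]
    rw [hw, hb', ha']
    simp only [polar_sub_left, polar_sub_right, polar_add_left, polar_add_right, polar_neg_left, polar_neg_right,
      polar_self', hQ.ac, hQ.ab, hQ.ad, hQ.bc, hQ.bd, hQ.cd, h21, h43', hs'.ac, hs'.ad, hs'.bc, hs'.bd, hq3, hqB',
      ← hαdef]
    linear_combination (-2 * α) * h30
  have hρB : app ρ B' = -a' := by
    have e1 : app (refl q1 v) B' = -A' + u3 := by
      rw [app_refl, hqv]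
      have : polar q1 B' v = 2 * α := by
        rw [hv, hb']
        simp only [polar_sub_right, polar_add_right, polar_neg_right, polar_self', hQ.bc, h21, hqB']
        ring
      rw [this, hv, hb', show α⁻¹ * (2 * α) = (2 : F) by field_simp]
      match_scalars
      all_goals first | ring1 | linear_combination h30 | linear_combination -h30
    rw [hρ, app_mul, e1, app_refl, hqw]
    have : polar q1 (-A' + u3) w = α := by
      rw [hw, ha']
      simp only [polar_sub_right, polar_add_left, polar_add_right, polar_neg_left, polar_neg_right,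
        polar_self', hQ.ac, hQ.ab, hQ.ad, hQ.cd, hs'.ac, hs'.ad, hq3, ← hαdef]
      linear_combination α * h30
    rw [this, inv_mul_cancel₀ hα', one_smul, hw]
    abel
  have hρG : P.S hG le_rfl (i.succAbove 0) ρ ∈ G := hB.det_mem _ ρ (by
    rw [hρ, map_mul, detHom_refl (by rw [hqw]; exact hα'), detHom_refl (by rw [hqv]; exact hα')]; norm_num)
  set h := P.S hG le_rfl (i.succAbove 0) ρ with hh
  have hhz : Commute h (P.zinv hG i a b) := P.S_comm hG le_rfl _ (Fin.succAbove_ne i 0) _ _
  have hhJ : Commute h (P.rot hG i c d) := P.S_comm hG le_rfl _ (Fin.succAbove_ne i 0) _ _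
  set g' := g⁻¹ * h * g with hg'
  have hg'G : g' ∈ G := G.mul_mem (G.mul_mem (G.inv_mem hg) hρG) hg
  have hg'z : Commute g' (P.zinv hG i a b) := (hz.inv_left.mul_left hhz).mul_left hz
  have hhp : app h (P.side i c d (A', B')) = P.side i c d (b', -a') := by
    rw [hh, P.S_side', hρA, hρB]
  obtain ⟨⟨C, D⟩, hg's⟩ := maps_side hq hg'z (s, 0)
  -- the lines
  have hgline : ∀ r t : F, ∃ κ : F × F, app g (P.side i c d (r • s, t • s)) = P.side i c d (sm κ (A, B)) := by
    intro r t
    have e : P.side i c d (r • s, t • s) = r • P.side i c d (s, 0) +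
        t • app (P.rot hG i c d) (P.side i c d (s, 0)) := by
      rw [rot_side hq hdc, ← map_smul, ← map_smul, ← map_add]
      congr 1
      simp [sm, Prod.smul_mk]
    rcases rot_conj hS hB hU hk h3 hq hdc hg hz with h' | h'
    · refine ⟨(r, t), ?_⟩
      rw [e, map_add, map_smul, map_smul, ← app_mul,
        show g * P.rot hG i c d = P.rot hG i c d * g by rw [← mul_inv_eq_iff_eq_mul]; exact h', app_mul, hgs,
        rot_side hq hdc, ← map_smul, ← map_smul, ← map_add]
      congr 1
      simp [sm, Prod.smul_mk, sub_eq_add_neg, add_comm]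
    · refine ⟨(r, -t), ?_⟩
      have hinv : app (P.rot hG i c d)⁻¹ (P.side i c d (A, B)) = P.side i c d (sm (0, -1) (A, B)) := by
        apply app_injective (P.rot hG i c d)
        rw [app_app_inv, rot_side hq hdc, sm_cm]
        simp [cm, sm]
      rw [e, map_add, map_smul, map_smul, ← app_mul,
        show g * P.rot hG i c d = (P.rot hG i c d)⁻¹ * g by rw [← mul_inv_eq_iff_eq_mul]; exact h', app_mul, hgs,
        hinv, ← map_smul, ← map_smul, ← map_add]
      congr 1
      simp [sm, Prod.smul_mk, sub_eq_add_neg, add_comm]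
  have hinvj : ∃ jj : F × F, cm jj j = (1, 0) ∧ sm jj (A', B') = (A, B) := by
    have hN : j.1 * j.1 + j.2 * j.2 ≠ 0 := fun hN => by
      by_cases h1 : j.1 = 0
      · by_cases h2 : j.2 = 0
        · exact hj0 (Prod.ext h1 h2)
        · rw [h1, mul_zero, zero_add, hsq _ h2] at hN; exact one_ne_zero hN
      · by_cases h2 : j.2 = 0
        · rw [h2, mul_zero, add_zero, hsq _ h1] at hN; exact one_ne_zero hN
        · rw [hsq _ h1, hsq _ h2] at hN; exact hG.two (by linear_combination hN)
    set N := j.1 * j.1 + j.2 * j.2 with hNdef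
    have hcm : cm (N⁻¹ • (j.1, -j.2)) j = (1, 0) := by
      simp only [cm, Prod.smul_mk, smul_eq_mul]
      refine Prod.ext ?_ ?_ <;> dsimp only
      · rw [show N⁻¹ * j.1 * j.1 - N⁻¹ * -j.2 * j.2 = N⁻¹ * N by rw [hNdef]; ring, inv_mul_cancel₀ hN]
      · ring
    exact ⟨_, hcm, by rw [hj, sm_cm, hcm, sm_one]⟩
  obtain ⟨jj, -, hjj⟩ := hinvj
  -- orthogonality
  have horth : ∀ x : F × F, polar q (P.side i c d (b', -a')) (P.side i c d (sm x (A', B'))) = 0 := fun x => by
    rw [P.polar_side hq.cd, hdc]
    simp only [sm, hb', ha', polar_add_left, polar_sub_left, polar_neg_left, polar_add_right, polar_sub_right,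
      polar_smul_right, polar_self', hQ.ab, h21, hs'.ac, hs'.ad, hs'.bc, hs'.bd, hqB', ← hαdef, smul_eq_mul]
    ring
  have hCD : polar q1 C s = 0 ∧ polar q1 D s = 0 := by
    have key : ∀ r t : F, polar q (P.side i c d (C, D)) (P.side i c d (r • s, t • s)) = 0 := fun r t => by
      obtain ⟨κ, hκ⟩ := hgline r t
      obtain ⟨m1, hl1⟩ : ∃ l : F × F, P.side i c d (sm κ (A, B)) = P.side i c d (sm l (A', B')) :=
        ⟨cm κ jj, by rw [← sm_cm, hjj]⟩
      rw [← hg's, ← polar_app g, hκ, hl1, hg', app_mul, app_mul, app_app_inv, hgs, ← hjj]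
      rw [lin_sm hq hdc hhJ hhp jj]
      have h1 : ∀ X Y, polar q (P.side i c d (sm jj X)) Y =
          jj.1 * polar q (P.side i c d X) Y + jj.2 * polar q (app (P.rot hG i c d) (P.side i c d X)) Y := fun X Y => by
        rw [rot_side hq hdc, ← smul_eq_mul, ← smul_eq_mul, ← polar_smul_left, ← polar_smul_left, ← polar_add_left,
          ← map_smul, ← map_smul, ← map_add]
        congr 2
        simp only [sm, Prod.smul_mk, Prod.mk_add_mk]
        refine Prod.ext ?_ ?_ <;> simp <;> module
      rw [h1, horth, mul_zero, zero_add,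
        show P.side i c d (sm m1 (A', B')) = app (P.rot hG i c d) (P.side i c d (sm (cm (0, -1) m1) (A', B'))) by
          rw [rot_side hq hdc, sm_cm]; congr 2; simp [cm],
        polar_app, horth, mul_zero]
    constructor
    · have := key 1 0
      rw [P.polar_side hq.cd, one_smul, zero_smul, polar_zero_right, mul_zero, add_zero] at this
      exact (mul_eq_zero.1 this).resolve_left hne
    · have := key 0 1
      rw [P.polar_side hq.cd, one_smul, zero_smul, polar_zero_right, mul_zero, zero_add, hdc] at this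
      exact (mul_eq_zero.1 this).resolve_left hne
  by_cases hdep' : ∃ (σ : Fin k → F) (x y : F), C = x • σ ∧ D = y • σ
  · obtain ⟨σ, x, y, rfl, rfl⟩ := hdep'
    have hxy : ∃ r t : F, (x • σ, y • σ) = (r • s, t • s) := by
      have hqσ : x * x * q1 σ + y * y * q1 σ = 0 := by
        have e := Q_app g' (P.side i c d (s, 0))
        rw [hg's, q_side hq hdc hG, q_side hq hdc hG, hs, QuadraticMap.map_zero, add_zero, mul_zero,
          QuadraticMap.map_smul, QuadraticMap.map_smul, smul_eq_mul, smul_eq_mul] at e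
        exact (mul_eq_zero.1 e).resolve_left hne
      by_cases h0 : x = 0 ∧ y = 0
      · exact ⟨0, 0, by rw [h0.1, h0.2]; simp⟩
      have hxn : x * x + y * y ≠ 0 := fun hN => by
        by_cases h1 : x = 0
        · by_cases h2 : y = 0
          · exact h0 ⟨h1, h2⟩
          · rw [h1, mul_zero, zero_add, hsq _ h2] at hN; exact one_ne_zero hN
        · by_cases h2 : y = 0
          · rw [h2, mul_zero, add_zero, hsq _ h1] at hN; exact one_ne_zero hN
          · rw [hsq _ h1, hsq _ h2] at hN; exact hG.two (by linear_combination hN)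
      rw [← add_mul] at hqσ
      have hσs : polar q1 σ s = 0 := by
        obtain ⟨h1, h2⟩ := hCD
        rw [polar_smul_left, smul_eq_mul] at h1 h2
        by_cases hx : x = 0
        · exact (mul_eq_zero.1 h2).resolve_left fun hy => h0 ⟨hx, hy⟩
        · exact (mul_eq_zero.1 h1).resolve_left hx
      obtain ⟨t, rfl⟩ := hfour s σ hs ((mul_eq_zero.1 hqσ).resolve_left hxn) (by rw [polar_comm]; exact hσs) hs0
      exact ⟨x * t, y * t, by rw [smul_smul, smul_smul]⟩
    obtain ⟨r, t, hrt⟩ := hxy
    rw [hrt, hg', app_mul, app_mul] at hg's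
    have e := congrArg (app g) hg's
    rw [app_app_inv, hgs, ← hjj, lin_sm hq hdc hhJ hhp jj] at e
    obtain ⟨κ, hκ⟩ := hgline r t
    rw [hκ, ← hjj, sm_cm] at e
    have e2 := P.side_injective hG hq e
    -- the moved line has a component outside
    have e3 : ∀ X : (Fin k → F) × (Fin k → F), polar q1 X.1 u3 = 0 ∧ polar q1 X.2 u3 = 0 → ∀ l : F × F,
        polar q1 (sm l X).1 u3 = 0 ∧ polar q1 (sm l X).2 u3 = 0 := fun X hX l => by
      simp [sm, polar_sub_left, polar_add_left, polar_smul_left, hX.1, hX.2]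
    have hr0 := e3 (A', B') ⟨hQ.ac, hQ.bc⟩ (cm κ jj)
    rw [← e2] at hr0
    have p1 : polar q1 b' u3 = -(2 * α) := by
      rw [hb', polar_add_left, polar_sub_left, polar_neg_left, polar_self', hQ.ac, hQ.bc, hq3]; ring
    have p2 : polar q1 (-a') u3 = -(2 * α) := by
      rw [ha', polar_neg_left, polar_add_left, polar_add_left, polar_add_left, polar_self', hQ.ac, hQ.bc, h43', hq3]
      ring
    simp only [sm, polar_sub_left, polar_add_left, polar_smul_left, smul_eq_mul, p1, p2] at hr0
    have h2a : (2 : F) * α ≠ 0 := mul_ne_zero hG.two hα'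
    have d1 : jj.1 - jj.2 = 0 :=
      (mul_eq_zero.1 (show (jj.1 - jj.2) * (2 * α) = 0 by linear_combination -hr0.1)).resolve_right h2a
    have d2 : jj.2 + jj.1 = 0 :=
      (mul_eq_zero.1 (show (jj.2 + jj.1) * (2 * α) = 0 by linear_combination -hr0.2)).resolve_right h2a
    have j1 : jj.1 = 0 := (mul_eq_zero.1 (show (2 : F) * jj.1 = 0 by linear_combination d1 + d2)).resolve_left hG.two
    have j2 : jj.2 = 0 := by linear_combination d2 - j1
    rw [show jj = 0 from Prod.ext j1 j2, show sm (0 : F × F) (A', B') = 0 by simp [sm]] at hjj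
    exact hA0 (congrArg Prod.fst hjj).symm
  · exact no_ell hS hB hU hk h3 hq hdc hg'G hg'z hs hs0 hg's hdep' hs hs0 hCD.1 hCD.2

omit hS hB hU hk h3 hq hdc in
/-- The centraliser of a plane involution of a slot is monomial. -/
theorem Weak.cent_plane_four (h : P.Weak hG G) (hk : k = 4) (hU : P.Uni hG le_rfl G)
    (hS : ∀ i y, q1 y ≠ 0 → P.CentMon G (P.S hG le_rfl i (refl q1 y)))
    (hslice : ∀ g ∈ G, ∀ i j u v, q1 u = 0 → u ≠ 0 → q1 v = 0 → v ≠ 0 →
      (P.slice hG le_rfl i u).map (app g) = P.slice hG le_rfl j v → g ∈ P.Mon)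
    (i : Fin 2) {a b : Fin k → F} (ha : q1 a ≠ 0) (hb : q1 b ≠ 0) (hab : polar q1 a b = 0) :
    P.CentMon G (P.S hG le_rfl i (refl q1 a * refl q1 b)) := by
  classical
  -- the hyperbolic case
  have hyp : ∀ {a b c d : Fin k → F}, Quad q1 a b c d → IsSquare (-(q1 a * q1 b)) →
      P.CentMon G (P.zinv hG i a b) := by
    intro a b c d hq hsq
    obtain ⟨r, hr⟩ := hsq
    have hr0 : r ≠ 0 := fun h => by
      rw [h, mul_zero, neg_eq_zero] at hr
      exact mul_ne_zero hq.na hq.nb hr
    have ht : r / q1 b ≠ 0 := div_ne_zero hr0 hq.nb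
    have hb2 : q1 ((r / q1 b) • b) = -q1 a := by
      rw [QuadraticMap.map_smul, smul_eq_mul]
      have := hq.nb
      field_simp
      linear_combination -hr
    have hq1 : Quad q1 a ((r / q1 b) • b) c d :=
      ⟨hq.na, by rw [hb2]; exact neg_ne_zero.2 hq.na, hq.nc, hq.nd,
        by rw [polar_smul_right, hq.ab, smul_zero], hq.ac, hq.ad, by rw [polar_smul_left, hq.bc, smul_zero],
        by rw [polar_smul_left, hq.bd, smul_zero], hq.cd, fun v => by
          obtain ⟨x, y, z, w, rfl⟩ := hq.span v
          exact ⟨x, y / (r / q1 b), z, w, by rw [smul_smul, div_mul_cancel₀ _ ht]⟩⟩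
    have hz : P.zinv hG i a b = P.zinv hG i a ((r / q1 b) • b) := by
      rw [zinv, zinv, refl_smul ht]
    rw [hz]
    rcases CfsgLib.TensorOdd.card_field (F := F) hG.two with h3 | h5
    · obtain ⟨h30, hsq1⟩ := CfsgLib.TensorOdd.three_facts h3
      have hd := hq1.disc hG hk
      rw [hb2, mul_neg, hsq1 _ hq.na] at hd
      have hcd : q1 d = q1 c := by
        rcases mul_self_eq_one_iff.1 (show (q1 c * q1 d) * (q1 c * q1 d) = 1 by
          linear_combination (q1 d * q1 d) * hsq1 _ hq.nc + hsq1 _ hq.nd) with h' | h'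
        · exact mul_left_cancel₀ hq.nc (h'.trans (hsq1 _ hq.nc).symm)
        · exact absurd ⟨1, by linear_combination -h'⟩ hd
      exact cent_plane_three hS h.base hU hk h3 hq1 hcd
    · exact cent_plane_big h.base hk hS hslice h5 hq1 hb2 i
  obtain ⟨c, d, hq⟩ := exists_quad hG hk ha hb hab
  show P.CentMon G (P.zinv hG i a b)
  by_cases hh : IsSquare (-(q1 a * q1 b))
  · exact hyp hq hh
  · intro g hg hz
    refine hyp hq.symm ?_ g hg (commute_symm hq hz)
    have hd := hq.disc hG hk
    by_contra hh'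
    have hchar : ringChar F ≠ 2 := fun hch => hG.two (by
      haveI : CharP F 2 := ringChar.of_eq hch
      exact CharTwo.two_eq_zero)
    refine hd ?_
    have := quadraticChar_neg_one_iff_not_isSquare.2 hh
    have := quadraticChar_neg_one_iff_not_isSquare.2 hh'
    rw [← quadraticChar_one_iff_isSquare (mul_ne_zero (mul_ne_zero (mul_ne_zero hq.na hq.nb) hq.nc) hq.nd),
      show q1 a * q1 b * q1 c * q1 d = -(q1 a * q1 b) * -(q1 c * q1 d) by ring, map_mul]
    simp [*]

end Power

end CfsgLib.TensorEven
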