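import Cfsg.Agent.Lib.TensorEven.PlaneThree

/-!
Two slots of dimension four over three elements: no element of the centraliser of a hyperbolic plane involution
carries a rational singular line of the side to an irrational line orthogonal to a rational one.
-/

set_option autoImplicit false
set_option linter.unusedSectionVars false

namespace CfsgLib.TensorEven

open Matrix QuadraticMap CfsgLib.Orth CfsgLib.TensorOddMinus
open CfsgLib.TensorOdd (IsFrame)
open CfsgLib.TensorMax63 (Hyp mid mem_mid exists_hyp exists_aniso)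

variable {ι : Type} [Fintype ι] [DecidableEq ι] {F : Type*} [Field F] [Fintype F] {k : ℕ}
variable {q : QuadraticForm F (ι → F)} {q1 : QuadraticForm F (Fin k → F)}

namespace PlaneThree

/-- The coordinates of the case to be excluded. -/
structure EllFrame (q1 : QuadraticForm F (Fin k → F)) (t0 t1 c0 e0 : Fin k → F) (ε : F) : Prop where
  sq : ε * ε = 1
  q0 : q1 t0 = 0
  q01 : q1 t1 = 0
  qc : q1 c0 = ε
  qe : q1 e0 = ε
  p01 : polar q1 t0 t1 = -ε
  t0c : polar q1 t0 c0 = 0
  t0e : polar q1 t0 e0 = 0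
  t1c : polar q1 t1 c0 = 0
  t1e : polar q1 t1 e0 = 0
  ce : polar q1 c0 e0 = 0

theorem EllFrame.symm {t0 t1 c0 e0 : Fin k → F} {ε : F} (h : EllFrame q1 t0 t1 c0 e0 ε) :
    EllFrame q1 t1 t0 c0 e0 ε :=
  ⟨h.sq, h.q01, h.q0, h.qc, h.qe, by rw [polar_comm]; exact h.p01, h.t1c, h.t1e, h.t0c, h.t0e, h.ce⟩

theorem EllFrame.ne_zero {t0 t1 c0 e0 : Fin k → F} {ε : F} (h : EllFrame q1 t0 t1 c0 e0 ε) : t0 ≠ 0 := fun e => by
  have := h.p01
  rw [e, polar_zero_left, zero_eq_neg] at this
  have h2 := h.sq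
  rw [this, mul_zero] at h2
  exact zero_ne_one h2

/-- The complement of a hyperbolic pair has no singular vectors in dimension four. -/
theorem mid_aniso (hG : Good q1) (hk : k = 4) {s s' : Fin k → F} (Ps : Hyp q1 s s') {v : Fin k → F}
    (hv : v ∈ mid q1 s s') (hq : q1 v = 0) : v = 0 := by
  obtain ⟨t, rfl⟩ := hG.four (by rw [Fintype.card_fin, hk]) s v Ps.q₁ hq (mem_mid.1 hv).1 Ps.ne₁
  have := (mem_mid.1 hv).2
  rw [polar_smul_right, Ps.pair', smul_eq_mul, mul_one] at this
  rw [this, zero_smul]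

end PlaneThree

namespace Power

open PlaneThree

variable {P : Power q q1 2} {hG : Good q1} {a b c d : Fin k → F}
variable {G : Subgroup (O q)} (hS : ∀ i y, q1 y ≠ 0 → P.CentMon G (P.S hG le_rfl i (refl q1 y)))
variable (hB : P.Base hG le_rfl G) (hU : P.Uni hG le_rfl G) (hk : k = 4) (h3 : Fintype.card F = 3)
variable (hq : Quad q1 a b c d) (hdc : q1 d = q1 c) {i : Fin 2}

include hS hB hU hk h3 hq hdc

/-- Conjugation keeps the quarter turn up to inversion. -/
theorem rot_conj {g : O q} (hg : g ∈ G) (hz : Commute g (P.zinv hG i a b)) :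
    g * P.rot hG i c d * g⁻¹ = P.rot hG i c d ∨ g * P.rot hG i c d * g⁻¹ = (P.rot hG i c d)⁻¹ := by
  classical
  obtain ⟨h30, hsq⟩ := CfsgLib.TensorOdd.three_facts h3
  obtain ⟨r1, r2, r3, r4, r5⟩ := rot_vec hq hG hdc
  have hs := hq.symm
  have hrz : Commute (P.rot hG i c d) (P.zinv hG i a b) :=
    commute_symm hs (commute_of_fix (P := P) (hG := hG) hs i r3 r4)
  have hrG : P.rot hG i c d ∈ G := hB.det_mem i _ (by rw [map_mul, detHom_refl r5, detHom_refl hq.nd]; norm_num)
  have hhz := (hz.mul_left hrz).mul_left hz.inv_left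
  obtain ⟨ρ, ha, hb, hρ⟩ := fixer hs hS (G.mul_mem (G.mul_mem hg hrG) (G.inv_mem hg)) (commute_symm hq hhz)
    fun X => by
      obtain ⟨Y, hY⟩ := maps_side hs (commute_symm hq hz).inv_left X
      rw [app_mul, app_mul, hY]
      have : app (P.rot hG i c d) (P.side i a b Y) = P.side i a b Y := by
        obtain ⟨y, y'⟩ := Y
        rw [rot, side_apply, map_add, S_tt, S_tt, r3, r4]
      rw [this, ← hY, app_app_inv]
  obtain ⟨x, y, hc⟩ : ∃ x y : F, app ρ c = x • c + y • d := by
    obtain ⟨r, s, t, m, e⟩ := hq.span (app ρ c)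
    have e1 : polar q1 (app ρ c) a = 0 := by rw [← ha, polar_app, polar_comm]; exact hq.ac
    have e2 : polar q1 (app ρ c) b = 0 := by rw [← hb, polar_app, polar_comm]; exact hq.bc
    rw [e] at e1 e2
    simp only [polar_add_left, polar_smul_left, hs.ac, hs.bc, hs.ad, hs.bd, polar_comm (f := ⇑q1) b a, hq.ab,
      polar_self', smul_eq_mul, mul_zero, add_zero, zero_add, mul_eq_zero, hG.two, hq.na, hq.nb, or_false] at e1 e2
    exact ⟨t, m, by rw [e, e1, e2, zero_smul, zero_smul, zero_add, zero_add]⟩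
  obtain ⟨x', y', hd⟩ : ∃ x y : F, app ρ d = x • c + y • d := by
    obtain ⟨r, s, t, m, e⟩ := hq.span (app ρ d)
    have e1 : polar q1 (app ρ d) a = 0 := by rw [← ha, polar_app, polar_comm]; exact hq.ad
    have e2 : polar q1 (app ρ d) b = 0 := by rw [← hb, polar_app, polar_comm]; exact hq.bd
    rw [e] at e1 e2
    simp only [polar_add_left, polar_smul_left, hs.ac, hs.bc, hs.ad, hs.bd, polar_comm (f := ⇑q1) b a, hq.ab,
      polar_self', smul_eq_mul, mul_zero, add_zero, zero_add, mul_eq_zero, hG.two, hq.na, hq.nb, or_false] at e1 e2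
    exact ⟨t, m, by rw [e, e1, e2, zero_smul, zero_smul, zero_add, zero_add]⟩
  have n1 : x * x + y * y = 1 := by
    have e := Q_app ρ c
    rw [hc, QuadraticMap.map_add ⇑q1, QuadraticMap.map_smul, QuadraticMap.map_smul, polar_smul_left,
      polar_smul_right, hq.cd, hdc, smul_eq_mul, smul_eq_mul] at e
    simp only [smul_zero, add_zero] at e
    exact mul_right_cancel₀ hq.nc (by linear_combination e)
  have n2 : x' * x' + y' * y' = 1 := by
    have e := Q_app ρ d
    rw [hd, QuadraticMap.map_add ⇑q1, QuadraticMap.map_smul, QuadraticMap.map_smul, polar_smul_left,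
      polar_smul_right, hq.cd, hdc, smul_eq_mul, smul_eq_mul] at e
    simp only [smul_zero, add_zero] at e
    exact mul_right_cancel₀ hq.nc (by linear_combination e)
  have n3 : x * x' + y * y' = 0 := by
    have e := polar_app ρ c d
    rw [hc, hd, hq.cd] at e
    simp only [polar_add_left, polar_add_right, polar_smul_left, polar_smul_right, polar_self', hq.cd,
      polar_comm (f := ⇑q1) d c, hdc, smul_eq_mul, mul_zero, add_zero, zero_add] at e
    exact (mul_eq_zero.1 (show (x * x' + y * y') * (2 * q1 c) = 0 by linear_combination e)).resolve_right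
      (mul_ne_zero hG.two hq.nc)
  have hext : ∀ σ : O q1, app σ a = a → app σ b = b → app σ c = app ρ c → app σ d = app ρ d → σ = ρ :=
    fun σ h1 h2 h3 h4 => ext_app fun v => by
      obtain ⟨r, s, t, m, rfl⟩ := hq.span v
      simp only [map_add, map_smul, h1, h2, h3, h4, ha, hb]
  have xy : x = 0 ∨ y = 0 := by
    by_contra hcon
    push Not at hcon
    rw [hsq x hcon.1, hsq y hcon.2] at n1
    exact one_ne_zero (by linear_combination n1 : (1 : F) = 0)
  rcases xy with rfl | rfl
  swap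
  · -- an involution
    exfalso
    have hx : x * x = 1 := by simpa using n1
    have hx' : x' = 0 := by
      rw [zero_mul, add_zero, mul_eq_zero] at n3
      exact n3.resolve_left fun h => by simp [h] at hx
    subst hx'
    have hy' : y' * y' = 1 := by simpa using n2
    have h2 : ρ * ρ = 1 := ext_app fun v => by
      obtain ⟨r, s, t, m, rfl⟩ := hq.span v
      simp only [app_mul, app_one, map_add, map_smul, ha, hb, hc, hd, zero_smul, add_zero, zero_add, smul_smul,
        mul_assoc, hx, hy', mul_one]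
    have e : P.rot hG i c d * P.rot hG i c d = 1 := by
      have : (g * P.rot hG i c d * g⁻¹) * (g * P.rot hG i c d * g⁻¹) = 1 := by rw [hρ, ← map_mul, h2, map_one]
      calc P.rot hG i c d * P.rot hG i c d =
          g⁻¹ * ((g * P.rot hG i c d * g⁻¹) * (g * P.rot hG i c d * g⁻¹)) * g := by group
        _ = 1 := by rw [this]; group
    have e2 := congrArg (fun m => app m (P.side i c d (c, 0))) e
    simp only [app_mul, rot_side hq hdc, app_one, sm_cm] at e2
    have e3 := congrArg Prod.fst (P.side_injective hG hq e2)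
    simp only [sm, cm, mul_zero, zero_mul, zero_sub, one_mul, smul_zero, sub_zero, neg_smul, one_smul] at e3
    have hc0 : (2 : F) • c = 0 := by rw [two_smul]; nth_rewrite 1 [← e3]; rw [neg_add_cancel]
    rcases smul_eq_zero.1 hc0 with h | h
    · exact hG.two h
    · exact hq.nc (by rw [h, QuadraticMap.map_zero])
  have hy : y * y = 1 := by simpa using n1
  have hy' : y' = 0 := by
    rw [zero_mul, zero_add, mul_eq_zero] at n3
    exact n3.resolve_left fun h => by simp [h] at hy
  subst hy'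
  have hx' : x' * x' = 1 := by simpa using n2
  simp only [zero_smul, zero_add, add_zero] at hc hd
  have hy0 : y ≠ 0 := fun h => by simp [h] at hy
  -- the sign
  have hxy : x' = -y := by
    rcases mul_self_eq_one_iff.1 (show (x' * y) * (x' * y) = 1 by linear_combination hy + y * y * hx') with h | h
    · exfalso
      have h2 : ρ * ρ = 1 := ext_app fun v => by
        obtain ⟨r, s, t, m, rfl⟩ := hq.span v
        simp only [app_mul, app_one, map_add, map_smul, ha, hb, hc, hd, smul_smul, mul_assoc,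
          mul_comm y x', h, mul_one]
      have e : P.rot hG i c d * P.rot hG i c d = 1 := by
        have : (g * P.rot hG i c d * g⁻¹) * (g * P.rot hG i c d * g⁻¹) = 1 := by rw [hρ, ← map_mul, h2, map_one]
        calc P.rot hG i c d * P.rot hG i c d =
            g⁻¹ * ((g * P.rot hG i c d * g⁻¹) * (g * P.rot hG i c d * g⁻¹)) * g := by group
          _ = 1 := by rw [this]; group
      have e2 := congrArg (fun m => app m (P.side i c d (c, 0))) e
      simp only [app_mul, rot_side hq hdc, app_one, sm_cm] at e2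
      have e3 := congrArg Prod.fst (P.side_injective hG hq e2)
      simp only [sm, cm, mul_zero, zero_mul, zero_sub, one_mul, smul_zero, sub_zero, neg_smul, one_smul] at e3
      have hc0 : (2 : F) • c = 0 := by rw [two_smul]; nth_rewrite 1 [← e3]; rw [neg_add_cancel]
      rcases smul_eq_zero.1 hc0 with h | h
      · exact hG.two h
      · exact hq.nc (by rw [h, QuadraticMap.map_zero])
    · exact mul_right_cancel₀ hy0 (by linear_combination h + hy)
  subst hxy
  rcases mul_self_eq_one_iff.1 hy with rfl | rfl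
  · refine Or.inl ?_
    rw [hρ, rot, hext _ r3 r4 (by rw [r1, hc, one_smul]) (by rw [r2, hd, neg_one_smul])]
  · refine Or.inr ?_
    rw [hρ, rot, ← map_inv]
    congr 1
    refine (hext _ ?_ ?_ ?_ ?_).symm <;> apply app_injective (refl q1 (c - d) * refl q1 d) <;> rw [app_app_inv]
    · exact r3.symm
    · exact r4.symm
    · rw [hc, map_smul, r2, neg_one_smul, neg_neg]
    · rw [hd, map_smul, r1, neg_neg, one_smul]

/-- A conjugate of an element commuting with the quarter turn commutes with it. -/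
theorem commute_conj {g x : O q} (hg : g ∈ G) (hz : Commute g (P.zinv hG i a b))
    (hx : Commute x (P.rot hG i c d)) : Commute (g * x * g⁻¹) (P.rot hG i c d) := by
  have h : Commute (g * x * g⁻¹) (g * P.rot hG i c d * g⁻¹) := by
    show g * x * g⁻¹ * (g * P.rot hG i c d * g⁻¹) = g * P.rot hG i c d * g⁻¹ * (g * x * g⁻¹)
    calc _ = g * (x * P.rot hG i c d) * g⁻¹ := by group
      _ = g * (P.rot hG i c d * x) * g⁻¹ := by rw [hx.eq]
      _ = _ := by group
  rcases rot_conj hS hB hU hk h3 hq hdc hg hz with e | e <;> rw [e] at h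
  · exact h
  · simpa using h.inv_right

variable {g : O q} {s : Fin k → F}

/-- The displacements of a vector orthogonal to the line under the conjugates of the root elements. -/
theorem exists_coord (hg : g ∈ G) (hz : Commute g (P.zinv hG i a b)) {s' : Fin k → F} (Ps : Hyp q1 s s')
    {t0 t1 c0 e0 : Fin k → F} {ε : F} (hf : EllFrame q1 t0 t1 c0 e0 ε)
    (hline : ∀ x : F × F, ∃ κ : F × F,
      app g (P.side i c d (sm x (s, 0))) = P.side i c d (sm κ (c0 + e0, e0)))
    (L : F × F →ₗ[F] F × F)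
    (hL : ∀ x : F × F, app g (P.side i c d (sm x (s, 0))) = P.side i c d (sm (L x) (c0 + e0, e0))) :
    ∃ μ : ↥(mid q1 s s') →ₗ[F] F × F, Function.Injective μ ∧ ∀ c' : ↥(mid q1 s s'),
      app (g * P.S hG le_rfl (i.succAbove 0) (eich q1 s c') * g⁻¹) (P.side i c d (t0, 0)) =
        P.side i c d ((t0, 0) + sm (μ c') (c0 + e0, e0)) := by
  classical
  obtain ⟨h30, hsq⟩ := CfsgLib.TensorOdd.three_facts h3
  obtain ⟨Z, hZ⟩ := maps_side hq hz.inv_left (t0, 0)
  have key : ∀ x : F × F, polar q (P.side i c d Z) (P.side i c d (sm x (s, 0))) = 0 := fun x => by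
    rw [← polar_app g, ← hZ, app_app_inv, hL, P.polar_side hq.cd]
    simp [sm, polar_smul_right, polar_add_right, polar_sub_right, hf.t0c, hf.t0e]
  have z1 : polar q1 Z.1 s = 0 := by
    have := key (1, 0)
    rw [sm_one, P.polar_side hq.cd, polar_zero_right, mul_zero, add_zero] at this
    exact (mul_eq_zero.1 this).resolve_left (mul_ne_zero hG.two hq.nc)
  have z2 : polar q1 Z.2 s = 0 := by
    have := key (0, 1)
    rw [sm_pure, P.polar_side hq.cd, zero_smul, one_smul, polar_zero_right, mul_zero, zero_add] at this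
    exact (mul_eq_zero.1 this).resolve_left (mul_ne_zero hG.two hq.nd)
  refine ⟨L.comp (((-(q1.polarBilin Z.1)).prod (-(q1.polarBilin Z.2))).comp (mid q1 s s').subtype), ?_, ?_⟩
  · rw [← LinearMap.ker_eq_bot, Submodule.eq_bot_iff]
    rintro ⟨v, hv⟩ hker
    rw [LinearMap.mem_ker] at hker
    refine Subtype.ext ?_
    by_contra hv0
    have hqv : q1 v ≠ 0 := fun h => hv0 (mid_aniso hG hk Ps hv h)
    have hLinj : ∀ x, L x = 0 → x = 0 := fun x hx => by
      have e := hL x
      rw [hx, show sm (0 : F × F) (c0 + e0, e0) = 0 by simp [sm], map_zero] at e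
      have e2 : sm x (s, 0) = 0 := P.side_injective hG hq (by
        rw [map_zero]; exact app_injective g (e.trans (map_zero _).symm))
      rw [sm_pure, Prod.mk_eq_zero] at e2
      exact Prod.ext ((smul_eq_zero.1 e2.1).resolve_right Ps.ne₁) ((smul_eq_zero.1 e2.2).resolve_right Ps.ne₁)
    have hv12 := hLinj _ hker
    simp only [LinearMap.comp_apply, LinearMap.prod_apply, Function.prod_apply, Submodule.subtype_apply,
      LinearMap.neg_apply, polarBilin_apply_apply, Prod.mk_eq_zero, neg_eq_zero] at hv12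
    -- the parts in the complement of the pair
    set m1 := Z.1 - polar q1 Z.1 s' • s with hm1
    set m2 := Z.2 - polar q1 Z.2 s' • s with hm2
    have hsv := mem_mid.1 hv
    have hm : ∀ X : Fin k → F, polar q1 X s = 0 → polar q1 X v = 0 →
        X - polar q1 X s' • s ∈ mid q1 s s' ∧ polar q1 (X - polar q1 X s' • s) v = 0 := fun X h1 h2 => by
      refine ⟨mem_mid.2 ⟨?_, ?_⟩, ?_⟩
      · rw [polar_sub_right, polar_smul_right, Ps.self₁, smul_zero, sub_zero, polar_comm, h1]
      · rw [polar_sub_right, polar_smul_right, Ps.pair', smul_eq_mul, mul_one, polar_comm, sub_self]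
      · rw [polar_sub_left, polar_smul_left, hsv.1, h2, smul_zero, sub_zero]
    obtain ⟨hm1m, hm1v⟩ := hm Z.1 z1 hv12.1
    obtain ⟨hm2m, hm2v⟩ := hm Z.2 z2 hv12.2
    rw [← hm1] at hm1m hm1v
    rw [← hm2] at hm2m hm2v
    have hqm : ∀ (X : Fin k → F) (r : F), polar q1 X s = 0 → q1 (X - r • s) = q1 X := fun X r h => by
      rw [sub_eq_add_neg, QuadraticMap.map_add ⇑q1, QuadraticMap.map_neg, QuadraticMap.map_smul, Ps.q₁,
        polar_neg_right, polar_smul_right, h]
      simp
    have hsum : q1 m1 + q1 m2 = 0 := by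
      rw [hm1, hm2, hqm _ _ z1, hqm _ _ z2]
      have e := polar_app g⁻¹ (P.side i c d (t0, 0)) (P.side i c d (t0, 0))
      rw [hZ, P.polar_side hq.cd, P.polar_side hq.cd, polar_self', polar_self', polar_self', hf.q0,
        polar_zero_left, hdc] at e
      exact (mul_eq_zero.1 (show (2 * q1 c * 2) * (q1 Z.1 + q1 Z.2) = 0 by linear_combination e)).resolve_left
        (mul_ne_zero (mul_ne_zero hG.two hq.nc) hG.two)
    have hzero : ∀ w ∈ mid q1 s s', ∀ u ∈ mid q1 s s', q1 u ≠ 0 → polar q1 u v = 0 → polar q1 w v = 0 →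
        polar q1 w u = 0 → w = 0 := by
      intro w hw u hu hqu huv hwv hwu
      have := hG.two
      obtain ⟨hw1, hw2⟩ := mem_mid.1 hw
      obtain ⟨hu1, hu2⟩ := mem_mid.1 hu
      have hF : IsFrame q1 ![s + s', s - s', v, u] := by
        refine ⟨by simp [hk], fun x y hxy => ?_, fun x => ?_, hG.two⟩
        · fin_cases x <;> fin_cases y <;> first
            | exact absurd rfl hxy
            | simp [polar_add_left, polar_add_right, polar_sub_left, polar_sub_right, Ps.self₁, Ps.self₂, Ps.pair,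
                Ps.pair', hsv.1, hsv.2, hu1, hu2, polar_comm (f := ⇑q1) v s, polar_comm (f := ⇑q1) v s',
                polar_comm (f := ⇑q1) u s, polar_comm (f := ⇑q1) u s', huv, polar_comm (f := ⇑q1) v u]
        · fin_cases x
          · show q1 (s + s') ≠ 0
            rw [QuadraticMap.map_add ⇑q1, Ps.q₁, Ps.q₂, Ps.pair]; simp
          · show q1 (s - s') ≠ 0
            rw [sub_eq_add_neg, QuadraticMap.map_add ⇑q1, QuadraticMap.map_neg, polar_neg_right, Ps.q₁, Ps.q₂,
              Ps.pair]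
            simp
          · exact hqv
          · exact hqu
      refine hF.ext_vec fun x => ?_
      fin_cases x <;> simp [polar_add_right, polar_sub_right, polar_comm (f := ⇑q1) w s,
        polar_comm (f := ⇑q1) w s', hw1, hw2, hwv, hwu]
    have hm10 : m1 = 0 := by
      by_contra h
      have hq1 : q1 m1 ≠ 0 := fun e => h (mid_aniso hG hk Ps hm1m e)
      set l := polar q1 m2 m1 / (2 * q1 m1)
      have hw := hzero (m2 - l • m1) (Submodule.sub_mem _ hm2m (Submodule.smul_mem _ _ hm1m)) m1 hm1m hq1 hm1v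
        (by rw [polar_sub_left, polar_smul_left, hm2v, hm1v, smul_zero, sub_zero])
        (by rw [polar_sub_left, polar_smul_left, polar_self', smul_eq_mul,
          div_mul_cancel₀ _ (mul_ne_zero hG.two hq1), sub_self])
      rw [sub_eq_zero.1 hw, QuadraticMap.map_smul, smul_eq_mul] at hsum
      rcases eq_or_ne l 0 with hl | hl
      · rw [hl] at hsum; simp at hsum; exact hq1 hsum
      · rw [hsq l hl, one_mul, ← two_mul] at hsum
        exact hq1 ((mul_eq_zero.1 hsum).resolve_left hG.two)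
    have hm20 : m2 = 0 := by
      rw [hm10, QuadraticMap.map_zero, zero_add] at hsum
      exact mid_aniso hG hk Ps hm2m hsum
    -- the vector would lie in the line
    have hline0 : P.side i c d (t0, 0) =
        app g (P.side i c d (sm (polar q1 Z.1 s', polar q1 Z.2 s') (s, 0))) := by
      have j1 : Z.1 = polar q1 Z.1 s' • s := sub_eq_zero.1 hm10
      have j2 : Z.2 = polar q1 Z.2 s' • s := sub_eq_zero.1 hm20
      rw [sm_pure, ← j1, ← j2, Prod.mk.eta, ← hZ, app_app_inv]
    rw [hL] at hline0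
    have e := congrArg (fun X => polar q1 X.1 t1) (P.side_injective hG hq hline0)
    simp [sm, polar_sub_left, polar_smul_left, polar_add_left, polar_comm (f := ⇑q1) c0 t1, hf.t1c,
      polar_comm (f := ⇑q1) e0 t1, hf.t1e, hf.p01] at e
    have := hf.sq
    rw [e] at this
    simp at this
  · intro c'
    have hsc : polar q1 s c' = 0 := (mem_mid.1 c'.2).1
    have he : ∀ v, polar q1 v s = 0 → app (eich q1 s c') v = v + (-polar q1 v c') • s := fun v hv => by
      rw [app_eich Ps.q₁ hsc, hv]; module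
    rw [app_mul, app_mul, hZ, P.S_side', he _ z1, he _ z2,
      show (Z.1 + (-polar q1 Z.1 (c' : Fin k → F)) • s, Z.2 + (-polar q1 Z.2 (c' : Fin k → F)) • s) =
        Z + sm (-polar q1 Z.1 c', -polar q1 Z.2 c') (s, 0) by rw [sm_pure]; rfl,
      map_add, map_add, ← hZ, app_app_inv, hL, ← map_add]
    rfl

/-- The equations hold for the displacements. -/
theorem ell_test (hg : g ∈ G) (hz : Commute g (P.zinv hG i a b)) {s' : Fin k → F} (Ps : Hyp q1 s s')
    {t0 t1 c0 e0 : Fin k → F} {ε : F} (hf : EllFrame q1 t0 t1 c0 e0 ε)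
    (L : F × F →ₗ[F] F × F) (hLs : Function.Surjective L)
    (hL : ∀ x : F × F, app g (P.side i c d (sm x (s, 0))) = P.side i c d (sm (L x) (c0 + e0, e0)))
    (μ0 μ1 : ↥(mid q1 s s') →ₗ[F] F × F)
    (h0 : ∀ c' : ↥(mid q1 s s'), app (g * P.S hG le_rfl (i.succAbove 0) (eich q1 s c') * g⁻¹)
      (P.side i c d (t0, 0)) = P.side i c d ((t0, 0) + sm (μ0 c') (c0 + e0, e0)))
    (h1 : ∀ c' : ↥(mid q1 s s'), app (g * P.S hG le_rfl (i.succAbove 0) (eich q1 s c') * g⁻¹)
      (P.side i c d (t1, 0)) = P.side i c d ((t1, 0) + sm (μ1 c') (c0 + e0, e0)))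
    (e0' : F × F →ₗ[F] ↥(mid q1 s s')) (he0 : ∀ x, μ0 (e0' x) = x) : Test (μ1.comp e0') := by
  classical
  obtain ⟨h30, hsq⟩ := CfsgLib.TensorOdd.three_facts h3
  intro m n ν l hl hln hl0
  set p : (Fin k → F) × (Fin k → F) := (c0 + e0, e0) with hp
  set c1 := e0' m
  set c2 := e0' n
  have hmem : ∀ c' : ↥(mid q1 s s'),
      g * P.S hG le_rfl (i.succAbove 0) (eich q1 s c') * g⁻¹ ∈ G ∧
        Commute (g * P.S hG le_rfl (i.succAbove 0) (eich q1 s c') * g⁻¹) (P.zinv hG i a b) ∧
        Commute (g * P.S hG le_rfl (i.succAbove 0) (eich q1 s c') * g⁻¹) (P.rot hG i c d) ∧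
        ∀ x, app (g * P.S hG le_rfl (i.succAbove 0) (eich q1 s c') * g⁻¹) (P.side i c d (sm x p)) =
          P.side i c d (sm x p) := fun c' => by
    have hsc : polar q1 s c' = 0 := (mem_mid.1 c'.2).1
    refine ⟨G.mul_mem (G.mul_mem hg (hB.comm_mem P hG le_rfl _ (eich_mem hG Ps.q₁ hsc))) (G.inv_mem hg),
      (hz.mul_left (P.S_comm hG le_rfl _ (Fin.succAbove_ne i 0) _ _)).mul_left hz.inv_left,
      commute_conj hS hB hU hk h3 hq hdc hg hz (P.S_comm hG le_rfl _ (Fin.succAbove_ne i 0) _ _), fun x => ?_⟩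
    obtain ⟨y, rfl⟩ := hLs x
    have hfix : app (eich q1 s c') s = s := by rw [app_eich Ps.q₁ hsc, Ps.self₁, hsc]; simp
    rw [← hL, app_mul, app_mul, app_inv_app, sm_pure, P.S_side']
    simp only [map_smul, hfix]
  set R := g * P.S hG le_rfl (i.succAbove 0) (eich q1 s c1) * g⁻¹
  set R' := g * P.S hG le_rfl (i.succAbove 0) (eich q1 s c2) * g⁻¹
  obtain ⟨hRG, hRz, hRJ, hRp⟩ := hmem c1
  obtain ⟨hR'G, hR'z, hR'J, hR'p⟩ := hmem c2
  have hR0 : app R (P.side i c d (t0, 0)) = P.side i c d ((t0, 0) + sm m p) := by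
    rw [h0 c1, he0]
  have hR'0 : app R' (P.side i c d (t0, 0)) = P.side i c d ((t0, 0) + sm n p) := by
    rw [h0 c2, he0]
  have hR1 : app R (P.side i c d (t1, 0)) = P.side i c d ((t1, 0) + sm (μ1 c1) p) := h1 c1
  have hR'1 : app R' (P.side i c d (t1, 0)) = P.side i c d ((t1, 0) + sm (μ1 c2) p) := h1 c2
  show l.1 * ((cm (μ1 c1) ν).2 - (μ1 c2).2 * ν.1 - (μ1 c2).1 * ν.2) -
      l.2 * (nn ν + (cm (μ1 c1) ν).1 + (μ1 c2).1 * ν.1 - (μ1 c2).2 * ν.2) = 0
  generalize μ1 c1 = ρ at hR1 ⊢
  generalize μ1 c2 = σ at hR'1 ⊢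
  -- the root element at `t0`
  set cs : Fin k → F := (-ε * (-ν.1 + ν.2)) • c0 + (ε * ν.2) • e0 with hcs
  have hcs0 : polar q1 t0 cs = 0 := by
    rw [hcs, polar_add_right, polar_smul_right, polar_smul_right, hf.t0c, hf.t0e]; simp
  set e := eich q1 t0 cs
  set E := P.S hG le_rfl (i.succAbove 0) e
  have hEG : E ∈ G := hB.comm_mem P hG le_rfl _ (eich_mem hG hf.q0 hcs0)
  have hEz : Commute E (P.zinv hG i a b) := P.S_comm hG le_rfl _ (Fin.succAbove_ne i 0) _ _
  have hEJ : Commute E (P.rot hG i c d) := P.S_comm hG le_rfl _ (Fin.succAbove_ne i 0) _ _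
  set y := R' * E * R
  have hyG : y ∈ G := G.mul_mem (G.mul_mem hR'G hEG) hRG
  have hyz : Commute y (P.zinv hG i a b) := (hR'z.mul_left hEz).mul_left hRz
  have hyJ : Commute y (P.rot hG i c d) := (hR'J.mul_left hEJ).mul_left hRJ
  have hc0e : polar q1 e0 c0 = 0 := by rw [polar_comm]; exact hf.ce
  have pc : polar q1 c0 cs = -ε * (-ν.1 + ν.2) * (2 * ε) := by
    rw [hcs, polar_add_right, polar_smul_right, polar_smul_right, polar_self', hf.qc, hf.ce]; simp
  have pe : polar q1 e0 cs = ε * ν.2 * (2 * ε) := by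
    rw [hcs, polar_add_right, polar_smul_right, polar_smul_right, polar_self', hf.qe, hc0e]; simp
  have p1 : polar q1 t1 cs = 0 := by
    rw [hcs, polar_add_right, polar_smul_right, polar_smul_right, hf.t1c, hf.t1e]; simp
  have qcs : q1 cs = ε * nn ν := by
    rw [hcs, QuadraticMap.map_add ⇑q1, QuadraticMap.map_smul, QuadraticMap.map_smul, polar_smul_left,
      polar_smul_right, hf.qc, hf.qe, hf.ce]
    simp only [smul_eq_mul, mul_zero, add_zero, nn]
    linear_combination ((-ν.1 + ν.2) * (-ν.1 + ν.2) + ν.2 * ν.2) * ε * hf.sq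
  have hep : (app e (c0 + e0), app e e0) = p + sm ν (t0, 0) := by
    refine Prod.ext ?_ ?_
    · show app e (c0 + e0) = c0 + e0 + (ν.1 • t0 - ν.2 • (0 : Fin k → F))
      rw [app_eich hf.q0 hcs0, polar_add_left, polar_comm (f := ⇑q1) c0 t0, hf.t0c,
        polar_comm (f := ⇑q1) e0 t0, hf.t0e, polar_add_left, pc, pe]
      match_scalars <;> first | ring1 | linear_combination (-2 * ν.1) * hf.sq - ν.1 * h30
    · show app e e0 = e0 + (ν.2 • t0 + ν.1 • (0 : Fin k → F))
      rw [app_eich hf.q0 hcs0, polar_comm (f := ⇑q1) e0 t0, hf.t0e, pe]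
      match_scalars <;> first | ring1 | linear_combination (-2 * ν.2) * hf.sq - ν.2 * h30
  have hEp : ∀ x, app E (P.side i c d (sm x p)) = P.side i c d (sm x p + sm (cm x ν) (t0, 0)) := fun x => by
    rw [← sm_cm, ← sm_add_right]
    exact lin_sm hq hdc hEJ (by rw [P.S_side', hp, hep, hp]) x
  have hE0 : app E (P.side i c d (t0, 0)) = P.side i c d (t0, 0) := by
    rw [P.S_side', map_zero, app_eich hf.q0 hcs0, polar_self', hf.q0, hcs0]
    simp
  -- the line of `t0`
  have hy0 : app y (P.side i c d (t0, 0)) = P.side i c d (sm l (t0, 0)) := by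
    rw [app_mul, app_mul, hR0, map_add, map_add, hE0, hEp, ← map_add, ← add_assoc,
      add_right_comm (t0, 0) (sm m p), show (t0, (0 : Fin k → F)) + sm (cm m ν) (t0, 0) = sm l (t0, 0) by
        rw [hl, sm_add, sm_one],
      map_add, map_add, hR'p, lin_sm hq hdc hR'J hR'0 l, ← map_add, sm_add_right, sm_cm, add_assoc, ← sm_add, hln]
    simp [sm]
  have hyM : y ∈ P.Mon := by
    refine mon_of_line hS hB hU hk hq hyG hyz hf.q0 hf.ne_zero hf.q0 hf.ne_zero fun r t => ?_
    refine ⟨(cm (r, t) l).1, (cm (r, t) l).2, ?_⟩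
    have := lin_sm hq hdc hyJ hy0 (r, t)
    rwa [sm_cm, sm_pure, sm_pure] at this
  obtain ⟨κ, B, hκ⟩ := mon_side hk hq hyM hyz
  obtain ⟨hκ1, hκ2⟩ := Prod.mk.injEq .. ▸ P.side_injective hG hq ((hκ t0).symm.trans
    (hy0.trans (by rw [sm_pure])))
  -- the image of `t1`
  set X : (Fin k → F) × (Fin k → F) :=
    (app e (t1 + (ρ.1 • (c0 + e0) - ρ.2 • e0)), app e (ρ.2 • (c0 + e0) + ρ.1 • e0)) with hX
  have hy1 : app y (P.side i c d (t1, 0)) = app R' (P.side i c d X) := by
    rw [app_mul, app_mul, hR1, hX]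
    congr 1
    rw [P.S_side', hp]
    simp [sm]
  have hinv : app R'⁻¹ (P.side i c d (t1, 0)) = P.side i c d ((t1, 0) - sm σ p) := by
    apply app_injective R'
    rw [app_app_inv, map_sub, map_sub, hR'1, hR'p, map_add, add_sub_cancel_right]
  have hinv' : app R'⁻¹ (P.side i c d (0, t1)) = P.side i c d (sm (0, 1) ((t1, 0) - sm σ p)) := by
    rw [← lin_sm hq hdc hR'J.inv_left hinv (0, 1), sm_pure, zero_smul, one_smul]
  set β := polar q1 (B t1) t1
  have hdec : ∀ Y Y' : (Fin k → F) × (Fin k → F), polar q (P.side i c d Y) (P.side i c d Y') =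
      2 * q1 c * (polar q1 Y.1 Y'.1 + polar q1 Y.2 Y'.2) := fun Y Y' => by
    rw [P.polar_side hq.cd, hdc]; ring
  have hne : 2 * q1 c ≠ 0 := mul_ne_zero hG.two hq.nc
  have hP1 : κ.1 * β = polar q1 X.1 ((t1, 0) - sm σ p).1 + polar q1 X.2 ((t1, 0) - sm σ p).2 := by
    refine mul_left_cancel₀ hne ?_
    rw [← hdec, ← hinv]
    conv_rhs => rw [← polar_app R', ← hy1, app_app_inv, hκ, hdec]
    simp only [polar_smul_left, polar_zero_right, smul_eq_mul, add_zero, β]
  have hP2 : κ.2 * β =
      polar q1 X.1 (sm (0, 1) ((t1, 0) - sm σ p)).1 + polar q1 X.2 (sm (0, 1) ((t1, 0) - sm σ p)).2 := by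
    refine mul_left_cancel₀ hne ?_
    rw [← hdec, ← hinv']
    conv_rhs => rw [← polar_app R', ← hy1, app_app_inv, hκ, hdec]
    simp only [polar_smul_left, polar_zero_right, smul_eq_mul, zero_add, β]
  have hlk : l.1 * κ.2 = l.2 * κ.1 := by
    refine smul_left_injective F hf.ne_zero ?_
    show (l.1 * κ.2) • t0 = (l.2 * κ.1) • t0
    rw [mul_comm, mul_smul, ← hκ1, smul_comm, hκ2, ← mul_smul, mul_comm]
  -- evaluate
  have k1 : polar q1 t1 t0 = -ε := by rw [polar_comm]; exact hf.p01
  have ev : ∀ (v : Fin k → F) (w : Fin k → F), polar q1 (app e v) w =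
      polar q1 v w + polar q1 v t0 * polar q1 cs w + (-polar q1 v cs - q1 cs * polar q1 v t0) * polar q1 t0 w :=
    fun v w => by
      rw [app_eich hf.q0 hcs0, polar_add_left, polar_add_left, polar_smul_left, polar_smul_left]
      rfl
  have qcs' : polar q1 cs t1 = 0 := by rw [polar_comm]; exact p1
  simp only [hX, hp, sm, Prod.fst_sub, Prod.snd_sub, zero_smul, one_smul, zero_sub, add_zero, smul_zero, sub_zero,
    map_add, map_sub, map_smul, polar_add_left, polar_add_right, polar_sub_left, polar_sub_right, polar_neg_right,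
    polar_smul_left, polar_smul_right, polar_zero_left, polar_zero_right, ev, polar_self', hf.q0, hf.q01, hf.qc,
    hf.qe, hf.p01, k1, hf.t0c, hf.t0e, hf.t1c, hf.t1e, hf.ce, hc0e, polar_comm (f := ⇑q1) c0 t0,
    polar_comm (f := ⇑q1) e0 t0, polar_comm (f := ⇑q1) c0 t1, polar_comm (f := ⇑q1) e0 t1,
    polar_comm (f := ⇑q1) cs c0, polar_comm (f := ⇑q1) cs e0, qcs', qcs, p1, pc, pe, smul_eq_mul] at hP1 hP2
  obtain ⟨P1, hP1'⟩ : ∃ x, x = nn ν + (cm ρ ν).1 + σ.1 * ν.1 - σ.2 * ν.2 := ⟨_, rfl⟩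
  obtain ⟨P2, hP2'⟩ : ∃ x, x = (cm ρ ν).2 - σ.2 * ν.1 - σ.1 * ν.2 := ⟨_, rfl⟩
  have hε : ε = 1 ∨ ε = -1 := mul_self_eq_one_iff.1 hf.sq
  have f1 : κ.1 * β = -ε * P1 := by
    rw [hP1, hP1']; simp only [cm]
    rcases hε with rfl | rfl
    · linear_combination (ρ.1 * ν.1 - 2 * ρ.1 * σ.1 + ν.1 * σ.1 - ν.2 * ρ.2 - ν.2 * σ.2 - 2 * ρ.2 * σ.2) * h30
    · linear_combination -(ρ.1 * ν.1 - 2 * ρ.1 * σ.1 + ν.1 * σ.1 - ν.2 * ρ.2 - ν.2 * σ.2 - 2 * ρ.2 * σ.2) * h30
  have f2 : κ.2 * β = -ε * P2 := by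
    rw [hP2, hP2']; simp only [cm]
    rcases hε with rfl | rfl
    · linear_combination (-(σ.2 * ν.1) + 2 * σ.2 * ρ.1 + ν.1 * ρ.2 + ν.2 * ρ.1 - ν.2 * σ.1 - 2 * ρ.2 * σ.1) * h30
    · linear_combination -(-(σ.2 * ν.1) + 2 * σ.2 * ρ.1 + ν.1 * ρ.2 + ν.2 * ρ.1 - ν.2 * σ.1 - 2 * ρ.2 * σ.1) * h30
  rw [← hP1', ← hP2']
  have hε0 : ε ≠ 0 := fun h => by rcases hε with e | e <;> simp [h] at e
  refine mul_left_cancel₀ hε0 ?_
  linear_combination (-β) * hlk + l.1 * f2 - l.2 * f1

/-- No element carries a singular rational line to an irrational line orthogonal to a rational one. -/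
theorem ell_false (hg : g ∈ G) (hz : Commute g (P.zinv hG i a b)) (hs : q1 s = 0) (hs0 : s ≠ 0)
    {t0 t1 c0 e0 : Fin k → F} {ε : F} (hf : EllFrame q1 t0 t1 c0 e0 ε)
    (hline : ∀ x : F × F, ∃ κ : F × F,
      app g (P.side i c d (sm x (s, 0))) = P.side i c d (sm κ (c0 + e0, e0))) : False := by
  classical
  obtain ⟨s', Ps⟩ := exists_hyp hG.nd hs hs0
  obtain ⟨h30, hsq⟩ := CfsgLib.TensorOdd.three_facts h3
  choose κ hκ using hline
  let L : F × F →ₗ[F] F × F :=
    (LinearMap.fst F F F).smulRight (κ (1, 0)) + (LinearMap.snd F F F).smulRight (κ (0, 1))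
  have hL : ∀ x : F × F, app g (P.side i c d (sm x (s, 0))) = P.side i c d (sm (L x) (c0 + e0, e0)) := fun x => by
    have e : x = x.1 • ((1 : F), (0 : F)) + x.2 • ((0 : F), (1 : F)) := by ext <;> simp
    conv_lhs => rw [e, sm_add, sm_smul, sm_smul, map_add, map_smul, map_smul, map_add, map_smul, map_smul, hκ, hκ,
      ← map_smul, ← map_smul, ← map_add, ← sm_smul, ← sm_smul, ← sm_add]
    rfl
  have hLinj : Function.Injective L := by
    rw [← LinearMap.ker_eq_bot, Submodule.eq_bot_iff]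
    intro x hx
    rw [LinearMap.mem_ker] at hx
    have e := hL x
    rw [hx, show sm (0 : F × F) (c0 + e0, e0) = 0 by simp [sm], map_zero] at e
    have e2 : sm x (s, 0) = 0 := P.side_injective hG hq (by
      rw [map_zero]; exact app_injective g (e.trans (map_zero _).symm))
    rw [sm_pure, Prod.mk_eq_zero] at e2
    exact Prod.ext ((smul_eq_zero.1 e2.1).resolve_right Ps.ne₁) ((smul_eq_zero.1 e2.2).resolve_right Ps.ne₁)
  have hLs : Function.Surjective L := LinearMap.injective_iff_surjective.1 hLinj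
  have hline' : ∀ x : F × F, ∃ κ' : F × F,
      app g (P.side i c d (sm x (s, 0))) = P.side i c d (sm κ' (c0 + e0, e0)) := fun x => ⟨_, hκ x⟩
  obtain ⟨μ0, i0, h0⟩ := exists_coord hS hB hU hk h3 hq hdc hg hz Ps hf hline' L hL
  obtain ⟨μ1, i1, h1⟩ := exists_coord hS hB hU hk h3 hq hdc hg hz Ps hf.symm hline' L hL
  have hd2 : Module.finrank F ↥(mid q1 s s') = Module.finrank F (F × F) := by
    refine le_antisymm (LinearMap.finrank_le_finrank_of_injective i0) ?_
    have := Ps.finrank_mid hG.nd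
    rw [Fintype.card_fin] at this
    rw [Module.finrank_prod, Module.finrank_self]
    omega
  have s0 := (LinearMap.injective_iff_surjective_of_finrank_eq_finrank hd2).1 i0
  have s1 := (LinearMap.injective_iff_surjective_of_finrank_eq_finrank hd2).1 i1
  let E0 := LinearEquiv.ofBijective μ0 ⟨i0, s0⟩
  let E1 := LinearEquiv.ofBijective μ1 ⟨i1, s1⟩
  refine no_test hG.two h30 (μ1.comp E0.symm.toLinearMap) (μ0.comp E1.symm.toLinearMap)
    (ell_test hS hB hU hk h3 hq hdc hg hz Ps hf L hLs hL μ0 μ1 h0 h1 E0.symm.toLinearMap E0.apply_symm_apply)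
    (ell_test hS hB hU hk h3 hq hdc hg hz Ps hf.symm L hLs hL μ1 μ0 h1 h0 E1.symm.toLinearMap E1.apply_symm_apply)
    fun x => ?_
  have : E0.symm (μ0 (E1.symm x)) = E1.symm x := E0.symm_apply_apply (E1.symm x)
  simp only [LinearMap.comp_apply, LinearEquiv.coe_coe, this]
  exact E1.apply_symm_apply x

end Power

end CfsgLib.TensorEven
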