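import Cfsg.Agent.Lib.TensorEven.Setup

/-!
Two slots: the two sides of a frame `a, b, c, d` of one slot, the elements fixing one side pointwise and the
unipotent stabiliser of a singular line of one side.
-/

set_option autoImplicit false
set_option linter.unusedSectionVars false

namespace CfsgLib.TensorEven

open Matrix QuadraticMap CfsgLib.Orth CfsgLib.TensorOddMinus
open CfsgLib.TensorOdd (IsFrame refr_vec)
open CfsgLib.TensorMax63 (Hyp mid mem_mid exists_hyp exists_aniso)

variable {ι : Type} [Fintype ι] [DecidableEq ι] {F : Type*} [Field F] [Fintype F] {k : ℕ}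
variable {q : QuadraticForm F (ι → F)} {q1 : QuadraticForm F (Fin k → F)}

/-- Four orthogonal anisotropic vectors spanning the space. -/
structure Quad (q1 : QuadraticForm F (Fin k → F)) (a b c d : Fin k → F) : Prop where
  na : q1 a ≠ 0
  nb : q1 b ≠ 0
  nc : q1 c ≠ 0
  nd : q1 d ≠ 0
  ab : polar q1 a b = 0
  ac : polar q1 a c = 0
  ad : polar q1 a d = 0
  bc : polar q1 b c = 0
  bd : polar q1 b d = 0
  cd : polar q1 c d = 0
  span : ∀ v, ∃ r s t w : F, v = r • a + s • b + t • c + w • d

theorem Quad.symm {a b c d : Fin k → F} (h : Quad q1 a b c d) : Quad q1 c d a b := by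
  refine ⟨h.nc, h.nd, h.na, h.nb, h.cd, ?_, ?_, ?_, ?_, h.ab, fun v => ?_⟩
  · rw [polar_comm]; exact h.ac
  · rw [polar_comm]; exact h.bc
  · rw [polar_comm]; exact h.ad
  · rw [polar_comm]; exact h.bd
  · obtain ⟨r, s, t, w, rfl⟩ := h.span v
    exact ⟨t, w, r, s, by abel⟩

/-- Two orthogonal vectors complete to four in dimension four. -/
theorem exists_quad (hG : Good q1) (hk : k = 4) {a b : Fin k → F} (ha : q1 a ≠ 0) (hb : q1 b ≠ 0)
    (hab : polar q1 a b = 0) : ∃ c d, Quad q1 a b c d := by
  classical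
  obtain ⟨u, i, j, p, r, hu, hi, hj, hpi, hpj, hri, hrj, hrp⟩ := exists_two_more hG (by omega) ha hb hab
  have hij : i ≠ j := fun e => ha (mul_left_cancel₀ hG.two (by
    rw [← polar_self', mul_zero]; nth_rewrite 1 [← hi]; rw [e, hj, polar_comm]; exact hab))
  have hall : (Finset.univ : Finset (Fin k)) = {i, j, p, r} := by
    refine (Finset.eq_univ_of_card _ ?_).symm
    rw [Finset.card_insert_of_notMem (by simp [hij, Ne.symm hpi, Ne.symm hri]),
      Finset.card_insert_of_notMem (by simp [Ne.symm hpj, Ne.symm hrj]), Finset.card_pair (Ne.symm hrp),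
      Fintype.card_fin, hk]
  refine ⟨u p, u r, ha, hb, hu.nz p, hu.nz r, hab, hi ▸ hu.orth i p (Ne.symm hpi), hi ▸ hu.orth i r (Ne.symm hri),
    hj ▸ hu.orth j p (Ne.symm hpj), hj ▸ hu.orth j r (Ne.symm hrj), hu.orth p r (Ne.symm hrp), fun v => ?_⟩
  refine ⟨polar q1 v a / (2 * q1 a), polar q1 v b / (2 * q1 b), polar q1 v (u p) / (2 * q1 (u p)),
    polar q1 v (u r) / (2 * q1 (u r)), ?_⟩
  conv_lhs => rw [hu.eq_sum v, hall]
  rw [Finset.sum_insert (by simp [hij, Ne.symm hpi, Ne.symm hri]),
    Finset.sum_insert (by simp [Ne.symm hpj, Ne.symm hrj]), Finset.sum_pair (Ne.symm hrp), hi, hj]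
  abel

/-- The orthogonal of the orthogonal of a singular vector is its line. -/
theorem eq_smul_of_orth (hnd : q1.polarBilin.Nondegenerate) {s D : Fin k → F} (hs0 : s ≠ 0)
    (h : ∀ v, polar q1 v s = 0 → polar q1 D v = 0) : ∃ μ : F, D = μ • s := by
  obtain ⟨t, ht⟩ := exists_polar_eq_one hnd hs0
  refine ⟨polar q1 D t, sub_eq_zero.1 (eq_zero_of_polar hnd fun v => ?_)⟩
  have := h (v - polar q1 v s • t) (by
    rw [polar_sub_left, polar_smul_left, polar_comm (f := ⇑q1) t s, ht, smul_eq_mul, mul_one, sub_self])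
  rw [polar_sub_right, polar_smul_right, sub_eq_zero, smul_eq_mul] at this
  rw [polar_sub_left, polar_smul_left, polar_comm (f := ⇑q1) s v, this, smul_eq_mul]
  ring

namespace Power

variable (P : Power q q1 2)

/-- A pure tensor of the slot `i` and the other one. -/
def tt (i : Fin 2) (x w : Fin k → F) : ι → F := P.tp (i.insertNth x fun _ => w)

theorem tp_eq_tt (i : Fin 2) (xs : Fin 2 → Fin k → F) : P.tp xs = P.tt i (xs i) (xs (i.succAbove 0)) := by
  rw [tt]
  congr 1
  funext l
  rcases Fin.eq_self_or_eq_succAbove i l with rfl | ⟨m, rfl⟩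
  · rw [Fin.insertNth_apply_same]
  · rw [Fin.insertNth_apply_succAbove, Subsingleton.elim m 0]

theorem polar_tt (i : Fin 2) (x w x' w' : Fin k → F) :
    polar q (P.tt i x w) (P.tt i x' w') = polar q1 x x' * polar q1 w w' := by
  rw [tt, tt, P.polar_tp, Fin.prod_univ_succAbove _ i, Fin.prod_univ_one]
  simp

theorem tt_eq_update_left (i : Fin 2) (x w : Fin k → F) :
    P.tt i x w = P.tp (Function.update (i.insertNth x fun _ => w) i x) := by
  rw [tt, Fin.update_insertNth]

theorem tt_eq_update_right (i : Fin 2) (x w w' : Fin k → F) :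
    P.tt i x w = P.tp (Function.update (i.insertNth x fun _ => w') (i.succAbove 0) w) := by
  rw [tt]
  congr 1
  funext l
  rcases Fin.eq_self_or_eq_succAbove i l with rfl | ⟨m, rfl⟩
  · simp [Function.update_of_ne (Fin.succAbove_ne _ 0).symm]
  · simp [Subsingleton.elim m 0]

theorem tt_add_left (i : Fin 2) (x x' w : Fin k → F) : P.tt i (x + x') w = P.tt i x w + P.tt i x' w := by
  have h : ∀ y, P.tt i y w = P.tp (Function.update (i.insertNth 0 fun _ => w) i y) := fun y => by
    rw [tt, Fin.update_insertNth]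
  rw [h, h, h, P.tp_update_add]

theorem tt_smul_left (i : Fin 2) (r : F) (x w : Fin k → F) : P.tt i (r • x) w = r • P.tt i x w := by
  have h : ∀ y, P.tt i y w = P.tp (Function.update (i.insertNth 0 fun _ => w) i y) := fun y => by
    rw [tt, Fin.update_insertNth]
  rw [h, h, P.tp_update_smul]

theorem tt_add_right (i : Fin 2) (x w w' : Fin k → F) : P.tt i x (w + w') = P.tt i x w + P.tt i x w' := by
  rw [P.tt_eq_update_right i x (w + w') 0, P.tt_eq_update_right i x w 0, P.tt_eq_update_right i x w' 0,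
    P.tp_update_add]

theorem tt_smul_right (i : Fin 2) (r : F) (x w : Fin k → F) : P.tt i x (r • w) = r • P.tt i x w := by
  rw [P.tt_eq_update_right i x (r • w) 0, P.tt_eq_update_right i x w 0, P.tp_update_smul]

/-- The linear map `w ↦ x ⊗ w`. -/
def ttR (i : Fin 2) (x : Fin k → F) : (Fin k → F) →ₗ[F] (ι → F) where
  toFun w := P.tt i x w
  map_add' w w' := P.tt_add_right i x w w'
  map_smul' r w := P.tt_smul_right i r x w

/-- The linear map `x ↦ x ⊗ w`. -/
def ttL (i : Fin 2) (w : Fin k → F) : (Fin k → F) →ₗ[F] (ι → F) where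
  toFun x := P.tt i x w
  map_add' x x' := P.tt_add_left i x x' w
  map_smul' r x := P.tt_smul_left i r x w

theorem tt_ext {i : Fin 2} {M : Type*} [AddCommGroup M] [Module F M] {f g : (ι → F) →ₗ[F] M}
    (h : ∀ x w, f (P.tt i x w) = g (P.tt i x w)) : f = g :=
  P.ext_tp fun xs => by rw [P.tp_eq_tt i xs]; exact h _ _

/-- The vectors of a side. -/
noncomputable def side (i : Fin 2) (c d : Fin k → F) : (Fin k → F) × (Fin k → F) →ₗ[F] (ι → F) :=
  (P.ttR i c).coprod (P.ttR i d)

theorem side_apply (i : Fin 2) (c d w w' : Fin k → F) : P.side i c d (w, w') = P.tt i c w + P.tt i d w' := rfl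

theorem polar_side {i : Fin 2} {c d : Fin k → F} (hcd : polar q1 c d = 0) (X Y : (Fin k → F) × (Fin k → F)) :
    polar q (P.side i c d X) (P.side i c d Y) =
      2 * q1 c * polar q1 X.1 Y.1 + 2 * q1 d * polar q1 X.2 Y.2 := by
  obtain ⟨x, x'⟩ := X
  obtain ⟨y, y'⟩ := Y
  simp only [side_apply, polar_add_left, polar_add_right, P.polar_tt, polar_self', hcd,
    polar_comm (f := ⇑q1) d c, zero_mul, add_zero, zero_add]

theorem polar_side_tt {i : Fin 2} {c d : Fin k → F} (X : (Fin k → F) × (Fin k → F)) (x w : Fin k → F) :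
    polar q (P.side i c d X) (P.tt i x w) = polar q1 c x * polar q1 X.1 w + polar q1 d x * polar q1 X.2 w := by
  obtain ⟨y, y'⟩ := X
  simp only [side_apply, polar_add_left, P.polar_tt]

variable (hG : Good q1) {a b c d : Fin k → F}

theorem S_tt (i : Fin 2) (A : O q1) (x w : Fin k → F) :
    app (P.S hG le_rfl i A) (P.tt i x w) = P.tt i (app A x) w := by
  rw [tt, S_tp, tt, Fin.insertNth_apply_same, Fin.update_insertNth]

theorem S_tt' (i : Fin 2) (A : O q1) (x w : Fin k → F) :
    app (P.S hG le_rfl (i.succAbove 0) A) (P.tt i x w) = P.tt i x (app A w) := by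
  rw [tt, S_tp, Fin.insertNth_apply_succAbove, P.tt_eq_update_right i x (app A w) w]

theorem S_side' (i : Fin 2) (A : O q1) (X : (Fin k → F) × (Fin k → F)) :
    app (P.S hG le_rfl (i.succAbove 0) A) (P.side i c d X) = P.side i c d (app A X.1, app A X.2) := by
  obtain ⟨x, y⟩ := X
  simp only [side_apply, map_add, S_tt']

include hG in
theorem tt_cancel_left {i : Fin 2} {x x' w : Fin k → F} (hw : w ≠ 0) (h : P.tt i x w = P.tt i x' w) : x = x' := by
  obtain ⟨w', hw'⟩ := exists_polar_eq_one hG.nd hw
  refine sub_eq_zero.1 (eq_zero_of_polar hG.nd fun y => ?_)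
  have e := congrArg (fun v => polar q v (P.tt i y w')) h
  simp only [P.polar_tt, hw', mul_one] at e
  rw [polar_sub_left, e, sub_self]

include hG in
theorem side_injective {i : Fin 2} (hq : Quad q1 a b c d) : Function.Injective (P.side i c d) := by
  rw [← LinearMap.ker_eq_bot, Submodule.eq_bot_iff]
  intro X hX
  rw [LinearMap.mem_ker] at hX
  have h : ∀ Y, polar q (P.side i c d X) (P.side i c d Y) = 0 := fun Y => by rw [hX, polar_zero_left]
  refine Prod.ext (eq_zero_of_polar hG.nd fun v => ?_) (eq_zero_of_polar hG.nd fun v => ?_)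
  · have := h (v, 0)
    rw [P.polar_side hq.cd, polar_zero_right, mul_zero, add_zero] at this
    exact (mul_eq_zero.1 this).resolve_left (mul_ne_zero hG.two hq.nc)
  · have := h (0, v)
    rw [P.polar_side hq.cd, polar_zero_right, mul_zero, zero_add] at this
    exact (mul_eq_zero.1 this).resolve_left (mul_ne_zero hG.two hq.nd)

include hG in
/-- A vector orthogonal to one side lies in the other. -/
theorem mem_side {i : Fin 2} (hq : Quad q1 a b c d) {v : ι → F} (ha : ∀ w, polar q v (P.tt i a w) = 0)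
    (hb : ∀ w, polar q v (P.tt i b w) = 0) : ∃ X, v = P.side i c d X := by
  classical
  obtain ⟨u, hu⟩ : ∃ u : Fin k → Fin k → F, IsFrame q1 u := CfsgLib.TensorOdd.exists_frame hG.nd hG.two
  let comp : (Fin k → F) → (Fin k → F) := fun x =>
    ∑ l, (polar q v (P.tt i x (u l)) / (2 * q1 x) / (2 * q1 (u l))) • u l
  have hcomp : ∀ x, q1 x ≠ 0 → ∀ w, 2 * q1 x * polar q1 (comp x) w = polar q v (P.tt i x w) := by
    intro x hx w
    have : (2 * q1 x) • (q1.polarBilin (comp x)) = (q.polarBilin v).comp (P.ttR i x) :=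
      hu.ext_lin fun l => by
        show (2 * q1 x) * polar q1 (comp x) (u l) = polar q v (P.tt i x (u l))
        rw [hu.polar_sum, div_mul_cancel₀ _ (mul_ne_zero hG.two (hu.nz l)),
          mul_div_cancel₀ _ (mul_ne_zero hG.two hx)]
    exact LinearMap.congr_fun this w
  refine ⟨(comp c, comp d), sub_eq_zero.1 (eq_zero_of_polar (P.nd hG) fun z => ?_)⟩
  suffices h : q.polarBilin (v - P.side i c d (comp c, comp d)) = 0 from LinearMap.congr_fun h z
  refine P.tt_ext (i := i) fun x w => ?_
  obtain ⟨r, s, t, m, rfl⟩ := hq.span x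
  show polar q _ _ = 0
  simp only [P.tt_add_left, P.tt_smul_left, polar_add_right, polar_smul_right, polar_sub_left, P.polar_side_tt,
    ha w, hb w, hq.ac, hq.bc, hq.ad, hq.bd, polar_comm (f := ⇑q1) c a, polar_comm (f := ⇑q1) c b,
    polar_comm (f := ⇑q1) d a, polar_comm (f := ⇑q1) d b, hq.cd, polar_comm (f := ⇑q1) d c, polar_self',
    hcomp c hq.nc, hcomp d hq.nd, zero_mul, add_zero, zero_add, sub_zero, smul_zero, sub_self]

/-- The involution of the plane `a, b`. -/
noncomputable def zinv (i : Fin 2) (a b : Fin k → F) : O q := P.S hG le_rfl i (refl q1 a * refl q1 b)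

theorem zinv_tt (i : Fin 2) (x w : Fin k → F) :
    app (P.zinv hG i a b) (P.tt i x w) = P.tt i (app (refl q1 a) (app (refl q1 b) x)) w := by
  rw [zinv, S_tt, app_mul]

theorem zinv_fix (hq : Quad q1 a b c d) (i : Fin 2) (X : (Fin k → F) × (Fin k → F)) :
    app (P.zinv hG i a b) (P.side i c d X) = P.side i c d X := by
  obtain ⟨x, y⟩ := X
  rw [side_apply, map_add, zinv_tt, zinv_tt,
    app_refl_of_ortho (show polar q1 c b = 0 by rw [polar_comm]; exact hq.bc),
    app_refl_of_ortho (show polar q1 c a = 0 by rw [polar_comm]; exact hq.ac),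
    app_refl_of_ortho (show polar q1 d b = 0 by rw [polar_comm]; exact hq.bd),
    app_refl_of_ortho (show polar q1 d a = 0 by rw [polar_comm]; exact hq.ad)]

theorem zinv_neg (hq : Quad q1 a b c d) (i : Fin 2) (w : Fin k → F) :
    app (P.zinv hG i a b) (P.tt i a w) = -P.tt i a w ∧ app (P.zinv hG i a b) (P.tt i b w) = -P.tt i b w := by
  constructor
  · rw [zinv_tt, app_refl_of_ortho hq.ab, app_refl_self hq.na, ← neg_one_smul F a, P.tt_smul_left, neg_one_smul]
  · rw [zinv_tt, app_refl_self hq.nb, map_neg, app_refl_of_ortho (show polar q1 b a = 0 by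
      rw [polar_comm]; exact hq.ab), ← neg_one_smul F b, P.tt_smul_left, neg_one_smul]

variable {P hG}

/-- An element commuting with the involution preserves the side it fixes. -/
theorem maps_side (hq : Quad q1 a b c d) {i : Fin 2} {g : O q} (hg : Commute g (P.zinv hG i a b))
    (X : (Fin k → F) × (Fin k → F)) : ∃ Y, app g (P.side i c d X) = P.side i c d Y := by
  set v := app g (P.side i c d X)
  have hv : app (P.zinv hG i a b) v = v := by
    show app (P.zinv hG i a b) (app g _) = app g _
    rw [← app_mul, ← hg.eq, app_mul, P.zinv_fix hG hq]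
  have hz : ∀ y, app (P.zinv hG i a b) y = -y → polar q v y = 0 := fun y hy => by
    have e := polar_app (P.zinv hG i a b) v y
    rw [hv, hy, polar_neg_right, neg_eq_iff_add_eq_zero, ← two_mul] at e
    exact (mul_eq_zero.1 e).resolve_left hG.two
  exact P.mem_side hG hq (fun w => hz _ (P.zinv_neg hG hq i w).1) fun w => hz _ (P.zinv_neg hG hq i w).2

/-- The involutions of the two planes have the same centraliser. -/
theorem commute_symm (hq : Quad q1 a b c d) {i : Fin 2} {g : O q} (hg : Commute g (P.zinv hG i a b)) :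
    Commute g (P.zinv hG i c d) := by
  have e : P.zinv hG i c d = negId q * P.zinv hG i a b := ext_app fun v => by
    refine LinearMap.congr_fun (P.tt_ext (i := i) (f := app (P.zinv hG i c d))
      (g := app (negId q * P.zinv hG i a b)) fun x w => ?_) v
    rw [app_mul, app_negId, zinv_tt, zinv_tt, ← neg_one_smul F (P.tt i _ w), ← P.tt_smul_left]
    congr 1
    obtain ⟨r, s, t, m, rfl⟩ := hq.span x
    have hs := hq.symm
    simp only [map_add, map_smul, map_neg, app_refl_self hq.na, app_refl_self hq.nb, app_refl_self hq.nc,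
      app_refl_self hq.nd, app_refl_of_ortho hq.ab, app_refl_of_ortho hq.ac, app_refl_of_ortho hq.ad,
      app_refl_of_ortho hq.bc, app_refl_of_ortho hq.bd, app_refl_of_ortho hq.cd, app_refl_of_ortho hs.ac,
      app_refl_of_ortho hs.ad, app_refl_of_ortho hs.bc, app_refl_of_ortho hs.bd,
      app_refl_of_ortho (show polar q1 b a = 0 by rw [polar_comm]; exact hq.ab),
      app_refl_of_ortho (show polar q1 d c = 0 by rw [polar_comm]; exact hq.cd)]
    module
  rw [e]
  refine Commute.mul_right (ext_app fun v => ?_) hg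
  simp

/-- An element fixing one side pointwise is an isometry of the slot. -/
theorem fixer (hq : Quad q1 a b c d) {i : Fin 2} {G : Subgroup (O q)}
    (hS : ∀ i y, q1 y ≠ 0 → P.CentMon G (P.S hG le_rfl i (refl q1 y))) {g : O q} (hg : g ∈ G)
    (hz : Commute g (P.zinv hG i a b)) (hfix : ∀ X, app g (P.side i c d X) = P.side i c d X) :
    ∃ ρ : O q1, app ρ c = c ∧ app ρ d = d ∧ g = P.S hG le_rfl i ρ := by
  classical
  have hs := hq.symm
  have hcomm : Commute g (P.S hG le_rfl i (refl q1 c)) := by
    refine ext_app fun v => LinearMap.congr_fun (P.tt_ext (i := i)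
      (f := app (g * P.S hG le_rfl i (refl q1 c))) (g := app (P.S hG le_rfl i (refl q1 c) * g)) fun x w => ?_) v
    obtain ⟨r, s, t, m, rfl⟩ := hq.span x
    have hab : ∀ y y' : Fin k → F, app (P.S hG le_rfl i (refl q1 c)) (P.side i a b (y, y')) = P.side i a b (y, y') :=
      fun y y' => by rw [side_apply, map_add, S_tt, S_tt, app_refl_of_ortho hq.ac, app_refl_of_ortho hq.bc]
    have hc : app (P.S hG le_rfl i (refl q1 c)) (P.side i c d (t • w, m • w)) = P.side i c d (-(t • w), m • w) := by
      rw [side_apply, side_apply, map_add, S_tt, S_tt, app_refl_self hq.nc,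
        app_refl_of_ortho (show polar q1 d c = 0 by rw [polar_comm]; exact hq.cd), ← neg_one_smul F c,
        P.tt_smul_left, ← P.tt_smul_right, neg_one_smul]
    have hx : P.tt i (r • a + s • b + t • c + m • d) w = P.side i a b (r • w, s • w) + P.side i c d (t • w, m • w) := by
      simp only [side_apply, P.tt_add_left, P.tt_smul_left, P.tt_smul_right]
      abel
    obtain ⟨Y, hY⟩ := maps_side hs (commute_symm hq hz) (r • w, s • w)
    simp only [app_mul, hx, map_add, hab, hc, hfix, hY]
  have hmon : g ∈ P.Mon := hS i c hq.nc g hg hcomm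
  obtain ⟨σ, A, hA⟩ := hmon
  have hc0 : c ≠ 0 := fun h => hq.nc (by rw [h, QuadraticMap.map_zero])
  have hcw : ∀ w, app g (P.tt i c w) = P.tt i c w := fun w => by
    have := hfix (w, 0)
    rwa [side_apply, show P.tt i d 0 = 0 from map_zero (P.ttR i d), add_zero] at this
  have hσ : σ i = i := by
    by_contra hne
    obtain ⟨m, hm⟩ := Fin.exists_succAbove_eq hne
    rw [Subsingleton.elim m 0] at hm
    obtain ⟨w, hw⟩ : ∃ w : Fin k → F, ∀ r : F, r • c ≠ w := by
      refine ⟨a, fun r h => hq.na ?_⟩
      have := hq.ac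
      rw [← h, polar_smul_left, polar_self', smul_eq_zero] at this
      rw [← h, this.resolve_right (mul_ne_zero hG.two hq.nc), zero_smul, QuadraticMap.map_zero]
    have hw0 : w ≠ 0 := fun h => hw 0 (by rw [h, zero_smul])
    have e := hcw ((A i).symm w)
    rw [tt, hA] at e
    have hne' : ∀ l, (i.insertNth c fun _ => (A i).symm w : Fin 2 → Fin k → F) l ≠ 0 := fun l => by
      rcases Fin.eq_self_or_eq_succAbove i l with rfl | ⟨m, rfl⟩
      · simpa using hc0
      · simpa using hw0
    obtain ⟨r, hr0, hr⟩ := P.tp_eq hne' e.symm i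
    rw [← hm] at hr
    simp only [Fin.insertNth_apply_succAbove, Fin.insertNth_apply_same, LinearEquiv.apply_symm_apply] at hr
    exact hw r hr.symm
  have hσ1 : σ = 1 := Equiv.ext fun l => by
    rcases Fin.eq_self_or_eq_succAbove i l with rfl | ⟨m, rfl⟩
    · exact hσ
    · obtain rfl : m = 0 := Subsingleton.elim _ _
      rcases Fin.eq_self_or_eq_succAbove i (σ (i.succAbove 0)) with e | ⟨m', e⟩
      · exact absurd (σ.injective (e.trans hσ.symm)) (Fin.succAbove_ne i 0)
      · rw [e, Subsingleton.elim m' 0]; rfl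
  subst hσ1
  have hact : ∀ x w, app g (P.tt i x w) = P.tt i (A i x) (A (i.succAbove 0) w) := fun x w => by
    rw [tt, hA, P.tp_eq_tt i]
    simp
  obtain ⟨f, hf⟩ := exists_polar_eq_one hG.nd hc0
  set μ := polar q1 (A i c) f
  have hB : ∀ w, w = μ • A (i.succAbove 0) w := fun w => by
    refine sub_eq_zero.1 (eq_zero_of_polar hG.nd fun v => ?_)
    have e := congrArg (fun z => polar q z (P.tt i f v)) (hcw w)
    simp only [hact, P.polar_tt, hf, one_mul] at e
    rw [polar_sub_left, polar_smul_left, smul_eq_mul]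
    linear_combination -e
  have hμ : μ ≠ 0 := fun h => hc0 (by have := hB c; rwa [h, zero_smul] at this)
  have hBw : ∀ w, A (i.succAbove 0) w = μ⁻¹ • w := fun w => by
    conv_rhs => rw [hB w, inv_smul_smul₀ hμ]
  have hkey : ∀ x w, app g (P.tt i x w) = P.tt i (μ⁻¹ • A i x) w := fun x w => by
    rw [hact, hBw, P.tt_smul_right, P.tt_smul_left]
  have hiso : ∀ x y, polar q1 (μ⁻¹ • A i x) (μ⁻¹ • A i y) = polar q1 x y := fun x y => by
    have e := polar_app g (P.tt i x c) (P.tt i y c)
    rw [hkey, hkey, P.polar_tt, P.polar_tt] at e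
    exact mul_right_cancel₀ (by rw [polar_self']; exact mul_ne_zero hG.two hq.nc) e
  have hQ : ∀ x, q1 ((μ⁻¹ • (A i).toLinearMap) x) = q1 x := fun x => mul_left_cancel₀ hG.two (by
    rw [← polar_self', ← polar_self']
    exact hiso x x)
  let ρ : O q1 := mkO (μ⁻¹ • (A i).toLinearMap) (μ • (A i).symm.toLinearMap)
    (LinearMap.ext fun x => by simp [smul_smul, hμ]) (LinearMap.ext fun x => by simp [smul_smul, hμ]) hQ
  have hρ : g = P.S hG le_rfl i ρ := ext_app fun v => LinearMap.congr_fun
    (P.tt_ext (i := i) (f := app g) (g := app (P.S hG le_rfl i ρ)) fun x w => by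
      rw [hkey, S_tt, app_mkO]; rfl) v
  have hdw : app g (P.tt i d c) = P.tt i d c := by
    have := hfix (0, c)
    rwa [side_apply, show P.tt i c 0 = 0 from map_zero (P.ttR i c), zero_add] at this
  refine ⟨ρ, P.tt_cancel_left hG (i := i) hc0 ?_, P.tt_cancel_left hG (i := i) hc0 ?_, hρ⟩
  · rw [← S_tt P hG i ρ, ← hρ, hcw]
  · rw [← S_tt P hG i ρ, ← hρ, hdw]

/-- An element trivial on a singular line of one side and on its orthogonal modulo the line is monomial. -/
theorem stab (hq : Quad q1 a b c d) (hk : k = 4) {i : Fin 2} {G : Subgroup (O q)} (hB : P.Base hG le_rfl G)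
    (hU : P.Uni hG le_rfl G) (hS : ∀ i y, q1 y ≠ 0 → P.CentMon G (P.S hG le_rfl i (refl q1 y)))
    {s : Fin k → F} (hs : q1 s = 0) (hs0 : s ≠ 0) {y : O q} (hy : y ∈ G) (hz : Commute y (P.zinv hG i a b))
    (h1 : ∀ r t : F, app y (P.side i c d (r • s, t • s)) = P.side i c d (r • s, t • s))
    (h2 : ∀ X : (Fin k → F) × (Fin k → F), polar q1 X.1 s = 0 → polar q1 X.2 s = 0 →
      ∃ r t : F, app y (P.side i c d X) = P.side i c d X + P.side i c d (r • s, t • s)) : y ∈ P.Mon := by
  classical
  obtain ⟨s', Ps⟩ := exists_hyp hG.nd hs hs0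
  obtain ⟨c₀, hc₀, hqc₀⟩ := exists_aniso (Ps.nondeg_mid hG.nd) (fun hb => by
    have e := Ps.finrank_mid hG.nd
    rw [hb, finrank_bot, Fintype.card_fin] at e
    omega)
  have hsc : polar q1 s c₀ = 0 := (mem_mid.1 hc₀).1
  have hr : RootVec q1 s c₀ := ⟨hs, hs0, hsc, hqc₀⟩
  set e := eich q1 s c₀
  set x := P.S hG le_rfl (i.succAbove 0) e with hx
  have hxG : x ∈ G := hB.root_mem _ hr
  have hxz : Commute x (P.zinv hG i a b) := P.S_comm hG le_rfl _ (Fin.succAbove_ne i 0) _ _
  have hxs : ∀ X, app x (P.side i c d X) = P.side i c d (app e X.1, app e X.2) := fun X => P.S_side' hG i e X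
  have hes : ∀ v, polar q1 (app e v) s = polar q1 v s := fun v => by
    have hes0 : app e s = s := by
      rw [app_eich hs hsc, polar_self', hs, hsc]
      simp
    conv_lhs => rw [← hes0, polar_app]
  have heo : ∀ v, polar q1 v s = 0 → ∃ r : F, app e v = v + r • s := fun v hv => by
    refine ⟨-polar q1 v c₀, ?_⟩
    rw [app_eich hs hsc, hv]
    module
  -- central elements
  have central : ∀ w ∈ G, Commute w (P.zinv hG i a b) →
      (∀ X : (Fin k → F) × (Fin k → F), polar q1 X.1 s = 0 → polar q1 X.2 s = 0 →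
        app w (P.side i c d X) = P.side i c d X) → w ∈ P.Mon := by
    intro w hw hwz hfix
    have hwX : ∀ X, ∃ r t : F, app w (P.side i c d X) = P.side i c d X + P.side i c d (r • s, t • s) := by
      intro X
      obtain ⟨Y, hY⟩ := maps_side hq hwz X
      have key : ∀ Z : (Fin k → F) × (Fin k → F), polar q1 Z.1 s = 0 → polar q1 Z.2 s = 0 →
          polar q (P.side i c d (Y - X)) (P.side i c d Z) = 0 := fun Z z1 z2 => by
        rw [map_sub, polar_sub_left, ← hY]
        conv_lhs => arg 1; rw [← hfix Z z1 z2]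
        rw [polar_app, sub_self]
      obtain ⟨r, hr⟩ := eq_smul_of_orth hG.nd hs0 (D := Y.1 - X.1) fun v hv => by
        have := key (v, 0) hv (by simp)
        rw [P.polar_side hq.cd, polar_zero_right, mul_zero, add_zero] at this
        exact (mul_eq_zero.1 this).resolve_left (mul_ne_zero hG.two hq.nc)
      obtain ⟨t, ht⟩ := eq_smul_of_orth hG.nd hs0 (D := Y.2 - X.2) fun v hv => by
        have := key (0, v) (by simp) hv
        rw [P.polar_side hq.cd, polar_zero_right, mul_zero, zero_add] at this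
        exact (mul_eq_zero.1 this).resolve_left (mul_ne_zero hG.two hq.nd)
      refine ⟨r, t, ?_⟩
      rw [hY, ← map_add]
      congr 1
      refine Prod.ext ?_ ?_
      · show Y.1 = X.1 + r • s
        rw [← hr, add_sub_cancel]
      · show Y.2 = X.2 + t • s
        rw [← ht, add_sub_cancel]
    have hcX : ∀ X, app w (app x (P.side i c d X)) = app x (app w (P.side i c d X)) := by
      intro X
      obtain ⟨r, t, h⟩ := hwX X
      have hd : app w (P.side i c d (app e X.1 - X.1, app e X.2 - X.2)) =
          P.side i c d (app e X.1 - X.1, app e X.2 - X.2) :=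
        hfix _ (by rw [polar_sub_left, hes, sub_self]) (by rw [polar_sub_left, hes, sub_self])
      have hfs : app x (P.side i c d (r • s, t • s)) = P.side i c d (r • s, t • s) := by
        rw [hxs]
        congr 2 <;> rw [map_smul, app_eich hs hsc, polar_self', hs, hsc] <;> simp
      rw [h, map_add, hfs, hxs]
      conv_lhs => rw [show (app e X.1, app e X.2) = X + (app e X.1 - X.1, app e X.2 - X.2) by
        ext <;> simp]
      rw [map_add, map_add, h, hd]
      rw [show P.side i c d (app e X.1, app e X.2) = P.side i c d X +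
        P.side i c d (app e X.1 - X.1, app e X.2 - X.2) by rw [← map_add]; congr 1; ext <;> simp]
      abel
    have hm : w * x * w⁻¹ * x⁻¹ ∈ P.Mon := by
      obtain ⟨ρ, -, -, hρ⟩ := fixer hq hS (G.mul_mem (G.mul_mem (G.mul_mem hw hxG) (G.inv_mem hw)) (G.inv_mem hxG))
        ((((hwz.mul_left hxz).mul_left hwz.inv_left)).mul_left hxz.inv_left) fun X => by
        obtain ⟨X1, hX1⟩ := maps_side hq hxz.inv_left X
        obtain ⟨X2, hX2⟩ := maps_side hq hwz.inv_left X1
        rw [app_mul, app_mul, app_mul, hX1, hX2, hcX, ← hX2, app_app_inv, ← hX1, app_app_inv]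
      rw [hρ]
      exact P.S_mem hG le_rfl i ρ
    refine hU w hw (i.succAbove 0) s c₀ hr ?_
    have := P.Mon.mul_mem hm (P.S_mem hG le_rfl (i.succAbove 0) e)
    rwa [← hx, inv_mul_cancel_right] at this
  -- the commutator is central
  set w := y * x * y⁻¹ * x⁻¹ with hw
  have hwM : w ∈ P.Mon := by
    refine central w (G.mul_mem (G.mul_mem (G.mul_mem hy hxG) (G.inv_mem hy)) (G.inv_mem hxG))
      ((((hz.mul_left hxz).mul_left hz.inv_left)).mul_left hxz.inv_left) fun X z1 z2 => ?_
    obtain ⟨X1, hX1⟩ := maps_side hq hxz.inv_left X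
    obtain ⟨X2, hX2⟩ := maps_side hq hz.inv_left X1
    have hX : P.side i c d X = app x (P.side i c d X1) := by rw [← hX1, app_app_inv]
    have hX' : X = (app e X1.1, app e X1.2) := P.side_injective hG hq (hX.trans (hxs X1))
    rw [hX'] at z1 z2
    change polar q1 (app e X1.1) s = 0 at z1
    change polar q1 (app e X1.2) s = 0 at z2
    rw [hes] at z1 z2
    have h2' : polar q1 X2.1 s = 0 ∧ polar q1 X2.2 s = 0 := by
      have key : ∀ r t : F, polar q (P.side i c d X2) (P.side i c d (r • s, t • s)) = 0 := fun r t => by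
        rw [← hX2]
        conv_lhs => rw [← polar_app y, app_app_inv, h1]
        rw [P.polar_side hq.cd, polar_smul_right, polar_smul_right, z1, z2]
        simp
      refine ⟨?_, ?_⟩
      · have := key 1 0
        rw [P.polar_side hq.cd, one_smul, zero_smul, polar_zero_right, mul_zero, add_zero] at this
        exact (mul_eq_zero.1 this).resolve_left (mul_ne_zero hG.two hq.nc)
      · have := key 0 1
        rw [P.polar_side hq.cd, one_smul, zero_smul, polar_zero_right, mul_zero, zero_add] at this
        exact (mul_eq_zero.1 this).resolve_left (mul_ne_zero hG.two hq.nd)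
    obtain ⟨r1, e1⟩ := heo _ h2'.1
    obtain ⟨t1, e2⟩ := heo _ h2'.2
    obtain ⟨r, t, h⟩ := h2 X2 h2'.1 h2'.2
    have hfs : app x (P.side i c d (r • s, t • s)) = P.side i c d (r • s, t • s) := by
      rw [hxs]
      congr 2 <;> rw [map_smul, app_eich hs hsc, polar_self', hs, hsc] <;> simp
    have hsplit : app x (P.side i c d X2) = P.side i c d X2 + P.side i c d (r1 • s, t1 • s) := by
      rw [hxs, e1, e2, ← map_add]
      rfl
    have hc : app y (app x (P.side i c d X2)) = app x (app y (P.side i c d X2)) := by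
      rw [h, map_add, hfs, hsplit, map_add, h1, h]
      abel
    rw [hw, app_mul, app_mul, app_mul, hX1, hX2, hc, ← hX2, app_app_inv, ← hX1, app_app_inv]
  refine hU y hy (i.succAbove 0) s c₀ hr ?_
  have := P.Mon.mul_mem hwM (P.S_mem hG le_rfl (i.succAbove 0) e)
  rwa [hw, ← hx, inv_mul_cancel_right] at this

end Power

end CfsgLib.TensorEven
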