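import Cfsg.Agent.Lib.TensorEven.PlaneBig

/-!
Two slots of dimension four over three elements: the side fixed by a hyperbolic plane involution is a space
over nine elements. An element of the centraliser carrying a rational singular line to an irrational one gives
an impossible linear map of the plane of nine elements.
-/

set_option autoImplicit false
set_option linter.unusedSectionVars false

namespace CfsgLib.TensorEven

open Matrix QuadraticMap CfsgLib.Orth CfsgLib.TensorOddMinus
open CfsgLib.TensorOdd (IsFrame)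
open CfsgLib.TensorMax63 (Hyp mid mem_mid exists_hyp exists_aniso)

variable {ι : Type} [Fintype ι] [DecidableEq ι] {F : Type*} [Field F] [Fintype F] {k : ℕ}
variable {q : QuadraticForm F (ι → F)} {q1 : QuadraticForm F (Fin k → F)}

namespace PlaneThree

/-- The product of the field of nine elements. -/
def cm (x y : F × F) : F × F := (x.1 * y.1 - x.2 * y.2, x.1 * y.2 + x.2 * y.1)

/-- The norm of the vector with given coordinate. -/
def nn (ν : F × F) : F := (-ν.1 + ν.2) * (-ν.1 + ν.2) + ν.2 * ν.2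

/-- The equations of the two coordinate maps of the root elements. -/
def Test (φ : F × F →ₗ[F] F × F) : Prop :=
  ∀ m n ν l : F × F, l = (1, 0) + cm m ν → cm l n + m = 0 → l ≠ 0 →
    l.1 * ((cm (φ m) ν).2 - (φ n).2 * ν.1 - (φ n).1 * ν.2) -
      l.2 * (nn ν + (cm (φ m) ν).1 + (φ n).1 * ν.1 - (φ n).2 * ν.2) = 0

/-- The equations determine the map. -/
theorem Test.values (h3 : (3 : F) = 0) {φ : F × F →ₗ[F] F × F} (h : Test φ) :
    φ (1, 0) = (-1, 1) ∧ φ (0, 1) = (1, 1) := by
  have e : ∀ a b : F, φ (a, b) = a • φ (1, 0) + b • φ (0, 1) := fun a b => by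
    rw [← map_smul, ← map_smul, ← map_add]
    congr 1
    ext <;> simp
  have h1 := h (1, 0) (0, 1) (-1, 1) (0, 1) (by simp [cm]) (by simp [cm]) (by simp)
  have h2 := h (1, 0) (1, 1) (0, -1) (1, -1) (by simp [cm])
    (by simp [cm]; linear_combination h3) (by simp)
  have h4 := h (1, 0) (-1, 1) (1, -1) (-1, -1) (by simp [cm]; linear_combination -h3)
    (by simp [cm]; linear_combination h3) (by simp)
  have h5 := h (1, 0) (0, -1) (-1, -1) (0, -1) (by simp [cm]) (by simp [cm]) (by simp)
  rw [e 1 1] at h2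
  rw [e (-1) 1] at h4
  rw [e 0 (-1)] at h5
  obtain ⟨x, y, hx⟩ : ∃ x y, φ (1, 0) = (x, y) := ⟨_, _, rfl⟩
  obtain ⟨u, v, hu⟩ : ∃ u v, φ (0, 1) = (u, v) := ⟨_, _, rfl⟩
  simp only [hx, hu, cm, nn, Prod.smul_mk, Prod.mk_add_mk, smul_eq_mul] at h1 h2 h4 h5 ⊢
  ring_nf at h1 h2 h4 h5
  refine ⟨Prod.ext ?_ ?_, Prod.ext ?_ ?_⟩ <;> dsimp only
  · linear_combination -h2 + h4 + h5 + (-1 + y) * h3
  · linear_combination -h1 + h4 + h5 + (-4 + y) * h3
  · linear_combination -h4 + h5 + (1 + x - y + v) * h3
  · linear_combination -h1 + h2 - h4 + (-1 + x - y + v) * h3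

/-- No map satisfies the equations together with its inverse. -/
theorem no_test (h2 : (2 : F) ≠ 0) (h3 : (3 : F) = 0) (φ ψ : F × F →ₗ[F] F × F)
    (hφ : Test φ) (hψ : Test ψ) (hinv : ∀ x, φ (ψ x) = x) : False := by
  have h := hinv (1, 0)
  rw [(Test.values h3 hψ).1, show ((-1 : F), (1 : F)) = (-1 : F) • ((1 : F), (0 : F)) + (0, 1) by simp, map_add,
    map_smul, (Test.values h3 hφ).1, (Test.values h3 hφ).2, Prod.smul_mk, Prod.mk_add_mk, Prod.mk.injEq] at h
  simp only [smul_eq_mul] at h
  exact h2 (by linear_combination (2 : F) * h.1)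

/-- Multiplication of the side by the field of nine elements. -/
def sm (x : F × F) (X : (Fin k → F) × (Fin k → F)) : (Fin k → F) × (Fin k → F) :=
  (x.1 • X.1 - x.2 • X.2, x.2 • X.1 + x.1 • X.2)

theorem sm_add (x y : F × F) (X : (Fin k → F) × (Fin k → F)) : sm (x + y) X = sm x X + sm y X := by
  simp only [sm, Prod.fst_add, Prod.snd_add, Prod.mk_add_mk]
  refine Prod.ext ?_ ?_ <;> dsimp only <;> module

theorem sm_smul (r : F) (x : F × F) (X : (Fin k → F) × (Fin k → F)) : sm (r • x) X = r • sm x X := by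
  simp only [sm, Prod.smul_fst, Prod.smul_snd, Prod.smul_mk, smul_eq_mul]
  refine Prod.ext ?_ ?_ <;> dsimp only <;> module

theorem sm_cm (x y : F × F) (X : (Fin k → F) × (Fin k → F)) : sm x (sm y X) = sm (cm x y) X := by
  simp only [sm, cm]
  refine Prod.ext ?_ ?_ <;> dsimp only <;> module

theorem sm_one (X : (Fin k → F) × (Fin k → F)) : sm (1, 0) X = X := by
  simp [sm]

theorem sm_pure (x : F × F) (v : Fin k → F) : sm x (v, 0) = (x.1 • v, x.2 • v) := by
  simp [sm]

theorem sm_add_right (x : F × F) (X Y : (Fin k → F) × (Fin k → F)) : sm x (X + Y) = sm x X + sm x Y := by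
  simp only [sm, Prod.fst_add, Prod.snd_add, Prod.mk_add_mk]
  refine Prod.ext ?_ ?_ <;> dsimp only <;> module

end PlaneThree

namespace Power

open PlaneThree

variable {P : Power q q1 2} {hG : Good q1} {a b c d : Fin k → F}

/-- The quarter turn of the plane `c, d`. -/
noncomputable def rot (P : Power q q1 2) (hG : Good q1) (i : Fin 2) (c d : Fin k → F) : O q :=
  P.S hG le_rfl i (refl q1 (c - d) * refl q1 d)

theorem rot_vec (hq : Quad q1 a b c d) (hG : Good q1) (hdc : q1 d = q1 c) :
    app (refl q1 (c - d) * refl q1 d) c = d ∧ app (refl q1 (c - d) * refl q1 d) d = -c ∧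
      app (refl q1 (c - d) * refl q1 d) a = a ∧ app (refl q1 (c - d) * refl q1 d) b = b ∧ q1 (c - d) ≠ 0 := by
  have hcd' : polar q1 d c = 0 := by rw [polar_comm]; exact hq.cd
  have e : q1 (c - d) = 2 * q1 c := by
    rw [sub_eq_add_neg, QuadraticMap.map_add ⇑q1, QuadraticMap.map_neg, polar_neg_right, hq.cd, hdc]; ring
  have h1 : app (refl q1 (c - d)) c = d := by
    rw [app_refl, e, polar_sub_right, polar_self', hq.cd, sub_zero,
      inv_mul_cancel₀ (mul_ne_zero hG.two hq.nc), one_smul]
    abel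
  have h2 : app (refl q1 (c - d)) d = c := by
    rw [app_refl, e, polar_sub_right, polar_self', hcd', hdc, zero_sub, mul_neg,
      inv_mul_cancel₀ (mul_ne_zero hG.two hq.nc), neg_one_smul]
    abel
  refine ⟨?_, ?_, ?_, ?_, by rw [e]; exact mul_ne_zero hG.two hq.nc⟩
  · rw [app_mul, app_refl_of_ortho hq.cd, h1]
  · rw [app_mul, app_refl_self hq.nd, map_neg, h2]
  · rw [app_mul, app_refl_of_ortho hq.ad, app_refl_of_ortho (by rw [polar_sub_right, hq.ac, hq.ad, sub_zero])]
  · rw [app_mul, app_refl_of_ortho hq.bd, app_refl_of_ortho (by rw [polar_sub_right, hq.bc, hq.bd, sub_zero])]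

theorem rot_side (hq : Quad q1 a b c d) (hdc : q1 d = q1 c) (i : Fin 2) (X : (Fin k → F) × (Fin k → F)) :
    app (P.rot hG i c d) (P.side i c d X) = P.side i c d (sm (0, 1) X) := by
  obtain ⟨x, y⟩ := X
  obtain ⟨h1, h2, -⟩ := rot_vec hq hG hdc
  simp only [rot, side_apply, map_add, S_tt, h1, h2, sm, zero_smul, one_smul, zero_sub, add_zero]
  rw [← neg_one_smul F c, P.tt_smul_left, ← neg_one_smul F y, P.tt_smul_right]
  abel

/-- Elements commuting with the quarter turn are linear over the field of nine elements. -/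
theorem lin_sm (hq : Quad q1 a b c d) (hdc : q1 d = q1 c) {i : Fin 2} {y : O q}
    (hy : Commute y (P.rot hG i c d)) {X Y : (Fin k → F) × (Fin k → F)}
    (h : app y (P.side i c d X) = P.side i c d Y) (x : F × F) :
    app y (P.side i c d (sm x X)) = P.side i c d (sm x Y) := by
  have hx : ∀ X, P.side i c d (sm x X) =
      x.1 • P.side i c d X + x.2 • app (P.rot hG i c d) (P.side i c d X) := fun X => by
    rw [rot_side hq hdc, ← map_smul, ← map_smul, ← map_add, ← sm_smul, ← sm_one (x.1 • X)]
    congr 1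
    simp only [sm]
    refine Prod.ext ?_ ?_ <;> simp [Prod.smul_mk] <;> module
  rw [hx, hx, map_add, map_smul, map_smul, ← app_mul, hy.eq, app_mul, h]

section Cent

variable {G : Subgroup (O q)} (hS : ∀ i y, q1 y ≠ 0 → P.CentMon G (P.S hG le_rfl i (refl q1 y)))
variable (hB : P.Base hG le_rfl G) (hU : P.Uni hG le_rfl G) (hk : k = 4)
variable (hq : Quad q1 a b c d) (hdc : q1 d = q1 c) {i : Fin 2}

include hS hB hU hk hq

/-- An element carrying a rational singular line of the side to one is monomial. -/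
theorem mon_of_line {g : O q} (hg : g ∈ G) (hz : Commute g (P.zinv hG i a b)) {s s' : Fin k → F}
    (hs : q1 s = 0) (hs0 : s ≠ 0) (hs' : q1 s' = 0) (hs'0 : s' ≠ 0)
    (hfw : ∀ r t : F, ∃ r' t' : F, app g (P.side i c d (r • s, t • s)) = P.side i c d (r' • s', t' • s')) :
    g ∈ P.Mon := by
  classical
  let f0 : F × F →ₗ[F] (ι → F) := (P.side i c d).comp
    ((LinearMap.id.smulRight s).prodMap (LinearMap.id.smulRight s))
  let f1 : F × F →ₗ[F] (ι → F) := (P.side i c d).comp
    ((LinearMap.id.smulRight s').prodMap (LinearMap.id.smulRight s'))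
  have hinj : ∀ {v : Fin k → F}, v ≠ 0 → Function.Injective ((P.side i c d).comp
      (((LinearMap.id : F →ₗ[F] F).smulRight v).prodMap ((LinearMap.id : F →ₗ[F] F).smulRight v))) :=
    fun {v} hv => by
      intro x y e
      have := P.side_injective hG hq e
      simp only [LinearMap.prodMap_apply, LinearMap.smulRight_apply, LinearMap.id_apply, Prod.mk.injEq] at this
      exact Prod.ext (smul_left_injective F hv this.1) (smul_left_injective F hv this.2)
  have hon : ∀ r t : F, ∃ r' t' : F, app g (P.side i c d (r' • s, t' • s)) = P.side i c d (r • s', t • s') := by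
    have hle : LinearMap.range ((app g).comp f0) ≤ LinearMap.range f1 := by
      rintro _ ⟨x, rfl⟩
      obtain ⟨r', t', e⟩ := hfw x.1 x.2
      exact ⟨(r', t'), e.symm⟩
    have heq := Submodule.eq_of_le_of_finrank_eq hle (by
      rw [LinearMap.finrank_range_of_inj (f := (app g).comp f0) ((app_injective g).comp (hinj hs0)),
        LinearMap.finrank_range_of_inj (hinj hs'0)])
    intro r t
    obtain ⟨x, hx⟩ : f1 (r, t) ∈ LinearMap.range ((app g).comp f0) := heq ▸ ⟨(r, t), rfl⟩
    exact ⟨x.1, x.2, hx⟩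
  obtain ⟨s1, Ps⟩ := exists_hyp hG.nd hs hs0
  obtain ⟨c₀, hc₀, hqc₀⟩ := exists_aniso (Ps.nondeg_mid hG.nd) (fun hb => by
    have e := Ps.finrank_mid hG.nd
    rw [hb, finrank_bot, Fintype.card_fin] at e
    omega)
  have hsc : polar q1 s c₀ = 0 := (mem_mid.1 hc₀).1
  have hr : RootVec q1 s c₀ := ⟨hs, hs0, hsc, hqc₀⟩
  set x := P.S hG le_rfl (i.succAbove 0) (eich q1 s c₀) with hx
  have hxG : x ∈ G := hB.root_mem _ hr
  have hxz : Commute x (P.zinv hG i a b) := P.S_comm hG le_rfl _ (Fin.succAbove_ne i 0) _ _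
  have he : ∀ v, polar q1 v s = 0 → app (eich q1 s c₀) v = v + (-polar q1 v c₀) • s := fun v hv => by
    rw [app_eich hs hsc, hv]; module
  have hxX : ∀ X : (Fin k → F) × (Fin k → F), polar q1 X.1 s = 0 → polar q1 X.2 s = 0 →
      app x (P.side i c d X) = P.side i c d X +
        P.side i c d ((-polar q1 X.1 c₀) • s, (-polar q1 X.2 c₀) • s) := fun X h1 h2 => by
    rw [hx, P.S_side', he _ h1, he _ h2, ← map_add]
    rfl
  refine hU g hg (i.succAbove 0) s c₀ hr ?_
  refine stab hq hk hB hU hS hs' hs'0 (G.mul_mem (G.mul_mem hg hxG) (G.inv_mem hg))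
    ((hz.mul_left hxz).mul_left hz.inv_left) (fun r t => ?_) fun X h1 h2 => ?_
  · obtain ⟨r', t', e⟩ := hon r t
    rw [app_mul, app_mul, ← e, app_inv_app, hxX]
    · simp [hsc, Prod.mk_zero_zero]
    · simp [polar_smul_left, polar_self', hs]
    · simp [polar_smul_left, polar_self', hs]
  · obtain ⟨Z, hZ⟩ := maps_side hq hz.inv_left X
    have key : ∀ r t : F, polar q (P.side i c d Z) (P.side i c d (r • s, t • s)) = 0 := fun r t => by
      obtain ⟨r', t', e⟩ := hfw r t
      rw [← polar_app g, ← hZ, app_app_inv, e, P.polar_side hq.cd, polar_smul_right, polar_smul_right, h1, h2]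
      simp
    have z1 : polar q1 Z.1 s = 0 := by
      have := key 1 0
      rw [P.polar_side hq.cd, one_smul, zero_smul, polar_zero_right, mul_zero, add_zero] at this
      exact (mul_eq_zero.1 this).resolve_left (mul_ne_zero hG.two hq.nc)
    have z2 : polar q1 Z.2 s = 0 := by
      have := key 0 1
      rw [P.polar_side hq.cd, one_smul, zero_smul, polar_zero_right, mul_zero, zero_add] at this
      exact (mul_eq_zero.1 this).resolve_left (mul_ne_zero hG.two hq.nd)
    obtain ⟨r', t', e⟩ := hfw (-polar q1 Z.1 c₀) (-polar q1 Z.2 c₀)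
    refine ⟨r', t', ?_⟩
    rw [app_mul, app_mul, hZ, hxX Z z1 z2, map_add, e, ← hZ, app_app_inv]

omit hS hB hU in
/-- A monomial element of the centraliser acts on the side through one map of the other slot. -/
theorem mon_side {y : O q} (hy : y ∈ P.Mon) (hz : Commute y (P.zinv hG i a b)) :
    ∃ (κ : F × F) (B : (Fin k → F) →ₗ[F] (Fin k → F)), ∀ w,
      app y (P.side i c d (w, 0)) = P.side i c d (κ.1 • B w, κ.2 • B w) := by
  classical
  obtain ⟨σ, A, hA⟩ := hy
  have hs := hq.symm
  have hside : ∀ w x, (x = a ∨ x = b) → ∀ v, polar q (app y (P.tt i c w)) (P.tt i x v) = 0 := by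
    intro w x hx v
    obtain ⟨Y, hY⟩ := maps_side hq hz (w, 0)
    rw [side_apply, show P.tt i d 0 = 0 from map_zero (P.ttR i d), add_zero] at hY
    rw [hY, P.polar_side_tt]
    rcases hx with rfl | rfl
    · rw [hs.ac, hs.bc]; simp
    · rw [hs.ad, hs.bd]; simp
  have hact : ∀ x w, app y (P.tt i x w) =
      P.tt i (A i ((i.insertNth x fun _ => w : Fin 2 → Fin k → F) (σ i)))
        (A (i.succAbove 0) ((i.insertNth x fun _ => w : Fin 2 → Fin k → F) (σ (i.succAbove 0)))) := fun x w => by
    rw [tt, hA, P.tp_eq_tt i]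
  have hc0 : c ≠ 0 := fun h => hq.nc (by rw [h, QuadraticMap.map_zero])
  have hne : ∀ {x : Fin k → F}, x ≠ 0 → ∀ l, A l x ≠ 0 := fun hx l h => hx ((A l).map_eq_zero_iff.1 h)
  rcases Fin.eq_self_or_eq_succAbove i (σ i) with hσ | ⟨m, hσ⟩
  swap
  · -- the slots are exchanged
    exfalso
    obtain rfl : m = 0 := Subsingleton.elim _ _
    have hσ' : σ (i.succAbove 0) = i := by
      rcases Fin.eq_self_or_eq_succAbove i (σ (i.succAbove 0)) with h | ⟨m, h⟩
      · exact h
      · rw [Subsingleton.elim m 0] at h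
        exact absurd (σ.injective (h.trans hσ.symm)) (Fin.succAbove_ne i 0)
    obtain ⟨v, hv⟩ := exists_polar_eq_one hG.nd (hne hc0 (i.succAbove 0))
    have := hside ((A i).symm a) a (Or.inl rfl) v
    rw [hact, hσ, hσ', Fin.insertNth_apply_succAbove, Fin.insertNth_apply_same, LinearEquiv.apply_symm_apply,
      P.polar_tt, hv, mul_one, polar_self'] at this
    exact mul_ne_zero hG.two hq.na this
  have hσ' : σ (i.succAbove 0) = i.succAbove 0 := by
    rcases Fin.eq_self_or_eq_succAbove i (σ (i.succAbove 0)) with h | ⟨m, h⟩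
    · exact absurd (σ.injective (h.trans hσ.symm)) (Fin.succAbove_ne i 0)
    · rw [h, Subsingleton.elim m 0]
  simp only [hσ, hσ', Fin.insertNth_apply_succAbove, Fin.insertNth_apply_same] at hact
  obtain ⟨r, s, t, m, hAc⟩ := hq.span (A i c)
  have hzero : ∀ x, (x = a ∨ x = b) → polar q1 (A i c) x = 0 := fun x hx => by
    obtain ⟨v, hv⟩ := exists_polar_eq_one hG.nd (hne hc0 (i.succAbove 0))
    have := hside c x hx v
    rwa [hact, P.polar_tt, hv, mul_one] at this
  have hr : r = 0 := by
    have := hzero a (Or.inl rfl)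
    simp only [hAc, polar_add_left, polar_smul_left, hs.ac, hs.bc, polar_comm (f := ⇑q1) b a, hq.ab, polar_self',
      smul_eq_mul, mul_zero, add_zero] at this
    exact (mul_eq_zero.1 this).resolve_right (mul_ne_zero hG.two hq.na)
  have hs0 : s = 0 := by
    have := hzero b (Or.inr rfl)
    simp only [hAc, polar_add_left, polar_smul_left, hs.ad, hs.bd, hq.ab, polar_self', smul_eq_mul, mul_zero,
      add_zero, zero_add] at this
    exact (mul_eq_zero.1 this).resolve_right (mul_ne_zero hG.two hq.nb)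
  refine ⟨(t, m), (A (i.succAbove 0)).toLinearMap, fun w => ?_⟩
  rw [side_apply, show P.tt i d 0 = 0 from map_zero (P.ttR i d), add_zero, hact, hAc, hr, hs0, side_apply,
    P.tt_smul_right, P.tt_smul_right, ← P.tt_smul_left, ← P.tt_smul_left, ← P.tt_add_left, zero_smul, zero_smul,
    zero_add, zero_add]
  rfl

end Cent

end Power

end CfsgLib.TensorEven
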