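import Cfsg.Agent.Lib.TensorOddMinus.Data
import Cfsg.Agent.Lib.TensorOdd.Factor
import Cfsg.Agent.Lib.Maximal.TensorPower
import Cfsg.Agent.Lib.TensorWreathMax.Power

/-!
Quadratic spaces which are tensor powers: pure tensors, product frames, splitting at a slot, the slot
homomorphisms and the permutations of the slots.
-/

set_option autoImplicit false
set_option linter.unusedSectionVars false

namespace CfsgLib.TensorEven

open Matrix QuadraticMap CfsgLib.Orth CfsgLib.TensorOddMinus
open CfsgLib.TensorOdd (IsFrame)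
open CfsgLib.Maximal.TensorPower (tp tp_single)
open CfsgLib.TensorWreathMax (Idx split split_symm_apply)

variable {ι : Type} [Fintype ι] [DecidableEq ι] {F : Type*} [Field F] [Fintype F] {k t : ℕ}

/-- The index set of a power as `Fin`. -/
abbrev eqv (k t : ℕ) : Idx k t ≃ Fin (k ^ t) := finFunctionFinEquiv

/-- The form of the standard tensor power. -/
noncomputable def formP (q1 : QuadraticForm F (Fin k → F)) (t : ℕ) :
    QuadraticForm F (Fin (k ^ t) → F) :=
  (LinearMap.BilinMap.toQuadraticMap (Matrix.toBilin' ((2 : F)⁻¹ •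
    (Matrix.of fun a b : Idx k t => ∏ i, polar q1 (Pi.single (a i) 1) (Pi.single (b i) 1))))).comp
    (LinearEquiv.funCongrLeft F F (eqv k t)).toLinearMap

/-- An identification of a quadratic space with a tensor power. -/
structure Power (q : QuadraticForm F (ι → F)) (q1 : QuadraticForm F (Fin k → F)) (t : ℕ) where
  E : (Idx k t → F) ≃ₗ[F] (ι → F)
  polar_E : ∀ xs ys : Fin t → Fin k → F,
    polar q (E (Maximal.TensorPower.tp xs)) (E (Maximal.TensorPower.tp ys)) = ∏ i, polar q1 (xs i) (ys i)

theorem polar_expand (q1 : QuadraticForm F (Fin k → F)) (x y : Fin k → F) :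
    ∑ a, ∑ b, x a * polar q1 (Pi.single a 1) (Pi.single b 1) * y b = polar q1 x y := by
  rw [← polarBilin_apply_apply q1 x y]
  conv_rhs => rw [pi_eq_sum_univ' x, pi_eq_sum_univ' y]
  simp only [map_sum, map_smul, LinearMap.sum_apply, LinearMap.smul_apply, smul_eq_mul, Finset.mul_sum,
    polarBilin_apply_apply]
  rw [Finset.sum_comm]
  exact Finset.sum_congr rfl fun a _ => Finset.sum_congr rfl fun b _ => by ring

/-- The standard tensor power. -/
noncomputable def std {q1 : QuadraticForm F (Fin k → F)} (h2 : (2 : F) ≠ 0) (t : ℕ) : Power (formP q1 t) q1 t where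
  E := LinearEquiv.funCongrLeft F F (eqv k t).symm
  polar_E xs ys := by
    have hrt : ∀ x : Idx k t → F, (LinearEquiv.funCongrLeft F F (eqv k t))
        (LinearEquiv.funCongrLeft F F (eqv k t).symm x) = x := fun x => by
      funext a; simp [LinearEquiv.funCongrLeft_apply, LinearMap.funLeft_apply]
    have key : ∀ xs ys : Fin t → Fin k → F,
        Matrix.toBilin' ((2 : F)⁻¹ • (Matrix.of fun a b : Idx k t => ∏ i, polar q1 (Pi.single (a i) 1) (Pi.single (b i) 1)))
          (Maximal.TensorPower.tp xs) (Maximal.TensorPower.tp ys) = (2 : F)⁻¹ * ∏ i, polar q1 (xs i) (ys i) := by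
      intro xs ys
      rw [Matrix.toBilin'_apply]
      simp only [Matrix.smul_apply, Matrix.of_apply, smul_eq_mul, Maximal.TensorPower.tp, ← polar_expand q1 (xs _) (ys _)]
      rw [Fintype.prod_sum, Finset.mul_sum]
      refine Finset.sum_congr rfl fun a _ => ?_
      rw [Fintype.prod_sum, Finset.mul_sum]
      refine Finset.sum_congr rfl fun b _ => ?_
      simp only [Finset.prod_mul_distrib]
      ring
    show polar (formP q1 t) _ _ = _
    have hp : ∀ x y, polar (formP q1 t) x y =
        polar (LinearMap.BilinMap.toQuadraticMap (Matrix.toBilin' ((2 : F)⁻¹ •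
          (Matrix.of fun a b : Idx k t => ∏ i, polar q1 (Pi.single (a i) 1) (Pi.single (b i) 1)))))
          (LinearEquiv.funCongrLeft F F (eqv k t) x) (LinearEquiv.funCongrLeft F F (eqv k t) y) := fun x y => by
      simp [formP, polar, QuadraticMap.comp_apply]
    rw [hp, hrt, hrt, LinearMap.BilinMap.polar_toQuadraticMap, key, key,
      Finset.prod_congr rfl (fun i _ => polar_comm (f := ⇑q1) (ys i) (xs i))]
    field_simp
    ring

namespace Power

variable {q : QuadraticForm F (ι → F)} {q1 : QuadraticForm F (Fin k → F)} (P : Power q q1 t)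

/-- The pure tensors. -/
def tp (xs : Fin t → Fin k → F) : ι → F := P.E (Maximal.TensorPower.tp xs)

theorem polar_tp (xs ys : Fin t → Fin k → F) :
    polar q (P.tp xs) (P.tp ys) = ∏ i, polar q1 (xs i) (ys i) := P.polar_E xs ys

theorem card_eq (P : Power q q1 t) : Fintype.card ι = k ^ t := by
  have h := P.E.finrank_eq
  simp only [Module.finrank_fintype_fun_eq_card, Fintype.card_fun, Fintype.card_fin] at h
  exact h.symm

theorem ext_tp {M : Type*} [AddCommGroup M] [Module F M] {f g : (ι → F) →ₗ[F] M}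
    (h : ∀ xs, f (P.tp xs) = g (P.tp xs)) : f = g :=
  ((Pi.basisFun F (Idx k t)).map P.E).ext fun b => by
    rw [Module.Basis.map_apply, Pi.basisFun_apply, ← tp_single b]
    exact h _

theorem ext_tp_O {g g' : O q} (h : ∀ xs, app g (P.tp xs) = app g' (P.tp xs)) : g = g' :=
  ext_app fun x => by rw [P.ext_tp (f := app g) (g := app g') h]

theorem tp_ne_zero {xs : Fin t → Fin k → F} (h : ∀ i, xs i ≠ 0) : P.tp xs ≠ 0 := by
  intro h0
  have h1 : Maximal.TensorPower.tp xs = 0 := P.E.injective (by rw [map_zero]; exact h0)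
  choose a ha using fun i => Function.ne_iff.1 (h i)
  exact Finset.prod_ne_zero_iff.2 (fun i _ => ha i) (congrFun h1 a)

/-- Equal pure tensors have proportional factors. -/
theorem tp_eq {xs ys : Fin t → Fin k → F} (h : ∀ i, xs i ≠ 0) (e : P.tp xs = P.tp ys) (i : Fin t) :
    ∃ c : F, c ≠ 0 ∧ ys i = c • xs i := by
  have h1 : ∀ a : Idx k t, ∏ j, xs j (a j) = ∏ j, ys j (a j) := congrFun (P.E.injective e)
  choose a ha using fun j => Function.ne_iff.1 (h j)
  have hne : ∏ j, ys j (a j) ≠ 0 := by
    rw [← h1 a]; exact Finset.prod_ne_zero_iff.2 fun j _ => ha j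
  have hy : ∀ j, ys j (a j) ≠ 0 := fun j => Finset.prod_ne_zero_iff.1 hne j (Finset.mem_univ j)
  set A := ∏ j ∈ Finset.univ.erase i, xs j (a j) with hA
  set B := ∏ j ∈ Finset.univ.erase i, ys j (a j) with hB
  have hA0 : A ≠ 0 := Finset.prod_ne_zero_iff.2 fun j _ => ha j
  have hB0 : B ≠ 0 := Finset.prod_ne_zero_iff.2 fun j _ => hy j
  refine ⟨A / B, div_ne_zero hA0 hB0, funext fun l => ?_⟩
  have hsplit : ∀ zs : Fin t → Fin k → F, ∏ j, zs j (Function.update a i l j) =
      zs i l * ∏ j ∈ Finset.univ.erase i, zs j (a j) := fun zs => by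
    rw [← Finset.mul_prod_erase _ _ (Finset.mem_univ i), Function.update_self]
    exact congrArg _ (Finset.prod_congr rfl fun j hj => by rw [Function.update_of_ne (Finset.ne_of_mem_erase hj)])
  have h2 := h1 (Function.update a i l)
  rw [hsplit, hsplit, ← hA, ← hB] at h2
  rw [Pi.smul_apply, smul_eq_mul, div_mul_eq_mul_div, eq_div_iff hB0, ← h2, mul_comm]

/-- The product frame. -/
theorem isFrame (h2 : (2 : F) ≠ 0) {u : Fin k → Fin k → F} (hu : IsFrame q1 u) :
    IsFrame q (fun a : Idx k t => P.tp fun i => u (a i)) := by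
  refine ⟨?_, fun a b hab => ?_, fun a h0 => ?_, h2⟩
  · rw [P.card_eq]; simp
  · obtain ⟨i, hi⟩ := Function.ne_iff.1 hab
    rw [P.polar_tp]
    exact Finset.prod_eq_zero (Finset.mem_univ i) (hu.orth _ _ hi)
  · have e := polar_self' (Q := q) (P.tp fun i => u (a i))
    rw [P.polar_tp, h0, mul_zero] at e
    exact Finset.prod_ne_zero_iff.2 (fun i _ => hu.polar_self_ne (a i)) e

theorem nd (P : Power q q1 t) (hg : Good q1) : q.polarBilin.Nondegenerate := by
  obtain ⟨u, hu⟩ : ∃ u : Fin k → Fin k → F, IsFrame q1 u := CfsgLib.TensorOdd.exists_frame hg.nd hg.two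
  have hF := P.isFrame hg.two hu
  refine ⟨fun x hx => hF.ext_vec fun a => ?_, fun x hx => hF.ext_vec fun a => ?_⟩
  · rw [polar_zero_left]; exact hx _
  · rw [polar_zero_left, polar_comm]; exact hx _

end Power

/-- The standard power is good. -/
theorem good_formP {q1 : QuadraticForm F (Fin k → F)} (hg : Good q1) (ht : 1 ≤ t) : Good (formP q1 t) := by
  have hk : 3 ≤ k := by simpa using hg.three
  have hle : k ≤ k ^ t := Nat.le_self_pow (by omega) k
  refine ⟨(std hg.two t).nd hg, hg.two, by rw [Fintype.card_fin]; omega, fun h => ?_, fun h => ?_⟩ <;>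
    rw [Fintype.card_fin] at h
  · exact hg.small (by rw [Fintype.card_fin]; omega)
  · have ht1 : t = 1 := by
      by_contra hne
      have := Nat.pow_le_pow_right (by omega : 0 < k) (by omega : 2 ≤ t)
      have := Nat.mul_le_mul hk hk
      rw [pow_two] at *
      omega
    subst ht1
    have hk4 : k = 4 := by rwa [pow_one] at h
    intro x y hx hy hxy hx0
    let φ : (Fin k → F) →ₗ[F] (Fin (k ^ 1) → F) :=
      { toFun := fun v p => v ((eqv k 1).symm p 0)
        map_add' := fun v w => rfl
        map_smul' := fun c v => rfl }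
    have hsurj : Function.Surjective φ := fun z => ⟨fun i => z (eqv k 1 fun _ => i), by
      funext p
      show z (eqv k 1 fun _ => (eqv k 1).symm p 0) = z p
      rw [show (fun _ : Fin 1 => (eqv k 1).symm p 0) = (eqv k 1).symm p from
        funext fun j => by rw [Subsingleton.elim j 0], Equiv.apply_symm_apply]⟩
    have hφ : ∀ v, φ v = (std (q1 := q1) hg.two 1).tp fun _ => v := fun v => funext fun p => by
      show v ((eqv k 1).symm p 0) = ∏ i, v ((eqv k 1).symm p i)
      rw [Fin.prod_univ_one]
    obtain ⟨x', rfl⟩ := hsurj x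
    obtain ⟨y', rfl⟩ := hsurj y
    have hp : ∀ a b, polar (formP q1 1) (φ a) (φ b) = polar q1 a b := fun a b => by
      rw [hφ, hφ, Power.polar_tp, Fin.prod_univ_one]
    have hqq : ∀ a, formP q1 1 (φ a) = q1 a := fun a => mul_left_cancel₀ hg.two (by
      rw [← polar_self', ← polar_self', hp])
    rw [hqq] at hx hy
    rw [hp] at hxy
    obtain ⟨s, hs⟩ := hg.four (by rw [Fintype.card_fin, hk4]) x' y' hx hy hxy fun h0 => hx0 (by rw [h0, map_zero])
    exact ⟨s, by rw [hs, map_smul]⟩

namespace Power

variable {q : QuadraticForm F (ι → F)} {q1 : QuadraticForm F (Fin k → F)}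

/-- The index set at a slot. -/
def slotEquiv (k t : ℕ) (i : Fin (t + 1)) : Idx k (t + 1) ≃ Fin k × Fin (k ^ t) :=
  (split i).trans (Equiv.prodCongr (Equiv.refl _) (eqv k t))

variable (P : Power q q1 (t + 1)) (hg : Good q1) (ht : 1 ≤ t) (i : Fin (t + 1))

theorem slot_pure (u : Fin k → F) (ys : Fin t → Fin k → F) :
    ((LinearEquiv.funCongrLeft F F (slotEquiv k t i)).trans P.E)
      (Maximal.TensorTools.pure u ((std (q1 := q1) hg.two t).tp ys)) = P.tp (i.insertNth u ys) := by
  rw [LinearEquiv.trans_apply, Power.tp]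
  congr 1
  funext a
  simp only [LinearEquiv.funCongrLeft_apply, LinearMap.funLeft_apply, Maximal.TensorTools.pure, Power.tp, std,
    slotEquiv, Equiv.trans_apply, Equiv.prodCongr_apply, Equiv.refl_apply, Prod.map_apply, Equiv.symm_apply_apply]
  rw [Maximal.TensorPower.tp, Maximal.TensorPower.tp, Fin.prod_univ_succAbove _ i]
  simp [split, Fin.insertNthEquiv, Fin.removeNth]

/-- The decomposition at a slot. -/
noncomputable def D : Data q k (k ^ t) where
  q1 := q1
  q2 := formP q1 t
  E := (LinearEquiv.funCongrLeft F F (slotEquiv k t i)).trans P.E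
  polar_E := by
    have hbase : ∀ u ys u' ys',
        polar q (((LinearEquiv.funCongrLeft F F (slotEquiv k t i)).trans P.E)
            (Maximal.TensorTools.pure u ((std (q1 := q1) hg.two t).tp ys)))
          (((LinearEquiv.funCongrLeft F F (slotEquiv k t i)).trans P.E)
            (Maximal.TensorTools.pure u' ((std (q1 := q1) hg.two t).tp ys'))) =
        polar q1 u u' * polar (formP q1 t) ((std hg.two t).tp ys) ((std hg.two t).tp ys') := fun u ys u' ys' => by
      rw [slot_pure P hg i, slot_pure P hg i, P.polar_tp, (std hg.two t).polar_tp,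
        Fin.prod_univ_succAbove _ i]
      simp
    set E' := ((LinearEquiv.funCongrLeft F F (slotEquiv k t i)).trans P.E).toLinearMap
    intro u v u' v'
    let φ : (Fin k → F) → (Fin (k ^ t) → F) →ₗ[F] (ι → F) := fun w =>
      E'.comp (LinearMap.pi fun p : Fin k × Fin (k ^ t) => w p.1 • LinearMap.proj p.2)
    have hφ : ∀ w z, φ w z = E' (Maximal.TensorTools.pure w z) := fun w z => rfl
    have h : q.polarBilin.compl₁₂ (φ u) (φ u') = polar q1 u u' • (formP q1 t).polarBilin :=
      (std hg.two t).ext_tp fun ys => (std hg.two t).ext_tp fun ys' => by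
        simp only [LinearMap.compl₁₂_apply, LinearMap.smul_apply, polarBilin_apply_apply, smul_eq_mul]
        exact hbase u ys u' ys'
    have := LinearMap.congr_fun (LinearMap.congr_fun h v) v'
    simpa only [LinearMap.compl₁₂_apply, LinearMap.smul_apply, polarBilin_apply_apply, smul_eq_mul, hφ, E', LinearEquiv.coe_coe] using this
  good1 := hg
  good2 := good_formP hg ht
  nd := P.nd hg

theorem D_q1 : (P.D hg ht i).q1 = q1 := rfl

theorem D_q2 : (P.D hg ht i).q2 = formP q1 t := rfl

theorem D_tp (u : Fin k → F) (ys : Fin t → Fin k → F) :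
    (P.D hg ht i).tp u ((std (q1 := q1) hg.two t).tp ys) = P.tp (i.insertNth u ys) := P.slot_pure hg i u ys

theorem D_tp' (xs : Fin (t + 1) → Fin k → F) :
    P.tp xs = (P.D hg ht i).tp (xs i) ((std (q1 := q1) hg.two t).tp (i.removeNth xs)) := by
  rw [D_tp, Fin.insertNth_self_removeNth]

/-- The isometries of a slot. -/
noncomputable def S : O q1 →* O q := (P.D hg ht i).L

/-- The isometries of the other slots. -/
noncomputable def R : O (formP q1 t) →* O q := (P.D hg ht i).R

theorem S_tp (A : O q1) (xs : Fin (t + 1) → Fin k → F) :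
    app (P.S hg ht i A) (P.tp xs) = P.tp (Function.update xs i (app A (xs i))) := by
  rw [P.D_tp' hg ht i xs, P.D_tp' hg ht i (Function.update xs i (app A (xs i))), Function.update_self,
    Fin.removeNth_update]
  exact (P.D hg ht i).L_tp A _ _

theorem S_R_comm (A : O q1) (B : O (formP q1 t)) : P.S hg ht i A * P.R hg ht i B = P.R hg ht i B * P.S hg ht i A :=
  (P.D hg ht i).L_R_comm A B

theorem S_comm {j : Fin (t + 1)} (hij : i ≠ j) (A B : O q1) :
    P.S hg ht i A * P.S hg ht j B = P.S hg ht j B * P.S hg ht i A :=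
  P.ext_tp_O fun xs => by
    rw [app_mul, app_mul, S_tp, S_tp, S_tp, S_tp, Function.update_of_ne hij, Function.update_of_ne hij.symm,
      Function.update_comm hij.symm]

end Power

/-- The slot homomorphisms at the other slots factor through `R`. -/
theorem Power.S_succAbove {q : QuadraticForm F (ι → F)} {q1 : QuadraticForm F (Fin k → F)} {t : ℕ}
    (P : Power q q1 (t + 2)) (hg : Good q1) (ht : 1 ≤ t) (i : Fin (t + 2)) (j : Fin (t + 1)) (A : O q1) :
    P.S hg (by omega) (i.succAbove j) A = P.R hg (by omega) i ((std (q1 := q1) hg.two (t + 1)).S hg ht j A) :=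
  P.ext_tp_O fun xs => by
    conv_rhs => rw [P.D_tp' hg (by omega) i xs]
    rw [S_tp, Power.R]
    refine Eq.trans ?_ ((P.D hg (by omega) i).R_tp _ _ _).symm
    erw [Power.S_tp]
    erw [P.D_tp]
    rw [P.D_tp' hg (by omega) i (Function.update xs _ _), P.D_tp,
      Function.update_of_ne (Fin.ne_succAbove i j), Fin.removeNth_update_succAbove]
    rfl

namespace Power

variable {q : QuadraticForm F (ι → F)} {q1 : QuadraticForm F (Fin k → F)} (P : Power q q1 t)

/-- Permuting the coordinates. -/
def permE (σ : Equiv.Perm (Fin t)) : Equiv.Perm (Idx k t) where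
  toFun a := a ∘ σ
  invFun a := a ∘ σ.symm
  left_inv a := by funext x; simp
  right_inv a := by funext x; simp

/-- The linear map permuting the slots. -/
noncomputable def permL (σ : Equiv.Perm (Fin t)) : (ι → F) →ₗ[F] (ι → F) :=
  P.E.toLinearMap ∘ₗ (LinearEquiv.funCongrLeft F F (permE σ)).toLinearMap ∘ₗ P.E.symm.toLinearMap

theorem permL_tp (σ : Equiv.Perm (Fin t)) (xs : Fin t → Fin k → F) :
    P.permL σ (P.tp xs) = P.tp fun i => xs (σ.symm i) := by
  simp only [permL, tp, LinearMap.comp_apply, LinearEquiv.coe_coe, LinearEquiv.symm_apply_apply]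
  congr 1
  funext a
  simp only [LinearEquiv.funCongrLeft_apply, LinearMap.funLeft_apply, Maximal.TensorPower.tp, permE,
    Equiv.coe_fn_mk, Function.comp_apply]
  rw [← Equiv.prod_comp σ (fun i => xs (σ.symm i) (a i))]
  simp

theorem permL_comp (σ τ : Equiv.Perm (Fin t)) : (P.permL σ).comp (P.permL τ) = P.permL (σ * τ) :=
  P.ext_tp fun xs => by simp [permL_tp, Equiv.Perm.mul_def]

theorem permL_one : P.permL 1 = LinearMap.id :=
  P.ext_tp fun xs => by simp [permL_tp, Equiv.Perm.one_def]

theorem Q_permL (h2 : (2 : F) ≠ 0) (σ : Equiv.Perm (Fin t)) (x : ι → F) : q (P.permL σ x) = q x := by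
  have h : q.polarBilin.compl₁₂ (P.permL σ) (P.permL σ) = q.polarBilin :=
    P.ext_tp fun xs => P.ext_tp fun ys => by
      simp only [LinearMap.compl₁₂_apply, polarBilin_apply_apply, permL_tp, polar_tp]
      exact Equiv.prod_comp σ.symm fun i => polar q1 (xs i) (ys i)
  have h1 := LinearMap.congr_fun (LinearMap.congr_fun h x) x
  simp only [LinearMap.compl₁₂_apply, polarBilin_apply_apply, polar_self'] at h1
  exact mul_left_cancel₀ h2 h1

/-- The permutations of the slots. -/
noncomputable def π (h2 : (2 : F) ≠ 0) : Equiv.Perm (Fin t) →* O q where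
  toFun σ := mkO (P.permL σ) (P.permL σ⁻¹) ((P.permL_comp σ σ⁻¹).trans (by rw [mul_inv_cancel, P.permL_one]))
    ((P.permL_comp σ⁻¹ σ).trans (by rw [inv_mul_cancel, P.permL_one])) (P.Q_permL h2 σ)
  map_one' := ext_app fun x => by rw [app_mkO, app_one, permL_one]; rfl
  map_mul' σ τ := ext_app fun x => by rw [app_mul, app_mkO, app_mkO, app_mkO, ← P.permL_comp]; rfl

theorem app_π (h2 : (2 : F) ≠ 0) (σ : Equiv.Perm (Fin t)) (x : ι → F) : app (P.π h2 σ) x = P.permL σ x := by
  simp [π, app_mkO]

theorem π_tp (h2 : (2 : F) ≠ 0) (σ : Equiv.Perm (Fin t)) (xs : Fin t → Fin k → F) :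
    app (P.π h2 σ) (P.tp xs) = P.tp fun i => xs (σ.symm i) := by
  rw [app_π, permL_tp]

end Power

theorem Power.π_conj_S {q : QuadraticForm F (ι → F)} {q1 : QuadraticForm F (Fin k → F)} {t : ℕ}
    (P : Power q q1 (t + 1)) (hg : Good q1) (ht : 1 ≤ t) (σ : Equiv.Perm (Fin (t + 1))) (i : Fin (t + 1))
    (A : O q1) : P.π hg.two σ * P.S hg ht i A * (P.π hg.two σ)⁻¹ = P.S hg ht (σ i) A := by
  rw [mul_inv_eq_iff_eq_mul]
  refine P.ext_tp_O fun xs => ?_
  rw [app_mul, app_mul, S_tp, π_tp, π_tp, S_tp]
  congr 1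
  funext l
  simp only [Function.update_apply, Equiv.symm_apply_apply, Equiv.symm_apply_eq]

end CfsgLib.TensorEven
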