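import Cfsg.Agent.Lib.TensorEven.Groups
import Cfsg.Agent.Lib.TensorEven.Plane
import Cfsg.Agent.Lib.TensorEven.Omega

/-!
A proper group containing all isometries of the slots and the even permutations contains no non-trivial
element which is the identity modulo a singular slice.
-/

set_option autoImplicit false
set_option linter.unusedSectionVars false

namespace CfsgLib.TensorEven

open Matrix QuadraticMap CfsgLib.Orth CfsgLib.TensorOddMinus
open CfsgLib.TensorOdd (IsFrame)
open CfsgLib.TensorMax63 (Hyp mid mem_mid exists_hyp exists_aniso)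

variable {ι : Type} [Fintype ι] [DecidableEq ι] {F : Type*} [Field F] [Fintype F] {k t : ℕ}
variable {q : QuadraticForm F (ι → F)} {q1 : QuadraticForm F (Fin k → F)}

namespace Power

section TenL

variable (R : Power q q1 t)

theorem tenL_mul (A B : Fin t → Module.End F (Fin k → F)) :
    R.tenL A * R.tenL B = R.tenL fun l => A l * B l := R.tenL_comp A B

theorem tenL_one : R.tenL (fun _ => (1 : Module.End F (Fin k → F))) = 1 :=
  R.ext_tp fun xs => by rw [R.tenL_tp]; rfl

theorem tenL_smul (c : Fin t → F) (A : Fin t → Module.End F (Fin k → F)) :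
    R.tenL (fun l => c l • A l) = (∏ l, c l) • R.tenL A :=
  R.ext_tp fun xs => by
    rw [R.tenL_tp, LinearMap.smul_apply, R.tenL_tp, ← R.tp_smul]
    rfl

theorem tenL_update (A : Fin t → Module.End F (Fin k → F)) (l : Fin t) (X : Module.End F (Fin k → F)) :
    R.tenL (Function.update A l X) = R.tenL (Function.update A l 1) * R.sl l X := by
  rw [Power.sl, tenL_mul]
  congr 1
  funext j
  rcases eq_or_ne j l with rfl | h
  · simp only [Function.update_self, one_mul]
  · simp only [Function.update_of_ne h]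
    rfl

theorem tenL_conj (A : Fin t → Module.End F (Fin k → F)) (l : Fin t) (X Y : Module.End F (Fin k → F)) :
    R.sl l X * R.tenL A * R.sl l Y = R.tenL (Function.update A l (X * A l * Y)) := by
  rw [Power.sl, Power.sl, tenL_mul, tenL_mul]
  congr 1
  funext j
  rcases eq_or_ne j l with rfl | h
  · simp only [Function.update_self]
  · simp only [Function.update_of_ne h]
    rfl

theorem sl_skew {J : Module.End F (Fin k → F)}
    (hJ : ∀ x y, polar q1 (J x) y + polar q1 x (J y) = 0) (l : Fin t) (x y : ι → F) :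
    polar q (R.sl l J x) y + polar q x (R.sl l J y) = 0 := by
  have : q.polarBilin.compl₁₂ (R.sl l J) LinearMap.id + q.polarBilin.compl₁₂ LinearMap.id (R.sl l J) = 0 :=
    R.ext_tp fun xs => R.ext_tp fun ys => by
      simp only [LinearMap.add_apply, LinearMap.compl₁₂_apply, LinearMap.id_apply, LinearMap.zero_apply,
        polarBilin_apply_apply, sl_tp, polar_tp, ← Finset.mul_prod_erase _ _ (Finset.mem_univ l),
        Function.update_self]
      have e1 : ∀ v, ∏ j ∈ Finset.univ.erase l, polar q1 (Function.update xs l v j) (ys j) =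
          ∏ j ∈ Finset.univ.erase l, polar q1 (xs j) (ys j) := fun v =>
        Finset.prod_congr rfl fun j hj => by rw [Function.update_of_ne (Finset.ne_of_mem_erase hj)]
      have e2 : ∀ v, ∏ j ∈ Finset.univ.erase l, polar q1 (xs j) (Function.update ys l v j) =
          ∏ j ∈ Finset.univ.erase l, polar q1 (xs j) (ys j) := fun v =>
        Finset.prod_congr rfl fun j hj => by rw [Function.update_of_ne (Finset.ne_of_mem_erase hj)]
      rw [e1, e2, ← add_mul, hJ, zero_mul]
  exact LinearMap.congr_fun (LinearMap.congr_fun this x) y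

end TenL

theorem JRad.ofInW (P : Power q q1 (t + 1)) (hG : Good q1) (ht : 1 ≤ t) {i : Fin (t + 1)} {m' : Fin t}
    {u : Fin k → F} {J : Module.End F (Fin k → F)} {g : O q}
    (h : (P.D hG ht i).swap.IsRad u 0 ((std (q1 := q1) hG.two t).sl m' J) g) :
    P.JRad i (i.succAbove m') u J g := by
  intro xs
  set D := (P.D hG ht i).swap
  have e := h.eqn (P.tp xs)
  rw [D.adj_zero, D.tp_zero_left, sub_zero, LinearMap.zero_apply, add_zero] at e
  rw [e, P.D_tp' hG ht i xs, ← (P.D hG ht i).swap_tp]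
  congr 1
  erw [D.C_tp]
  rw [map_smul, D.tp_smul_left, sl_tp]
  congr 1
  rw [(P.D hG ht i).swap_tp, P.D_tp]
  congr 1
  funext l
  rcases Fin.eq_self_or_eq_succAbove i l with rfl | ⟨l', rfl⟩
  · rw [Fin.insertNth_apply_same, Function.update_of_ne (Fin.succAbove_ne _ _).symm, Function.update_self]
  · rw [Fin.insertNth_apply_succAbove]
    simp only [Function.update_apply, Fin.succAbove_right_inj, Fin.removeNth, if_neg (Fin.succAbove_ne _ l')]

end Power

namespace Power

variable {P : Power q q1 (t + 2)} {hG : Good q1} {G : Subgroup (O q)}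

theorem Full.R_swap_mem (h : P.Full hG (by omega) G) (i : Fin (t + 2)) (ρ : O q1) :
    (P.D hG (by omega) i).swap.R ρ ∈ G := by
  erw [(P.D hG (by omega) i).swap_R]
  exact h.S_mem i ρ

theorem Full.inW_conj (h : P.Full hG (by omega) G) (ht : 1 ≤ t) (i : Fin (t + 2)) {u : Fin k → F}
    {K : Module.End F (Fin (k ^ (t + 1)) → F)} (hK : (P.D hG (by omega) i).swap.InW G u K) (l : Fin (t + 1))
    (A : O q1) :
    (P.D hG (by omega) i).swap.InW G u
      ((std (q1 := q1) hG.two (t + 1)).sl l (app A) * K * (std (q1 := q1) hG.two (t + 1)).sl l (app A⁻¹)) := by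
  obtain ⟨g, hg, e⟩ := hK
  set W := std (q1 := q1) hG.two (t + 1)
  set D := (P.D hG (by omega : 1 ≤ t + 1) i).swap
  set ρ : O D.q1 := W.S hG ht l A with hρ
  have hρG : D.L ρ ∈ G := by
    have := h.S_mem (i.succAbove l) A
    rw [P.S_succAbove hG ht i l A] at this
    erw [(P.D hG (by omega) i).swap_L]
    exact this
  refine ⟨_, G.mul_mem (G.mul_mem hρG hg) (G.inv_mem hρG), ?_⟩
  have h1 := e.conj_L ρ
  rw [show (app (D.L ρ)).comp ((0 : (Fin (k ^ (t + 1)) → F) →ₗ[F] (ι → F)).comp (app ρ⁻¹)) = 0 by simp] at h1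
  convert h1 using 1
  rw [hρ]
  erw [← map_inv]
  erw [W.app_S_eq_sl hG ht l A, W.app_S_eq_sl hG ht l A⁻¹]
  rfl

/-- The skew maps of the slice, as a space of endomorphisms of the other slots. -/
noncomputable def Full.space (h : P.Full hG (by omega) G) (i : Fin (t + 2)) {u u' : Fin k → F}
    (Pu : Hyp q1 u u') : Submodule F (Module.End F (Fin (k ^ (t + 1)) → F)) where
  carrier := {K | (P.D hG (by omega) i).swap.InW G u K}
  zero_mem' := ⟨1, G.one_mem, Data.IsRad.one⟩
  add_mem' := fun hK hK' => Data.InW.add (D := (P.D hG (by omega) i).swap) Pu.q₁ hK hK'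
  smul_mem' := fun c _ hK => Data.InW.smulR (D := (P.D hG (by omega) i).swap) Pu (h.R_swap_mem i) hK c

theorem Full.mem_space (h : P.Full hG (by omega) G) (i : Fin (t + 2)) {u u' : Fin k → F} (Pu : Hyp q1 u u')
    {K : Module.End F (Fin (k ^ (t + 1)) → F)} :
    K ∈ h.space i Pu ↔ (P.D hG (by omega) i).swap.InW G u K := Iff.rfl

/-- A non-trivial skew map gives one acting through a single slot. -/
theorem Full.exists_sl (h : P.Full hG (by omega) G) (ht : 1 ≤ t) (hk : 4 ≤ k) (i : Fin (t + 2))
    {u u' : Fin k → F} (Pu : Hyp q1 u u') {K : Module.End F (Fin (k ^ (t + 1)) → F)}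
    (hK : (P.D hG (by omega) i).swap.InW G u K) (hK0 : K ≠ 0) :
    ∃ (m : Fin (t + 1)) (J : Module.End F (Fin k → F)), J ≠ 0 ∧
      (∀ x y, polar q1 (J x) y + polar q1 x (J y) = 0) ∧
      (P.D hG (by omega) i).swap.InW G u ((std (q1 := q1) hG.two (t + 1)).sl m J) := by
  classical
  set W := std (q1 := q1) hG.two (t + 1)
  set D := (P.D hG (by omega : 1 ≤ t + 1) i).swap
  set 𝒲 := h.space i Pu
  have hconj : ∀ Z, Z ∈ 𝒲 → ∀ l (A : O q1), W.sl l (app A) * Z * W.sl l (app A⁻¹) ∈ 𝒲 :=
    fun Z hZ l A => h.inW_conj ht i hZ l A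
  obtain ⟨Y, hY, hYW⟩ := W.exists_pure hG hk (𝒦 := 𝒲) (fun l v hv Z hZ => by
    have := hconj Z hZ l (refl q1 v)
    rwa [refl_inv v] at this) hK hK0
  -- some factor is not the identity
  obtain ⟨m, hm⟩ : ∃ m, Y m ≠ LinearMap.id := by
    by_contra hno
    push Not at hno
    have h1 : W.tenL Y = 1 := by
      rw [show Y = fun _ => (1 : Module.End F (Fin k → F)) from funext hno, tenL_one]
    obtain ⟨z, hz⟩ := exists_anisotropic (W.nd hG) (by
      rw [Fintype.card_fin]
      exact le_trans (by norm_num) (Nat.one_le_pow _ _ (by omega)))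
    have e := Data.InW.skew (D := D) Pu.q₁ Pu.ne₁ (h1 ▸ hYW : D.InW G u 1) z z
    rw [Module.End.one_apply, ← two_mul] at e
    erw [polar_self'] at e
    exact mul_ne_zero hG.two (mul_ne_zero hG.two hz) e
  obtain ⟨ε, a, b, hε, ha, hb, hab, hYm⟩ := (hY m).resolve_left hm
  obtain ⟨σm, J, hσa, hJ0, hJ, hJe⟩ := exists_skew hG hk ha (by rw [hb]; exact ha) hab hb.symm
  refine ⟨m, J, hJ0, hJ, ?_⟩
  -- the factors after the displacements
  have hεne : ∀ {ε' : F}, (ε' = 1 ∨ ε' = -1) → ε' ≠ 0 := fun h => by rcases h with rfl | rfl <;> simp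
  have h4 : (4 : F) ≠ 0 := by rw [show (4 : F) = 2 * 2 by norm_num]; exact mul_ne_zero hG.two hG.two
  let C : Module.End F (Fin k → F) → Module.End F (Fin k → F) → Prop :=
    fun Y A => ∃ ρ : O q1, A = app ρ * Y * app ρ⁻¹
  have hCmem : ∀ A : Fin (t + 1) → Module.End F (Fin k → F), (∀ l, C (Y l) (A l)) → W.tenL A ∈ 𝒲 := by
    intro A hA
    suffices H : ∀ S : Finset (Fin (t + 1)), W.tenL (fun l => if l ∈ S then A l else Y l) ∈ 𝒲 by
      simpa using H Finset.univ
    intro S
    induction S using Finset.induction_on with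
    | empty => simpa using hYW
    | @insert l S hl ih =>
      obtain ⟨ρ, hρ⟩ := hA l
      have := hconj _ ih l ρ
      rw [tenL_conj, if_neg hl, ← hρ] at this
      convert this using 2
      funext j
      rcases eq_or_ne j l with rfl | hj
      · simp
      · simp [hj]
  set κ0 : F := 4 * ε * q1 a * q1 a
  have hκ0 : κ0 ≠ 0 := mul_ne_zero (mul_ne_zero (mul_ne_zero h4 (hεne hε)) ha) ha
  let Cube : Module.End F (Fin k → F) → Module.End F (Fin k → F) → F → Prop :=
    fun A π κ => A * A = κ • π ∧ A * (A * A) = κ • A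
  have conjT : ∀ (ρ : O q1) (ε' : F) (a' b' : Fin k → F),
      app ρ * tmap q1 ε' a' b' * app ρ⁻¹ = tmap q1 ε' (app ρ a') (app ρ b') := fun ρ ε' a' b' =>
    LinearMap.ext fun z => by
      have : ∀ v, polar q1 (app ρ⁻¹ z) v = polar q1 z (app ρ v) := fun v => by
        rw [← polar_app ρ, app_app_inv]
      simp only [Module.End.mul_apply, tmap_apply, this, map_add, map_smul]
  have cubeT : ∀ {ε' : F} {a' b' : Fin k → F}, q1 a' ≠ 0 → q1 b' = q1 a' → polar q1 a' b' = 0 →
      Cube (tmap q1 ε' a' b') (pl q1 a' b') (4 * ε' * q1 a' * q1 a') := fun h1 h2 h3 =>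
    ⟨tmap_sq hG h1 h2 h3 _, tmap_cube hG h1 h2 h3 _⟩
  set S := Finset.univ.filter fun l => l ≠ m ∧ Y l ≠ LinearMap.id
  have slot : ∀ (x : Fin k → F), q1 x ≠ 0 → ∀ l, ∃ (A A' π π' : Module.End F (Fin k → F)) (κ : F), κ ≠ 0 ∧
      C (Y l) A ∧ C (Y l) A' ∧ Cube A π κ ∧ Cube A' π' κ ∧ (l = m → π' * π - π * π' = J) ∧
      (l ≠ m → π' * π = (if l ∈ S then proj q1 x else 1) ∧ π * π' = if l ∈ S then proj q1 x else 1) := by
    intro x hx l
    rcases eq_or_ne l m with rfl | hlm
    · refine ⟨Y l, app σm * Y l * app σm⁻¹, pl q1 a b, pl q1 a (app σm b), κ0, hκ0,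
        ⟨1, LinearMap.ext fun z => by simp⟩, ⟨σm, rfl⟩, ?_, ?_, fun _ => hJe, fun h => absurd rfl h⟩
      · rw [hYm]; exact cubeT ha hb hab
      · rw [hYm, conjT, hσa]
        exact cubeT ha (by rw [Q_app, hb]) (by rw [← hσa, polar_app, hab])
    by_cases hl : Y l = LinearMap.id
    · have hlS : l ∉ S := by simp [S, hl]
      refine ⟨1, 1, 1, 1, 1, one_ne_zero, ⟨1, ?_⟩, ⟨1, ?_⟩, ⟨by simp, by simp⟩, ⟨by simp, by simp⟩,
        fun h => absurd h hlm, fun _ => by simp [hlS]⟩
      all_goals rw [hl]; exact LinearMap.ext fun z => by simp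
    have hlS : l ∈ S := by simp [S, hl, hlm]
    obtain ⟨ε', a', b', hε', ha', hb', hab', hYl⟩ := (hY l).resolve_left hl
    obtain ⟨x0, y0, hqx0, hqy0, hxy0, hpl0⟩ := exists_plane_basis hG ha' hb' hab' hx
    obtain ⟨ρ, hρ⟩ := exists_move hG.two (x := x0) (y := x) (by rw [hqx0]; exact hx) hqx0.symm
    set y := app ρ y0
    have hqy : q1 y = q1 x := by rw [Q_app, hqy0]
    have hxy : polar q1 x y = 0 := by rw [← hρ, polar_app, hxy0]
    obtain ⟨σ, hσx, hσ1, hσ2⟩ := exists_common hG hk hx (by rw [hqy]; exact hx) hxy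
    have hpl : pl q1 (app ρ a') (app ρ b') = pl q1 x y := by rw [← conj_pl, ← hpl0, conj_pl, hρ]
    have hpl' : pl q1 (app σ (app ρ a')) (app σ (app ρ b')) = pl q1 x (app σ y) := by
      rw [← conj_pl, hpl, conj_pl, hσx]
    refine ⟨app ρ * Y l * app ρ⁻¹, app (σ * ρ) * Y l * app (σ * ρ)⁻¹, pl q1 x y, pl q1 x (app σ y),
      4 * ε' * q1 a' * q1 a', mul_ne_zero (mul_ne_zero (mul_ne_zero h4 (hεne hε')) ha') ha',
      ⟨ρ, rfl⟩, ⟨σ * ρ, rfl⟩, ?_, ?_, fun h => absurd h hlm, fun _ => ?_⟩
    · rw [hYl, conjT, ← hpl, ← Q_app ρ a']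
      exact cubeT (by rw [Q_app]; exact ha') (by rw [Q_app, Q_app, hb']) (by rw [polar_app, hab'])
    · rw [hYl, conjT, app_mul, app_mul, ← hpl', ← Q_app ρ a', ← Q_app σ (app ρ a')]
      exact cubeT (by rw [Q_app, Q_app]; exact ha') (by rw [Q_app, Q_app, Q_app, Q_app, hb'])
        (by rw [polar_app, polar_app, hab'])
    · rw [if_pos hlS]
      exact ⟨hσ2, hσ1⟩
  -- for every choice of the lines
  have base : ∀ x : Fin (t + 1) → Fin k → F, (∀ l, q1 (x l) ≠ 0) →
      W.tenL (Function.update (fun l => if l ∈ S then proj q1 (x l) else 1) m J) ∈ 𝒲 := by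
    intro x hx
    choose A A' π π' κ hκ hA hA' hc hc' hm1 hm2 using fun l => slot (x l) (hx l) l
    have hsq : ∀ (B ρ : Fin (t + 1) → Module.End F (Fin k → F)), (∀ l, Cube (B l) (ρ l) (κ l)) →
        W.tenL B * W.tenL B = (∏ l, κ l) • W.tenL ρ ∧
          ∀ z, W.tenL B (W.tenL B (W.tenL B z)) = (∏ l, κ l) • W.tenL B z := by
      intro B ρ hB
      refine ⟨?_, fun z => ?_⟩
      · rw [tenL_mul, ← tenL_smul]
        exact congrArg _ (funext fun l => (hB l).1)
      · have e : W.tenL B * (W.tenL B * W.tenL B) = (∏ l, κ l) • W.tenL B := by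
          rw [tenL_mul, tenL_mul, ← tenL_smul]
          exact congrArg _ (funext fun l => (hB l).2)
        exact LinearMap.congr_fun e z
    obtain ⟨e1, c1⟩ := hsq A π hc
    obtain ⟨e2, c2⟩ := hsq A' π' hc'
    have hne : (∏ l, κ l) ≠ 0 := Finset.prod_ne_zero_iff.2 fun l _ => hκ l
    obtain ⟨d, hd, hqd⟩ := exists_aniso (Pu.nondeg_mid hG.nd) (fun hb' => by
      have e := Pu.finrank_mid hG.nd
      rw [hb', finrank_bot, Fintype.card_fin] at e
      omega)
    have hc'' : W.tenL A' * W.tenL A' * (W.tenL A * W.tenL A) -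
        W.tenL A * W.tenL A * (W.tenL A' * W.tenL A') ∈ 𝒲 :=
      Data.InW.proj_comm (D := D) Pu (h.R_swap_mem i) ⟨d, hd, hqd⟩ (hCmem A hA) (hCmem A' hA') hne hne c1 c2
    rw [e1, e2, smul_mul_smul_comm, smul_mul_smul_comm] at hc''
    have h3 := Submodule.smul_mem 𝒲 ((∏ l, κ l) * ∏ l, κ l)⁻¹ hc''
    rw [smul_sub, inv_smul_smul₀ (mul_ne_zero hne hne), inv_smul_smul₀ (mul_ne_zero hne hne), tenL_mul,
      tenL_mul] at h3
    set Z : Fin (t + 1) → Module.End F (Fin k → F) := fun l => if l ∈ S then proj q1 (x l) else 1 with hZ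
    have hu : ∀ B : Fin (t + 1) → Module.End F (Fin k → F), (∀ l, l ≠ m → B l = Z l) →
        W.tenL B = W.tenL (Function.update Z m 1) * W.sl m (B m) := fun B hB => by
      rw [← tenL_update]
      congr 1
      funext l
      rcases eq_or_ne l m with rfl | hl
      · simp
      · simp [hl, hB l hl]
    rw [hu (fun l => π' l * π l) (fun l hl => (hm2 l hl).1), hu (fun l => π l * π' l) (fun l hl => (hm2 l hl).2),
      ← mul_sub] at h3
    rw [tenL_update, ← hm1 m rfl]
    convert h3 using 2
    show W.slₗ m (π' m * π m - π m * π' m) = W.slₗ m _ - W.slₗ m _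
    exact map_sub _ _ _
  -- sum over frames
  obtain ⟨v, hv⟩ : ∃ v : Fin k → Fin k → F, IsFrame q1 v := CfsgLib.TensorOdd.exists_frame hG.nd hG.two
  have key : ∀ T : Finset (Fin (t + 1)), ∀ x : Fin (t + 1) → Fin k → F, (∀ l, q1 (x l) ≠ 0) →
      W.tenL (Function.update (fun l => if l ∈ S ∧ l ∉ T then proj q1 (x l) else 1) m J) ∈ 𝒲 := by
    intro T
    induction T using Finset.induction_on with
    | empty => intro x hx; simpa using base x hx
    | @insert l T hl ih =>
      intro x hx
      by_cases hlS : l ∈ S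
      · have hlm : l ≠ m := (Finset.mem_filter.1 hlS).2.1
        set Z := Function.update (fun j => if j ∈ S ∧ j ∉ insert l T then proj q1 (x j) else 1) m J with hZ
        have hsum : W.tenL Z = ∑ c, W.tenL (Function.update Z l 1) * W.sl l (mu q1 v c c) := by
          rw [← Finset.mul_sum, ← W.sl_sum, mu_sum hv, sl_one, mul_one]
          congr 1
          funext j
          rcases eq_or_ne j l with rfl | hj
          · simp [hZ, hlm]
          · simp [hj]
        rw [hsum]
        refine Submodule.sum_mem _ fun c _ => ?_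
        have := ih (Function.update x l (v c)) (fun j => by
          rcases eq_or_ne j l with rfl | hj
          · rw [Function.update_self]; exact hv.nz c
          · rw [Function.update_of_ne hj]; exact hx j)
        rw [← tenL_update]
        convert this using 2
        funext j
        rcases eq_or_ne j l with rfl | hj
        · rw [Function.update_self, Function.update_of_ne hlm, if_pos ⟨hlS, hl⟩, Function.update_self]
          rfl
        · simp [hZ, Function.update_apply, hj]
      · convert ih x hx using 2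
        funext j
        rcases eq_or_ne j l with rfl | hj
        · simp [Function.update_apply, hlS]
        · simp [Function.update_apply, hj]
  have hfin := key Finset.univ (fun _ => v ⟨0, by omega⟩) (fun _ => hv.nz _)
  show W.sl m J ∈ 𝒲
  simpa [Power.sl, Module.End.one_eq_id] using hfin

end Power

/-- No non-trivial element of a proper group with all isometries of the slots and even permutations is the
identity modulo a singular slice. -/
theorem Power.Full.inW_eq_zero {hG : Good q1} (hk : 4 ≤ k) :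
    ∀ (t : ℕ) {ι : Type} [Fintype ι] [DecidableEq ι] {q : QuadraticForm F (ι → F)} {P : Power q q1 (t + 2)}
      {G : Subgroup (O q)}, P.Full hG (by omega) G → ∀ (i : Fin (t + 2)) {u : Fin k → F}, q1 u = 0 → u ≠ 0 →
      ∀ {K : Module.End F (Fin (k ^ (t + 1)) → F)}, (P.D hG (by omega) i).swap.InW G u K → K = 0 := by
  intro t
  induction t with
  | zero =>
    intro ι _ _ q P G h i u hu hu0 K hK
    exact ((Power.Base.ovr_two (h.base P hG (by omega)) i).swap).inW_eq_zero hu hu0 hK
  | succ t ih =>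
    intro ι _ _ q P G h i u hu hu0 K hK
    by_contra hK0
    obtain ⟨u', Pu⟩ := exists_hyp hG.nd hu hu0
    obtain ⟨m, J, hJ0, hJ, hm⟩ := h.exists_sl (by omega) hk i Pu hK hK0
    obtain ⟨g, hg, eg⟩ := hm
    have hgJ := Power.JRad.ofInW P hG (by omega) eg
    -- a third slot
    obtain ⟨j, -, hj⟩ := Finset.exists_mem_notMem_of_card_lt_card
      (lt_of_le_of_lt (Finset.card_le_two (a := i) (b := i.succAbove m))
        (by simp : 2 < (Finset.univ : Finset (Fin (t + 1 + 2))).card))
    simp only [Finset.mem_insert, Finset.mem_singleton, not_or] at hj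
    obtain ⟨i0, hi0⟩ := Fin.exists_succAbove_eq (Ne.symm hj.1)
    obtain ⟨m0, hm0⟩ := Fin.exists_succAbove_eq (Ne.symm hj.2)
    obtain ⟨m1, hm1⟩ := Fin.exists_succAbove_eq (x := m0) (y := i0) (fun e => by
      rw [e, hi0] at hm0
      exact Fin.ne_succAbove i m hm0)
    obtain ⟨b, hb⟩ := Data.exists_rad (D := ((std (q1 := q1) hG.two (t + 2)).D hG (by omega) i0).swap)
      (w := u) (w' := u') Pu ((std (q1 := q1) hG.two (t + 1)).sl_skew hJ m1)
    have hbJ := Power.JRad.ofInW (std (q1 := q1) hG.two (t + 2)) hG (by omega) hb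
    rw [hm1] at hbJ
    have hR := Power.JRad.R P hG (by omega) (j := j) hbJ
    rw [hi0, hm0] at hR
    have he : g = P.R hG (by omega) j b := Power.JRad.ext P hgJ hR
    have hc := Power.Full.comap P hG (by omega) h j (Power.Full.not_R (ht := by omega) h hk j)
    have hz := ih hc i0 hu hu0 (K := (std (q1 := q1) hG.two (t + 1)).sl m1 J) ⟨b, by
      show P.R hG (by omega) j b ∈ G
      rw [← he]; exact hg, hb⟩
    exact Power.sl_ne_zero (std (q1 := q1) hG.two (t + 1)) m1 hJ0 (by omega) hz

end CfsgLib.TensorEven
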