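import Cfsg.Agent.Lib.TensorEven.RadA
import Cfsg.Agent.Lib.TensorEven.Comp

/-!
In a proper group containing all isometries of the slots and the even permutations, an element of the root
group of a singular slice is a root element of that slot.
-/

set_option autoImplicit false
set_option linter.unusedSectionVars false

namespace CfsgLib.TensorEven

open Matrix QuadraticMap CfsgLib.Orth CfsgLib.TensorOddMinus
open CfsgLib.TensorOdd (IsFrame)
open CfsgLib.TensorMax63 (Hyp mid mem_mid exists_hyp exists_aniso)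

variable {ι : Type} [Fintype ι] [DecidableEq ι] {F : Type*} [Field F] [Fintype F] {k t : ℕ}
variable {q : QuadraticForm F (ι → F)} {q1 : QuadraticForm F (Fin k → F)}

namespace Power

section TenL

variable (R : Power q q1 t)

theorem exists_slO (hG : Good q1) (l : Fin t) (A : O q1) :
    ∃ ρ : O q, (app ρ : Module.End F (ι → F)) = R.sl l (app A) ∧
      (app ρ⁻¹ : Module.End F (ι → F)) = R.sl l (app A⁻¹) := by
  have hQ : ∀ B : O q1, ∀ x, q (R.sl l (app B) x) = q x := fun B x => by
    have h : q.polarBilin.compl₁₂ (R.sl l (app B)) (R.sl l (app B)) = q.polarBilin :=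
      R.ext_tp fun xs => R.ext_tp fun ys => by
        simp only [LinearMap.compl₁₂_apply, polarBilin_apply_apply, sl_tp, polar_tp]
        refine Finset.prod_congr rfl fun m _ => ?_
        rcases eq_or_ne m l with rfl | hm
        · rw [Function.update_self, Function.update_self, polar_app]
        · rw [Function.update_of_ne hm, Function.update_of_ne hm]
    have e := LinearMap.congr_fun (LinearMap.congr_fun h x) x
    rw [LinearMap.compl₁₂_apply, polarBilin_apply_apply, polarBilin_apply_apply, polar_self', polar_self'] at e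
    exact mul_left_cancel₀ hG.two e
  have hi : ∀ B : O q1, (R.sl l (app B)).comp (R.sl l (app B⁻¹)) = LinearMap.id := fun B => by
    show R.sl l (app B) * R.sl l (app B⁻¹) = 1
    rw [← sl_mul, show app B * app B⁻¹ = (1 : Module.End F (Fin k → F)) from
      LinearMap.ext fun z => by simp [app_app_inv], sl_one]
  refine ⟨mkO (R.sl l (app A)) (R.sl l (app A⁻¹)) (hi A) (by simpa using hi A⁻¹) (hQ A),
    LinearMap.ext fun x => by rw [app_mkO], LinearMap.ext fun x => ?_⟩
  refine app_injective (mkO (R.sl l (app A)) (R.sl l (app A⁻¹)) (hi A) (by simpa using hi A⁻¹) (hQ A)) ?_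
  rw [app_app_inv, app_mkO]
  exact (LinearMap.congr_fun (hi A) x).symm

theorem tenL_ne_zero {A : Fin t → Module.End F (Fin k → F)} (h : ∀ l, A l ≠ 0) : R.tenL A ≠ 0 := by
  intro h0
  have : ∀ l, ∃ x, A l x ≠ 0 := fun l => by
    by_contra hc
    push Not at hc
    exact h l (LinearMap.ext hc)
  choose x hx using this
  refine R.tp_ne_zero hx ?_
  rw [← R.tenL_tp, h0, LinearMap.zero_apply]

/-- An invariant space with an element moving a slot has a pure one moving it. -/
theorem exists_pure_moved (hG : Good q1) (hk : 4 ≤ k) {𝒦 : Submodule F (Module.End F (ι → F))}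
    (hinv : ∀ l v, q1 v ≠ 0 → ∀ K ∈ 𝒦, R.sl l (app (refl q1 v)) * K * R.sl l (app (refl q1 v)) ∈ 𝒦)
    {K : Module.End F (ι → F)} (hK : K ∈ 𝒦) {l0 : Fin t} (hl0 : ¬ R.Triv l0 K) :
    ∃ Y : Fin t → Module.End F (Fin k → F), (∀ l, IsPureFactor q1 (Y l)) ∧ IsMovedFactor q1 (Y l0) ∧
      R.tenL Y ∈ 𝒦 := by
  classical
  have hK0 : K ≠ 0 := fun h => hl0 (by rw [h]; exact Triv.zero R l0)
  obtain ⟨Y0, Z, hY0, hZ, hZ0, hZ𝒦, -, hid⟩ := R.exists_factor hG hk l0 (fun v hv => hinv l0 v hv) hK hK0
  have hY0m : IsMovedFactor q1 Y0 := hY0.resolve_left fun h => hl0 (hid h)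
  let 𝒮 : Submodule F (Module.End F (ι → F)) :=
    { carrier := {W | R.Triv l0 W ∧ R.sl l0 Y0 * W ∈ 𝒦}
      zero_mem' := ⟨Triv.zero R l0, by rw [mul_zero]; exact 𝒦.zero_mem⟩
      add_mem' := fun {a b} h h' => ⟨Triv.add R h.1 h'.1, by rw [mul_add]; exact 𝒦.add_mem h.2 h'.2⟩
      smul_mem' := fun c a h => ⟨Triv.smul R h.1 c, by rw [mul_smul_comm]; exact 𝒦.smul_mem c h.2⟩ }
  obtain ⟨Y, hY, hYt, hYm⟩ := R.exists_pure hG hk (𝒦 := 𝒮) (fun l v hv W hW => by
    rcases eq_or_ne l l0 with rfl | hne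
    · rwa [← hW.1, mul_assoc, ← sl_mul, app_refl_sq hv, sl_one, mul_one]
    refine ⟨((R.triv_sl hne.symm _).mul R hW.1).mul R (R.triv_sl hne.symm _), ?_⟩
    rw [← mul_assoc, ← mul_assoc, R.sl_comm hne.symm, mul_assoc _ (R.sl l0 Y0) W]
    exact hinv l v hv _ hW.2) (K := Z) ⟨hZ, hZ𝒦⟩ hZ0
  have hYl0 : Y l0 = LinearMap.id := by
    refine (hY l0).resolve_right ?_
    rintro ⟨ε, a, b, hε, ha, hb, hab, hYe⟩
    obtain ⟨σ, J, hσa, hJ0, -, hJe⟩ := exists_skew hG hk ha (by rw [hb]; exact ha) hab hb.symm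
    have hc : app σ * Y l0 * app σ⁻¹ = Y l0 := by
      by_contra hne
      have e := hYt (app σ)
      have e2 : R.tenL (Function.update Y l0 (app σ * Y l0 * app σ⁻¹ - Y l0)) = 0 := by
        rw [tenL_update]
        show _ * R.slₗ l0 _ = _
        rw [map_sub, mul_sub]
        show _ * R.sl l0 _ - _ * R.sl l0 _ = _
        rw [← tenL_update, ← tenL_update, Function.update_eq_self, ← tenL_conj, ← e, mul_assoc, ← sl_mul,
          show app σ * app σ⁻¹ = (1 : Module.End F (Fin k → F)) from LinearMap.ext fun z => by simp [app_app_inv],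
          sl_one, mul_one, sub_self]
      refine tenL_ne_zero R (fun l => ?_) e2
      rcases eq_or_ne l l0 with rfl | hl
      · rw [Function.update_self]; exact sub_ne_zero.2 hne
      rw [Function.update_of_ne hl]
      rcases hY l with h | ⟨ε', a', b', -, ha', hb', hab', h⟩
      · rw [h]
        intro h0
        exact ha (by rw [show a = (LinearMap.id : Module.End F (Fin k → F)) a from rfl, h0, LinearMap.zero_apply, QuadraticMap.map_zero])
      · rw [h]
        intro h0
        have := LinearMap.congr_fun h0 a'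
        rw [tmap_apply, polar_self', hab', mul_zero, zero_smul, add_zero, LinearMap.zero_apply] at this
        have hb0 : b' ≠ 0 := fun h => ha' (by rw [← hb', h, QuadraticMap.map_zero])
        exact mul_ne_zero hG.two ha' ((smul_eq_zero.1 this).resolve_right hb0)
    have hεne : ε ≠ 0 := by rcases hε with rfl | rfl <;> simp
    rw [hYe] at hc
    have h2 : app σ * pl q1 a b * app σ⁻¹ = pl q1 a b := by
      have h4 : (4 : F) * ε * q1 a * q1 a ≠ 0 := by
        rw [show (4 : F) = 2 * 2 by norm_num]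
        exact mul_ne_zero (mul_ne_zero (mul_ne_zero (mul_ne_zero hG.two hG.two) hεne) ha) ha
      refine smul_right_injective _ h4 ?_
      show _ • (app σ * pl q1 a b * app σ⁻¹) = (4 * ε * q1 a * q1 a) • pl q1 a b
      rw [← smul_mul_assoc, ← mul_smul_comm, ← tmap_sq hG ha hb hab ε]
      conv_rhs => rw [← hc]
      simp only [mul_assoc]
      rw [← mul_assoc (app σ⁻¹) (app σ),
        show app σ⁻¹ * app σ = (1 : Module.End F (Fin k → F)) from LinearMap.ext fun z => by simp [app_inv_app],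
        one_mul]
    rw [conj_pl, hσa] at h2
    rw [h2, sub_self] at hJe
    exact hJ0 hJe.symm
  refine ⟨Function.update Y l0 Y0, fun l => ?_, by rw [Function.update_self]; exact hY0m, ?_⟩
  · rcases eq_or_ne l l0 with rfl | hl
    · rw [Function.update_self]; exact hY0
    · rw [Function.update_of_ne hl]; exact hY l
  · have e : R.tenL (Function.update Y l0 Y0) = R.sl l0 Y0 * R.tenL Y := by
      rw [Power.sl, tenL_mul]
      congr 1
      funext l
      rcases eq_or_ne l l0 with rfl | hl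
      · simp only [Function.update_self, hYl0]
        rfl
      · simp only [Function.update_of_ne hl]
        rfl
    rw [e]
    exact hYm

end TenL

variable {P : Power q q1 (t + 2)} {hG : Good q1} {G : Subgroup (O q)}

/-- The single components at an anisotropic vector of the middle space. -/
noncomputable def Full.compSpace (h : P.Full hG (by omega) G) (i : Fin (t + 2)) {u u' : Fin k → F}
    (Pu : Hyp q1 u u') {c : Fin k → F} (hc : c ∈ mid q1 u u') :
    Submodule F (Module.End F (Fin (k ^ (t + 1)) → F)) where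
  carrier := {X | ∃ g ∈ G, ∃ K, (P.D hG (by omega) i).swap.IsRad u
    (((P.D hG (by omega) i).swap.tpL c).comp X) K g}
  zero_mem' := ⟨1, G.one_mem, 0, by rw [LinearMap.comp_zero]; exact Data.IsRad.one⟩
  add_mem' := by
    rintro X X' ⟨g, hg, K, e⟩ ⟨g', hg', K', e'⟩
    have e2 := e.mul Pu.q₁ e'
    rw [← LinearMap.comp_add] at e2
    exact ⟨_, G.mul_mem hg hg', _, e2⟩
  smul_mem' := by
    rintro s X ⟨g, hg, K, e⟩
    set D := (P.D hG (by omega : 1 ≤ t + 1) i).swap
    by_cases hs : s = 0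
    · subst hs
      refine ⟨1, G.one_mem, 0, ?_⟩
      rw [zero_smul, LinearMap.comp_zero]
      exact Data.IsRad.one
    obtain ⟨ρ, hρ, hfix⟩ := Data.exists_scale (D := D) (w := u) (w' := u') Pu hs
    have e1 := e.conj_R ρ
    rw [hρ] at e1
    have hc2 : (app (D.R ρ)).comp ((D.tpL c).comp X) = (D.tpL c).comp X := LinearMap.ext fun y => by
      show app (D.R ρ) (D.tp (X y) c) = D.tp (X y) c
      rw [D.R_tp, hfix c hc]
    rw [hc2] at e1
    have e2 := e1.smul_w hs
    rw [← LinearMap.comp_smul] at e2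
    exact ⟨_, G.mul_mem (G.mul_mem (h.R_swap_mem i ρ) hg) (G.inv_mem (h.R_swap_mem i ρ)), _, e2⟩

/-- A single component is a scalar. -/
theorem Full.comp_scalar (h : P.Full hG (by omega) G) (hk : 4 ≤ k) (i : Fin (t + 2)) {u u' : Fin k → F}
    (Pu : Hyp q1 u u') {c : Fin k → F} (hc : c ∈ mid q1 u u') (hqc : q1 c ≠ 0)
    {X : Module.End F (Fin (k ^ (t + 1)) → F)} (hX : X ∈ h.compSpace i Pu hc) :
    ∃ s : F, ∀ x, X x = s • x := by
  classical
  set W := std (q1 := q1) hG.two (t + 1)
  set D := (P.D hG (by omega : 1 ≤ t + 1) i).swap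
  set 𝒳 := h.compSpace i Pu hc
  have hzero : ∀ K, D.InW G u K → K = 0 := fun K hK => Power.Full.inW_eq_zero hk t h i Pu.q₁ Pu.ne₁ hK
  have hcomm : ∀ X X', X ∈ 𝒳 → X' ∈ 𝒳 → X * X' = X' * X := by
    rintro X X' ⟨g, hg, K, e⟩ ⟨g', hg', K', e'⟩
    exact Data.single_comm (D := D) Pu hzero hc hqc (h.R_swap_mem i _) hg hg' e e'
  by_contra hns
  obtain ⟨l0, hl0⟩ : ∃ l0, ¬ W.Triv l0 X := by
    by_contra hno
    push Not at hno
    exact hns (W.scalar_of_triv hG hno)
  have hconj : ∀ X, X ∈ 𝒳 → ∀ l (A : O q1), W.sl l (app A) * X * W.sl l (app A⁻¹) ∈ 𝒳 := by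
    rintro X ⟨g, hg, K, e⟩ l A
    obtain ⟨ρ, hρ, hρ'⟩ := exists_slO W hG l A
    have hρG : D.L ρ ∈ G := by
      have hL : D.L ρ = P.S hG (by omega) (i.succAbove l) A := P.ext_tp_O fun xs => by
        erw [(P.D hG (by omega) i).swap_L]
        conv_lhs => rw [P.D_tp' hG (by omega) i xs]
        rw [S_tp]
        erw [(P.D hG (by omega) i).R_tp]
        erw [hρ]
        rw [sl_tp]
        erw [P.D_tp]
        congr 1
        funext m
        rcases Fin.eq_self_or_eq_succAbove i m with rfl | ⟨m', rfl⟩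
        · rw [Fin.insertNth_apply_same, Function.update_of_ne (Fin.succAbove_ne _ l).symm]
        · rw [Fin.insertNth_apply_succAbove]
          simp only [Function.update_apply, Fin.succAbove_right_inj, Fin.removeNth]
      rw [hL]
      exact h.S_mem _ _
    have e1 := Data.IsRad.conj_L (D := D) e ρ
    have hΘ : (app (D.L ρ)).comp (((D.tpL c).comp X).comp (app ρ⁻¹)) =
        (D.tpL c).comp (W.sl l (app A) * X * W.sl l (app A⁻¹)) := by
      refine LinearMap.ext fun y => ?_
      show app (D.L ρ) (D.tp (X (app ρ⁻¹ y)) c) = D.tp _ c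
      erw [D.L_tp, hρ, hρ']
      rfl
    erw [hΘ] at e1
    exact ⟨_, G.mul_mem (G.mul_mem hρG hg) (G.inv_mem hρG), _, e1⟩
  obtain ⟨Y, hY, ⟨ε, a, b, hε, ha, hb, hab, hYl⟩, hYX⟩ := W.exists_pure_moved hG hk (𝒦 := 𝒳)
    (fun l v hv Z hZ => by
      have := hconj Z hZ l (refl q1 v)
      rwa [refl_inv v] at this) hX hl0
  obtain ⟨σ, J, hσa, hJ0, -, hJe⟩ := exists_skew hG hk ha (by rw [hb]; exact ha) hab hb.symm
  set T := tmap q1 ε a b
  set T' := app σ * T * app σ⁻¹ with hT'
  have hY' : W.tenL (Function.update Y l0 T') ∈ 𝒳 := by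
    have := hconj _ hYX l0 σ
    rwa [tenL_conj, hYl] at this
  have hc := hcomm _ _ hYX hY'
  rw [tenL_mul, tenL_mul] at hc
  set Z : Fin (t + 1) → Module.End F (Fin k → F) := fun l => Y l * Y l
  have hu : ∀ B : Fin (t + 1) → Module.End F (Fin k → F), (∀ l, l ≠ l0 → B l = Z l) →
      W.tenL B = W.tenL (Function.update Z l0 1) * W.sl l0 (B l0) := fun B hB => by
    rw [← tenL_update]
    congr 1
    funext l
    rcases eq_or_ne l l0 with rfl | hl
    · simp
    · simp [hl, hB l hl]
  rw [hu (fun l => Y l * Function.update Y l0 T' l) (fun l hl => by simp [Z, hl]),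
    hu (fun l => Function.update Y l0 T' l * Y l) (fun l hl => by simp [Z, hl]), Function.update_self, hYl,
    ← sub_eq_zero, ← mul_sub] at hc
  have hc' : W.tenL (Function.update Z l0 (T * T' - T' * T)) = 0 := by
    rw [tenL_update]
    show _ * W.slₗ l0 _ = _
    rw [map_sub]
    exact hc
  have hne : ∀ {ε' : F}, (ε' = 1 ∨ ε' = -1) → ε' ≠ 0 := fun h => by rcases h with rfl | rfl <;> simp
  have h4 : (4 : F) ≠ 0 := by rw [show (4 : F) = 2 * 2 by norm_num]; exact mul_ne_zero hG.two hG.two
  have hTT : T * T' = T' * T := by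
    by_contra hne'
    refine tenL_ne_zero W (fun l => ?_) hc'
    rcases eq_or_ne l l0 with rfl | hl
    · rw [Function.update_self]; exact sub_ne_zero.2 hne'
    rw [Function.update_of_ne hl]
    intro h0
    rcases hY l with e | ⟨ε', a', b', hε', ha', hb', hab', e⟩ <;> simp only [Z, e] at h0
    · exact ha (by rw [show a = ((LinearMap.id : Module.End F (Fin k → F)) * (LinearMap.id : Module.End F (Fin k → F))) a from rfl, h0,
        LinearMap.zero_apply, QuadraticMap.map_zero])
    · rw [tmap_sq hG ha' hb' hab'] at h0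
      have := LinearMap.congr_fun ((smul_eq_zero.1 h0).resolve_left
        (mul_ne_zero (mul_ne_zero (mul_ne_zero h4 (hne hε')) ha') ha')) a'
      rw [pl_apply, polar_self', hab', mul_zero, zero_smul, add_zero,
        inv_mul_cancel₀ (mul_ne_zero hG.two ha'), one_smul, LinearMap.zero_apply] at this
      exact ha' (by rw [this, QuadraticMap.map_zero])
  have hκ : (4 : F) * ε * q1 a * q1 a ≠ 0 := mul_ne_zero (mul_ne_zero (mul_ne_zero h4 (hne hε)) ha) ha
  have hsq' : T' * T' = (4 * ε * q1 a * q1 a) • pl q1 a (app σ b) := by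
    rw [hT', show app σ * T * app σ⁻¹ * (app σ * T * app σ⁻¹) = app σ * (T * (app σ⁻¹ * app σ) * T) * app σ⁻¹ by
      simp only [mul_assoc], show app σ⁻¹ * app σ = (1 : Module.End F (Fin k → F)) from
      LinearMap.ext fun z => by simp [app_inv_app], mul_one, tmap_sq hG ha hb hab, mul_smul_comm, smul_mul_assoc,
      conj_pl, hσa]
  have hsw : (T * T) * (T' * T') = (T' * T') * (T * T) :=
    ((Commute.mul_left hTT hTT).mul_right (Commute.mul_left hTT hTT)).eq
  rw [hsq', tmap_sq hG ha hb hab, smul_mul_smul_comm, smul_mul_smul_comm] at hsw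
  have hpp := smul_right_injective _ (mul_ne_zero hκ hκ) hsw
  rw [hpp, sub_self] at hJe
  exact hJ0 hJe.symm

/-- An element of the root group of a singular slice is a root element of the slot. -/
theorem Full.clean (h : P.Full hG (by omega) G) (hk : 4 ≤ k) (i : Fin (t + 2)) {u u' : Fin k → F}
    (Pu : Hyp q1 u u') {Θ : (Fin (k ^ (t + 1)) → F) →ₗ[F] (ι → F)}
    {K : Module.End F (Fin (k ^ (t + 1)) → F)} {g : O q} (hg : g ∈ G)
    (e : (P.D hG (by omega) i).swap.IsRad u Θ K g) :
    ∃ c ∈ mid q1 u u', g = P.S hG (by omega) i (eich q1 u c) := by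
  set D := (P.D hG (by omega : 1 ≤ t + 1) i).swap
  have hzero : ∀ K, D.InW G u K → K = 0 := fun K hK => Power.Full.inW_eq_zero hk t h i Pu.q₁ Pu.ne₁ hK
  obtain ⟨c, hc, hgc⟩ := Data.eq_root_of_scalar (D := D) Pu hk hzero (fun c _ => h.R_swap_mem i _) e hg
    (fun c hc hqc => by
      obtain ⟨g', hg', K', e'⟩ := e.sub_refl (D := D) Pu hg hc (h.R_swap_mem i _)
      have hqc' : q1 c ≠ 0 := hqc
      obtain ⟨s, hs⟩ := h.comp_scalar hk i Pu hc hqc' ⟨g', hg', K', e'⟩
      refine ⟨q1 c * s, fun x => ?_⟩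
      have := hs x
      change (q1 c)⁻¹ • D.C c (Θ x) = s • x at this
      rw [mul_smul, ← this, smul_inv_smul₀ hqc'])
  refine ⟨c, hc, hgc.trans ?_⟩
  erw [(P.D hG (by omega) i).swap_R]
  rfl

end Power

end CfsgLib.TensorEven
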