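import Cfsg.Agent.Lib.TensorEven.Split
import Cfsg.Agent.Lib.TensorEven.PairFour

/-!
Two slots with the isometries of determinant one and the pairs of reflections only: an element of the root
group of a singular slice is again a root element of the slot.
-/

set_option autoImplicit false
set_option linter.unusedSectionVars false

namespace CfsgLib.TensorOddMinus

open Matrix QuadraticMap CfsgLib.Orth
open CfsgLib.TensorMax63 (Hyp mid mem_mid)

variable {ι : Type} [Fintype ι] [DecidableEq ι] {F : Type*} [Field F] [Fintype F]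
variable {q : QuadraticForm F (ι → F)} {a b : ℕ} {D : Data q a b} {M : Subgroup (O q)}
variable {w w' : Fin b → F} (P : Hyp D.q2 w w')
include P

/-- The difference with the conjugate by two orthogonal reflections is supported on their vectors. -/
theorem Data.IsRad.sub_pair {Θ : (Fin a → F) →ₗ[F] (ι → F)} {K : (Fin a → F) →ₗ[F] (Fin a → F)} {g : O q}
    (h : D.IsRad w Θ K g) (hg : g ∈ M) {c e : Fin b → F} (hc : c ∈ mid D.q2 w w') (he : e ∈ mid D.q2 w w')
    (hce : polar D.q2 c e = 0) (hr : D.R (refl D.q2 c * refl D.q2 e) ∈ M) :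
    ∃ g' ∈ M, ∃ K', D.IsRad w ((D.tpL c).comp ((D.q2 c)⁻¹ • (D.C c).comp Θ) +
      (D.tpL e).comp ((D.q2 e)⁻¹ • (D.C e).comp Θ)) K' g' := by
  have h' := h.conj_R (refl D.q2 c * refl D.q2 e)
  rw [app_mul, app_refl_of_ortho (mem_mid.1 he).1, app_refl_of_ortho (mem_mid.1 hc).1] at h'
  obtain ⟨K'', h''⟩ := h.sub P.q₁ h'
  have hΘ : (D.tpL c).comp ((D.q2 c)⁻¹ • (D.C c).comp Θ) + (D.tpL e).comp ((D.q2 e)⁻¹ • (D.C e).comp Θ) =
      Θ - (app (D.R (refl D.q2 c * refl D.q2 e))).comp Θ := by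
    refine Data.ext_C (D := D) fun z x => ?_
    have e1 : ∀ z, D.C z (app (D.R (refl D.q2 c)) (app (D.R (refl D.q2 e)) (Θ x))) =
        D.C z (app (D.R (refl D.q2 e)) (Θ x)) -
          ((D.q2 c)⁻¹ * polar D.q2 z c) • D.C c (app (D.R (refl D.q2 e)) (Θ x)) := fun z =>
      Data.C_refl_comp P z ((app (D.R (refl D.q2 e))).comp Θ) x
    rw [map_mul, LinearMap.sub_apply, map_sub, LinearMap.comp_apply, app_mul, e1, Data.C_refl_comp P z,
      Data.C_refl_comp P c, hce, mul_zero, zero_smul, sub_zero, LinearMap.add_apply, map_add, LinearMap.comp_apply,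
      LinearMap.comp_apply, LinearMap.smul_apply, LinearMap.smul_apply, LinearMap.comp_apply, LinearMap.comp_apply]
    show D.C z (D.tp _ c) + D.C z (D.tp _ e) = _
    rw [Data.C_tp, Data.C_tp, smul_smul, smul_smul, polar_comm (f := ⇑D.q2) c z, polar_comm (f := ⇑D.q2) e z]
    module
  rw [← hΘ] at h''
  exact ⟨_, M.mul_mem hg (M.inv_mem (M.mul_mem (M.mul_mem hr hg) (M.inv_mem hr))), K'', h''⟩

open CfsgLib.TensorEven (sconj pair_scalar) in
/-- The components are scalar when the single ones are, for a group containing the pairs of reflections. -/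
theorem Data.comp_scalar_pair (hb : 4 ≤ b) (hab : b = 4 → a = 4) (hzero : ∀ K, D.InW M w K → K = 0)
    (hroot : ∀ c ∈ mid D.q2 w w', D.R (eich D.q2 w c) ∈ M)
    (hpair : ∀ c e, D.q2 c ≠ 0 → D.q2 e ≠ 0 → D.R (refl D.q2 c * refl D.q2 e) ∈ M)
    (hLL : ∀ v v', D.q1 v ≠ 0 → D.q1 v' ≠ 0 → D.L (refl D.q1 v * refl D.q1 v') ∈ M)
    (hLR : ∀ v e, D.q1 v ≠ 0 → D.q2 e ≠ 0 → D.L (refl D.q1 v) * D.R (refl D.q2 e) ∈ M)
    (hsingle : ∀ c d, c ∈ mid D.q2 w w' → D.q2 c ≠ 0 → d ∈ mid D.q2 w w' → D.q2 d ≠ 0 → polar D.q2 c d = 0 →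
      ∀ (X : (Fin a → F) →ₗ[F] (Fin a → F)) (g : O q) (K : (Fin a → F) →ₗ[F] (Fin a → F)), g ∈ M →
        D.IsRad w ((D.tpL c).comp X) K g → ∃ s : F, ∀ x, X x = s • x)
    {Θ : (Fin a → F) →ₗ[F] (ι → F)} {K : (Fin a → F) →ₗ[F] (Fin a → F)} {g : O q} (hg : g ∈ M)
    (e : D.IsRad w Θ K g) {c : Fin b → F} (hc : c ∈ mid D.q2 w w') (hqc : D.q2 c ≠ 0) :
    ∃ s : F, ∀ x, D.C c (Θ x) = s • x := by
  classical
  obtain ⟨v, i0, j0, l, hv, hvl, hij, hli, hlj, hvm, -, -⟩ := Data.exists_mid_frame (D := D) P hb hc hqc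
  obtain ⟨p, -, hp⟩ := Finset.exists_mem_notMem_of_card_lt_card
    (lt_of_le_of_lt (Finset.card_le_three (a := i0) (b := j0) (c := l))
      (by simp; omega : 3 < (Finset.univ : Finset (Fin b)).card))
  simp only [Finset.mem_insert, Finset.mem_singleton, not_or] at hp
  set d := v p
  have hd : d ∈ mid D.q2 w w' := hvm p hp.1 hp.2.1
  have hqd : D.q2 d ≠ 0 := hv.nz p
  have hcd : polar D.q2 c d = 0 := hvl ▸ hv.orth l p (Ne.symm hp.2.2)
  have hdc : polar D.q2 d c = 0 := by rw [polar_comm]; exact hcd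
  obtain ⟨g1, hg1, K1, e1⟩ := e.sub_pair P hg hc hd hcd (hpair c d hqc hqd)
  suffices H : ∃ s : F, ∀ x, ((D.q2 c)⁻¹ • (D.C c).comp Θ) x = s • x by
    obtain ⟨s, hs⟩ := H
    refine ⟨D.q2 c * s, fun x => ?_⟩
    have := hs x
    rw [LinearMap.smul_apply, LinearMap.comp_apply] at this
    rw [mul_smul, ← this, smul_inv_smul₀ hqc]
  have hCcomp : ∀ (c d : Fin b → F), polar D.q2 d c = 0 → ∀ (X Y : (Fin a → F) →ₗ[F] (Fin a → F)) x,
      D.C c (((D.tpL c).comp X + (D.tpL d).comp Y) x) = (2 * D.q2 c) • X x := fun c d hdc X Y x => by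
    show D.C c (D.tp (X x) c + D.tp (Y x) d) = _
    rw [map_add, Data.C_tp, Data.C_tp, polar_self', hdc, zero_smul, add_zero]
  by_cases h5 : 5 ≤ b
  · obtain ⟨r, -, hr⟩ := Finset.exists_mem_notMem_of_card_lt_card (s := {i0, j0, l, p})
      (t := (Finset.univ : Finset (Fin b))) (lt_of_le_of_lt Finset.card_le_four (by simp; omega))
    simp only [Finset.mem_insert, Finset.mem_singleton, not_or] at hr
    have hf : v r ∈ mid D.q2 w w' := hvm r hr.1 hr.2.1
    have hcf : polar D.q2 c (v r) = 0 := hvl ▸ hv.orth l r (Ne.symm hr.2.2.1)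
    have hdf : polar D.q2 d (v r) = 0 := hv.orth p r (Ne.symm hr.2.2.2)
    obtain ⟨g2, hg2, K2, e2⟩ := e1.sub_pair P hg1 hc hf hcf (hpair c (v r) hqc (hv.nz r))
    have h0 : (D.tpL (v r)).comp ((D.q2 (v r))⁻¹ • (D.C (v r)).comp ((D.tpL c).comp ((D.q2 c)⁻¹ • (D.C c).comp Θ) +
        (D.tpL d).comp ((D.q2 d)⁻¹ • (D.C d).comp Θ))) = 0 := by
      refine LinearMap.ext fun x => ?_
      show D.tp ((D.q2 (v r))⁻¹ • D.C (v r) (D.tp _ c + D.tp _ d)) (v r) = 0
      rw [map_add, Data.C_tp, Data.C_tp, hcf, hdf, zero_smul, zero_smul, add_zero, smul_zero, D.tp_zero_left]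
    rw [h0, add_zero] at e2
    obtain ⟨s, hs⟩ := hsingle c d hc hqc hd hqd hcd _ g2 K2 hg2 e2
    refine ⟨s / 2, fun x => ?_⟩
    have := hs x
    rw [LinearMap.smul_apply, LinearMap.comp_apply, hCcomp c d hdc, smul_smul] at this
    rw [div_eq_inv_mul, mul_smul, ← this, smul_smul,
      show (2 : F)⁻¹ * ((D.q2 c)⁻¹ * (2 * D.q2 c)) = 1 by
        have := D.two
        field_simp, one_smul]
  -- four dimensions
  have hb4 : b = 4 := by omega
  let 𝒯 : Module.End F (Fin a → F) → Module.End F (Fin a → F) → Prop :=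
    fun X Y => ∃ g ∈ M, ∃ K, D.IsRad w ((D.tpL c).comp X + (D.tpL d).comp Y) K g
  refine pair_scalar (Q := D.q1) D.good1 (hab hb4) 𝒯 ?_ ?_ ?_ ?_ ?_ ?_
    (X := (D.q2 c)⁻¹ • (D.C c).comp Θ) (Y := (D.q2 d)⁻¹ • (D.C d).comp Θ) ⟨g1, hg1, K1, e1⟩
  · rintro X Y X' Y' ⟨g, hg, K, e⟩ ⟨g', hg', K', e'⟩
    obtain ⟨K'', e''⟩ := e.sub P.q₁ e'
    rw [show (D.tpL c).comp X + (D.tpL d).comp Y - ((D.tpL c).comp X' + (D.tpL d).comp Y') =
      (D.tpL c).comp (X - X') + (D.tpL d).comp (Y - Y') by rw [LinearMap.comp_sub, LinearMap.comp_sub]; abel] at e''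
    exact ⟨_, M.mul_mem hg (M.inv_mem hg'), K'', e''⟩
  · rintro v hv X Y ⟨g, hg, K, e⟩
    have e1 := e.conj_R (refl D.q2 d)
    rw [app_refl_of_ortho (mem_mid.1 hd).1] at e1
    have e2 := e1.conj_L (refl D.q1 v)
    have hgrp : D.L (refl D.q1 v) * (D.R (refl D.q2 d) * g * (D.R (refl D.q2 d))⁻¹) *
        (D.L (refl D.q1 v))⁻¹ ∈ M := by
      have := M.mul_mem (M.mul_mem (hLR v d hv hqd) hg) (M.inv_mem (hLR v d hv hqd))
      simpa [mul_assoc, _root_.mul_inv_rev] using this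
    have hΘ : (app (D.L (refl D.q1 v))).comp (((app (D.R (refl D.q2 d))).comp
        ((D.tpL c).comp X + (D.tpL d).comp Y)).comp (app (refl D.q1 v)⁻¹)) =
        (D.tpL c).comp (sconj D.q1 v X) + (D.tpL d).comp (-sconj D.q1 v Y) := by
      refine LinearMap.ext fun y => ?_
      show app (D.L _) (app (D.R _) (D.tp (X _) c + D.tp (Y _) d)) = D.tp _ c + D.tp _ d
      rw [map_add, map_add, D.R_tp, D.R_tp, D.L_tp, D.L_tp, app_refl_of_ortho hcd, app_refl_self hqd,
        D.tp_neg_right, ← D.tp_neg_left, refl_inv]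
      rfl
    rw [hΘ] at e2
    exact ⟨_, hgrp, _, e2⟩
  · rintro v v' hv hv' X Y ⟨g, hg, K, e⟩
    have e2 := e.conj_L (refl D.q1 v * refl D.q1 v')
    have hΘ : (app (D.L (refl D.q1 v * refl D.q1 v'))).comp
        (((D.tpL c).comp X + (D.tpL d).comp Y).comp (app (refl D.q1 v * refl D.q1 v')⁻¹)) =
        (D.tpL c).comp (sconj D.q1 v (sconj D.q1 v' X)) + (D.tpL d).comp (sconj D.q1 v (sconj D.q1 v' Y)) := by
      refine LinearMap.ext fun y => ?_
      show app (D.L _) (D.tp (X _) c + D.tp (Y _) d) = D.tp _ c + D.tp _ d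
      rw [map_add, D.L_tp, D.L_tp, _root_.mul_inv_rev, refl_inv, refl_inv, app_mul, app_mul, app_mul]
      rfl
    rw [hΘ] at e2
    exact ⟨_, M.mul_mem (M.mul_mem (hLL v v' hv hv') hg) (M.inv_mem (hLL v v' hv hv')), _, e2⟩
  · rintro X Y ⟨g, hg, K, e⟩
    have hm : ∀ a' b' : Fin b → F, a' ∈ mid D.q2 w w' → D.q2 a' ≠ 0 → polar D.q2 b' a' = 0 →
        ∀ (X Y : (Fin a → F) →ₗ[F] (Fin a → F)), D.IsRad w ((D.tpL a').comp X + (D.tpL b').comp Y) K g →
        ∀ x y, polar D.q1 (X x) y = polar D.q1 x (X y) := fun a' b' ha hqa hba X Y e x y => by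
      have := Data.component_adj P hzero e hg ha (hroot a' ha) x y
      rw [hCcomp a' b' hba, hCcomp a' b' hba, polar_smul_left, polar_smul_right] at this
      exact mul_left_cancel₀ (mul_ne_zero D.two hqa) this
    exact ⟨hm c d hc hqc hdc X Y e, hm d c hd hqd hcd Y X (by rwa [add_comm])⟩
  · rintro X ⟨g, hg, K, e⟩
    rw [LinearMap.comp_zero, add_zero] at e
    exact hsingle c d hc hqc hd hqd hcd X g K hg e
  · rintro Y ⟨g, hg, K, e⟩
    rw [LinearMap.comp_zero, zero_add] at e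
    exact hsingle d c hd hqd hc hqc hdc Y g K hg e

end CfsgLib.TensorOddMinus

namespace CfsgLib.TensorEven

open Matrix QuadraticMap CfsgLib.Orth CfsgLib.TensorOddMinus
open CfsgLib.TensorOdd (IsFrame)
open CfsgLib.TensorMax63 (Hyp mid mem_mid exists_hyp)

variable {ι : Type} [Fintype ι] [DecidableEq ι] {F : Type*} [Field F] [Fintype F] {k : ℕ}
variable {q : QuadraticForm F (ι → F)} {q1 : QuadraticForm F (Fin k → F)}

namespace Power

variable {P : Power q q1 2} {hG : Good q1} {G : Subgroup (O q)}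

/-- A reflection of the other factor is a reflection of the other slot. -/
theorem exists_refl_slot (i : Fin 2) {v : Fin (k ^ 1) → F} (hv : formP q1 1 v ≠ 0) :
    ∃ x, q1 x ≠ 0 ∧ (P.D hG le_rfl i).swap.L (refl (formP q1 1) v) =
      P.S hG le_rfl (i.succAbove 0) (refl q1 x) := by
  set W := std (q1 := q1) hG.two 1
  set x : Fin k → F := fun a => v (eqv k 1 fun _ => a)
  have hvx : v = W.tp fun _ => x := funext fun p => by
    show v p = ∏ l, x ((eqv k 1).symm p l)
    rw [Fin.prod_univ_one]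
    show v p = v (eqv k 1 fun _ => (eqv k 1).symm p 0)
    rw [show (fun _ : Fin 1 => (eqv k 1).symm p 0) = (eqv k 1).symm p from
      funext fun j => by rw [Subsingleton.elim j 0], Equiv.apply_symm_apply]
  have hq : formP q1 1 v = q1 x := mul_left_cancel₀ hG.two (by
    rw [← polar_self', ← polar_self', hvx, Power.polar_tp, Fin.prod_univ_one])
  refine ⟨x, hq ▸ hv, P.ext_tp_O fun xs => ?_⟩
  erw [(P.D hG le_rfl i).swap_L]
  conv_lhs => rw [P.D_tp' hG le_rfl i xs]
  rw [S_tp]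
  erw [(P.D hG le_rfl i).R_tp]
  rw [P.D_tp' hG le_rfl i (Function.update xs _ _), Function.update_of_ne (Fin.succAbove_ne i 0).symm,
    Fin.removeNth_update_succAbove]
  congr 1
  erw [app_refl, app_refl]
  have hrest : W.tp (i.removeNth xs) = W.tp fun _ => xs (i.succAbove 0) := congrArg _ (funext fun l => by
    rw [Subsingleton.elim l 0]; rfl)
  have hupd : ∀ y, W.tp (Function.update (i.removeNth xs) 0 y) = W.tp fun _ => y := fun y =>
    congrArg _ (funext fun l => by rw [Subsingleton.elim l 0, Function.update_self])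
  show W.tp (i.removeNth xs) - ((formP q1 1 v)⁻¹ * polar (formP q1 1) (W.tp (i.removeNth xs)) v) • v = W.tp _
  rw [hq, hupd]
  conv_rhs => rw [sub_eq_add_neg, ← neg_smul]
  rw [hrest, hvx, Power.polar_tp, Fin.prod_univ_one]
  have h := W.tp_update_add (fun _ => xs (i.succAbove 0)) 0 (xs (i.succAbove 0))
    ((-((q1 x)⁻¹ * polar q1 (xs (i.succAbove 0)) x)) • x)
  rw [W.tp_update_smul] at h
  simp only [show ∀ y, Function.update (fun _ : Fin 1 => xs (i.succAbove 0)) 0 y = fun _ => y from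
    fun y => funext fun l => by rw [Subsingleton.elim l 0, Function.update_self]] at h
  rw [h, neg_smul, sub_eq_add_neg]

/-- An element of the root group of a singular slice is a root element of the slot. -/
theorem Weak.clean (h : P.Weak hG G) (hk : 4 ≤ k) (i : Fin 2) {u u' : Fin k → F} (Pu : Hyp q1 u u')
    {Θ : (Fin (k ^ 1) → F) →ₗ[F] (ι → F)} {K : Module.End F (Fin (k ^ 1) → F)} {g : O q} (hg : g ∈ G)
    (e : (P.D hG le_rfl i).swap.IsRad u Θ K g) :
    ∃ c ∈ mid q1 u u', g = P.S hG le_rfl i (eich q1 u c) := by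
  classical
  set D := (P.D hG le_rfl i).swap
  have hzero : ∀ K, D.InW G u K → K = 0 := fun K hK =>
    (Power.Base.ovr_two h.base i).swap.inW_eq_zero Pu.q₁ Pu.ne₁ hK
  have hRS : ∀ ρ : O q1, D.R ρ = P.S hG le_rfl i ρ := fun ρ => by
    erw [(P.D hG le_rfl i).swap_R]
    rfl
  have hroot : ∀ c ∈ mid q1 u u', D.R (eich q1 u c) ∈ G := fun c hc => by
    rw [hRS]
    exact h.base.comm_mem P hG le_rfl i (eich_mem hG Pu.q₁ (mem_mid.1 hc).1)
  have hpair : ∀ c e : Fin k → F, q1 c ≠ 0 → q1 e ≠ 0 → D.R (refl q1 c * refl q1 e) ∈ G := fun c e hc he => by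
    rw [hRS]
    exact h.base.det_mem _ _ (by rw [map_mul, detHom_refl hc, detHom_refl he]; norm_num)
  have hLL : ∀ v w, formP q1 1 v ≠ 0 → formP q1 1 w ≠ 0 →
      D.L (refl (formP q1 1) v * refl (formP q1 1) w) ∈ G := fun v w hv hw => by
    obtain ⟨x, hx, ex⟩ := exists_refl_slot (P := P) (hG := hG) i hv
    obtain ⟨y, hy, ey⟩ := exists_refl_slot (P := P) (hG := hG) i hw
    erw [map_mul]
    rw [ex, ey, ← map_mul]
    exact h.base.det_mem _ _ (by rw [map_mul, detHom_refl hx, detHom_refl hy]; norm_num)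
  have hLR : ∀ v e, formP q1 1 v ≠ 0 → q1 e ≠ 0 → D.L (refl (formP q1 1) v) * D.R (refl q1 e) ∈ G :=
    fun v e hv he => by
    obtain ⟨x, hx, ex⟩ := exists_refl_slot (P := P) (hG := hG) i hv
    erw [ex, hRS]
    exact h.pair_mem _ _ _ _ (Fin.succAbove_ne i 0) hx he
  obtain ⟨c, hc, hgc⟩ := Data.eq_root_of_scalar (D := D) Pu hk hzero hroot e hg (fun c hc hqc => by
    refine Data.comp_scalar_pair (D := D) Pu hk (fun h4 => by rw [pow_one]; exact h4) hzero hroot hpair hLL hLR ?_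
      hg e hc hqc
    -- a single component is scalar
    intro c d hc hqc hd hqd hcd X g K hg e
    have hqd' : q1 d ≠ 0 := hqd
    have hF := h.split_full hk i hqd'
    have e1 := e.conj_R (refl D.q2 d)
    rw [app_refl_of_ortho (mem_mid.1 hd).1] at e1
    have hΘ : (app (D.R (refl D.q2 d))).comp ((D.tpL c).comp X) = (D.tpL c).comp X := LinearMap.ext fun y => by
      show app (D.R (refl D.q2 d)) (D.tp (X y) c) = D.tp (X y) c
      rw [D.R_tp, app_refl_of_ortho hcd]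
    rw [hΘ] at e1
    have hc' := e1.ext e
    erw [hRS] at hc'
    have hcomm : P.S hG le_rfl i (refl q1 d) * g = g * P.S hG le_rfl i (refl q1 d) := mul_inv_eq_iff_eq_mul.1 hc'
    exact Power.Full.comp_scalar (t := 0) hF hk i Pu hc hqc ⟨g, h.mem_split i hg hcomm, K, e⟩)
  exact ⟨c, hc, hgc.trans (hRS _)⟩

end Power

end CfsgLib.TensorEven
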