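import Cfsg.Agent.Lib.TensorEven.Mon
import Cfsg.Agent.Lib.TensorOddMinus.Signs
import Cfsg.Agent.Lib.TensorOdd.Signs

/-!
The dimension moved by an isometry: bases of pure tensors, lower bounds, and the value at involutions of a
tensor product.
-/

set_option autoImplicit false
set_option linter.unusedSectionVars false

namespace CfsgLib.TensorEven

open Matrix QuadraticMap CfsgLib.Orth CfsgLib.TensorOddMinus
open CfsgLib.TensorOdd (IsFrame blockSign blockSign_app)
open CfsgLib.TensorWreathMax (Idx)

variable {ι : Type} [Fintype ι] [DecidableEq ι] {F : Type*} [Field F] [Fintype F] {k t : ℕ}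
variable {q : QuadraticForm F (ι → F)} {q1 : QuadraticForm F (Fin k → F)}

/-- The dimension moved by `g`. -/
noncomputable def mv (g : O q) : ℕ := Module.finrank F (movS g)

theorem mv_add_fix (g : O q) : mv g + Module.finrank F (fixS g) = Fintype.card ι := by
  have h := LinearMap.finrank_range_add_finrank_ker (LinearMap.id - app g)
  rwa [Module.finrank_fintype_fun_eq_card] at h

theorem mv_conj (h g : O q) : mv (h * g * h⁻¹) = mv g := by
  have e1 := mv_add_fix (h * g * h⁻¹)
  have e2 := mv_add_fix g
  rw [CfsgLib.TensorOdd.finrank_fixS_conj] at e1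
  omega

theorem mv_one : mv (1 : O q) = 0 := by
  have : fixS (1 : O q) = ⊤ := by ext x; simp [mem_fixS]
  have e := mv_add_fix (1 : O q)
  rw [this, finrank_top, Module.finrank_fintype_fun_eq_card] at e
  omega

theorem mv_eq_zero {g : O q} (h : mv g = 0) : g = 1 := ext_app fun x => by
  have hx : x - app g x ∈ movS g := mem_movS.2 ⟨x, rfl⟩
  rw [Submodule.finrank_eq_zero.1 h, Submodule.mem_bot, sub_eq_zero] at hx
  rw [app_one, ← hx]

/-- Vectors sent outside their span are moved. -/
theorem card_le_mv {κ : Type*} (b : Module.Basis κ F (ι → F)) (S : Finset κ) {g : O q}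
    (h : ∀ a ∈ S, app g (b a) ∈ Submodule.span F (b '' {a | a ∉ S})) : S.card ≤ mv g := by
  classical
  set Z := Submodule.span F (b '' (S : Set κ))
  have hZ : Module.finrank F Z = S.card := by
    have hb : LinearIndependent F fun a : (S : Set κ) => b a := b.linearIndependent.comp _ Subtype.val_injective
    have e := finrank_span_eq_card hb
    simp only [Fintype.card_coe, Finset.coe_sort_coe] at e
    rw [← e]
    exact LinearEquiv.finrank_eq (LinearEquiv.ofEq _ _ (by rw [Set.range_comp' b Subtype.val, Subtype.range_coe]))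
  have hinj : Function.Injective ((LinearMap.id - app g).domRestrict Z) := by
    rw [← LinearMap.ker_eq_bot, Submodule.eq_bot_iff]
    rintro ⟨v, hv⟩ hv0
    have e : app g v = v := (sub_eq_zero.1 hv0).symm
    have hv' : v ∈ Submodule.span F (b '' {a | a ∉ S}) := by
      rw [← e]
      have hle : Z ≤ (Submodule.span F (b '' {a | a ∉ S})).comap (app g) :=
        Submodule.span_le.2 fun x ⟨a, ha, hx⟩ => hx ▸ h a ha
      exact hle hv
    have hd : Disjoint Z (Submodule.span F (b '' {a | a ∉ S})) :=
      b.linearIndependent.disjoint_span_image (Set.disjoint_left.2 fun a ha hn => hn ha)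
    exact Subtype.ext (Submodule.disjoint_def.1 hd v hv hv')
  rw [← hZ, ← LinearMap.finrank_range_of_inj hinj, mv]
  exact Submodule.finrank_mono fun x ⟨v, hv⟩ => ⟨v.1, hv⟩

theorem mv_blockSign {κ : Type} [Fintype κ] [DecidableEq κ] {v : κ → ι → F} (hv : IsFrame q v) (S : Finset κ) :
    mv (blockSign q v S) = S.card := by
  have e := mv_add_fix (blockSign q v S)
  rw [CfsgLib.TensorOdd.finrank_fixS_of_signs hv.two hv.basis (fun i => i ∉ S)
    (fun i hi => by rw [hv.basis_apply, blockSign_app hv, if_neg hi])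
    (fun i hi => by rw [hv.basis_apply, blockSign_app hv, if_pos (not_not.1 hi)]),
    Finset.filter_not, Finset.card_sdiff_of_subset (Finset.filter_subset _ _), Finset.filter_mem_eq_inter,
    Finset.univ_inter, Finset.card_univ, ← hv.card] at e
  have := S.card_le_univ
  omega

theorem mv_negId (h2 : (2 : F) ≠ 0) : mv (negId q) = Fintype.card ι := by
  have : fixS (negId q) = ⊥ := by
    rw [Submodule.eq_bot_iff]
    intro x hx
    rw [mem_fixS, app_negId] at hx
    have : (2 : F) • x = 0 := by rw [two_smul]; exact eq_neg_iff_add_eq_zero.1 hx.symm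
    exact (smul_eq_zero.1 this).resolve_left h2
  have e := mv_add_fix (negId q)
  rw [this, finrank_bot] at e
  omega

/-- An involution is a sign map in a frame. -/
theorem exists_sign_frame {κ : Type} [Fintype κ] [DecidableEq κ] {p : QuadraticForm F (κ → F)}
    (hp : p.polarBilin.Nondegenerate) (h2 : (2 : F) ≠ 0) {g : O p} (hg : g * g = 1) :
    ∃ (v : κ → κ → F) (S : Finset κ), IsFrame p v ∧ g = blockSign p v S := by
  classical
  obtain ⟨v, hv⟩ := CfsgLib.TensorOdd.exists_frame hp h2
  obtain ⟨v', hv', h⟩ := CfsgLib.TensorOddMinus.exists_common_frame hv {g}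
    (fun x hx => by rw [Finset.mem_singleton.1 hx]; exact hg)
    (fun x hx y hy => by rw [Finset.mem_singleton.1 hx, Finset.mem_singleton.1 hy])
  refine ⟨v', Finset.univ.filter fun i => app g (v' i) ≠ v' i, hv', hv'.ext_O fun i => ?_⟩
  rw [blockSign_app hv']
  by_cases hi : app g (v' i) = v' i
  · rw [if_neg (by simp [hi]), hi]
  · rw [if_pos (by simp [hi]), (h g (Finset.mem_singleton_self g) i).resolve_left hi]

/-- The dimension moved by a product of involutions of the two factors. -/
theorem mv_ten {a b : ℕ} (D : Data q a b) {A : O D.q1} {B : O D.q2} (hA : A * A = 1) (hB : B * B = 1) :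
    mv (D.ten (A, B)) = mv A * (b - mv B) + (a - mv A) * mv B ∧ mv A ≤ a ∧ mv B ≤ b := by
  classical
  obtain ⟨u, S, hu, rfl⟩ := exists_sign_frame D.good1.nd D.two hA
  obtain ⟨v, T, hv, rfl⟩ := exists_sign_frame D.good2.nd D.two hB
  have hS := S.card_le_univ
  have hT := T.card_le_univ
  rw [Fintype.card_fin] at hS hT
  rw [D.ten_blockSign hu hv, mv_blockSign (D.isFrame_tp hu hv), mv_blockSign hu, mv_blockSign hv]
  refine ⟨?_, hS, hT⟩
  have : Data.supp S T = S ×ˢ Tᶜ ∪ Sᶜ ×ˢ T := by
    ext p
    simp only [Data.supp, Finset.mem_filter, Finset.mem_univ, true_and, Finset.mem_union, Finset.mem_product,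
      Finset.mem_compl]
    tauto
  rw [this, Finset.card_union_of_disjoint (Finset.disjoint_left.2 fun p h1 h2 => by
    simp only [Finset.mem_product, Finset.mem_compl] at h1 h2; exact h2.1 h1.1),
    Finset.card_product, Finset.card_product, Finset.card_compl, Finset.card_compl, Fintype.card_fin,
    Fintype.card_fin]

theorem mv_refl {v : ι → F} (hnd : q.polarBilin.Nondegenerate) (h2 : (2 : F) ≠ 0) (hv : q v ≠ 0) :
    mv (refl q v) = 1 := by
  have hm : movS (refl q v) = Submodule.span F {v} := by
    refine le_antisymm ?_ ?_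
    · rintro _ ⟨x, rfl⟩
      refine Submodule.mem_span_singleton.2 ⟨(q v)⁻¹ * polar q x v, ?_⟩
      show _ = x - app (refl q v) x
      rw [app_refl, sub_sub_cancel]
    · rw [Submodule.span_singleton_le_iff_mem, mem_movS]
      exact ⟨(2 : F)⁻¹ • v, by rw [map_smul, app_refl_self hv, smul_neg, sub_neg_eq_add, ← two_smul F, smul_inv_smul₀ h2]⟩
  rw [mv, hm, finrank_span_singleton fun h => hv (by rw [h, QuadraticMap.map_zero])]

/-- An involution moving one dimension is a reflection. -/
theorem eq_refl_of_mv {κ : Type} [Fintype κ] [DecidableEq κ] {p : QuadraticForm F (κ → F)}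
    (hp : p.polarBilin.Nondegenerate) (h2 : (2 : F) ≠ 0) {g : O p} (hg : g * g = 1) (h : mv g = 1) :
    ∃ v, p v ≠ 0 ∧ g = refl p v := by
  classical
  obtain ⟨v, S, hv, rfl⟩ := exists_sign_frame hp h2 hg
  rw [mv_blockSign hv] at h
  obtain ⟨i, rfl⟩ := Finset.card_eq_one.1 h
  exact ⟨v i, hv.nz i, CfsgLib.TensorOdd.blockSign_single i⟩

namespace Power

variable (P : Power q q1 t)

theorem tenL_comp (A B : Fin t → (Fin k → F) →ₗ[F] (Fin k → F)) :
    (P.tenL A).comp (P.tenL B) = P.tenL fun i => (A i).comp (B i) :=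
  P.ext_tp fun xs => by simp [P.tenL_tp]

/-- A product of invertible factors. -/
noncomputable def tenE (A : Fin t → (Fin k → F) ≃ₗ[F] (Fin k → F)) : (ι → F) ≃ₗ[F] (ι → F) :=
  LinearEquiv.ofLinearMap (P.tenL fun i => (A i).toLinearMap) (P.tenL fun i => (A i).symm.toLinearMap)
    (P.ext_tp fun xs => by simp [P.tenL_tp]) (P.ext_tp fun xs => by simp [P.tenL_tp])

/-- The basis of pure tensors of given bases. -/
noncomputable def tpBasis (bs : Fin t → Module.Basis (Fin k) F (Fin k → F)) :
    Module.Basis (Idx k t) F (ι → F) :=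
  ((Pi.basisFun F _).map P.E).map (P.tenE fun i => (Pi.basisFun F (Fin k)).equiv (bs i) (Equiv.refl _))

theorem tpBasis_apply (bs : Fin t → Module.Basis (Fin k) F (Fin k → F)) (a : Idx k t) :
    P.tpBasis bs a = P.tp fun i => bs i (a i) := by
  rw [tpBasis, Module.Basis.map_apply, Module.Basis.map_apply, Pi.basisFun_apply,
    ← Maximal.TensorPower.tp_single a]
  show P.tenL _ (P.tp _) = _
  rw [P.tenL_tp]
  congr 1
  funext i
  rw [LinearEquiv.coe_coe, ← Pi.basisFun_apply, Module.Basis.equiv_apply]
  rfl

end Power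

end CfsgLib.TensorEven
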