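import Cfsg.Agent.Lib.TensorEven.Gam
import Cfsg.Agent.Lib.TensorEven.RadW

/-!
An isometry preserving a singular slice of a slot and carrying one group with the slot isometries into
another one is monomial, provided its action on the slice is.
-/

set_option autoImplicit false
set_option linter.unusedSectionVars false

namespace CfsgLib.TensorEven

open Matrix QuadraticMap CfsgLib.Orth CfsgLib.TensorOddMinus
open CfsgLib.TensorMax63 (Hyp mid mem_mid ext_polar exists_hyp exists_aniso)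

variable {ι : Type} [Fintype ι] [DecidableEq ι] {F : Type*} [Field F] [Fintype F] {k t : ℕ}
variable {q : QuadraticForm F (ι → F)} {q1 : QuadraticForm F (Fin k → F)}

namespace Power

variable {P : Power q q1 (t + 2)} {hG : Good q1}

/-- An isometry of the other slots acting at one of them only. -/
theorem R_of_sl (i : Fin (t + 2)) (l : Fin (t + 1)) (A : O q1) {ρ : O (formP q1 (t + 1))}
    (hρ : (app ρ : Module.End F (Fin (k ^ (t + 1)) → F)) = (std (q1 := q1) hG.two (t + 1)).sl l (app A)) :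
    P.R hG (by omega) i ρ = P.S hG (by omega) (i.succAbove l) A := by
  refine P.ext_tp_O fun xs => ?_
  conv_lhs => rw [P.D_tp' hG (by omega) i xs]
  rw [S_tp, Power.R]
  refine ((P.D hG (by omega) i).R_tp _ _ _).trans ?_
  erw [hρ, sl_tp]
  erw [P.D_tp]
  congr 1
  funext m
  rcases Fin.eq_self_or_eq_succAbove i m with rfl | ⟨m', rfl⟩
  · rw [Fin.insertNth_apply_same, Function.update_of_ne (Fin.succAbove_ne _ _).symm]
  · rw [Fin.insertNth_apply_succAbove]
    simp only [Function.update_apply, Fin.succAbove_right_inj, Fin.removeNth]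

theorem slice_swap (i : Fin (t + 2)) (u : Fin k → F) :
    P.slice hG (by omega) i u = LinearMap.range ((P.D hG (by omega) i).swap.tpL u) := by
  refine le_antisymm ?_ ?_
  · rintro _ ⟨y, rfl⟩
    exact ⟨y, (P.D hG (by omega) i).swap_tp _ _⟩
  · rintro _ ⟨y, rfl⟩
    exact ⟨y, ((P.D hG (by omega) i).swap_tp _ _).symm⟩

theorem detHom_pair (hG : Good q1) {v w : Fin k → F} (hv : q1 v ≠ 0) (hw : q1 w ≠ 0) :
    detHom q1 (refl q1 v * refl q1 w) = 1 := by
  rw [map_mul, detHom_refl hv, detHom_refl hw]; norm_num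

theorem slice_rigid {G1 G2 : Subgroup (O q)} (hk : 4 ≤ k) (h1 : P.Base hG (by omega) G1)
    (h2 : P.Base hG (by omega) G2) (i : Fin (t + 2)) {u u' : Fin k → F} (Pu : Hyp q1 u u')
    (hclean : ∀ Θ K g, g ∈ G2 → (P.D hG (by omega) i).swap.IsRad u Θ K g →
      ∃ c ∈ mid q1 u u', g = P.S hG (by omega) i (eich q1 u c))
    {f : O q} (hconj : ∀ g ∈ G1, f * g * f⁻¹ ∈ G2)
    (hM : (P.slice hG (by omega) i u).map (app f) = P.slice hG (by omega) i u)
    (hmon : ∀ (α : (Fin (k ^ (t + 1)) → F) ≃ₗ[F] (Fin (k ^ (t + 1)) → F))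
      (A : (Fin k → F) ≃ₗ[F] (Fin k → F)) (l : F), l ≠ 0 → IsSim (formP q1 (t + 1)) α l →
      IsSim q1 A l⁻¹ → A u = u →
      (∀ y, app f ((P.D hG (by omega) i).swap.tp y u) = (P.D hG (by omega) i).swap.tp (α y) u) →
      ∃ f0 ∈ P.Mon, ∀ y v, app f0 ((P.D hG (by omega) i).swap.tp y v) =
        (P.D hG (by omega) i).swap.tp (α y) (A v)) :
    f ∈ P.Mon := by
  classical
  set D := (P.D hG (by omega : 1 ≤ t + 1) i).swap with hD
  have hPu : Hyp D.q2 u u' := Pu
  set W := std (q1 := q1) hG.two (t + 1)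
  have hRS : ∀ ρ : O q1, D.R ρ = P.S hG (by omega) i ρ := fun ρ => by
    erw [(P.D hG (by omega) i).swap_R]; rfl
  have hstab : ∀ y, ∃ y', app f (D.tp y u) = D.tp y' u := fun y => by
    have : app f (D.tp y u) ∈ P.slice hG (by omega) i u := by
      rw [← hM]
      refine Submodule.mem_map_of_mem ?_
      rw [slice_swap]; exact ⟨y, rfl⟩
    rw [slice_swap] at this
    obtain ⟨y', hy'⟩ := this
    exact ⟨y', hy'.symm⟩
  have hroot1 : ∀ c ∈ mid q1 u u', D.R (eich q1 u c) ∈ G1 := fun c hc => by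
    rw [hRS]; exact h1.comm_mem P hG (by omega) i (eich_mem hG Pu.q₁ (mem_mid.1 hc).1)
  have hroot2 : ∀ c ∈ mid q1 u u', D.R (eich q1 u c) ∈ G2 := fun c hc => by
    rw [hRS]; exact h2.comm_mem P hG (by omega) i (eich_mem hG Pu.q₁ (mem_mid.1 hc).1)
  obtain ⟨α, A, l, hl, hαs, hAs, hAu, hαu, hmid⟩ := Data.exists_slice_action (D := D) hPu hstab
    (f := f) fun c hc => by
      obtain ⟨Θ, K, hrad⟩ := Data.isRad_conj (D := D) hPu hstab (D.isRad_R Pu.q₁ (mem_mid.1 hc).1)
      obtain ⟨c', hc', e⟩ := hclean Θ K _ (hconj _ (hroot1 c hc)) hrad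
      exact ⟨c', hc', e.trans (hRS _).symm⟩
  obtain ⟨f0, hf0, hf0tp⟩ := hmon α A l hl hαs hAs hAu hαu
  suffices hr : f * f0⁻¹ ∈ P.Mon by simpa using P.Mon.mul_mem hr hf0
  set r := f * f0⁻¹ with hr_def
  -- it lies in the root group
  obtain ⟨Θ, K, hr⟩ : ∃ Θ K, D.IsRad u Θ K r := by
    refine Data.isRad_of_stab (D := D) hPu (fun y => ?_) fun y d hd => ?_
    · have e : D.tp y u = app f0 (D.tp (α.symm y) u) := by
        rw [hf0tp, LinearEquiv.apply_symm_apply, hAu]
      rw [e, hr_def, app_mul, app_inv_app, hαu, hf0tp, hAu]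
    · obtain ⟨d', rfl⟩ := A.surjective d
      obtain ⟨y', rfl⟩ := α.surjective y
      rw [← hf0tp, hr_def, app_mul, app_inv_app, hf0tp]
      have hd' : d' - polar q1 u' d' • u ∈ mid q1 u u' := by
        have h := hAs u d'
        have h0 : polar q1 u (A d') = 0 := (mem_mid.1 hd).1
        change polar q1 (A u) (A d') = l⁻¹ * polar q1 u d' at h
        rw [hAu, h0] at h
        refine mem_mid.2 ⟨?_, ?_⟩ <;> rw [polar_sub_right, polar_smul_right]
        · rw [(mul_eq_zero.1 h.symm).resolve_left (inv_ne_zero hl), Pu.self₁, smul_zero, sub_zero]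
        · rw [Pu.pair', smul_eq_mul, mul_one, sub_self]
      obtain ⟨x, hx⟩ := hmid y' _ hd'
      refine ⟨x, ?_⟩
      rw [D.tp_sub_right, D.tp_smul_right, map_sub, map_smul, hαu, map_sub, map_smul, hAu, D.tp_sub_right,
        D.tp_smul_right] at hx
      linear_combination (norm := module) hx
  -- commutators with pairs
  have hpair : ∀ (m : Fin (t + 1)) (v w : Fin k → F), q1 v ≠ 0 → q1 w ≠ 0 → polar q1 v w = 0 →
      ∃ ρ : O (formP q1 (t + 1)), (app ρ : Module.End F (Fin (k ^ (t + 1)) → F)) =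
          W.sl m (app (refl q1 v) * app (refl q1 w)) ∧ ρ * ρ = 1 ∧
        D.L ρ ∈ G2 ∧ r * D.L ρ * r⁻¹ ∈ G2 := by
    intro m v w hv hw hvw
    obtain ⟨ρ, hρ, -⟩ := W.exists_slO hG m (refl q1 v * refl q1 w)
    have hmul : (app (refl q1 v * refl q1 w) : Module.End F (Fin k → F)) = app (refl q1 v) * app (refl q1 w) :=
      LinearMap.ext fun x => app_mul _ _ _
    have hL : D.L ρ = P.S hG (by omega) (i.succAbove m) (refl q1 v * refl q1 w) := by
      erw [(P.D hG (by omega) i).swap_L]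
      exact R_of_sl (hG := hG) i m _ hρ
    have hcomm : refl q1 v * refl q1 w = refl q1 w * refl q1 v := ext_app fun x => by
      simp only [app_mul, app_refl, polar_sub_left, polar_smul_left, hvw, polar_comm (f := ⇑q1) w v, smul_eq_mul,
        mul_zero, sub_zero]
      abel
    refine ⟨ρ, by rw [hρ, hmul], ext_app fun x => ?_, hL ▸ h2.det_mem _ _ (detHom_pair hG hv hw), ?_⟩
    · rw [app_mul, app_one, hρ]
      have : W.sl m (app (refl q1 v * refl q1 w)) * W.sl m (app (refl q1 v * refl q1 w)) = 1 := by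
        rw [← sl_mul, show (app (refl q1 v * refl q1 w) : Module.End F (Fin k → F)) * app (refl q1 v * refl q1 w) = 1
          from LinearMap.ext fun x => by
            rw [Module.End.mul_apply, ← app_mul, ← mul_assoc, mul_assoc (refl q1 v), ← hcomm, ← mul_assoc,
              refl_mul_self, one_mul, refl_mul_self, app_one]
            rfl, sl_one]
      exact LinearMap.congr_fun this x
    · obtain ⟨σ, B, hB⟩ := hf0
      obtain ⟨c, hc, hc1⟩ := hB.inv.sim hG
      set j := σ (i.succAbove m) with hj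
      have hjj : σ.symm j = i.succAbove m := σ.symm_apply_apply _
      obtain ⟨B', hB', e⟩ := hB.inv.conj_S hG (by omega) j (refl q1 v * refl q1 w)
      have hcj : c j ≠ 0 := fun h0 => by
        rw [Finset.prod_eq_zero (Finset.mem_univ j) h0] at hc1; exact zero_ne_one hc1
      set φ := (B (σ.symm j)).symm with hφ
      have hφs : ∀ z, q1 z ≠ 0 → q1 (φ z) ≠ 0 := fun z hz h0 => hz (by
        have h := hc j z z
        rw [polar_self', polar_self', h0, mul_zero, eq_comm, mul_eq_zero, mul_eq_zero] at h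
        exact (h.resolve_left hcj).resolve_left hG.two)
      have hB'' : B' = refl q1 (φ v) * refl q1 (φ w) := ext_app fun x => by
        rw [hB', app_mul, app_mul, ← (hc j).refl_conj hcj hG.two w x, ← (hc j).refl_conj hcj hG.two v,
          LinearEquiv.symm_apply_apply]
      rw [hjj] at e
      have hg1 : f0⁻¹ * D.L ρ * f0⁻¹⁻¹ ∈ G1 := by
        rw [hL, e, hB'']
        exact h1.det_mem _ _ (detHom_pair hG (hφs v hv) (hφs w hw))
      have := hconj _ hg1
      convert this using 1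
      rw [hr_def]; group
  obtain ⟨c, hc, e⟩ := Data.rigid_rad (D := D) hPu hk hr hroot2
    (fun Θ K g hg hrad => by
      obtain ⟨c, hc, e⟩ := hclean Θ K g hg hrad
      exact ⟨c, hc, e.trans (hRS _).symm⟩)
    {ρ | ∃ m v w, q1 v ≠ 0 ∧ q1 w ≠ 0 ∧ polar q1 v w = 0 ∧ (app ρ : Module.End F (Fin (k ^ (t + 1)) → F)) =
        W.sl m (app (refl q1 v) * app (refl q1 w)) ∧ ρ * ρ = 1 ∧ D.L ρ ∈ G2 ∧ r * D.L ρ * r⁻¹ ∈ G2}
    (fun ρ ⟨_, _, _, _, _, _, _, h⟩ => h)
    (fun X hX => W.scalar_of_triv hG (K := X) fun m => W.triv_of_pairs hG hk m fun v w hv hw hvw => by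
      obtain ⟨ρ, hρ, h⟩ := hpair m v w hv hw hvw
      rw [← hρ]
      exact LinearMap.ext (hX ρ ⟨m, v, w, hv, hw, hvw, hρ, h⟩))
  have e' : f * f0⁻¹ = P.S hG (by omega) i (eich q1 u c) := e.trans (hRS _)
  show f * f0⁻¹ ∈ P.Mon
  rw [e']
  exact P.S_mem hG (by omega) i _

end Power

end CfsgLib.TensorEven
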