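import Cfsg.Agent.Lib.TensorEven.SliceUni

/-!
An element carrying the group to itself and a slice to itself is monomial; so groups with the slot
isometries only conjugate root elements of the slots into the monomial group by monomial elements.
-/

set_option autoImplicit false
set_option linter.unusedSectionVars false

namespace CfsgLib.TensorEven

open Matrix QuadraticMap CfsgLib.Orth CfsgLib.TensorOddMinus
open CfsgLib.TensorMax63 (Hyp mid mem_mid exists_hyp)

variable {ι : Type} [Fintype ι] [DecidableEq ι] {F : Type*} [Field F] [Fintype F] {k t : ℕ}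
variable {q : QuadraticForm F (ι → F)} {q1 : QuadraticForm F (Fin k → F)}

namespace Power

variable {P : Power q q1 (t + 2)} {hG : Good q1}

set_option maxHeartbeats 2000000 in
/-- The action on a slice carries reflections of the other slots to such reflections. -/
theorem Full.singles {G G' : Subgroup (O q)} (h : P.Full hG (by omega) G) (h' : P.Full hG (by omega) G')
    (hk : 4 ≤ k) (ht : 1 ≤ t)
    (hIH : ∀ Γ : Subgroup (O (formP q1 (t + 1))), (std (q1 := q1) hG.two (t + 1)).Full hG ht Γ →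
      Γ ≤ (std (q1 := q1) hG.two (t + 1)).Mon)
    (i : Fin (t + 2)) {u u' : Fin k → F} (Pu : Hyp q1 u u') {f : O q} (hconj : ∀ g ∈ G, f * g * f⁻¹ ∈ G')
    (α : (Fin (k ^ (t + 1)) → F) ≃ₗ[F] (Fin (k ^ (t + 1)) → F)) {l : F} (hl : l ≠ 0)
    (hαs : IsSim (formP q1 (t + 1)) α l)
    (hαu : ∀ y, app f ((P.D hG (by omega) i).swap.tp y u) = (P.D hG (by omega) i).swap.tp (α y) u)
    (m : Fin (t + 1)) {y : Fin k → F} (hy : q1 y ≠ 0) :
    ∃ m' y', q1 y' ≠ 0 ∧ ∀ z, α (app ((std (q1 := q1) hG.two (t + 1)).S hG ht m (refl q1 y)) z) =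
      app ((std (q1 := q1) hG.two (t + 1)).S hG ht m' (refl q1 y')) (α z) := by
  classical
  obtain ⟨t', rfl⟩ : ∃ t', t = t' + 1 := ⟨t - 1, by omega⟩
  set W := std (q1 := q1) hG.two (t' + 1 + 1)
  set D := (P.D hG (by omega : 1 ≤ t' + 1 + 1) i).swap
  set s := W.S hG ht m (refl q1 y) with hs
  have hsG : P.R hG (by omega) i s ∈ G :=
    (h.comap P hG ht i (Full.not_R (ht := ht) h hk i)).S_mem m (refl q1 y)
  obtain ⟨B, hB⟩ := hαs.conj hl hG.two s
  have hB' : ∀ z, app B (α z) = α (app s z) := fun z => by rw [hB, LinearEquiv.symm_apply_apply]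
  have hL : ∀ δ : O (formP q1 (t' + 1 + 1)), D.L δ = P.R hG (by omega) i δ := fun δ => by
    erw [(P.D hG (by omega) i).swap_L]; rfl
  have hRS : ∀ ρ : O q1, D.R ρ = P.S hG (by omega) i ρ := fun ρ => by
    erw [(P.D hG (by omega) i).swap_R]; rfl
  have hact : ∀ z, app (f * P.R hG (by omega) i s * f⁻¹) (D.tp z u) = D.tp (app B z) u := fun z => by
    obtain ⟨z', rfl⟩ := α.surjective z
    have e : app f⁻¹ (D.tp (α z') u) = D.tp z' u := by rw [← hαu, app_inv_app]
    rw [app_mul, app_mul, e, ← hL]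
    erw [D.L_tp]
    rw [hαu, hB']
    rfl
  have hBmem : B ∈ D.sliceGroup G' (w := u) Pu.q₁ :=
    Data.mem_sliceGroup_of_stab (D := D) (w' := u') Pu hk (h'.R_swap_mem i)
      (fun Θ K g hg hrad => by
        obtain ⟨c, hc, e⟩ := h'.clean hk i Pu hg hrad
        exact ⟨c, hc, e.trans (hRS _).symm⟩)
      (hconj _ hsG) hact
  obtain ⟨σ, A, hA⟩ := h'.sliceGroup_le hk ht hIH i Pu _ rfl hBmem
  have hss : s * s = 1 := by rw [hs, ← map_mul, refl_mul_self, map_one]
  have hBB : B * B = 1 := ext_app fun z => by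
    obtain ⟨z', rfl⟩ := α.surjective z
    rw [app_mul, hB', hB', ← app_mul, hss, app_one, app_one]
  have hmv : mv B = k ^ (t' + 1) := by rw [mv_conj_equiv α hB', hs, W.mv_single hG ht m hy]
  obtain ⟨m', y', hy', e⟩ := eq_single hA hG hk ht hBB hmv
  exact ⟨m', y', hy', fun z => by rw [← hB', e]⟩

/-- The case of one fixed slice. -/
theorem Full.fix_slice {G : Subgroup (O q)} (h : P.Full hG (by omega) G) (hk : 4 ≤ k)
    (hIH : ∀ (ht : 1 ≤ t) (Γ : Subgroup (O (formP q1 (t + 1)))), (std (q1 := q1) hG.two (t + 1)).Full hG ht Γ →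
      Γ ≤ (std (q1 := q1) hG.two (t + 1)).Mon)
    (i : Fin (t + 2)) {u u' : Fin k → F} (Pu : Hyp q1 u u') (σ : Equiv.Perm (Fin (t + 2))) {f : O q}
    (hconj : ∀ g ∈ G, f * g * f⁻¹ ∈ Power.conjπ P hG G σ)
    (hM : (P.slice hG (by omega) i u).map (app f) = P.slice hG (by omega) i u) : f ∈ P.Mon := by
  refine slice_rigid hk h.base (Full.conjπ h σ).base i Pu (fun Θ K g hg hrad => (Full.conjπ h σ).clean hk i Pu hg hrad)
    hconj hM fun α A l hl hαs hAs _ hαu => ?_
  rcases Nat.eq_zero_or_pos t with rfl | ht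
  · exact hmon_one hk i α A hl hαs hAs
  · obtain ⟨τ, B, hB⟩ := (std (q1 := q1) hG.two (t + 1)).monomial_of_singles hG ht hk α
      (fun m y hy => Full.singles h (Full.conjπ h σ) hk ht (hIH ht) i Pu hconj α hl hαs hαu m hy)
    exact mon_of_action i α A hl hαs hAs τ B hB

/-- A group with all slot isometries is rigid, given the case of fewer slots. -/
theorem Full.uni {G : Subgroup (O q)} (h : P.Full hG (by omega) G) (hk : 4 ≤ k)
    (hIH : ∀ (ht : 1 ≤ t) (Γ : Subgroup (O (formP q1 (t + 1)))), (std (q1 := q1) hG.two (t + 1)).Full hG ht Γ →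
      Γ ≤ (std (q1 := q1) hG.two (t + 1)).Mon) : P.Uni hG (by omega) G :=
  uni_of_slice_map hk fun _ hg i j _ _ hu hu0 hv hv0 e =>
    mon_of_slice_map h.base (fun i' _ _ Pu σ _ hc hM => h.fix_slice hk hIH i' Pu σ hc hM) hg i j hu hu0 hv hv0 e

end Power

namespace Power

variable {P : Power q q1 2} {hG : Good q1}

/-- An element carrying a slice of a singular vector to another one is monomial. -/
theorem Weak.mon_of_slice_map {G : Subgroup (O q)} (h : P.Weak hG G) (hk : 4 ≤ k) {g : O q} (hg : g ∈ G)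
    (i j : Fin 2) {u v : Fin k → F} (hu : q1 u = 0) (hu0 : u ≠ 0) (hv : q1 v = 0) (hv0 : v ≠ 0)
    (e : (P.slice hG le_rfl i u).map (app g) = P.slice hG le_rfl j v) : g ∈ P.Mon :=
  Power.mon_of_slice_map (t := 0) h.base (fun i' _ _ Pu σ _ hc hM =>
    slice_rigid (t := 0) hk h.base (Weak.conjπ h σ).base i' Pu
      (fun _ _ _ hg' hrad => (Weak.conjπ h σ).clean hk i' Pu hg' hrad) hc hM
      fun α A _ hl hαs hAs _ _ => hmon_one hk i' α A hl hαs hAs) hg i j hu hu0 hv hv0 e

/-- A group with the weak hypotheses is rigid. -/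
theorem Weak.uni {G : Subgroup (O q)} (h : P.Weak hG G) (hk : 4 ≤ k) : P.Uni hG le_rfl G :=
  uni_of_slice_map (t := 0) hk fun _ hg i j _ _ hu hu0 hv hv0 e => h.mon_of_slice_map hk hg i j hu hu0 hv hv0 e

end Power

end CfsgLib.TensorEven
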