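import Cfsg.Agent.Lib.TensorEven.SliceMon
import Cfsg.Agent.Lib.TensorEven.Setup

/-!
An element of the group carrying a slice of a singular vector to another such slice is monomial; so is an
element conjugating a root element of a slot into the monomial group.
-/

set_option autoImplicit false
set_option linter.unusedSectionVars false

namespace CfsgLib.TensorEven

open Matrix QuadraticMap CfsgLib.Orth CfsgLib.TensorOddMinus
open CfsgLib.TensorMax63 (Hyp mid mem_mid exists_hyp)

variable {ι : Type} [Fintype ι] [DecidableEq ι] {F : Type*} [Field F] [Fintype F] {k t : ℕ}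
variable {q : QuadraticForm F (ι → F)} {q1 : QuadraticForm F (Fin k → F)}

/-- The dimension moved by a conjugate under a linear bijection. -/
theorem mv_conj_equiv {κ : Type} [Fintype κ] [DecidableEq κ] {p : QuadraticForm F (κ → F)}
    (α : (κ → F) ≃ₗ[F] (κ → F)) {B s : O p} (h : ∀ z, app B (α z) = α (app s z)) : mv B = mv s := by
  have hm : movS B = (movS s).map α.toLinearMap := by
    ext x
    rw [mem_movS, Submodule.mem_map]
    constructor
    · rintro ⟨a, rfl⟩
      refine ⟨α.symm a - app s (α.symm a), mem_movS.2 ⟨_, rfl⟩, ?_⟩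
      rw [LinearEquiv.coe_coe, map_sub, ← h, LinearEquiv.apply_symm_apply]
    · rintro ⟨y, hy, rfl⟩
      obtain ⟨a, rfl⟩ := mem_movS.1 hy
      exact ⟨α a, by rw [h, LinearEquiv.coe_coe, map_sub]⟩
  rw [mv, mv, hm, LinearEquiv.finrank_map_eq]

namespace Power

theorem mv_single (P : Power q q1 (t + 1)) (hG : Good q1) (ht : 1 ≤ t) (m : Fin (t + 1)) {y : Fin k → F}
    (hy : q1 y ≠ 0) : mv (P.S hG ht m (refl q1 y)) = k ^ t := by
  have key : ∀ A : O (P.D hG ht m).q1, A * A = 1 → mv A = 1 → mv ((P.D hG ht m).ten (A, 1)) = k ^ t :=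
    fun A hA e => by rw [(mv_ten (P.D hG ht m) hA (one_mul 1)).1, mv_one, e]; simp
  exact key (refl q1 y) (refl_mul_self y) (mv_refl hG.nd hG.two hy)

/-- The image of a slice under an element of the slot. -/
theorem map_S_slice (P : Power q q1 (t + 1)) (hG : Good q1) (ht : 1 ≤ t) (i : Fin (t + 1)) (A : O q1)
    (u : Fin k → F) :
    (P.slice hG ht i u).map (app (P.S hG ht i A)) = P.slice hG ht i (app A u) := by
  rw [slice, slice, ← LinearMap.range_comp]
  congr 1
  refine LinearMap.ext fun v => ?_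
  exact (P.D hG ht i).L_tp A u v

theorem slice_smul (P : Power q q1 (t + 1)) (hG : Good q1) (ht : 1 ≤ t) (i : Fin (t + 1)) {c : F} (hc : c ≠ 0)
    (u : Fin k → F) : P.slice hG ht i (c • u) = P.slice hG ht i u := by
  have : (P.D hG ht i).tpR (c • u) = c • (P.D hG ht i).tpR u :=
    LinearMap.ext fun v => (P.D hG ht i).tp_smul_left c u v
  rw [slice, slice, this, LinearMap.range_smul _ _ hc]

/-- The image of a slice under a permutation of the slots. -/
theorem map_π_slice (P : Power q q1 (t + 1)) (hG : Good q1) (ht : 1 ≤ t) (σ : Equiv.Perm (Fin (t + 1)))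
    (i : Fin (t + 1)) {u : Fin k → F} (hu : u ≠ 0) :
    (P.slice hG ht i u).map (app (P.π hG.two σ)) = P.slice hG ht (σ i) u := by
  refine Submodule.eq_of_le_of_finrank_eq ?_ ?_
  · rw [slice, ← LinearMap.range_comp]
    have hmap : ((P.slice hG ht (σ i) u).mkQ.comp ((app (P.π hG.two σ)).comp ((P.D hG ht i).tpR u))) = 0 :=
      (std (q1 := q1) hG.two t).ext_tp fun ys => by
        rw [LinearMap.comp_apply, LinearMap.comp_apply, LinearMap.zero_apply, Submodule.mkQ_apply,
          Submodule.Quotient.mk_eq_zero]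
        show app _ ((P.D hG ht i).tp u _) ∈ _
        rw [P.D_tp, P.π_tp]
        have := P.tp_mem_slice hG ht (σ i) fun l => (i.insertNth u ys : Fin (t + 1) → Fin k → F) (σ.symm l)
        rwa [Equiv.symm_apply_apply, Fin.insertNth_apply_same] at this
    rintro _ ⟨v, rfl⟩
    have := LinearMap.congr_fun hmap v
    rwa [LinearMap.comp_apply, LinearMap.zero_apply, Submodule.mkQ_apply, Submodule.Quotient.mk_eq_zero] at this
  · refine Eq.trans (LinearEquiv.finrank_map_eq (oEquiv (P.π hG.two σ)) (P.slice hG ht i u)) ?_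
    rw [P.finrank_slice hG ht i hu, P.finrank_slice hG ht (σ i) hu]

end Power

namespace Power

variable {P : Power q q1 (t + 2)} {hG : Good q1}

/-- The conjugate of a group under a permutation of the slots. -/
noncomputable def conjπ (P : Power q q1 (t + 2)) (hG : Good q1) (G : Subgroup (O q))
    (σ : Equiv.Perm (Fin (t + 2))) : Subgroup (O q) :=
  G.map (MulAut.conj (P.π hG.two σ)).toMonoidHom

theorem mem_conjπ {G : Subgroup (O q)} {σ : Equiv.Perm (Fin (t + 2))} {x : O q} :
    x ∈ conjπ P hG G σ ↔ ∃ g ∈ G, P.π hG.two σ * g * (P.π hG.two σ)⁻¹ = x := Iff.rfl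

theorem conjπ_S {G : Subgroup (O q)} {σ : Equiv.Perm (Fin (t + 2))} {l : Fin (t + 2)} {A : O q1}
    (h : P.S hG (by omega) l A ∈ G) : P.S hG (by omega) (σ l) A ∈ conjπ P hG G σ :=
  mem_conjπ.2 ⟨_, h, P.π_conj_S hG (by omega) σ l A⟩

theorem conjπ_proper {G : Subgroup (O q)} (h : ¬ commutator (O q) ≤ G) (σ : Equiv.Perm (Fin (t + 2))) :
    ¬ commutator (O q) ≤ conjπ P hG G σ := fun hle => h fun x hx => by
  obtain ⟨g, hg, e⟩ := mem_conjπ.1 (hle (Subgroup.Normal.conj_mem inferInstance x hx (P.π hG.two σ)))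
  rwa [← mul_left_cancel (mul_right_cancel e)]

theorem Full.conjπ {G : Subgroup (O q)} (h : P.Full hG (by omega) G) (σ : Equiv.Perm (Fin (t + 2))) :
    P.Full hG (by omega) (Power.conjπ P hG G σ) where
  S_mem l A := by simpa using conjπ_S (σ := σ) (h.S_mem (σ.symm l) A)
  π_mem τ hτ := mem_conjπ.2 ⟨P.π hG.two (σ⁻¹ * τ * σ), h.π_mem _ (by
      rw [map_mul, map_mul, mul_right_comm, ← map_mul, inv_mul_cancel, map_one, one_mul, hτ]),
    by rw [← map_inv, ← map_mul, ← map_mul]; congr 1; group⟩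
  proper := conjπ_proper h.proper σ

theorem Weak.conjπ {P : Power q q1 (0 + 2)} {G : Subgroup (O q)} (h : P.Weak hG G) (σ : Equiv.Perm (Fin 2)) :
    P.Weak hG (Power.conjπ P hG G σ) where
  base := ⟨fun l A hA => by simpa using conjπ_S (σ := σ) (h.base.det_mem (σ.symm l) A hA),
    conjπ_proper h.base.proper σ⟩
  pair_mem i j v w hij hv hw := by
    have e : P.π hG.two σ * (P.S hG (by omega) (σ.symm i) (refl q1 v) * P.S hG (by omega) (σ.symm j) (refl q1 w)) *
        (P.π hG.two σ)⁻¹ = P.S hG (by omega) i (refl q1 v) * P.S hG (by omega) j (refl q1 w) := by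
      rw [← Equiv.apply_symm_apply σ i, ← Equiv.apply_symm_apply σ j, ← P.π_conj_S hG (by omega) σ,
        ← P.π_conj_S hG (by omega) σ, Equiv.symm_apply_apply, Equiv.symm_apply_apply]
      group
    exact mem_conjπ.2 ⟨_, h.pair_mem (σ.symm i) (σ.symm j) v w (σ.symm.injective.ne hij) hv hw, e⟩

/-- From slices to slices, given the case of one fixed slice. -/
theorem mon_of_slice_map {G : Subgroup (O q)} (hB : P.Base hG (by omega) G)
    (hfix : ∀ (i : Fin (t + 2)) (u u' : Fin k → F), Hyp q1 u u' → ∀ (σ : Equiv.Perm (Fin (t + 2))) (f : O q),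
      (∀ g ∈ G, f * g * f⁻¹ ∈ Power.conjπ P hG G σ) →
      (P.slice hG (by omega) i u).map (app f) = P.slice hG (by omega) i u → f ∈ P.Mon)
    {g : O q} (hg : g ∈ G) (i j : Fin (t + 2)) {u v : Fin k → F} (hu : q1 u = 0) (hu0 : u ≠ 0) (hv : q1 v = 0)
    (hv0 : v ≠ 0) (h : (P.slice hG (by omega) i u).map (app g) = P.slice hG (by omega) j v) : g ∈ P.Mon := by
  obtain ⟨u', Pu⟩ := exists_hyp hG.nd hu hu0
  obtain ⟨ρ, hρ, c, hc, hρv⟩ := exists_line hG hu hu0 hv hv0
  set a := P.S hG (by omega) j ρ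
  have ha : a ∈ G := hB.comm_mem P hG (by omega) j hρ
  set σ := Equiv.swap i j
  set f := P.π hG.two σ * (a * g)
  have hf : f ∈ P.Mon := by
    refine hfix i u u' Pu σ f (fun x hx => mem_conjπ.2 ⟨(a * g) * x * (a * g)⁻¹,
      G.mul_mem (G.mul_mem (G.mul_mem ha hg) hx) (G.inv_mem (G.mul_mem ha hg)), ?_⟩) ?_
    · simp only [f]; group
    · have e : (app f : Module.End F (ι → F)) = (app (P.π hG.two σ)).comp ((app a).comp (app g)) :=
        LinearMap.ext fun x => by simp [f, app_mul]
      rw [e, Submodule.map_comp, Submodule.map_comp, h, map_S_slice, hρv, slice_smul P hG (by omega) j hc,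
        map_π_slice P hG (by omega) σ j hu0, Equiv.swap_apply_right]
  have e : g = a⁻¹ * ((P.π hG.two σ)⁻¹ * f) := by simp only [f]; group
  rw [e]
  exact P.Mon.mul_mem (P.Mon.inv_mem (P.S_mem hG (by omega) j ρ))
    (P.Mon.mul_mem (P.Mon.inv_mem (P.π_mem hG.two σ)) hf)

/-- Rigidity from the case of slices. -/
theorem uni_of_slice_map (hk : 4 ≤ k) {G : Subgroup (O q)}
    (hmap : ∀ g ∈ G, ∀ (i j : Fin (t + 2)) (u v : Fin k → F), q1 u = 0 → u ≠ 0 → q1 v = 0 → v ≠ 0 →
      (P.slice hG (by omega) i u).map (app g) = P.slice hG (by omega) j v → g ∈ P.Mon) :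
    P.Uni hG (by omega) G := by
  intro g hg i u c hr hmem
  set x := P.S hG (by omega) i (eich q1 u c)
  obtain ⟨h3, h1, h2, h2'⟩ := P.root_shape hG (by omega) i hr.sing hr.ne hr.orth hr.aniso
  set E := oEquiv g
  have hnl : (nl (g * x * g⁻¹) : Module.End F (ι → F)) = E.conj (nl x) := LinearMap.ext fun z => by
    rw [LinearEquiv.conj_apply_apply]
    show app (g * x * g⁻¹) z - z = app g (app x (app g⁻¹ z) - app g⁻¹ z)
    rw [app_mul, app_mul, map_sub, app_app_inv]
  have hrange : ∀ N : Module.End F (ι → F), LinearMap.range (E.conj N) = (LinearMap.range N).map E.toLinearMap := by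
    intro N
    rw [LinearEquiv.conj_apply, ← LinearMap.range_comp, LinearMap.range_comp_of_range_eq_top _ E.symm.range]
  have hpow : ∀ n : ℕ, (nl (g * x * g⁻¹) : Module.End F (ι → F)) ^ n = E.conj (nl x ^ n) := fun n => by
    rw [hnl]; exact (map_pow E.conjRingEquiv (nl x) n).symm
  obtain ⟨j, v, hv, hv0, hsl⟩ := P.slice_of_shape hG (by omega) hk hmem
    (by rw [hpow, h3, map_zero])
    (by rw [hnl, hrange, LinearEquiv.finrank_map_eq, h1])
    (by rw [hpow, hrange, LinearEquiv.finrank_map_eq, h2'])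
  refine hmap g hg i j u v hr.sing hr.ne hv hv0 ?_
  rw [← hsl, hpow, hrange, h2]
  rfl

end Power

end CfsgLib.TensorEven
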