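import Cfsg.Agent.Lib.TensorEven.Rank

/-!
Endomorphisms of a tensor power seen from one slot: coefficients with respect to a frame of the slot,
operators which are trivial at a slot, and pure elements of invariant spaces of endomorphisms.
-/

set_option autoImplicit false
set_option linter.unusedSectionVars false

namespace CfsgLib.TensorEven

open Matrix QuadraticMap CfsgLib.Orth CfsgLib.TensorOddMinus
open CfsgLib.TensorOdd (IsFrame InBlock Refr refr_vec refr_two blockSign blockSign_app blockSign_refr
  blockSign_union blockSign_single)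

variable {ι : Type} [Fintype ι] [DecidableEq ι] {F : Type*} [Field F] [Fintype F] {k t : ℕ}
variable {q : QuadraticForm F (ι → F)} {q1 : QuadraticForm F (Fin k → F)}

/-- The rank one map sending `u b` to `u a` in a frame. -/
noncomputable def mu (q1 : QuadraticForm F (Fin k → F)) (u : Fin k → Fin k → F) (a b : Fin k) :
    Module.End F (Fin k → F) :=
  (2 * q1 (u b))⁻¹ • (q1.polarBilin.flip (u b)).smulRight (u a)

theorem mu_apply (u : Fin k → Fin k → F) (a b : Fin k) (x : Fin k → F) :
    mu q1 u a b x = ((2 * q1 (u b))⁻¹ * polar q1 x (u b)) • u a := by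
  simp [mu, smul_smul]

section Units

variable {u : Fin k → Fin k → F} (hu : IsFrame q1 u)
include hu

theorem mu_frame (a b c : Fin k) : mu q1 u a b (u c) = if c = b then u a else 0 := by
  rw [mu_apply]
  split_ifs with h
  · subst h
    rw [polar_self', inv_mul_cancel₀ (mul_ne_zero hu.two (hu.nz c)), one_smul]
  · rw [hu.orth c b h, mul_zero, zero_smul]

theorem mu_mul (a b c d : Fin k) : mu q1 u a b * mu q1 u c d = if b = c then mu q1 u a d else 0 :=
  hu.ext_lin fun e => by
    rw [Module.End.mul_apply, mu_frame hu c d e]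
    by_cases he : e = d
    · subst he
      rw [if_pos rfl, mu_frame hu a b c]
      split_ifs with h1 h2 h2
      · rw [mu_frame hu a e e, if_pos rfl]
      · exact absurd h1.symm h2
      · exact absurd h2.symm h1
      · rfl
    · rw [if_neg he, map_zero]
      split_ifs
      · rw [mu_frame hu a d e, if_neg he]
      · rfl

theorem mu_sum : ∑ a, mu q1 u a a = 1 :=
  hu.ext_lin fun e => by
    simp [LinearMap.sum_apply, mu_frame hu]

theorem eq_mu_sum (A : Module.End F (Fin k → F)) :
    A = ∑ a, ∑ b, ((2 * q1 (u a))⁻¹ * polar q1 (A (u b)) (u a)) • mu q1 u a b :=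
  hu.ext_lin fun e => by
    simp only [LinearMap.sum_apply, LinearMap.smul_apply, mu_frame hu, smul_ite, smul_zero,
      Finset.sum_ite_eq, Finset.mem_univ, if_true]
    conv_lhs => rw [hu.eq_sum (A (u e))]
    exact Finset.sum_congr rfl fun a _ => by rw [div_eq_inv_mul]

theorem refl_mu (c a b : Fin k) :
    app (refl q1 (u c)) * mu q1 u a b = (if a = c then -1 else 1 : F) • mu q1 u a b :=
  hu.ext_lin fun e => by
    rw [Module.End.mul_apply, LinearMap.smul_apply, mu_frame hu a b e]
    split_ifs with h1 h2 h2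
    · rw [h2, app_refl_self (hu.nz c), neg_one_smul]
    · rw [app_refl_of_ortho (hu.orth _ _ h2), one_smul]
    · rw [map_zero, smul_zero]
    · rw [map_zero, smul_zero]

theorem mu_refl (c a b : Fin k) :
    mu q1 u a b * app (refl q1 (u c)) = (if b = c then -1 else 1 : F) • mu q1 u a b :=
  hu.ext_lin fun e => by
    rw [Module.End.mul_apply, LinearMap.smul_apply]
    by_cases he : e = c
    · subst he
      rw [app_refl_self (hu.nz e), map_neg, mu_frame hu a b e]
      split_ifs with h1 h2 h2
      · rw [neg_one_smul]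
      · exact absurd h1.symm h2
      · exact absurd h2.symm h1
      · simp
    · rw [app_refl_of_ortho (hu.orth _ _ he), mu_frame hu a b e]
      split_ifs with h1 h2 h2
      · exact absurd (h1.trans h2) he
      · rw [one_smul]
      · rw [smul_zero]
      · rw [smul_zero]

end Units

namespace Power

variable (P : Power q q1 t)

/-- A linear map of a slot. -/
noncomputable def sl (l : Fin t) (A : Module.End F (Fin k → F)) : Module.End F (ι → F) :=
  P.tenL (Function.update (fun _ => LinearMap.id) l A)

theorem sl_tp (l : Fin t) (A : Module.End F (Fin k → F)) (xs : Fin t → Fin k → F) :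
    P.sl l A (P.tp xs) = P.tp (Function.update xs l (A (xs l))) := by
  rw [sl, P.tenL_tp]
  congr 1
  funext i
  rcases eq_or_ne i l with rfl | h <;> simp [*]

theorem sl_mul (l : Fin t) (A B : Module.End F (Fin k → F)) : P.sl l (A * B) = P.sl l A * P.sl l B :=
  P.ext_tp fun xs => by simp [sl_tp]

theorem sl_one (l : Fin t) : P.sl l 1 = 1 := P.ext_tp fun xs => by simp [sl_tp]

theorem sl_comm {l m : Fin t} (h : l ≠ m) (A B : Module.End F (Fin k → F)) :
    P.sl l A * P.sl m B = P.sl m B * P.sl l A :=
  P.ext_tp fun xs => by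
    rw [Module.End.mul_apply, Module.End.mul_apply, sl_tp, sl_tp, sl_tp, sl_tp, Function.update_of_ne h,
      Function.update_of_ne h.symm, Function.update_comm h.symm]

theorem sl_add (l : Fin t) (A B : Module.End F (Fin k → F)) : P.sl l (A + B) = P.sl l A + P.sl l B :=
  P.ext_tp fun xs => by simp [sl_tp, tp_update_add]

theorem sl_smul (l : Fin t) (c : F) (A : Module.End F (Fin k → F)) : P.sl l (c • A) = c • P.sl l A :=
  P.ext_tp fun xs => by simp [sl_tp, tp_update_smul]

/-- The slot, as an algebra morphism. -/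
noncomputable def slₗ (l : Fin t) : Module.End F (Fin k → F) →ₗ[F] Module.End F (ι → F) where
  toFun := P.sl l
  map_add' := P.sl_add l
  map_smul' := P.sl_smul l

theorem sl_sum (l : Fin t) {α : Type*} (s : Finset α) (A : α → Module.End F (Fin k → F)) :
    P.sl l (∑ i ∈ s, A i) = ∑ i ∈ s, P.sl l (A i) := map_sum (P.slₗ l) A s

theorem sl_zero (l : Fin t) : P.sl l 0 = 0 := map_zero (P.slₗ l)

/-- An operator trivial at a slot. -/
def Triv (l : Fin t) (Z : Module.End F (ι → F)) : Prop := ∀ A, Z * P.sl l A = P.sl l A * Z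

/-- The coefficients at a slot. -/
noncomputable def coef (u : Fin k → Fin k → F) (l : Fin t) (a b : Fin k) (K : Module.End F (ι → F)) :
    Module.End F (ι → F) :=
  ∑ j, P.sl l (mu q1 u j a) * K * P.sl l (mu q1 u b j)

section Coef

variable {u : Fin k → Fin k → F} (hu : IsFrame q1 u) (l : Fin t)
include hu

theorem recon (K : Module.End F (ι → F)) :
    K = ∑ a, ∑ b, P.sl l (mu q1 u a b) * P.coef u l a b K := by
  have e : ∀ a b, P.sl l (mu q1 u a b) * P.coef u l a b K = P.sl l (mu q1 u a a) * K * P.sl l (mu q1 u b b) := by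
    intro a b
    rw [coef, Finset.mul_sum, Finset.sum_eq_single b]
    · rw [← mul_assoc, ← mul_assoc, ← sl_mul, mu_mul hu, if_pos rfl]
    · intro j _ hj
      rw [← mul_assoc, ← mul_assoc, ← sl_mul, mu_mul hu, if_neg (Ne.symm hj), sl_zero, zero_mul, zero_mul]
    · simp
  simp only [e, ← Finset.mul_sum, ← P.sl_sum l Finset.univ fun b => mu q1 u b b, mu_sum hu, sl_one, mul_one]
  rw [← Finset.sum_mul, ← P.sl_sum, mu_sum hu, sl_one, one_mul]

theorem triv_coef (a b : Fin k) (K : Module.End F (ι → F)) : P.Triv l (P.coef u l a b K) := by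
  have key : ∀ c d, P.coef u l a b K * P.sl l (mu q1 u c d) = P.sl l (mu q1 u c d) * P.coef u l a b K := by
    intro c d
    rw [coef, Finset.sum_mul, Finset.mul_sum, Finset.sum_eq_single c, Finset.sum_eq_single d]
    · rw [mul_assoc _ _ (P.sl l (mu q1 u c d)), ← sl_mul, mu_mul hu, if_pos rfl, ← mul_assoc (P.sl l (mu q1 u c d)),
        ← mul_assoc, ← sl_mul, mu_mul hu, if_pos rfl]
    · intro j _ hj
      rw [← mul_assoc, ← mul_assoc, ← sl_mul, mu_mul hu, if_neg (Ne.symm hj), sl_zero, zero_mul, zero_mul]
    · simp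
    · intro j _ hj
      rw [mul_assoc _ _ (P.sl l (mu q1 u c d)), ← sl_mul, mu_mul hu, if_neg hj, sl_zero, mul_zero]
    · simp
  intro A
  conv_lhs => rw [eq_mu_sum hu A]
  conv_rhs => rw [eq_mu_sum hu A]
  simp only [sl_sum, sl_smul, Finset.mul_sum, Finset.sum_mul, mul_smul_comm, smul_mul_assoc, key]

theorem coef_refl (c a b : Fin k) (K : Module.End F (ι → F)) :
    P.coef u l a b (P.sl l (app (refl q1 (u c))) * K * P.sl l (app (refl q1 (u c)))) =
      ((if a = c then -1 else 1 : F) * (if b = c then -1 else 1 : F)) • P.coef u l a b K := by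
  rw [coef, coef, Finset.smul_sum]
  refine Finset.sum_congr rfl fun j _ => ?_
  calc P.sl l (mu q1 u j a) * (P.sl l (app (refl q1 (u c))) * K * P.sl l (app (refl q1 (u c)))) *
        P.sl l (mu q1 u b j)
      = P.sl l (mu q1 u j a * app (refl q1 (u c))) * K * P.sl l (app (refl q1 (u c)) * mu q1 u b j) := by
        simp only [sl_mul, mul_assoc]
    _ = _ := by
        rw [mu_refl hu, refl_mu hu, sl_smul, sl_smul, smul_mul_assoc, smul_mul_assoc, mul_smul_comm, smul_smul]

theorem eq_zero_of_sl_mul {Z : Module.End F (ι → F)} (hZ : P.Triv l Z) (a b : Fin k)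
    (h : P.sl l (mu q1 u a b) * Z = 0) : Z = 0 := by
  have hc : ∀ c, P.sl l (mu q1 u c c) * Z = 0 := fun c => by
    calc P.sl l (mu q1 u c c) * Z = P.sl l (mu q1 u c a) * (P.sl l (mu q1 u a b) * Z) * P.sl l (mu q1 u b c) := by
          rw [mul_assoc _ (P.sl l (mu q1 u a b) * Z), mul_assoc _ Z, hZ, ← mul_assoc, ← mul_assoc, ← sl_mul,
            ← sl_mul, mu_mul hu, if_pos rfl, mu_mul hu, if_pos rfl]
      _ = 0 := by rw [h, mul_zero, zero_mul]
  calc Z = ∑ c, P.sl l (mu q1 u c c) * Z := by rw [← Finset.sum_mul, ← sl_sum, mu_sum hu, sl_one, one_mul]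
    _ = 0 := Finset.sum_eq_zero fun c _ => hc c

end Coef

theorem app_refl_sq {v : Fin k → F} (hv : q1 v ≠ 0) :
    (app (refl q1 v) : Module.End F (Fin k → F)) * app (refl q1 v) = 1 :=
  LinearMap.ext fun x => by rw [Module.End.mul_apply, ← app_mul, refl_mul_self, app_one]; rfl

/-- An operator commuting with the products of two orthogonal reflections of a slot is trivial there. -/
theorem triv_of_pairs (hG : Good q1) (hk : 4 ≤ k) (l : Fin t) {K : Module.End F (ι → F)}
    (h : ∀ v w, q1 v ≠ 0 → q1 w ≠ 0 → polar q1 v w = 0 →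
      P.sl l (app (refl q1 v) * app (refl q1 w)) * K = K * P.sl l (app (refl q1 v) * app (refl q1 w))) :
    P.Triv l K := by
  classical
  obtain ⟨u, hu⟩ : ∃ u : Fin k → Fin k → F, IsFrame q1 u := CfsgLib.TensorOdd.exists_frame hG.nd hG.two
  have hthird : ∀ a b : Fin k, ∃ c, c ≠ a ∧ c ≠ b := fun a b => by
    have : 2 < (Finset.univ : Finset (Fin k)).card := by simp; omega
    obtain ⟨c, -, hc⟩ := Finset.exists_mem_notMem_of_card_lt_card (lt_of_le_of_lt (Finset.card_le_two (a := a) (b := b)) this)
    exact ⟨c, fun h => hc (by simp [h]), fun h => hc (by simp [h])⟩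
  have hoff : ∀ a b, a ≠ b → P.coef u l a b K = 0 := by
    intro a b hab
    obtain ⟨c, hca, hcb⟩ := hthird a b
    have e := h (u a) (u c) (hu.nz a) (hu.nz c) (hu.orth a c (Ne.symm hca))
    have e' : P.sl l (app (refl q1 (u a))) * (P.sl l (app (refl q1 (u c))) * K * P.sl l (app (refl q1 (u c)))) *
        P.sl l (app (refl q1 (u a))) = K := by
      calc _ = P.sl l (app (refl q1 (u a)) * app (refl q1 (u c))) * K *
            P.sl l (app (refl q1 (u c)) * app (refl q1 (u a))) := by simp only [sl_mul, mul_assoc]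
        _ = K * (P.sl l (app (refl q1 (u a)) * app (refl q1 (u c))) *
            P.sl l (app (refl q1 (u c)) * app (refl q1 (u a)))) := by rw [e, mul_assoc]
        _ = K := by
            rw [← sl_mul, show app (refl q1 (u a)) * app (refl q1 (u c)) *
              (app (refl q1 (u c)) * app (refl q1 (u a))) = app (refl q1 (u a)) *
              (app (refl q1 (u c)) * app (refl q1 (u c))) * app (refl q1 (u a)) from by simp only [mul_assoc],
              app_refl_sq (hu.nz c), mul_one, app_refl_sq (hu.nz a), sl_one, mul_one]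
    have e2 := congrArg (P.coef u l a b) e'
    rw [coef_refl P hu, coef_refl P hu, smul_smul, if_pos rfl, if_neg (Ne.symm hab), if_neg (Ne.symm hca),
      if_neg (Ne.symm hcb), one_mul, mul_one, mul_one, neg_one_smul] at e2
    have : (2 : F) • P.coef u l a b K = 0 := by rw [two_smul]; exact eq_neg_iff_add_eq_zero.1 e2.symm
    exact (smul_eq_zero.1 this).resolve_left hG.two
  have hK : K = ∑ a, P.sl l (mu q1 u a a) * P.coef u l a a K := by
    conv_lhs => rw [P.recon hu l K]
    refine Finset.sum_congr rfl fun a _ => Finset.sum_eq_single a (fun b _ hb => ?_) (by simp)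
    rw [hoff a b (Ne.symm hb), mul_zero]
  set Z := fun a => P.coef u l a a K with hZ
  have hblock : ∀ a b, P.sl l (mu q1 u a a) * K = P.sl l (mu q1 u a a) * Z a ∧
      K * P.sl l (mu q1 u b b) = P.sl l (mu q1 u b b) * Z b := by
    refine fun a b => ⟨?_, ?_⟩
    · rw [hK, Finset.mul_sum, Finset.sum_eq_single a]
      · rw [← mul_assoc, ← sl_mul, mu_mul hu, if_pos rfl]
      · intro c _ hc
        rw [← mul_assoc, ← sl_mul, mu_mul hu, if_neg (Ne.symm hc), sl_zero, zero_mul]
      · simp
    · rw [hK, Finset.sum_mul, Finset.sum_eq_single b]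
      · rw [mul_assoc, P.triv_coef hu l b b K, ← mul_assoc, ← sl_mul, mu_mul hu, if_pos rfl]
      · intro c _ hc
        rw [mul_assoc, P.triv_coef hu l c c K, ← mul_assoc, ← sl_mul, mu_mul hu, if_neg hc, sl_zero, zero_mul]
      · simp
  have hmix : ∀ (a b d : Fin k) (v : Fin k → F), d ≠ a → d ≠ b → q1 v ≠ 0 → polar q1 v (u d) = 0 →
      polar q1 v (u a) ≠ 0 → polar q1 v (u b) ≠ 0 → a ≠ b → Z b = Z a := by
    intro a b d v hda hdb hv hvd hva hvb hab
    have e := h v (u d) hv (hu.nz d) hvd
    set M := app (refl q1 v) * app (refl q1 (u d)) with hM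
    set c : F := (2 * q1 (u a))⁻¹ * polar q1 (M (u b)) (u a) with hc
    have hc0 : c ≠ 0 := by
      rw [hc, hM, Module.End.mul_apply, app_refl_of_ortho (hu.orth b d (Ne.symm hdb)), app_refl, polar_sub_left,
        hu.orth b a (Ne.symm hab), polar_smul_left, zero_sub, smul_eq_mul, polar_comm (f := ⇑q1) (u b) v]
      simp [hv, hva, hvb, hu.nz a, hG.two]
    have hME : mu q1 u a a * M * mu q1 u b b = c • mu q1 u a b := by
      refine hu.ext_lin fun x => ?_
      simp only [Module.End.mul_apply, LinearMap.smul_apply, mu_frame hu]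
      split_ifs
      · rw [mu_apply, hc]
      · simp
    have e1 : P.sl l (mu q1 u a a * M) * (K * P.sl l (mu q1 u b b)) = c • (P.sl l (mu q1 u a b) * Z b) := by
      rw [(hblock a b).2, ← mul_assoc, ← sl_mul, hME, sl_smul, smul_mul_assoc]
    have e2 : P.sl l (mu q1 u a a) * K * P.sl l (M * mu q1 u b b) = c • (P.sl l (mu q1 u a b) * Z a) := by
      rw [(hblock a b).1, mul_assoc, P.triv_coef hu l a a K, ← mul_assoc, ← sl_mul, ← mul_assoc, hME, sl_smul,
        smul_mul_assoc]
    have e3 : P.sl l (mu q1 u a a * M) * (K * P.sl l (mu q1 u b b)) =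
        P.sl l (mu q1 u a a) * K * P.sl l (M * mu q1 u b b) := by
      calc _ = P.sl l (mu q1 u a a) * (P.sl l M * K) * P.sl l (mu q1 u b b) := by simp only [sl_mul, mul_assoc]
        _ = P.sl l (mu q1 u a a) * (K * P.sl l M) * P.sl l (mu q1 u b b) := by rw [e]
        _ = _ := by simp only [sl_mul, mul_assoc]
    rw [e1, e2, ← sub_eq_zero] at e3
    have e4 : P.sl l (mu q1 u a b) * (Z b - Z a) = 0 := by
      have := congrArg (c⁻¹ • ·) e3
      rw [smul_zero] at this
      rw [← this, mul_sub]
      match_scalars <;> field_simp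
    refine sub_eq_zero.1 (P.eq_zero_of_sl_mul hu l (fun A => ?_) a b e4)
    rw [sub_mul, mul_sub, P.triv_coef hu l b b K A, P.triv_coef hu l a a K A]
  have hdiag : ∀ a b, Z b = Z a := by
    intro a b
    rcases eq_or_ne a b with rfl | hab
    · rfl
    obtain ⟨c, hca, hcb⟩ := hthird a b
    obtain ⟨d, hd⟩ : ∃ d, d ∉ ({a, b, c} : Finset (Fin k)) := by
      obtain ⟨d, -, hd⟩ := Finset.exists_mem_notMem_of_card_lt_card
        (lt_of_le_of_lt (Finset.card_le_three (a := a) (b := b) (c := c))
          (by simp; omega : 3 < (Finset.univ : Finset (Fin k)).card))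
      exact ⟨d, hd⟩
    simp only [Finset.mem_insert, Finset.mem_singleton, not_or] at hd
    have horth := hu.orth
    by_cases hq : q1 (u a + u b) = 0
    · refine hmix a b d (u a + u b + u c) hd.1 hd.2.1 ?_ ?_ ?_ ?_ hab
      · rw [QuadraticMap.map_add ⇑q1, hq, zero_add, polar_add_left, horth a c (Ne.symm hca),
          horth b c (Ne.symm hcb), add_zero, add_zero]
        exact hu.nz c
      · rw [polar_add_left, polar_add_left, horth a d (Ne.symm hd.1), horth b d (Ne.symm hd.2.1),
          horth c d (Ne.symm hd.2.2)]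
        simp
      · rw [polar_add_left, polar_add_left, horth b a (Ne.symm hab), horth c a hca, add_zero, add_zero]
        exact hu.polar_self_ne a
      · rw [polar_add_left, polar_add_left, horth a b hab, horth c b hcb, zero_add, add_zero]
        exact hu.polar_self_ne b
    · refine hmix a b d (u a + u b) hd.1 hd.2.1 hq ?_ ?_ ?_ hab
      · rw [polar_add_left, horth a d (Ne.symm hd.1), horth b d (Ne.symm hd.2.1), add_zero]
      · rw [polar_add_left, horth b a (Ne.symm hab), add_zero]
        exact hu.polar_self_ne a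
      · rw [polar_add_left, horth a b hab, zero_add]
        exact hu.polar_self_ne b
  have hk0 : Fin k := ⟨0, by omega⟩
  intro A
  have e : K = Z hk0 := by
    rw [hK, show (∑ a, P.sl l (mu q1 u a a) * P.coef u l a a K) = ∑ a, P.sl l (mu q1 u a a) * Z hk0 from
      Finset.sum_congr rfl fun a _ => congrArg _ (hdiag hk0 a),
      ← Finset.sum_mul, ← sl_sum, mu_sum hu, sl_one, one_mul]
  rw [e]
  exact P.triv_coef hu l hk0 hk0 K A

/-- An operator trivial at every slot is a scalar. -/
theorem scalar_of_triv (hG : Good q1) {K : Module.End F (ι → F)} (h : ∀ l, P.Triv l K) :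
    ∃ c : F, ∀ x, K x = c • x := by
  classical
  have key : ∀ (S : Finset (Fin t)) (Y : Fin t → Module.End F (Fin k → F)), (∀ l, l ∉ S → Y l = LinearMap.id) →
      K * P.tenL Y = P.tenL Y * K := by
    intro S
    induction S using Finset.induction_on with
    | empty =>
      intro Y hY
      have : P.tenL Y = 1 := P.ext_tp fun xs => by
        rw [P.tenL_tp, Module.End.one_apply]; congr 1; funext l; rw [hY l (Finset.notMem_empty l)]; rfl
      rw [this, mul_one, one_mul]
    | @insert l S hl ih =>
      intro Y hY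
      have hY' := ih (Function.update Y l LinearMap.id) fun m hm => by
        rcases eq_or_ne m l with rfl | hne
        · simp
        · rw [Function.update_of_ne hne]; exact hY m (by simp [hm, hne])
      have e : P.tenL Y = P.tenL (Function.update Y l LinearMap.id) * P.sl l (Y l) := P.ext_tp fun xs => by
        rw [Module.End.mul_apply, sl_tp, P.tenL_tp, P.tenL_tp]
        congr 1
        funext m
        rcases eq_or_ne m l with rfl | hne <;> simp [*]
      rw [e, ← mul_assoc, hY', mul_assoc, h l, ← mul_assoc]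
  obtain ⟨z, hz⟩ := exists_anisotropic hG.nd (le_trans (by norm_num) hG.three)
  have hzz : polar q1 z z ≠ 0 := by rw [polar_self']; exact mul_ne_zero hG.two hz
  set Y : (Fin t → Fin k → F) → Fin t → Module.End F (Fin k → F) :=
    fun xs i => (polar q1 z z)⁻¹ • (q1.polarBilin.flip z).smulRight (xs i) with hYdef
  have hY1 : ∀ xs, P.tenL (Y xs) (P.tp fun _ => z) = P.tp xs := fun xs => by
    rw [P.tenL_tp]
    congr 1
    funext i
    simp only [hYdef, LinearMap.smul_apply, LinearMap.smulRight_apply, LinearMap.flip_apply, polarBilin_apply_apply,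
      smul_smul, inv_mul_cancel₀ hzz, one_smul]
  have hY2 : ∀ x, ∃ c : F, P.tenL (Y fun _ => z) x = c • P.tp fun _ => z := by
    intro x
    have hle : LinearMap.range (P.tenL (Y fun _ => z)) ≤ Submodule.span F {P.tp fun _ => z} := by
      have : (Submodule.mkQ (Submodule.span F {P.tp fun _ => z})).comp (P.tenL (Y fun _ => z)) = 0 :=
        P.ext_tp fun xs => by
          rw [LinearMap.comp_apply, P.tenL_tp, LinearMap.zero_apply, Submodule.mkQ_apply,
            Submodule.Quotient.mk_eq_zero, Submodule.mem_span_singleton]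
          refine ⟨∏ i, (polar q1 z z)⁻¹ * polar q1 (xs i) z, ?_⟩
          rw [← P.tp_smul]
          congr 1
          funext i
          simp [hYdef, smul_smul]
      rintro _ ⟨y, rfl⟩
      have := LinearMap.congr_fun this y
      rwa [LinearMap.comp_apply, LinearMap.zero_apply, Submodule.mkQ_apply,
        Submodule.Quotient.mk_eq_zero] at this
    obtain ⟨c, hc⟩ := Submodule.mem_span_singleton.1 (hle ⟨x, rfl⟩)
    exact ⟨c, hc.symm⟩
  obtain ⟨c, hc⟩ := hY2 (K (P.tp fun _ => z))
  have hz' : K (P.tp fun _ => z) = c • P.tp fun _ => z := by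
    rw [← hc]
    have e := LinearMap.congr_fun (key Finset.univ (Y fun _ => z) (fun l hl => absurd (Finset.mem_univ l) hl))
      (P.tp fun _ => z)
    rwa [Module.End.mul_apply, Module.End.mul_apply, hY1] at e
  refine ⟨c, LinearMap.congr_fun (P.ext_tp (g := c • LinearMap.id) fun xs => ?_)⟩
  have e := LinearMap.congr_fun (key Finset.univ (Y xs) (fun l hl => absurd (Finset.mem_univ l) hl))
    (P.tp fun _ => z)
  rw [Module.End.mul_apply, Module.End.mul_apply, hY1, hz', map_smul, hY1] at e
  exact e

end Power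

end CfsgLib.TensorEven
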