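import Cfsg.Agent.Lib.TensorEven.Gen
import Cfsg.Agent.Lib.TensorEven.Comp

/-!
An isometry fixing a singular slice pointwise and trivial on its orthogonal modulo it belongs to the root
group of the slice.
-/

set_option autoImplicit false
set_option linter.unusedSectionVars false

namespace CfsgLib.TensorOddMinus

open Matrix QuadraticMap CfsgLib.Orth
open CfsgLib.TensorMax63 (Hyp mid mem_mid ext_polar)

variable {ι : Type} [Fintype ι] [DecidableEq ι] {F : Type*} [Field F] [Fintype F]
variable {q : QuadraticForm F (ι → F)} {a b : ℕ}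

namespace Data

variable {D : Data q a b} {w w' : Fin b → F}

theorem isRad_of_stab (P : Hyp D.q2 w w') {g : O q} (h1 : ∀ y, app g (D.tp y w) = D.tp y w)
    (h3 : ∀ y d, d ∈ mid D.q2 w w' → ∃ x, app g (D.tp y d) = D.tp y d + D.tp x w) :
    ∃ Θ K, D.IsRad w Θ K g := by
  let Θ : (Fin a → F) →ₗ[F] (ι → F) := (app g).comp (D.tpL w') - D.tpL w'
  have hΘ : ∀ y, Θ y = app g (D.tp y w') - D.tp y w' := fun y => rfl
  have hC : ∀ z, D.C w (app g z) = D.C w z := fun z => ext_polar D.good1.nd fun x => by
    rw [polar_C, polar_C]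
    conv_lhs => rw [← h1 x, polar_app]
  have hk : ∀ x, D.C w (Θ x) = 0 := fun x => by rw [hΘ, map_sub, hC, sub_self]
  refine ⟨Θ, (D.adj Θ).comp (D.tpL w'), isRad_of_eqs P hk h1 (fun y => ?_) fun y d hd => ?_⟩
  · rw [LinearMap.comp_apply]
    show _ = _ - D.tp _ w + D.tp (D.adj Θ (D.tp y w')) w
    rw [sub_add_cancel, hΘ, add_sub_cancel]
  · obtain ⟨x, hx⟩ := h3 y d hd
    rw [hx, sub_eq_add_neg, ← D.tp_neg_left]
    congr 2
    refine ext_polar D.good1.nd fun y' => ?_
    have h := polar_app g (D.tp y d) (D.tp y' w')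
    rw [hx, show app g (D.tp y' w') = D.tp y' w' + Θ y' by rw [hΘ, add_sub_cancel], polar_add_left,
      polar_add_right, polar_add_right] at h
    have hxΘ : polar q (D.tp x w) (Θ y') = 0 := by
      rw [polar_comm, ← polar_C, hk, polar_zero_left]
    rw [hxΘ, D.polar_tp x w y' w', P.pair, mul_one, add_zero, add_assoc, add_eq_left, ← polar_adj] at h
    rw [polar_neg_left]
    linear_combination h

end Data

end CfsgLib.TensorOddMinus
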