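import Cfsg.Agent.Lib.TensorEven.FullMain
import Cfsg.Agent.Lib.TensorEven.Chi

/-!
Algebra of two slots: products of reflections of the slots and their images under monomial isometries.
-/

set_option autoImplicit false
set_option linter.unusedSectionVars false

namespace CfsgLib.TensorEven

open Matrix QuadraticMap CfsgLib.Orth CfsgLib.TensorOddMinus
open CfsgLib.TensorOdd (IsFrame blockSign blockSign_app)
open CfsgLib.TensorWreathMax (Idx)

variable {ι : Type} [Fintype ι] [DecidableEq ι] {F : Type*} [Field F] [Fintype F] {k : ℕ}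
variable {q : QuadraticForm F (ι → F)} {q1 : QuadraticForm F (Fin k → F)}

section Slot

theorem three_le (hG : Good q1) : 3 ≤ k := by have := hG.three; rwa [Fintype.card_fin] at this

theorem ne_zero_of_val {v : Fin k → F} (hv : q1 v ≠ 0) : v ≠ 0 := fun h => hv (by rw [h, QuadraticMap.map_zero])

theorem refl_ne_negId (hG : Good q1) {v : Fin k → F} (hv : q1 v ≠ 0) : refl q1 v ≠ 1 ∧ refl q1 v ≠ negId q1 := by
  have h1 := mv_refl hG.nd hG.two hv
  have h2 := mv_negId_mul hG.nd hG.two (refl_mul_self (Q := q1) v)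
  have hk := three_le hG
  rw [h1, Fintype.card_fin] at h2
  refine ⟨fun e => ?_, fun e => ?_⟩
  · rw [e, mv_one] at h1; omega
  · rw [e, mv_negId hG.two, Fintype.card_fin] at h1; omega

theorem pair_ne_negId (hG : Good q1) {a b : Fin k → F} (ha : q1 a ≠ 0) (hb : q1 b ≠ 0) (hab : polar q1 a b = 0) :
    refl q1 a * refl q1 b ≠ 1 ∧ refl q1 a * refl q1 b ≠ negId q1 := by
  have h1 := mv_refl_two hG ha hb hab
  have hk := three_le hG
  refine ⟨fun e => ?_, fun e => ?_⟩
  · rw [e, mv_one] at h1; omega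
  · rw [e, mv_negId hG.two, Fintype.card_fin] at h1; omega

theorem pair_app (hG : Good q1) {a b : Fin k → F} (hab : polar q1 a b = 0) (x : Fin k → F) :
    app (refl q1 a * refl q1 b) x = x - ((q1 a)⁻¹ * polar q1 x a) • a - ((q1 b)⁻¹ * polar q1 x b) • b := by
  rw [app_mul, app_refl, app_refl, polar_sub_left, polar_smul_left, polar_comm (f := ⇑q1) b a, hab, smul_zero,
    sub_zero]
  abel

theorem pair_left (hG : Good q1) {a b : Fin k → F} (ha : q1 a ≠ 0) (hab : polar q1 a b = 0) :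
    app (refl q1 a * refl q1 b) a = -a := by
  rw [app_mul, app_refl_orth hab, app_refl_self hG.two ha]

theorem pair_right (hG : Good q1) {a b : Fin k → F} (hb : q1 b ≠ 0) (hab : polar q1 a b = 0) :
    app (refl q1 a * refl q1 b) b = -b := by
  rw [refl_comm_of_orth hab, pair_left hG hb (by rwa [polar_comm])]

/-- A vector negated by two orthogonal reflections lies in their plane. -/
theorem pair_neg_span (hG : Good q1) {a b v : Fin k → F} (hab : polar q1 a b = 0)
    (h : app (refl q1 a * refl q1 b) v = -v) : ∃ x y : F, v = x • a + y • b := by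
  rw [pair_app hG hab] at h
  refine ⟨((q1 a)⁻¹ * polar q1 v a) / 2, ((q1 b)⁻¹ * polar q1 v b) / 2, smul_right_injective _ hG.two ?_⟩
  show (2 : F) • v = (2 : F) • _
  rw [smul_add, smul_smul, smul_smul, mul_div_cancel₀ _ hG.two, mul_div_cancel₀ _ hG.two]
  linear_combination (norm := module) h

/-- A fixed vector is orthogonal to the plane. -/
theorem pair_fix_orth (hG : Good q1) {a b v : Fin k → F} (ha : q1 a ≠ 0) (hb : q1 b ≠ 0) (hab : polar q1 a b = 0)
    (h : app (refl q1 a * refl q1 b) v = v) : polar q1 a v = 0 ∧ polar q1 b v = 0 :=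
  ⟨orth_of_neg hG.two (pair_left hG ha hab) h, orth_of_neg hG.two (pair_right hG hb hab) h⟩

/-- Two orthogonal reflections split at any vector of their plane. -/
theorem pair_split (hG : Good q1) {a b v : Fin k → F} (ha : q1 a ≠ 0) (hb : q1 b ≠ 0) (hv : q1 v ≠ 0)
    (hab : polar q1 a b = 0) (h : app (refl q1 a * refl q1 b) v = -v) :
    ∃ v', q1 v' ≠ 0 ∧ polar q1 v v' = 0 ∧ IsSquare (q1 v * q1 v' * (q1 a * q1 b)) ∧
      refl q1 a * refl q1 b = refl q1 v * refl q1 v' := by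
  obtain ⟨x, y, rfl⟩ := pair_neg_span hG hab h
  have hqv : q1 (x • a + y • b) = x * x * q1 a + y * y * q1 b := by
    simp only [QuadraticMap.map_add ⇑q1, QuadraticMap.map_smul, polar_smul_left, polar_smul_right, hab, smul_eq_mul]
    ring
  have hqw : q1 ((y * q1 b) • a - (x * q1 a) • b) = q1 a * q1 b * q1 (x • a + y • b) := by
    rw [sub_eq_add_neg, ← neg_smul, hqv]
    simp only [QuadraticMap.map_add ⇑q1, QuadraticMap.map_smul, polar_smul_left, polar_smul_right, hab, smul_eq_mul]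
    ring
  have hba : polar q1 b a = 0 := by rwa [polar_comm]
  have horth : polar q1 (x • a + y • b) ((y * q1 b) • a - (x * q1 a) • b) = 0 := by
    simp only [polar_add_left, polar_sub_right, polar_smul_left, polar_smul_right, hab, hba, polar_self', smul_eq_mul]
    ring
  refine ⟨(y * q1 b) • a - (x * q1 a) • b, by rw [hqw]; exact mul_ne_zero (mul_ne_zero ha hb) hv, horth,
    ⟨q1 (x • a + y • b) * (q1 a * q1 b), by rw [hqw]; ring⟩, ext_app fun z => ?_⟩
  rw [pair_app hG hab, pair_app hG horth, hqw]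
  rw [hqv] at hv ⊢
  simp only [polar_add_right, polar_sub_right, polar_smul_right, smul_eq_mul]
  set N := x * x * q1 a + y * y * q1 b with hN
  match_scalars
  · ring
  · field_simp
    rw [hN]
    ring
  · field_simp
    rw [hN]
    ring

theorem pair_comm_cases (hG : Good q1) {a b v : Fin k → F} (ha : q1 a ≠ 0) (hb : q1 b ≠ 0) (hv : q1 v ≠ 0)
    (hab : polar q1 a b = 0) (h : Commute (refl q1 a * refl q1 b) (refl q1 v)) :
    app (refl q1 a * refl q1 b) v = v ∨ app (refl q1 a * refl q1 b) v = -v := by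
  set R := refl q1 a * refl q1 b
  have e : refl q1 (app R v) = refl q1 v := by rw [← refl_conj, h.eq, mul_inv_cancel_right]
  obtain ⟨c, -, hc⟩ := refl_inj hG.two (by rwa [Q_app]) hv e
  have h2 : c * c = 1 := by
    have e2 := Q_app R v
    rw [hc, QuadraticMap.map_smul, smul_eq_mul] at e2
    exact mul_right_cancel₀ hv (e2.trans (one_mul _).symm)
  rcases mul_self_eq_one_iff.1 h2 with rfl | rfl
  · exact Or.inl (by rw [hc, one_smul])
  · exact Or.inr (by rw [hc, neg_one_smul])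

/-- Equal planes have equal classes of discriminants. -/
theorem pair_square (hG : Good q1) {a b v w : Fin k → F} (ha : q1 a ≠ 0) (hb : q1 b ≠ 0) (hv : q1 v ≠ 0)
    (hw : q1 w ≠ 0) (hab : polar q1 a b = 0) (hvw : polar q1 v w = 0)
    (h : refl q1 v * refl q1 w = refl q1 a * refl q1 b) : IsSquare (q1 v * q1 w * (q1 a * q1 b)) := by
  obtain ⟨w', hw', -, ⟨r, hr⟩, e⟩ := pair_split hG ha hb hv hab (by rw [← h]; exact pair_left hG hv hvw)
  obtain ⟨c, -, rfl⟩ := refl_inj hG.two hw hw' (mul_left_cancel (h.trans e))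
  refine ⟨c * r, ?_⟩
  rw [QuadraticMap.map_smul, smul_eq_mul]
  linear_combination (c * c) * hr

/-- A plane equal to the complement of another occurs only in dimension four, with a non-square product of
discriminants. -/
theorem pair_disc (hG : Good q1) (hk : 4 ≤ k) {a b v w : Fin k → F} (ha : q1 a ≠ 0) (hb : q1 b ≠ 0)
    (hv : q1 v ≠ 0) (hw : q1 w ≠ 0) (hab : polar q1 a b = 0) (hvw : polar q1 v w = 0)
    (h : refl q1 v * refl q1 w = negId q1 * (refl q1 a * refl q1 b)) :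
    k = 4 ∧ ¬ IsSquare (q1 v * q1 w * (q1 a * q1 b)) := by
  have h1 := mv_negId_mul hG.nd hG.two (invol_mul (refl_mul_self (Q := q1) a) (refl_mul_self b)
    (refl_comm_of_orth (by rwa [polar_comm])))
  rw [← h, mv_refl_two hG ha hb hab, mv_refl_two hG hv hw hvw, Fintype.card_fin] at h1
  obtain rfl : k = 4 := h1.symm
  refine ⟨rfl, ?_⟩
  have hfix : ∀ z, app (refl q1 v * refl q1 w) z = -z → app (refl q1 a * refl q1 b) z = z := fun z hz => by
    rw [h, app_mul, app_negId, neg_inj] at hz; exact hz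
  obtain ⟨hav, hbv⟩ := pair_fix_orth hG ha hb hab (hfix v (pair_left hG hv hvw))
  obtain ⟨haw, hbw⟩ := pair_fix_orth hG ha hb hab (hfix w (pair_right hG hw hvw))
  have hfr : IsFrame q1 ![v, w, a, b] := by
    refine ⟨rfl, fun i j hij => ?_, fun i => ?_, hG.two⟩
    · have hc : ∀ {x y : Fin 4 → F}, polar q1 x y = 0 → polar q1 y x = 0 := fun e => by rwa [polar_comm]
      fin_cases i <;> fin_cases j <;> first
        | exact absurd rfl hij | exact hvw | exact hc hvw | exact hab | exact hc hab | exact hav | exact hc hav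
        | exact hbv | exact hc hbv | exact haw | exact hc haw | exact hbw | exact hc hbw
    · fin_cases i <;> assumption
  have hd := disc_not_square hG rfl hfr
  simpa [Fin.prod_univ_four, mul_assoc] using hd

/-- An orthogonal pair extends. -/
theorem exists_third (hG : Good q1) {a b : Fin k → F} (ha : q1 a ≠ 0) (hb : q1 b ≠ 0) (hab : polar q1 a b = 0) :
    ∃ c, q1 c ≠ 0 ∧ polar q1 a c = 0 ∧ polar q1 b c = 0 := by
  obtain ⟨u, i, j, hij, hu, rfl, rfl⟩ := exists_frame_pair hG ha hb hab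
  have hk := three_le hG
  obtain ⟨l, -, hl⟩ := Finset.exists_mem_notMem_of_card_lt_card
    (lt_of_le_of_lt (Finset.card_le_two (a := i) (b := j))
      (show 2 < (Finset.univ : Finset (Fin k)).card by simp; omega))
  simp only [Finset.mem_insert, Finset.mem_singleton, not_or] at hl
  exact ⟨u l, hu.nz l, hu.orth _ _ (Ne.symm hl.1), hu.orth _ _ (Ne.symm hl.2)⟩

end Slot

namespace Power

/-- Two orthogonal reflections in a slot. -/
noncomputable abbrev blk (P : Power q q1 2) (hG : Good q1) (i : Fin 2) (a b : Fin k → F) : O q :=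
  P.S hG le_rfl i (refl q1 a * refl q1 b)

/-- Two reflections in the two slots. -/
noncomputable abbrev dd (P : Power q q1 2) (hG : Good q1) (a b : Fin k → F) : O q :=
  P.sg hG le_rfl 0 a * P.sg hG le_rfl 1 b

variable {P : Power q q1 2} {hG : Good q1}

theorem blk_eq (i : Fin 2) (a b : Fin k → F) : blk P hG i a b = P.sg hG le_rfl i a * P.sg hG le_rfl i b :=
  map_mul _ _ _

/-- Elements of different slots agree only if scalar. -/
theorem S_cross {i j : Fin 2} (hij : i ≠ j) {A B : O q1} (h : P.S hG le_rfl i A = P.S hG le_rfl j B) :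
    (A = 1 ∧ B = 1) ∨ (A = negId q1 ∧ B = negId q1) := by
  obtain ⟨z, hz⟩ := exists_anisotropic hG.nd (le_trans (by norm_num) hG.three)
  have hl : ∀ x, x ≠ 0 → ∃ d : F, app A x = d • x := fun x hx => by
    have hne : ∀ l, Function.update (fun _ => z) i x l ≠ 0 := fun l => by
      rcases eq_or_ne l i with rfl | hl
      · rwa [Function.update_self]
      · rw [Function.update_of_ne hl]; exact ne_zero_of_val hz
    have hne' : ∀ l, Function.update (Function.update (fun _ => z) i x) i (app A x) l ≠ 0 := fun l => by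
      rcases eq_or_ne l i with rfl | hl
      · rw [Function.update_self]
        exact fun h0 => hx (by simpa [app_inv_app] using congrArg (app A⁻¹) h0)
      · rw [Function.update_of_ne hl, Function.update_of_ne hl]; exact ne_zero_of_val hz
    have e := congrArg (fun g => app g (P.tp (Function.update (fun _ => z) i x))) h
    simp only [S_tp, Function.update_self] at e
    obtain ⟨d, -, hd⟩ := P.tp_eq hne' e i
    rw [Function.update_self, Function.update_of_ne hij, Function.update_self] at hd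
    have h0 : d ≠ 0 := fun h0 => hx (by rw [hd, h0, zero_smul])
    refine ⟨d⁻¹, ?_⟩
    conv_rhs => rw [hd]
    rw [inv_smul_smul₀ h0]
  obtain ⟨c, hc⟩ := scalar_of_lines hG (app A) fun x _ hx => hl x hx
  have h2 : c * c = 1 := by
    have e := Q_app A z
    rw [hc, QuadraticMap.map_smul, smul_eq_mul] at e
    exact mul_right_cancel₀ hz (e.trans (one_mul _).symm)
  rcases mul_self_eq_one_iff.1 h2 with rfl | rfl
  · have hA : A = 1 := ext_app fun x => by rw [hc, one_smul, app_one]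
    subst hA
    exact Or.inl ⟨rfl, P.S_inj hG le_rfl j (by rw [← h, map_one, map_one])⟩
  · have hA : A = negId q1 := ext_app fun x => by rw [hc, neg_one_smul, app_negId]
    subst hA
    exact Or.inr ⟨rfl, P.S_inj hG le_rfl j (by rw [← h, S_negId, S_negId])⟩

/-- Equal products of elements of the two slots. -/
theorem two_eq {A B A' B' : O q1}
    (h : P.S hG le_rfl 0 A * P.S hG le_rfl 1 B = P.S hG le_rfl 0 A' * P.S hG le_rfl 1 B') :
    (A = A' ∧ B = B') ∨ (A = negId q1 * A' ∧ B = negId q1 * B') := by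
  have e : P.S hG le_rfl 0 (A'⁻¹ * A) = P.S hG le_rfl 1 (B' * B⁻¹) := by
    rw [map_mul, map_inv, map_mul, map_inv, inv_mul_eq_iff_eq_mul, ← mul_assoc, eq_mul_inv_iff_mul_eq]
    exact h
  rcases S_cross (by decide) e with ⟨h1, h2⟩ | ⟨h1, h2⟩
  · exact Or.inl ⟨(inv_mul_eq_one.1 h1).symm, (mul_inv_eq_one.1 h2).symm⟩
  · refine Or.inr ⟨by rw [negId_comm', ← h1, mul_inv_cancel_left], ?_⟩
    have : negId q1 * negId q1 = 1 := ext_app fun x => by rw [app_mul, app_negId, app_negId, neg_neg, app_one]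
    have e2 : B' = negId q1 * B := by rw [← h2, inv_mul_cancel_right]
    rw [e2, ← mul_assoc, this, one_mul]

theorem sg_ne {i j : Fin 2} (hij : i ≠ j) {v w : Fin k → F} (hv : q1 v ≠ 0) :
    P.sg hG le_rfl i v ≠ P.sg hG le_rfl j w := fun h => by
  rcases S_cross hij h with h | h
  · exact (refl_ne_negId hG hv).1 h.1
  · exact (refl_ne_negId hG hv).2 h.1

theorem blk_ne {i j : Fin 2} (hij : i ≠ j) {a b : Fin k → F} (ha : q1 a ≠ 0) (hb : q1 b ≠ 0)
    (hab : polar q1 a b = 0) (B : O q1) : blk P hG i a b ≠ P.S hG le_rfl j B := fun h => by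
  rcases S_cross hij h with h | h
  · exact (pair_ne_negId hG ha hb hab).1 h.1
  · exact (pair_ne_negId hG ha hb hab).2 h.1

/-- A product over both slots with non-scalar parts is no element of one slot. -/
theorem mixed_ne {A B : O q1} (hA : A ≠ 1 ∧ A ≠ negId q1) (hB : B ≠ 1 ∧ B ≠ negId q1) (i : Fin 2) (C : O q1) :
    P.S hG le_rfl 0 A * P.S hG le_rfl 1 B ≠ P.S hG le_rfl i C := fun h => by
  fin_cases i
  · have e : P.S hG le_rfl 0 A * P.S hG le_rfl 1 B = P.S hG le_rfl 0 C * P.S hG le_rfl 1 1 := by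
      rw [h, map_one, mul_one]; rfl
    rcases two_eq e with h | h
    · exact hB.1 h.2
    · exact hB.2 (by rw [h.2, mul_one])
  · have e : P.S hG le_rfl 0 A * P.S hG le_rfl 1 B = P.S hG le_rfl 0 1 * P.S hG le_rfl 1 C := by
      rw [h, map_one, one_mul]; rfl
    rcases two_eq e with h | h
    · exact hA.1 h.1
    · exact hA.2 (by rw [h.1, mul_one])

theorem dd_eq {a b a' b' : Fin k → F} (ha : q1 a ≠ 0) (ha' : q1 a' ≠ 0) (h : dd P hG a b = dd P hG a' b') :
    refl q1 a = refl q1 a' ∧ refl q1 b = refl q1 b' := by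
  rcases two_eq h with h | ⟨h, -⟩
  · exact h
  · exfalso
    have h1 := mv_negId_mul hG.nd hG.two (refl_mul_self (Q := q1) a')
    rw [← h, mv_refl hG.nd hG.two ha, mv_refl hG.nd hG.two ha', Fintype.card_fin] at h1
    have := three_le hG
    omega

/-- A monomial isometry permutes the reflections of the slots by similitudes. -/
theorem mon_act {M : O q} (hM : M ∈ P.Mon) : ∃ (τ : Equiv.Perm (Fin 2))
    (φ : Fin 2 → (Fin k → F) ≃ₗ[F] (Fin k → F)) (c : Fin 2 → F), (∀ i, IsSim q1 (φ i) (c i)) ∧ c 0 * c 1 = 1 ∧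
      ∀ i v, M * P.sg hG le_rfl i v * M⁻¹ = P.sg hG le_rfl (τ i) (φ i v) := by
  obtain ⟨σ, A, hA⟩ := hM
  obtain ⟨c, hc, hc1⟩ := hA.sim hG
  refine ⟨σ.symm, fun i => A (σ.symm i), fun i => c (σ.symm i), fun i => hc _, ?_, fun i v => ?_⟩
  · rw [← hc1, ← Equiv.prod_comp σ.symm c, Fin.prod_univ_two]
  · obtain ⟨B, hB, e⟩ := hA.conj_S hG le_rfl (σ.symm i) (refl q1 v)
    rw [Equiv.apply_symm_apply] at e
    have hci : c (σ.symm i) ≠ 0 := fun h0 => by
      rw [Finset.prod_eq_zero (Finset.mem_univ _) h0] at hc1; exact zero_ne_one hc1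
    show M * P.S hG le_rfl i (refl q1 v) * M⁻¹ = _
    rw [e]
    exact congrArg _ (ext_app fun x => by rw [hB, (hc _).refl_conj hci hG.two])

theorem act_ne {c : Fin 2 → F} (h : c 0 * c 1 = 1) (i : Fin 2) : c i ≠ 0 := by
  intro h0
  refine one_ne_zero (α := F) ?_
  rw [← h]
  fin_cases i <;> simp_all

theorem sim_val {φ : (Fin k → F) ≃ₗ[F] (Fin k → F)} {c : F} (hG : Good q1) (h : IsSim q1 φ c) (v : Fin k → F) :
    q1 (φ v) = c * q1 v :=
  mul_left_cancel₀ hG.two (by rw [← polar_self', h, polar_self']; ring)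

theorem act_sg {M : O q} (hM : M ∈ P.Mon) (i : Fin 2) {v : Fin k → F} (hv : q1 v ≠ 0) :
    ∃ (j : Fin 2) (w : Fin k → F), q1 w ≠ 0 ∧ M * P.sg hG le_rfl i v * M⁻¹ = P.sg hG le_rfl j w := by
  obtain ⟨τ, φ, c, hc, hc1, hφ⟩ := mon_act (hG := hG) hM
  exact ⟨τ i, φ i v, by rw [sim_val hG (hc i)]; exact mul_ne_zero (act_ne hc1 i) hv, hφ i v⟩

theorem act_blk {M : O q} (hM : M ∈ P.Mon) (i : Fin 2) {a b : Fin k → F} (ha : q1 a ≠ 0) (hb : q1 b ≠ 0)
    (hab : polar q1 a b = 0) : ∃ (j : Fin 2) (a' b' : Fin k → F), q1 a' ≠ 0 ∧ q1 b' ≠ 0 ∧ polar q1 a' b' = 0 ∧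
      M * blk P hG i a b * M⁻¹ = blk P hG j a' b' := by
  obtain ⟨τ, φ, c, hc, hc1, hφ⟩ := mon_act (hG := hG) hM
  refine ⟨τ i, φ i a, φ i b, by rw [sim_val hG (hc i)]; exact mul_ne_zero (act_ne hc1 i) ha,
    by rw [sim_val hG (hc i)]; exact mul_ne_zero (act_ne hc1 i) hb, by rw [hc i, hab, mul_zero], ?_⟩
  rw [blk_eq, blk_eq, ← hφ, ← hφ]
  group

/-- Images of orthogonal vectors of one slot. -/
theorem act_orth {M : O q} (hM : M ∈ P.Mon) {i j : Fin 2} {v w v' : Fin k → F} (hv : q1 v ≠ 0) (hw : q1 w ≠ 0)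
    (h : M * P.sg hG le_rfl i v * M⁻¹ = P.sg hG le_rfl j w) (hv' : q1 v' ≠ 0) (hvv : polar q1 v v' = 0) :
    ∃ w', q1 w' ≠ 0 ∧ polar q1 w w' = 0 ∧ M * P.sg hG le_rfl i v' * M⁻¹ = P.sg hG le_rfl j w' := by
  obtain ⟨τ, φ, c, hc, hc1, hφ⟩ := mon_act (hG := hG) hM
  rw [hφ] at h
  have hj : τ i = j := by
    by_contra hne
    exact sg_ne hne (by rw [sim_val hG (hc i)]; exact mul_ne_zero (act_ne hc1 i) hv) h
  subst hj
  refine ⟨φ i v', by rw [sim_val hG (hc i)]; exact mul_ne_zero (act_ne hc1 i) hv', ?_, hφ i v'⟩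
  obtain ⟨d, hd, e⟩ := refl_inj hG.two hw (by rw [sim_val hG (hc i)]; exact mul_ne_zero (act_ne hc1 i) hv)
    (P.S_inj hG le_rfl _ h.symm)
  rw [e, polar_smul_left, hc i, hvv, mul_zero, smul_zero]

/-- The class of the values of a vector. -/
theorem act_class {M : O q} (hM : M ∈ P.Mon) {i j : Fin 2} {v w v' w' : Fin k → F} (hv : q1 v ≠ 0) (hw : q1 w ≠ 0)
    (hw' : q1 w' ≠ 0) (hv' : q1 v' ≠ 0) (h : M * P.sg hG le_rfl i v * M⁻¹ = P.sg hG le_rfl j w)
    (h' : M * P.sg hG le_rfl i v' * M⁻¹ = P.sg hG le_rfl j w') :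
    IsSquare (q1 v * q1 w * (q1 v' * q1 w')) := by
  obtain ⟨τ, φ, c, hc, hc1, hφ⟩ := mon_act (hG := hG) hM
  have hne : ∀ x, q1 x ≠ 0 → q1 (φ i x) ≠ 0 := fun x hx => by
    rw [sim_val hG (hc i)]; exact mul_ne_zero (act_ne hc1 i) hx
  rw [hφ] at h h'
  have hj : τ i = j := by_contra fun hne' => sg_ne hne' (hne v hv) h
  subst hj
  obtain ⟨d, hd, e⟩ := refl_inj hG.two hw (hne v hv) (P.S_inj hG le_rfl _ h.symm)
  obtain ⟨d', hd', e'⟩ := refl_inj hG.two hw' (hne v' hv') (P.S_inj hG le_rfl _ h'.symm)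
  refine ⟨d * d' * c i * q1 v * q1 v', ?_⟩
  rw [e, e', QuadraticMap.map_smul, QuadraticMap.map_smul, sim_val hG (hc i), sim_val hG (hc i), smul_eq_mul,
    smul_eq_mul]
  ring

theorem act_dd {M : O q} (hM : M ∈ P.Mon) {a b : Fin k → F} (ha : q1 a ≠ 0) (hb : q1 b ≠ 0) :
    ∃ a' b' : Fin k → F, q1 a' ≠ 0 ∧ q1 b' ≠ 0 ∧ IsSquare (q1 a * q1 b * (q1 a' * q1 b')) ∧
      M * dd P hG a b * M⁻¹ = dd P hG a' b' ∧
      ((M * P.sg hG le_rfl 0 a * M⁻¹ = P.sg hG le_rfl 0 a' ∧ M * P.sg hG le_rfl 1 b * M⁻¹ = P.sg hG le_rfl 1 b') ∨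
        (M * P.sg hG le_rfl 0 a * M⁻¹ = P.sg hG le_rfl 1 b' ∧
          M * P.sg hG le_rfl 1 b * M⁻¹ = P.sg hG le_rfl 0 a')) := by
  obtain ⟨τ, φ, c, hc, hc1, hφ⟩ := mon_act (hG := hG) hM
  have hne : ∀ i x, q1 x ≠ 0 → q1 (φ i x) ≠ 0 := fun i x hx => by
    rw [sim_val hG (hc i)]; exact mul_ne_zero (act_ne hc1 i) hx
  have hsq : IsSquare (q1 a * q1 b * (q1 (φ 0 a) * q1 (φ 1 b))) := ⟨q1 a * q1 b, by
    rw [sim_val hG (hc 0), sim_val hG (hc 1)]
    linear_combination (q1 a * q1 b * q1 a * q1 b) * hc1⟩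
  have hcomm : Commute (P.sg hG le_rfl 1 (φ 0 a)) (P.sg hG le_rfl 0 (φ 1 b)) := P.S_comm hG le_rfl 1 (by decide) _ _
  have hd : M * dd P hG a b * M⁻¹ = P.sg hG le_rfl (τ 0) (φ 0 a) * P.sg hG le_rfl (τ 1) (φ 1 b) := by
    rw [← hφ, ← hφ]; group
  have hτ : τ = 1 ∨ τ = Equiv.swap 0 1 := by clear hφ hd; revert τ; decide
  rcases hτ with rfl | rfl
  · exact ⟨_, _, hne 0 a ha, hne 1 b hb, hsq, hd, Or.inl ⟨hφ 0 a, hφ 1 b⟩⟩
  · simp only [Equiv.swap_apply_left, Equiv.swap_apply_right] at hd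
    refine ⟨_, _, hne 1 b hb, hne 0 a ha, by rw [mul_comm (q1 (φ 1 b))]; exact hsq, hd.trans hcomm.eq,
      Or.inr ⟨?_, ?_⟩⟩
    · simpa using hφ 0 a
    · simpa using hφ 1 b

/-- The monomial isometries commuting with a product of two slot reflections. -/
theorem dd_fix {M : O q} (hM : M ∈ P.Mon) {a b : Fin k → F} (ha : q1 a ≠ 0) (hb : q1 b ≠ 0)
    (h : Commute M (dd P hG a b)) :
    (M * P.sg hG le_rfl 0 a * M⁻¹ = P.sg hG le_rfl 0 a ∧ M * P.sg hG le_rfl 1 b * M⁻¹ = P.sg hG le_rfl 1 b) ∨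
      (M * P.sg hG le_rfl 0 a * M⁻¹ = P.sg hG le_rfl 1 b ∧
        M * P.sg hG le_rfl 1 b * M⁻¹ = P.sg hG le_rfl 0 a) := by
  obtain ⟨a', b', ha', -, -, e, hcases⟩ := act_dd (hG := hG) hM ha hb
  rw [h.eq, mul_inv_cancel_right] at e
  obtain ⟨e1, e2⟩ := dd_eq ha ha' e
  simpa only [sg, ← e1, ← e2] using hcases

/-- A monomial isometry fixing the slots and commuting with two slot reflections fixes each. -/
theorem comm_of_dd {M : O q} {A : Fin 2 → (Fin k → F) ≃ₗ[F] (Fin k → F)} (hA : P.IsMonW M 1 A) {a b : Fin k → F}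
    (ha : q1 a ≠ 0) (hb : q1 b ≠ 0) (h : Commute M (dd P hG a b)) :
    Commute M (P.sg hG le_rfl 0 a) ∧ Commute M (P.sg hG le_rfl 1 b) := by
  rcases dd_fix ⟨_, _, hA⟩ ha hb h with ⟨h1, h2⟩ | ⟨h1, -⟩
  · exact ⟨mul_inv_eq_iff_eq_mul.1 h1, mul_inv_eq_iff_eq_mul.1 h2⟩
  · exfalso
    obtain ⟨B, -, e⟩ := hA.conj_S hG le_rfl 0 (refl q1 a)
    rw [show M * P.sg hG le_rfl 0 a * M⁻¹ = P.S hG le_rfl 0 B from e] at h1
    rcases S_cross (by decide) h1 with h | h
    · exact (refl_ne_negId hG hb).1 h.2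
    · exact (refl_ne_negId hG hb).2 h.2

/-- Commuting products of slot reflections commute slot by slot. -/
theorem dd_comm {a b a' b' : Fin k → F} (ha : q1 a ≠ 0) (hb : q1 b ≠ 0)
    (h : Commute (dd P hG a' b') (dd P hG a b)) :
    Commute (refl q1 a') (refl q1 a) ∧ Commute (refl q1 b') (refl q1 b) := by
  have hA := (P.S_isMonW hG le_rfl 0 (refl q1 a')).mul (P.S_isMonW hG le_rfl 1 (refl q1 b'))
  rw [one_mul] at hA
  obtain ⟨h0, h1⟩ := comm_of_dd hA ha hb h
  have c0 : Commute (P.sg hG le_rfl 1 b') (P.sg hG le_rfl 0 a) := P.S_comm hG le_rfl 1 (by decide) _ _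
  have c1 : Commute (P.sg hG le_rfl 0 a') (P.sg hG le_rfl 1 b) := P.S_comm hG le_rfl 0 (by decide) _ _
  have e0 : Commute (P.sg hG le_rfl 0 a') (P.sg hG le_rfl 0 a) := by
    have := h0.mul_left c0
    rwa [mul_assoc, sg_sq, mul_one] at this
  have e1 : Commute (P.sg hG le_rfl 1 b') (P.sg hG le_rfl 1 b) := by
    have := c1.mul_left h1
    rwa [← mul_assoc, sg_sq, one_mul] at this
  exact ⟨P.S_inj hG le_rfl 0 (by rw [map_mul, map_mul]; exact e0.eq),
    P.S_inj hG le_rfl 1 (by rw [map_mul, map_mul]; exact e1.eq)⟩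

end Power

end CfsgLib.TensorEven
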