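import Cfsg.Agent.Lib.TensorEven.WeakBase
import Cfsg.Agent.Lib.TensorEven.SliceFix

/-!
Two slots without single reflections: centralisers of single reflections and of planes in large dimension,
and monomial involutions which commute with a reflection of a slot.
-/

set_option autoImplicit false
set_option linter.unusedSectionVars false

namespace CfsgLib.TensorEven

open Matrix QuadraticMap CfsgLib.Orth CfsgLib.TensorOddMinus
open CfsgLib.TensorOdd (IsFrame blockSign blockSign_app blockSign_union blockSign_single)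
open CfsgLib.TensorWreathMax (Idx)

variable {ι : Type} [Fintype ι] [DecidableEq ι] {F : Type*} [Field F] [Fintype F] {k : ℕ}
variable {q : QuadraticForm F (ι → F)} {q1 : QuadraticForm F (Fin k → F)}

/-- An involution with a large eigenspace commutes with a root element. -/
theorem exists_root_comm (hG : Good q1) (hk : 4 ≤ k) {C : O q1} (hC : C * C = 1) (h : ¬ (k = 4 ∧ mv C = 2)) :
    ∃ u c, Power.RootVec q1 u c ∧ Commute (eich q1 u c) C := by
  have hn := mv_negId_mul hG.nd hG.two hC
  rw [Fintype.card_fin] at hn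
  have hN := negId_mul_invol hC
  rcases (show mv C + 3 ≤ k ∨ mv (negId q1 * C) + 3 ≤ k by omega) with h3 | h3
  · obtain ⟨u, c, hr, hu, hc⟩ := exists_root_fixed hG hC h3
    refine ⟨u, c, hr, ?_⟩
    have e := (supp_eich hG hC hr hu hc).commute hG.nd hG.two hN
    have e2 : Commute (eich q1 u c) (negId q1 * C) := e
    have e3 : Commute (eich q1 u c) (negId q1) := (negId_comm' _).symm
    have := e3.mul_right e2
    rwa [negId_negId_mul] at this
  · obtain ⟨u, c, hr, hu, hc⟩ := exists_root_fixed hG hN h3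
    refine ⟨u, c, hr, ?_⟩
    have e := supp_eich hG hN hr hu hc
    rw [negId_negId_mul] at e
    exact e.commute hG.nd hG.two hC

/-- An involution moving a plane is the product of two orthogonal reflections. -/
theorem exists_pair (hG : Good q1) {C : O q1} (hC : C * C = 1) (h : mv C = 2) :
    ∃ a b, q1 a ≠ 0 ∧ q1 b ≠ 0 ∧ polar q1 a b = 0 ∧ C = refl q1 a * refl q1 b := by
  classical
  obtain ⟨v, S, hv, rfl⟩ := exists_sign_frame hG.nd hG.two hC
  rw [mv_blockSign hv] at h
  obtain ⟨a, b, hab, rfl⟩ := Finset.card_eq_two.1 h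
  refine ⟨v a, v b, hv.nz a, hv.nz b, hv.orth a b hab, ?_⟩
  rw [show ({a, b} : Finset (Fin k)) = {a} ∪ {b} from (Finset.insert_eq a {b}),
    blockSign_union hv (by simpa using hab), blockSign_single, blockSign_single]

namespace Power

variable {P : Power q q1 2} {hG : Good q1} {G : Subgroup (O q)}

/-- The centralisers of planes of the slots are monomial. -/
def CentBlk (P : Power q q1 2) (hG : Good q1) (G : Subgroup (O q)) : Prop :=
  ∀ (i : Fin 2) (a b : Fin k → F), q1 a ≠ 0 → q1 b ≠ 0 → polar q1 a b = 0 → P.CentMon G (blk P hG i a b)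

theorem blk_sq (i : Fin 2) {a b : Fin k → F} (hab : polar q1 a b = 0) : blk P hG i a b * blk P hG i a b = 1 := by
  rw [← map_mul, invol_mul (refl_mul_self a) (refl_mul_self b) (refl_comm_of_orth (by rwa [polar_comm])), map_one]

theorem dd_sq (a b : Fin k → F) : dd P hG a b * dd P hG a b = 1 :=
  invol_mul (sg_sq 0 a) (sg_sq 1 b) (P.S_comm hG le_rfl 1 (by decide) _ _)

theorem Weak.blk_mem (h : P.Weak hG G) (i : Fin 2) {a b : Fin k → F} (ha : q1 a ≠ 0) (hb : q1 b ≠ 0) :
    blk P hG i a b ∈ G := h.base.det_mem i _ (detHom_pair hG ha hb)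

theorem Weak.dd_mem (h : P.Weak hG G) {a b : Fin k → F} (ha : q1 a ≠ 0) (hb : q1 b ≠ 0) :
    dd P hG a b ∈ G := h.pair_mem 0 1 a b (by decide) ha hb

theorem mv_blk (i : Fin 2) {a b : Fin k → F} (ha : q1 a ≠ 0) (hb : q1 b ≠ 0) (hab : polar q1 a b = 0) :
    mv (blk P hG i a b) = 2 * k := by
  rw [mv_S P hG le_rfl i (invol_mul (refl_mul_self a) (refl_mul_self b) (refl_comm_of_orth (by rwa [polar_comm]))),
    mv_refl_two hG ha hb hab, pow_one]

theorem mv_dd {a b : Fin k → F} (ha : q1 a ≠ 0) (hb : q1 b ≠ 0) : mv (dd P hG a b) + 2 = 2 * k := by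
  have e := mv_one_one (P := P) (hG := hG) (ht := le_rfl) (show (0 : Fin 2) ≠ 1 by decide) ha hb
  simp only [pow_succ, pow_zero, one_mul, Nat.sub_self, mul_one] at e
  have e2 : 2 * (mv (dd P hG a b) : ℤ) + 4 = 4 * k := by linear_combination -e
  omega

/-- The centraliser of a single reflection is monomial. -/
theorem Weak.cent_sg (h : P.Weak hG G) (hk : 4 ≤ k) (hke : Even k) (i : Fin 2) {v : Fin k → F} (hv : q1 v ≠ 0) :
    P.CentMon G (P.sg hG le_rfl i v) := fun _ hg hc =>
  Full.mon hG hk hke 0 P (h.split_full hk i hv) (h.mem_split i hg hc.eq.symm)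

/-- The centraliser of a plane is monomial when its complement is not a plane. -/
theorem Weak.cent_blk_big (h : P.Weak hG G) (hk : 5 ≤ k) (hke : Even k) : CentBlk P hG G := by
  intro i a b ha hb hab g hg hgc
  set R := refl q1 a * refl q1 b with hR
  have hR2 : R * R = 1 := invol_mul (refl_mul_self a) (refl_mul_self b) (refl_comm_of_orth (by rwa [polar_comm]))
  obtain ⟨u, c, hr, hu, hc⟩ := exists_root_fixed hG hR2 (by rw [mv_refl_two hG ha hb hab]; omega)
  have e1 : Supp (negId q * P.S hG le_rfl i R) (P.S hG le_rfl i (eich q1 u c)) := by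
    rw [S_negId_mul]
    exact supp_S P hG le_rfl i (negId_mul_invol hR2) (supp_eich hG hR2 hr hu hc)
  have hgn : g * (negId q * P.S hG le_rfl i R) = (negId q * P.S hG le_rfl i R) * g :=
    ((show Commute g (negId q) from (negId_comm' g).symm).mul_right hgc).eq
  have hz : P.S hG le_rfl i R * P.S hG le_rfl i R = 1 := by rw [← map_mul, hR2, map_one]
  have e2 : Supp (P.S hG le_rfl i R) (P.sg hG le_rfl i a) :=
    supp_S P hG le_rfl i hR2 (supp_refl hG.two (pair_left hG ha hab))
  refine h.uni (by omega) g hg i u c hr (h.cent_sg (by omega) hke i ha _ ?_ ?_)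
  · exact G.mul_mem (G.mul_mem hg (h.base.root_mem i hr)) (G.inv_mem hg)
  · exact (Supp.commute_compl (P.nd hG) hG.two hz e2 (e1.conj hgn)).symm

/-- Squares of commuting products. -/
theorem mul_mul_mul_comm_of {M : Type*} [Monoid M] {a b : M} (h : Commute b a) : a * b * (a * b) = a * a * (b * b) := by
  rw [mul_assoc, ← mul_assoc b, h.eq, mul_assoc a b, ← mul_assoc]

/-- A monomial involution fixing the slots and commuting with a single reflection splits. -/
theorem invol_form {y : O q} {A : Fin 2 → (Fin k → F) ≃ₗ[F] (Fin k → F)} (hA : P.IsMonW y 1 A) (h2 : y * y = 1)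
    {i : Fin 2} {v : Fin k → F} (hv : q1 v ≠ 0) (hc : Commute y (P.sg hG le_rfl i v)) :
    ∃ C D : O q1, C * C = 1 ∧ D * D = 1 ∧ y = P.S hG le_rfl 0 C * P.S hG le_rfl 1 D := by
  obtain ⟨c, hs, hc1⟩ := hA.sim hG
  rw [Fin.prod_univ_two] at hc1
  have hc0 := act_ne hc1
  obtain ⟨B, hB, e⟩ := hA.conj_S hG le_rfl i (refl q1 v)
  rw [Equiv.Perm.one_apply, show y * P.S hG le_rfl i (refl q1 v) * y⁻¹ = P.S hG le_rfl i (refl q1 v) by
    rw [hc.eq, mul_inv_cancel_right]] at e
  have eB : refl q1 (A i v) = refl q1 v := by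
    rw [P.S_inj hG le_rfl i e]
    exact ext_app fun x => by rw [hB, (hs i).refl_conj (hc0 i) hG.two]
  obtain ⟨ν, hν, hνv⟩ := refl_inj hG.two (by rw [sim_val hG (hs i)]; exact mul_ne_zero (hc0 i) hv) hv eB
  have hci : c i = ν * ν := by
    have e2 := sim_val hG (hs i) v
    rw [hνv, QuadraticMap.map_smul, smul_eq_mul] at e2
    exact (mul_right_cancel₀ hv e2).symm
  obtain ⟨j, hij⟩ : ∃ j : Fin 2, j ≠ i := exists_ne i
  have hcj : c j * (ν * ν) = 1 := by
    rw [← hci]
    fin_cases i <;> fin_cases j <;> first | exact absurd rfl hij | (rw [mul_comm]; exact hc1) | exact hc1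
  have iso : ∀ (m : Fin 2) (ν : F), ν ≠ 0 → c m * (ν * ν) = 1 → ∃ C : O q1, ∀ x, app C x = ν • A m x := by
    intro m ν hν hm
    refine ⟨mkO (ν • (A m).toLinearMap) (ν⁻¹ • (A m).symm.toLinearMap) (LinearMap.ext fun x => ?_)
      (LinearMap.ext fun x => ?_) fun x => ?_, fun x => by rw [app_mkO]; rfl⟩
    · simp [smul_smul, mul_inv_cancel₀ hν, inv_mul_cancel₀ hν]
    · simp [smul_smul, mul_inv_cancel₀ hν, inv_mul_cancel₀ hν]
    · rw [LinearMap.smul_apply, QuadraticMap.map_smul, LinearEquiv.coe_coe, sim_val hG (hs m), smul_eq_mul]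
      linear_combination q1 x * hm
  obtain ⟨C, hC⟩ := iso i ν⁻¹ (inv_ne_zero hν) (by rw [hci]; field_simp)
  obtain ⟨D, hD⟩ := iso j ν hν hcj
  have hy : y = P.S hG le_rfl i C * P.S hG le_rfl j D := P.ext_tp_O fun xs => by
    rw [app_mul, S_tp, S_tp, Function.update_of_ne (Ne.symm hij), hC, hD, tp_update_smul,
      Function.update_comm hij, tp_update_smul, smul_smul, inv_mul_cancel₀ hν, one_smul, hA]
    congr 1
    funext l
    rcases eq_or_ne l i with rfl | hli
    · rw [Function.update_of_ne (Ne.symm hij), Function.update_self]; rfl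
    · have : l = j := by fin_cases i <;> fin_cases j <;> fin_cases l <;> simp_all
      subst this
      rw [Function.update_self]; rfl
  have hC2 : C * C = 1 := by
    obtain ⟨μ, -, hμ⟩ := (hA.invol (by have := three_le hG; omega) h2).2 i
    have e3 := hμ v
    simp only [Equiv.Perm.one_apply] at e3
    rw [hνv, map_smul, hνv, smul_smul] at e3
    have hμν : ν * ν = μ := smul_left_injective F (ne_zero_of_val hv) e3
    refine ext_app fun x => ?_
    have e4 := hμ x
    simp only [Equiv.Perm.one_apply] at e4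
    rw [app_mul, app_one, hC, hC, map_smul, e4, smul_smul, smul_smul, ← hμν]
    rw [show ν⁻¹ * ν⁻¹ * (ν * ν) = 1 by field_simp, one_smul]
  have hcm : ∀ X Y : O q1, Commute (P.S hG le_rfl i X) (P.S hG le_rfl j Y) := fun X Y =>
    P.S_comm hG le_rfl i hij.symm X Y
  have hD2 : D * D = 1 := P.S_inj hG le_rfl j (by
    rw [map_one, ← h2, hy, mul_mul_mul_comm_of (hcm C D).symm, ← map_mul, ← map_mul, hC2, map_one, one_mul])
  fin_cases i <;> fin_cases j
  · exact absurd rfl hij
  · exact ⟨C, D, hC2, hD2, hy⟩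
  · exact ⟨D, C, hD2, hC2, hy.trans (hcm C D).eq⟩
  · exact absurd rfl hij

/-- A split involution commutes with a root element of a slot, unless it has four-dimensional eigenspaces in
both slots. -/
theorem form_root (hk : 4 ≤ k) {C D : O q1} (hC : C * C = 1) (hD : D * D = 1) :
    (∃ i u c, RootVec q1 u c ∧
      Commute (P.S hG le_rfl 0 C * P.S hG le_rfl 1 D) (P.S hG le_rfl i (eich q1 u c))) ∨
      (k = 4 ∧ mv C = 2 ∧ mv D = 2) := by
  by_cases h0 : k = 4 ∧ mv C = 2
  · by_cases h1 : k = 4 ∧ mv D = 2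
    · exact Or.inr ⟨h0.1, h0.2, h1.2⟩
    · obtain ⟨u, c, hr, hc⟩ := exists_root_comm hG hk hD h1
      exact Or.inl ⟨1, u, c, hr, (show Commute (P.S hG le_rfl 0 C) _ from P.S_comm hG le_rfl 0 (by decide) _ _).mul_left
        (hc.symm.map (P.S hG le_rfl 1))⟩
  · obtain ⟨u, c, hr, hc⟩ := exists_root_comm hG hk hC h0
    exact Or.inl ⟨0, u, c, hr, (hc.symm.map (P.S hG le_rfl 0)).mul_left (P.S_comm hG le_rfl 1 (by decide) _ _)⟩

end Power

end CfsgLib.TensorEven
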