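import Cfsg.Agent.Lib.TensorEven.WeakTop
import Cfsg.Agent.Lib.TensorEven.PlaneCentFour

/-!
A proper group with the isometries of determinant one of two slots and the pairs of reflections is monomial:
the centralisers of products of planes of both slots, and the top argument.
-/

set_option autoImplicit false
set_option linter.unusedSectionVars false

namespace CfsgLib.TensorEven

open Matrix QuadraticMap CfsgLib.Orth CfsgLib.TensorOddMinus

variable {ι : Type} [Fintype ι] [DecidableEq ι] {F : Type*} [Field F] [Fintype F] {k : ℕ}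
variable {q : QuadraticForm F (ι → F)} {q1 : QuadraticForm F (Fin k → F)}

theorem isSquare_mul_of_not {A B : F} (hA : ¬ IsSquare A) (hB : ¬ IsSquare B) : IsSquare (A * B) := by
  classical
  have hA0 : A ≠ 0 := fun h => hA (h ▸ IsSquare.zero)
  have hB0 : B ≠ 0 := fun h => hB (h ▸ IsSquare.zero)
  rw [← quadraticChar_one_iff_isSquare (mul_ne_zero hA0 hB0), map_mul,
    quadraticChar_neg_one_iff_not_isSquare.2 hA, quadraticChar_neg_one_iff_not_isSquare.2 hB]
  norm_num

namespace Power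

variable {P : Power q q1 2} {hG : Good q1} {G : Subgroup (O q)}

set_option maxHeartbeats 1000000 in
/-- The monomial isometries commuting with a product of planes of both slots permute the planes. -/
theorem planes_act (hk : 4 ≤ k) {M : O q} (hM : M ∈ P.Mon) {t t' r r' : Fin k → F} (ht : q1 t ≠ 0)
    (ht' : q1 t' ≠ 0) (htt : polar q1 t t' = 0) (hr : q1 r ≠ 0) (hr' : q1 r' ≠ 0) (hrr : polar q1 r r' = 0)
    (hdisc : k = 4 → IsSquare (q1 t * q1 t' * (q1 r * q1 r')))
    (hMU : Commute M (blk P hG 0 t t' * blk P hG 1 r r')) :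
    ∃ t1 t1' r1 r1' : Fin k → F, q1 t1 ≠ 0 ∧ q1 t1' ≠ 0 ∧ q1 r1 ≠ 0 ∧ q1 r1' ≠ 0 ∧ polar q1 t1 t1' = 0 ∧
      polar q1 r1 r1' = 0 ∧ refl q1 t1 * refl q1 t1' = refl q1 t * refl q1 t' ∧
      refl q1 r1 * refl q1 r1' = refl q1 r * refl q1 r' ∧
      M * dd P hG t r * M⁻¹ = dd P hG t1 r1 ∧ M * dd P hG t' r' * M⁻¹ = dd P hG t1' r1' ∧
      (M * P.sg hG le_rfl 0 t * M⁻¹ = P.sg hG le_rfl 0 t1 ∨
        M * P.sg hG le_rfl 0 t * M⁻¹ = P.sg hG le_rfl 1 r1) := by
  obtain ⟨τ, φ, c, hc, hc1, hφ⟩ := mon_act (hG := hG) hM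
  have hne : ∀ i x, q1 x ≠ 0 → q1 (φ i x) ≠ 0 := fun i x hx => by
    rw [sim_val hG (hc i)]; exact mul_ne_zero (act_ne hc1 i) hx
  have horth : ∀ i x y, polar q1 x y = 0 → polar q1 (φ i x) (φ i y) = 0 := fun i x y h => by
    rw [hc i, h, mul_zero]
  have hkey : ∀ a b, M * dd P hG a b * M⁻¹ = P.sg hG le_rfl (τ 0) (φ 0 a) * P.sg hG le_rfl (τ 1) (φ 1 b) :=
    fun a b => by rw [conj_prod, hφ, hφ]
  have hτ : τ = 1 ∨ τ = Equiv.swap 0 1 := by clear hφ hkey; revert τ; decide
  obtain ⟨t1, t1', r1, r1', n1, n2, n3, n4, o1, o2, d1, d2, sl, hsq⟩ : ∃ t1 t1' r1 r1' : Fin k → F,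
      q1 t1 ≠ 0 ∧ q1 t1' ≠ 0 ∧ q1 r1 ≠ 0 ∧ q1 r1' ≠ 0 ∧ polar q1 t1 t1' = 0 ∧ polar q1 r1 r1' = 0 ∧
      M * dd P hG t r * M⁻¹ = dd P hG t1 r1 ∧ M * dd P hG t' r' * M⁻¹ = dd P hG t1' r1' ∧
      (M * P.sg hG le_rfl 0 t * M⁻¹ = P.sg hG le_rfl 0 t1 ∨
        M * P.sg hG le_rfl 0 t * M⁻¹ = P.sg hG le_rfl 1 r1) ∧
      (k = 4 → IsSquare (q1 t1 * q1 t1' * (q1 t * q1 t'))) := by
    rcases hτ with rfl | rfl
    · refine ⟨φ 0 t, φ 0 t', φ 1 r, φ 1 r', hne 0 t ht, hne 0 t' ht', hne 1 r hr, hne 1 r' hr',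
        horth 0 t t' htt, horth 1 r r' hrr, hkey t r, hkey t' r', Or.inl (hφ 0 t), fun _ => ?_⟩
      refine ⟨c 0 * q1 t * q1 t', ?_⟩
      rw [sim_val hG (hc 0), sim_val hG (hc 0)]
      ring
    · simp only [Equiv.swap_apply_left, Equiv.swap_apply_right] at hkey
      refine ⟨φ 1 r, φ 1 r', φ 0 t, φ 0 t', hne 1 r hr, hne 1 r' hr', hne 0 t ht, hne 0 t' ht',
        horth 1 r r' hrr, horth 0 t t' htt, (hkey t r).trans (P.S_comm hG le_rfl 1 (by decide) _ _),
        (hkey t' r').trans (P.S_comm hG le_rfl 1 (by decide) _ _), Or.inr (by simpa using hφ 0 t), fun h4 => ?_⟩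
      obtain ⟨x, hx⟩ := hdisc h4
      refine ⟨c 1 * x, ?_⟩
      rw [sim_val hG (hc 1), sim_val hG (hc 1)]
      linear_combination (c 1 * c 1) * hx
  have e : blk P hG 0 t1 t1' * blk P hG 1 r1 r1' = blk P hG 0 t t' * blk P hG 1 r r' := by
    rw [← plane_two, ← d1, ← d2, ← conj_prod, plane_two, hMU.eq, mul_inv_cancel_right]
  rcases two_eq e with ⟨eT, eR⟩ | ⟨eT, -⟩
  · exact ⟨t1, t1', r1, r1', n1, n2, n3, n4, o1, o2, eT, eR, d1, d2, sl⟩
  · obtain ⟨h4, hnot⟩ := pair_disc hG hk ht ht' n1 n2 htt o1 eT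
    exact absurd (hsq h4) hnot

theorem blk_sq_left {t s : Fin k → F} (hts : polar q1 t s = 0) :
    Commute (blk P hG 0 t s) (P.sg hG le_rfl 0 t) :=
  ((Commute.refl (refl q1 t)).mul_left (refl_commute (show polar q1 s t = 0 by rwa [polar_comm]))).map
    (P.S hG le_rfl 0)

set_option maxHeartbeats 1000000 in
/-- The centraliser of a product of planes of both slots is monomial, with one class of discriminants. -/
theorem Weak.cent_planes (h : P.Weak hG G) (hk : 4 ≤ k) (hke : Even k) (hC : CentBlk P hG G)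
    {t t' r r' : Fin k → F} (ht : q1 t ≠ 0) (ht' : q1 t' ≠ 0) (htt : polar q1 t t' = 0) (hr : q1 r ≠ 0)
    (hr' : q1 r' ≠ 0) (hrr : polar q1 r r' = 0) (hdisc : k = 4 → IsSquare (q1 t * q1 t' * (q1 r * q1 r'))) :
    P.CentMon G (blk P hG 0 t t' * blk P hG 1 r r') := fun g hg hgU => by
  obtain ⟨s, hs, hts, ht's⟩ := exists_third hG ht ht' htt
  have hst : polar q1 s t = 0 := by rwa [polar_comm]
  have hst' : polar q1 s t' = 0 := by rwa [polar_comm]
  have htt' : polar q1 t' t = 0 := by rwa [polar_comm]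
  set U := blk P hG 0 t t' * blk P hG 1 r r' with hU_def
  set a := blk P hG 0 t s with ha_def
  set b := dd P hG t r with hb_def
  set c := g * b * g⁻¹ with hc_def
  let C : Subgroup (O q) := G ⊓ Subgroup.centralizer {U}
  have hmem : ∀ z, z ∈ C ↔ z ∈ G ∧ Commute z U := fun z => by
    simp only [C, Subgroup.mem_inf, Subgroup.mem_centralizer_singleton_iff]
    exact Iff.rfl
  have hbU : Commute b U := by
    rw [hU_def, ← plane_two]
    exact (Commute.refl _).mul_right (dd_dd_comm htt hrr)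
  have haU : Commute a U := ((refl_pair_comm (Commute.refl _) (refl_commute htt) (refl_commute hst)
    (refl_commute hst')).map (P.S hG le_rfl 0)).mul_right (P.S_comm hG le_rfl 0 (by decide) _ _)
  have haC : a ∈ C := (hmem _).2 ⟨h.blk_mem 0 ht hs, haU⟩
  have hcC : c ∈ C := (hmem _).2 ⟨G.mul_mem (G.mul_mem hg (h.dd_mem ht hr)) (G.inv_mem hg), conj_commute_of hgU hbU⟩
  have ha2 : a * a = 1 := blk_sq 0 hts
  have hne : ∀ x ∈ C, x * a * x⁻¹ ≠ c := fun x _ e => by
    have e1 := congrArg mv e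
    rw [mv_conj, hc_def, mv_conj, ha_def, hb_def, mv_blk 0 ht hs hts] at e1
    have := mv_dd (P := P) (hG := hG) ht hr
    omega
  obtain ⟨e, heC, he1, he2, hea, hec, hpar⟩ := dihedral_pair C haC hcC ha2 (invol_conj g (dd_sq t r)) hne
  obtain ⟨heG, heU⟩ := (hmem _).1 heC
  obtain ⟨hcG, hcU⟩ := (hmem _).1 hcC
  have heM : e ∈ P.Mon := hC 0 t s ht hs hts e heG hea
  have haeM : a * e ∈ P.Mon := P.Mon.mul_mem (P.S_mem hG le_rfl 0 _) heM
  have hecc : Commute c e := (show Commute e c from hec).symm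
  rcases hpar with ⟨⟨x, hx, ex⟩, ⟨y', hy', ey'⟩⟩ | ⟨⟨x, hx, ex⟩, -⟩
  · -- the element brought back by `g`
    obtain ⟨hyG, hyU⟩ := (hmem _).1 hy'
    set e' := g⁻¹ * e * g with he'_def
    have he'b : Commute e' b := by
      show _ = _
      calc e' * b = g⁻¹ * (e * c) * g := by rw [he'_def, hc_def]; group
        _ = g⁻¹ * (c * e) * g := by rw [hec]
        _ = b * e' := by rw [he'_def, hc_def]; group
    have he'M : e' ∈ P.Mon := h.cent_dd hk hke hC ht hr _ (G.mul_mem (G.mul_mem (G.inv_mem hg) heG) hg) he'b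
    set N := g⁻¹ * y' * g with hN_def
    have hNb : N * b * N⁻¹ = b * e' := by
      calc N * b * N⁻¹ = g⁻¹ * (y' * c * y'⁻¹) * g := by rw [hN_def, hc_def]; group
        _ = g⁻¹ * (c * e) * g := by rw [ey']
        _ = b * e' := by rw [he'_def, hc_def]; group
    have hNG : N ∈ G := G.mul_mem (G.mul_mem (G.inv_mem hg) hyG) hg
    have hNM : N ∈ P.Mon := h.fus_dd hk hke hC hNG ht hr (by
      rw [hNb]; exact P.Mon.mul_mem (P.Mon.mul_mem (P.S_mem hG le_rfl 0 _) (P.S_mem hG le_rfl 1 _)) he'M)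
    have hNU : Commute N U := (hgU.inv_left.mul_left hyU).mul_left hgU
    obtain ⟨t2, t2', r2, r2', n1, n2, n3, n4, o1, o2, eT, eR, d1, -, -⟩ :=
      planes_act hk hNM ht ht' htt hr hr' hrr hdisc hNU
    have ebe : b * e' = dd P hG t2 r2 := hNb.symm.trans d1
    have hee' : e' = b * dd P hG t2 r2 := by rw [← ebe, ← mul_assoc, hb_def, dd_sq, one_mul]
    obtain ⟨cT, cR⟩ := dd_comm ht hr (show Commute (dd P hG t2 r2) (dd P hG t r) from
      ebe ▸ (Commute.refl b).mul_left he'b)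
    have hT2 : refl q1 t2 = refl q1 t ∨ refl q1 t2 = refl q1 t' := by
      rcases refl_comm_cases hG.two n1 ht cT.eq with h0 | h0
      · exact Or.inr (plane_line hG ht n1 htt (by rw [← eT]; exact pair_left hG n1 o1) (by rwa [polar_comm]))
      · exact Or.inl h0
    have hR2 : refl q1 r2 = refl q1 r ∨ refl q1 r2 = refl q1 r' := by
      rcases refl_comm_cases hG.two n3 hr cR.eq with h0 | h0
      · exact Or.inr (plane_line hG hr n3 hrr (by rw [← eR]; exact pair_left hG n3 o2) (by rwa [polar_comm]))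
      · exact Or.inl h0
    have he_back : e = g * e' * g⁻¹ := by rw [he'_def]; group
    -- a monomial conjugate of one of the planes fixes a reflection
    have hcE : ∀ A, P.IsMonW e 1 A → ∃ (j : Fin 2) (v : Fin k → F), q1 v ≠ 0 ∧ Commute e (P.sg hG le_rfl j v) := by
      intro A hA
      obtain ⟨t1, t1', r1, r1', m1, m2, m3, m4, p1, p2, fT, fR, -, -, sl⟩ :=
        planes_act hk heM ht ht' htt hr hr' hrr hdisc heU
      have hsl : e * P.sg hG le_rfl 0 t * e⁻¹ = P.sg hG le_rfl 0 t1 := by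
        refine sl.resolve_right fun h1 => ?_
        obtain ⟨B, -, eB⟩ := hA.conj_S hG le_rfl 0 (refl q1 t)
        rw [show e * P.sg hG le_rfl 0 t * e⁻¹ = P.S hG le_rfl 0 B from eB] at h1
        rcases S_cross (by decide) h1 with h2 | h2
        · exact (refl_ne_negId hG m3).1 h2.2
        · exact (refl_ne_negId hG m3).2 h2.2
      obtain ⟨s1, hs1, hts1, es⟩ := act_orth heM ht m1 hsl hs hts
      have eA : blk P hG 0 t1 s1 = a := by
        rw [blk_eq, ← hsl, ← es, ← conj_prod, ← blk_eq, (show Commute e (blk P hG 0 t s) from hea).eq,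
          mul_inv_cancel_right]
      have e1 := P.S_inj hG le_rfl 0 eA
      have hneg : app (refl q1 s * refl q1 t) t1 = -t1 := by
        rw [refl_comm_of_orth hst, ← e1]; exact pair_left hG m1 hts1
      have hfixs : app (refl q1 t * refl q1 t') s = s := by
        rw [app_mul, app_refl_orth hst', app_refl_orth hst]
      have horth : polar q1 s t1 = 0 := by
        rw [polar_comm]
        exact orth_of_neg hG.two (by rw [← fT]; exact pair_left hG m1 p1) hfixs
      have e2 := plane_line hG hs m1 hst hneg horth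
      refine ⟨0, t, ht, ?_⟩
      have h3 : e * P.sg hG le_rfl 0 t * e⁻¹ = P.sg hG le_rfl 0 t := hsl.trans (congrArg (P.S hG le_rfl 0) e2)
      exact mul_inv_eq_iff_eq_mul.1 h3
    rcases hT2 with hT | hT <;> rcases hR2 with hR | hR
    · exfalso
      refine he1 ?_
      rw [he_back, hee', hb_def, dd, dd, sg, sg, sg, sg, hT, hR, ← hT, ← hR, two_mul_eq, hT, hR, refl_mul_self,
        refl_mul_self, map_one, map_one, mul_one, mul_one, mul_inv_cancel]
    · have e0 : e' = blk P hG 1 r r' := by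
        rw [hee', hb_def, dd, dd, two_mul_eq, hT, hR, refl_mul_self, map_one, one_mul]
      exact h.fus_blk hk hke hC hg hr hr' hrr (by rw [← e0, ← he_back]; exact heM)
        (by rw [← e0, ← he_back]; exact hcE)
    · have e0 : e' = blk P hG 0 t t' := by
        rw [hee', hb_def, dd, dd, two_mul_eq, hT, hR, refl_mul_self, map_one, mul_one]
      exact h.fus_blk hk hke hC hg ht ht' htt (by rw [← e0, ← he_back]; exact heM)
        (by rw [← e0, ← he_back]; exact hcE)
    · exfalso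
      have e0 : e' = U := by rw [hee', hb_def, dd, dd, two_mul_eq, hT, hR]
      rw [he_back, e0, hgU.eq, mul_inv_cancel_right] at ex
      obtain ⟨hxG, -⟩ := (hmem _).1 hx
      have hxM : x ∈ P.Mon := h.fus_blk hk hke hC hxG ht hs hts (by
          rw [ex]
          exact P.Mon.mul_mem (P.S_mem hG le_rfl 0 _)
            (P.Mon.mul_mem (P.S_mem hG le_rfl 0 _) (P.S_mem hG le_rfl 1 _)))
        fun _ _ => ⟨0, t, ht, by
          rw [ex]
          exact (blk_sq_left hts).mul_left ((blk_sq_left htt).mul_left (P.S_comm hG le_rfl 1 (by decide) _ _))⟩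
      obtain ⟨j, a', b', -, -, -, eb⟩ := act_blk (hG := hG) hxM 0 ht hs hts
      rw [ex, ha_def, hU_def, ← mul_assoc, ← map_mul] at eb
      refine mixed_ne (A := refl q1 t * refl q1 s * (refl q1 t * refl q1 t')) ?_ (pair_ne_negId hG hr hr' hrr)
        j _ eb
      rw [pair_cancel hts]
      exact pair_ne_negId hG hs ht' hst'
  · obtain ⟨hxG, hxU⟩ := (hmem _).1 hx
    have ex' := conj_comp ex
    have hM : x * g ∈ P.Mon := h.fus_dd hk hke hC (G.mul_mem hxG hg) ht hr (by rw [ex']; exact haeM)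
    obtain ⟨t1, t1', r1, r1', n1, n2, n3, n4, o1, o2, eT, eR, d1, -, -⟩ :=
      planes_act hk hM ht ht' htt hr hr' hrr hdisc (hxU.mul_left hgU)
    have eae : a * e = dd P hG t1 r1 := ex'.symm.trans d1
    have he : e = a * dd P hG t1 r1 := by rw [← eae, ← mul_assoc, ha2, one_mul]
    have hA := P.S_isMonW hG le_rfl 0 (refl q1 t * refl q1 s)
    have hcm : Commute (refl q1 t * refl q1 s) (refl q1 t1) := by
      have h1 : Commute a (dd P hG t1 r1) := eae ▸ (Commute.refl a).mul_right (show Commute e a from hea).symm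
      exact P.S_inj hG le_rfl 0 (by
        rw [map_mul (P.S hG le_rfl 0) (refl q1 t * refl q1 s), map_mul (P.S hG le_rfl 0) (refl q1 t1)]
        exact (comm_of_dd hA n1 n3 h1).1.eq)
    have hcM : c ∈ P.Mon := by
      rcases pair_comm_cases hG ht hs n1 hts hcm with h0 | h0
      · obtain ⟨h1, -⟩ := pair_fix_orth hG ht hs hts h0
        have e2 : refl q1 t1 = refl q1 t' := plane_line hG ht n1 htt (by rw [← eT]; exact pair_left hG n1 o1) h1
        have e3 : U * e = dd P hG s r1' := by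
          rw [he, hU_def, ha_def, blk, blk, blk, dd, sg, sg, ← mul_assoc (P.S hG le_rfl 0 _) (P.S hG le_rfl 0 _),
            ← map_mul, two_mul_eq, e2, ← mul_assoc, pair_cancel htt, pair_mul_left ht's, ← eR, pair_mul_left o2]
        exact h.cent_dd hk hke hC hs n4 c hcG (e3 ▸ hcU.mul_right hecc)
      · obtain ⟨v', hv', ho, -, e2⟩ := pair_split hG ht hs n1 hts h0
        have e3 : e = dd P hG v' r1 := by
          rw [he, ha_def, blk, dd, sg, sg, ← mul_assoc, ← map_mul, e2, pair_mul_left ho]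
        exact h.cent_dd hk hke hC hv' n3 c hcG (e3 ▸ hecc)
    exact h.fus_dd hk hke hC hg ht hr hcM

/-- The centraliser of a product of planes of both slots is monomial. -/
theorem Weak.cent_planes_any (h : P.Weak hG G) (hk : 4 ≤ k) (hke : Even k) (hC : CentBlk P hG G)
    {t t' r r' : Fin k → F} (ht : q1 t ≠ 0) (ht' : q1 t' ≠ 0) (htt : polar q1 t t' = 0) (hr : q1 r ≠ 0)
    (hr' : q1 r' ≠ 0) (hrr : polar q1 r r' = 0) : P.CentMon G (blk P hG 0 t t' * blk P hG 1 r r') := by
  by_cases hd : k = 4 → IsSquare (q1 t * q1 t' * (q1 r * q1 r'))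
  · exact h.cent_planes hk hke hC ht ht' htt hr hr' hrr hd
  obtain ⟨h4, hns⟩ : k = 4 ∧ ¬ IsSquare (q1 t * q1 t' * (q1 r * q1 r')) := Classical.not_imp.1 hd
  obtain ⟨s, s', hs, hs', hss, -, -, -, -, eT, hdisc⟩ := exists_compl_plane hG h4 ht ht' htt
  obtain ⟨x, hx⟩ := isSquare_mul_of_not hdisc hns
  intro g hg hgc
  refine h.cent_planes hk hke hC hs hs' hss hr hr' hrr (fun _ => ⟨x / (q1 t * q1 t'), ?_⟩) g hg ?_
  · rw [div_mul_div_comm, ← hx]
    field_simp
  · rw [show blk P hG 0 s s' = negId q * blk P hG 0 t t' by rw [blk, ← eT, map_mul, S_negId], mul_assoc]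
    exact (show Commute g (negId q) from (negId_comm' g).symm).mul_right hgc

set_option maxHeartbeats 1000000 in
/-- A proper group with the weak hypotheses is monomial, given the centralisers of planes. -/
theorem Weak.le_Mon_of_blk (h : P.Weak hG G) (hk : 4 ≤ k) (hke : Even k) (hC : CentBlk P hG G) : G ≤ P.Mon := by
  intro g hg
  obtain ⟨u, hu⟩ := exists_anisotropic hG.nd (le_trans (by norm_num) hG.three)
  obtain ⟨z, hz, huz⟩ := exists_orth hG hu
  obtain ⟨α, β, hne0, hns⟩ := exists_two_values hG.two hu hz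
  set v := α • u + β • z with hv_def
  have hqv : q1 v = α ^ 2 * q1 u + β ^ 2 * q1 z := by
    rw [hv_def]
    simp only [QuadraticMap.map_add ⇑q1, QuadraticMap.map_smul, polar_smul_left, polar_smul_right, smul_eq_mul]
    linear_combination (α * β) * huz
  have hv : q1 v ≠ 0 := by rw [hqv]; exact hne0
  set a := dd P hG u u with ha_def
  set b := dd P hG u v with hb_def
  set c := g * b * g⁻¹ with hc_def
  have haG : a ∈ G := h.dd_mem hu hu
  have hcG : c ∈ G := G.mul_mem (G.mul_mem hg (h.dd_mem hu hv)) (G.inv_mem hg)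
  have hne : ∀ x ∈ G, x * a * x⁻¹ ≠ c := fun x hx e => by
    have hMab := conj_conj_eq e
    have hMm : g⁻¹ * x ∈ P.Mon := h.fus_dd hk hke hC (G.mul_mem (G.inv_mem hg) hx) hu hu (by
      rw [hMab]; exact P.Mon.mul_mem (P.S_mem hG le_rfl 0 _) (P.S_mem hG le_rfl 1 _))
    obtain ⟨a', b', ha', hb', ⟨r, hr⟩, e', -⟩ := act_dd (hG := hG) hMm hu hu
    obtain ⟨eu, ev⟩ := dd_eq hu ha' (hMab.symm.trans e')
    obtain ⟨d, hd, rfl⟩ := refl_inj hG.two ha' hu eu.symm
    obtain ⟨d', hd', rfl⟩ := refl_inj hG.two hb' hv ev.symm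
    simp only [QuadraticMap.map_smul, smul_eq_mul] at hr
    refine hns ⟨r / (d * d' * q1 u * q1 u), ?_⟩
    rw [← hqv, div_mul_div_comm, ← hr]
    field_simp
  obtain ⟨e, heG, he1, he2, hea, hec, hpar⟩ := dihedral_pair G haG hcG (dd_sq u u) (invol_conj g (dd_sq u v)) hne
  have heM : e ∈ P.Mon := h.cent_dd hk hke hC hu hu e heG hea
  have haeM : a * e ∈ P.Mon :=
    P.Mon.mul_mem (P.Mon.mul_mem (P.S_mem hG le_rfl 0 _) (P.S_mem hG le_rfl 1 _)) heM
  obtain ⟨w, M, hw, hM, eM⟩ : ∃ w M, q1 w ≠ 0 ∧ M ∈ G ∧ M * dd P hG u w * M⁻¹ = a * e := by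
    rcases hpar with ⟨⟨x, hx, ex⟩, -⟩ | ⟨⟨x, hx, ex⟩, -⟩
    · exact ⟨u, x, hu, hx, ex⟩
    · exact ⟨v, x * g, hv, G.mul_mem hx hg, conj_comp ex⟩
  obtain ⟨t1, r1, ht1, hr1, -, e1, -⟩ := act_dd (hG := hG)
    (h.fus_dd hk hke hC hM hu hw (by rw [eM]; exact haeM)) hu hw
  have eae : a * e = dd P hG t1 r1 := eM.symm.trans e1
  obtain ⟨cT, cR⟩ := dd_comm hu hu (show Commute (dd P hG t1 r1) (dd P hG u u) from
    eae ▸ (Commute.refl a).mul_left hea)
  have he : e = dd P hG u u * dd P hG t1 r1 := by rw [← eae, ← mul_assoc, ha_def, dd_sq, one_mul]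
  rw [dd, dd, two_mul_eq] at he
  have hecc : Commute c e := (show Commute e c from hec).symm
  have hcM : c ∈ P.Mon := by
    rcases refl_comm_cases hG.two ht1 hu cT.eq with hT | hT <;>
      rcases refl_comm_cases hG.two hr1 hu cR.eq with hR | hR
    · exact h.cent_planes_any hk hke hC hu ht1 (by rwa [polar_comm]) hu hr1 (by rwa [polar_comm]) c hcG (he ▸ hecc)
    · rw [hR, refl_mul_self, map_one, mul_one] at he
      exact hC 0 u t1 hu ht1 (by rwa [polar_comm]) c hcG (by rw [blk, ← he]; exact hecc)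
    · rw [hT, refl_mul_self, map_one, one_mul] at he
      exact hC 1 u r1 hu hr1 (by rwa [polar_comm]) c hcG (by rw [blk, ← he]; exact hecc)
    · rw [hT, hR, refl_mul_self, map_one, map_one, mul_one] at he
      exact absurd he he1
  exact h.fus_dd hk hke hC hg hu hv hcM

/-- A proper group with the weak hypotheses is monomial. -/
theorem Weak.le_Mon (h : P.Weak hG G) (hk : 4 ≤ k) (hke : Even k) : G ≤ P.Mon := by
  refine h.le_Mon_of_blk hk hke ?_
  rcases eq_or_ne k 4 with hk4 | hk4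
  · exact fun i a b ha hb hab => h.cent_plane_four hk4 (h.uni hk) (fun j y hy => h.cent_sg hk hke j hy)
      (fun g hg j l u v hu hu0 hv hv0 e => h.mon_of_slice_map hk hg j l hu hu0 hv hv0 e) i ha hb hab
  · exact h.cent_blk_big (by omega) hke

end Power

end CfsgLib.TensorEven
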