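import Cfsg.Agent.Lib.TensorEven.WeakZ

/-!
A proper group with the isometries of determinant one of two slots and the pairs of reflections is monomial,
given that the centralisers of the planes of the slots are.
-/

set_option autoImplicit false
set_option linter.unusedSectionVars false

namespace CfsgLib.TensorEven

open Matrix QuadraticMap CfsgLib.Orth CfsgLib.TensorOddMinus
open CfsgLib.TensorOdd (IsFrame)

variable {ι : Type} [Fintype ι] [DecidableEq ι] {F : Type*} [Field F] [Fintype F] {k : ℕ}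
variable {q : QuadraticForm F (ι → F)} {q1 : QuadraticForm F (Fin k → F)}

theorem pair_cancel {x y z : Fin k → F} (hxy : polar q1 x y = 0) :
    refl q1 x * refl q1 y * (refl q1 x * refl q1 z) = refl q1 y * refl q1 z := by
  rw [refl_comm_of_orth hxy, mul_assoc, ← mul_assoc (refl q1 x), refl_mul_self, one_mul]

theorem pair_mul_left {x y : Fin k → F} (hxy : polar q1 x y = 0) :
    refl q1 x * refl q1 y * refl q1 x = refl q1 y := by
  rw [refl_comm_of_orth hxy, mul_assoc, refl_mul_self, mul_one]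

/-- A vector of a plane orthogonal to one of its axes. -/
theorem plane_line (hG : Good q1) {a b z : Fin k → F} (ha : q1 a ≠ 0) (hz : q1 z ≠ 0) (hab : polar q1 a b = 0)
    (h : app (refl q1 a * refl q1 b) z = -z) (haz : polar q1 a z = 0) : refl q1 z = refl q1 b := by
  obtain ⟨x, y, rfl⟩ := pair_neg_span hG hab h
  rw [polar_add_right, polar_smul_right, polar_smul_right, hab, polar_self', smul_eq_mul, smul_eq_mul, mul_zero,
    add_zero] at haz
  have hx : x = 0 := (mul_eq_zero.1 haz).resolve_right (mul_ne_zero hG.two ha)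
  subst hx
  rw [zero_smul, zero_add] at hz ⊢
  apply refl_smul
  intro hy
  exact hz (by rw [hy, zero_smul, QuadraticMap.map_zero])

theorem conj_conj_eq {H : Type*} [Group H] {g x a b : H} (e : x * a * x⁻¹ = g * b * g⁻¹) :
    g⁻¹ * x * a * (g⁻¹ * x)⁻¹ = b := by
  rw [_root_.mul_inv_rev, inv_inv]
  calc g⁻¹ * x * a * (x⁻¹ * g) = g⁻¹ * (x * a * x⁻¹) * g := by group
    _ = b := by rw [e]; group

theorem conj_comp {H : Type*} [Group H] {g x b z : H} (e : x * (g * b * g⁻¹) * x⁻¹ = z) :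
    x * g * b * (x * g)⁻¹ = z := by rw [← e]; group

theorem invol_cancel {H : Type*} [Group H] {a z B : H} (ha : a * a = 1) (hz : z * a = a * z) :
    a * z * (a * B) = z * B := by
  rw [← hz, mul_assoc, ← mul_assoc a, ha, one_mul]

theorem conj_prod {H : Type*} [Group H] (M x y : H) : M * (x * y) * M⁻¹ = M * x * M⁻¹ * (M * y * M⁻¹) := by group

theorem invol_conj {H : Type*} [Group H] (g : H) {z : H} (hz : z * z = 1) : g * z * g⁻¹ * (g * z * g⁻¹) = 1 := by
  calc g * z * g⁻¹ * (g * z * g⁻¹) = g * (z * z) * g⁻¹ := by group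
    _ = 1 := by rw [hz, mul_one, mul_inv_cancel]

theorem conj_commute_of {H : Type*} [Group H] {g z d : H} (hg : Commute g d) (hz : Commute z d) :
    Commute (g * z * g⁻¹) d := (hg.mul_left hz).mul_left hg.inv_left

namespace Power

variable {P : Power q q1 2} {hG : Good q1} {G : Subgroup (O q)}

theorem two_mul_eq (A B A' B' : O q1) :
    P.S hG le_rfl 0 A * P.S hG le_rfl 1 B * (P.S hG le_rfl 0 A' * P.S hG le_rfl 1 B') =
      P.S hG le_rfl 0 (A * A') * P.S hG le_rfl 1 (B * B') := by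
  rw [map_mul, map_mul, mul_assoc, ← mul_assoc (P.S hG le_rfl 1 B), P.S_comm hG le_rfl 1 (by decide) B A',
    ← mul_assoc, ← mul_assoc, ← mul_assoc]

theorem plane_two (a b c d : Fin k → F) :
    dd P hG a c * dd P hG b d = blk P hG 0 a b * blk P hG 1 c d := two_mul_eq _ _ _ _

theorem dd_comm_blk {t r x : Fin k → F} (htx : polar q1 t x = 0) : Commute (dd P hG t r) (blk P hG 0 t x) :=
  (((Commute.refl (refl q1 t)).mul_right (refl_commute htx)).map (P.S hG le_rfl 0)).mul_left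
    (P.S_comm hG le_rfl 1 (by decide) _ _)

theorem dd_dd_comm {a b c d : Fin k → F} (hac : polar q1 a c = 0) (hbd : polar q1 b d = 0) :
    Commute (dd P hG a b) (dd P hG c d) :=
  (((refl_commute hac).map (P.S hG le_rfl 0)).mul_right (P.S_comm hG le_rfl 0 (by decide) _ _)).mul_left
    ((show Commute (P.sg hG le_rfl 1 b) (P.sg hG le_rfl 0 c) from P.S_comm hG le_rfl 1 (by decide) _ _).mul_right
      ((refl_commute hbd).map (P.S hG le_rfl 1)))

/-- Monomial conjugates of planes do not exchange the slots. -/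
theorem unswapped_blk (hk : 4 ≤ k) (hke : Even k) {g : O q} (i : Fin 2) {a b : Fin k → F} (ha : q1 a ≠ 0)
    (hb : q1 b ≠ 0) (hab : polar q1 a b = 0) {σ : Equiv.Perm (Fin 2)}
    {A : Fin 2 → (Fin k → F) ≃ₗ[F] (Fin k → F)} (hA : P.IsMonW (g * blk P hG i a b * g⁻¹) σ A) : σ = 1 := by
  by_contra hσ
  have h2 := invol_conj g (blk_sq (P := P) (hG := hG) i hab)
  rcases eq_or_ne k 4 with hk4 | hk4
  · refine swap_not_mem_omega hG hk4 hA hσ h2 (Subgroup.Normal.conj_mem inferInstance _ ?_ g)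
    rw [blk_eq]
    exact P.slot_pair_mem_omega hG hk4 i i ha hb
  · have h0 : σ 0 ≠ 0 := by clear hA; revert hσ; revert σ; decide
    have h1 := (mv_moved hA (by omega) h2 h0).1
    rw [mv_conj, mv_blk i ha hb hab] at h1
    obtain ⟨n, rfl⟩ := hke
    have hn : 3 ≤ n := by omega
    simp only [pow_succ, pow_zero, one_mul] at h1
    nlinarith

/-- A monomial conjugate of a plane comes from a monomial element. -/
theorem Weak.fus_blk (h : P.Weak hG G) (hk : 4 ≤ k) (hke : Even k) (hC : CentBlk P hG G) {g : O q} (hg : g ∈ G)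
    {i : Fin 2} {a b : Fin k → F} (ha : q1 a ≠ 0) (hb : q1 b ≠ 0) (hab : polar q1 a b = 0)
    (hy : g * blk P hG i a b * g⁻¹ ∈ P.Mon)
    (hc : ∀ A, P.IsMonW (g * blk P hG i a b * g⁻¹) 1 A →
      ∃ (j : Fin 2) (v : Fin k → F), q1 v ≠ 0 ∧ Commute (g * blk P hG i a b * g⁻¹) (P.sg hG le_rfl j v)) :
    g ∈ P.Mon := by
  obtain ⟨σ, A, hA⟩ := hy
  obtain rfl := unswapped_blk hk hke i ha hb hab hA
  obtain ⟨j, v, hv, hjv⟩ := hc A hA
  obtain ⟨C, D, hC2, hD2, e⟩ := invol_form hA (invol_conj g (blk_sq i hab)) hv hjv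
  rcases form_root (P := P) (hG := hG) hk hC2 hD2 with ⟨l, u, c, hr, hx⟩ | ⟨hk4, hmC, hmD⟩
  · rw [← e] at hx
    exact (h.uni hk).fus h.base (hC i a b ha hb hab) hg hr hx
  · obtain ⟨t, t', ht, ht', htt, rfl⟩ := exists_pair hG hC2 hmC
    obtain ⟨r, r', hr, hr', hrr, rfl⟩ := exists_pair hG hD2 hmD
    exact absurd e (h.blk_not_mixed hk4 hC hg i ha hb hab ht ht' htt hr hr' hrr)

theorem hc_of_dd {y : O q} {a b : Fin k → F} (ha : q1 a ≠ 0) (hb : q1 b ≠ 0) (hyd : Commute y (dd P hG a b))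
    (A : Fin 2 → (Fin k → F) ≃ₗ[F] (Fin k → F)) (hA : P.IsMonW y 1 A) :
    ∃ (j : Fin 2) (v : Fin k → F), q1 v ≠ 0 ∧ Commute y (P.sg hG le_rfl j v) :=
  ⟨0, a, ha, (comm_of_dd hA ha hb hyd).1⟩

/-- The monomial isometries commuting with two orthogonal products of slot reflections. -/
theorem fix_two {M : O q} (hM : M ∈ P.Mon) {t t' r r' : Fin k → F} (ht : q1 t ≠ 0) (ht' : q1 t' ≠ 0)
    (htt : polar q1 t t' = 0) (hr : q1 r ≠ 0) (hr' : q1 r' ≠ 0)
    (h1 : Commute M (dd P hG t r)) (h2 : Commute M (dd P hG t' r')) :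
    (M * P.sg hG le_rfl 0 t * M⁻¹ = P.sg hG le_rfl 0 t ∧ M * P.sg hG le_rfl 0 t' * M⁻¹ = P.sg hG le_rfl 0 t') ∨
      (M * P.sg hG le_rfl 0 t * M⁻¹ = P.sg hG le_rfl 1 r ∧
        M * P.sg hG le_rfl 0 t' * M⁻¹ = P.sg hG le_rfl 1 r') := by
  rcases dd_fix hM ht hr h1 with ⟨e, -⟩ | ⟨e, -⟩
  · rcases dd_fix hM ht' hr' h2 with ⟨e', -⟩ | ⟨e', -⟩
    · exact Or.inl ⟨e, e'⟩
    · obtain ⟨w, hw, -, ew⟩ := act_orth hM ht ht e ht' htt
      exact absurd (ew.symm.trans e') (sg_ne (by decide) hw)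
  · rcases dd_fix hM ht' hr' h2 with ⟨e', -⟩ | ⟨e', -⟩
    · obtain ⟨w, hw, -, ew⟩ := act_orth hM ht hr e ht' htt
      exact absurd (ew.symm.trans e') (sg_ne (by decide) hw)
    · exact Or.inr ⟨e, e'⟩

set_option maxHeartbeats 1000000 in
/-- An element commuting with two orthogonal products of slot reflections is monomial. -/
theorem Weak.cent_dd_two (h : P.Weak hG G) (hk : 4 ≤ k) (hke : Even k) (hC : CentBlk P hG G)
    {t t' r r' : Fin k → F} (ht : q1 t ≠ 0) (ht' : q1 t' ≠ 0) (htt : polar q1 t t' = 0) (hr : q1 r ≠ 0)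
    (hr' : q1 r' ≠ 0) (hrr : polar q1 r r' = 0) {g : O q} (hg : g ∈ G)
    (hd : Commute g (dd P hG t r)) (hd' : Commute g (dd P hG t' r')) : g ∈ P.Mon := by
  obtain ⟨s, hs, hts, ht's⟩ := exists_third hG ht ht' htt
  set a := blk P hG 0 t t' with ha_def
  set b := blk P hG 0 t s with hb_def
  set c := g * b * g⁻¹ with hc_def
  let C : Subgroup (O q) := G ⊓ Subgroup.centralizer {dd P hG t r, dd P hG t' r'}
  have hmem : ∀ z, z ∈ C ↔ z ∈ G ∧ Commute z (dd P hG t r) ∧ Commute z (dd P hG t' r') := fun z => by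
    simp only [C, Subgroup.mem_inf, Subgroup.mem_centralizer_iff, Set.mem_insert_iff, Set.mem_singleton_iff,
      forall_eq_or_imp, forall_eq]
    exact ⟨fun h => ⟨h.1, h.2.1.symm, h.2.2.symm⟩, fun h => ⟨h.1, h.2.1.symm, h.2.2.symm⟩⟩
  have htt' : polar q1 t' t = 0 := by rwa [polar_comm]
  have had : Commute a (dd P hG t r) := (dd_comm_blk htt).symm
  have had' : Commute a (dd P hG t' r') :=
    ((((refl_commute htt).mul_left (Commute.refl (refl q1 t'))).map (P.S hG le_rfl 0))).mul_right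
      (P.S_comm hG le_rfl 0 (by decide) _ _)
  have hbd : Commute b (dd P hG t r) := (dd_comm_blk hts).symm
  have hbd' : Commute b (dd P hG t' r') :=
    ((((refl_commute htt).mul_left (refl_commute (show polar q1 s t' = 0 by rwa [polar_comm]))).map
      (P.S hG le_rfl 0))).mul_right (P.S_comm hG le_rfl 0 (by decide) _ _)
  have haC : a ∈ C := (hmem _).2 ⟨h.blk_mem 0 ht ht', had, had'⟩
  have hcC : c ∈ C := (hmem _).2 ⟨G.mul_mem (G.mul_mem hg (h.blk_mem 0 ht hs)) (G.inv_mem hg),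
    conj_commute_of hd hbd, conj_commute_of hd' hbd'⟩
  have ha2 : a * a = 1 := blk_sq 0 htt
  have hc2 : c * c = 1 := invol_conj g (blk_sq 0 hts)
  have hU0 : dd P hG t r * dd P hG t' r' = blk P hG 0 t t' * blk P hG 1 r r' := plane_two t t' r r'
  have haU : a * (blk P hG 0 t t' * blk P hG 1 r r') = blk P hG 1 r r' := by rw [← mul_assoc, ha2, one_mul]
  -- monomiality of the conjugating elements
  have hmon : ∀ M ∈ C, ∀ x y : Fin k → F, q1 x ≠ 0 → q1 y ≠ 0 → polar q1 x y = 0 →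
      M * blk P hG 0 x y * M⁻¹ ∈ P.Mon → Commute (M * blk P hG 0 x y * M⁻¹) (dd P hG t r) → M ∈ P.Mon :=
    fun M hM x y hx hy hxy hm hcm => h.fus_blk hk hke hC ((hmem _).1 hM).1 hx hy hxy hm (hc_of_dd ht hr hcm)
  have hne : ∀ x ∈ C, x * a * x⁻¹ ≠ c := by
    intro x hx e
    obtain ⟨hxG, hxd, hxd'⟩ := (hmem _).1 hx
    have hM : g⁻¹ * x ∈ C := (hmem _).2 ⟨G.mul_mem (G.inv_mem hg) hxG, hd.inv_left.mul_left hxd,
      hd'.inv_left.mul_left hxd'⟩
    have hMab := conj_conj_eq e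
    have hMm : g⁻¹ * x ∈ P.Mon := hmon _ hM t t' ht ht' htt (by rw [hMab]; exact P.S_mem hG le_rfl 0 _)
      (by rw [hMab]; exact hbd)
    obtain ⟨-, h1, h2⟩ := (hmem _).1 hM
    rw [ha_def, blk_eq, conj_prod] at hMab
    rcases fix_two hMm ht ht' htt hr hr' h1 h2 with ⟨e1, e2⟩ | ⟨e1, e2⟩
    · rw [e1, e2, hb_def, blk_eq] at hMab
      obtain ⟨d, -, e3⟩ := refl_inj hG.two hs ht' (P.S_inj hG le_rfl 0 (mul_left_cancel hMab).symm)
      rw [e3, polar_smul_right, polar_self', smul_eq_mul] at ht's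
      rcases mul_eq_zero.1 ht's with h0 | h0
      · rw [e3, h0, zero_smul, QuadraticMap.map_zero] at hs
        exact hs rfl
      · exact mul_ne_zero hG.two ht' h0
    · rw [e1, e2, ← blk_eq] at hMab
      exact blk_ne (by decide) hr hr' hrr _ hMab
  obtain ⟨e, heC, he1, he2, hea, hec, hpar⟩ := dihedral_pair C haC hcC ha2 hc2 hne
  obtain ⟨heG, hed, hed'⟩ := (hmem _).1 heC
  have heM : e ∈ P.Mon := hC 0 t t' ht ht' htt e heG hea
  have haeM : a * e ∈ P.Mon := P.Mon.mul_mem (P.S_mem hG le_rfl 0 _) heM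
  have haed : Commute (a * e) (dd P hG t r) := had.mul_left hed
  have hcmon : c ∈ P.Mon := by
    have hecc : Commute c e := (show Commute e c from hec).symm
    obtain ⟨hcG, hcd, hcd'⟩ := (hmem _).1 hcC
    rcases hpar with ⟨⟨x, hx, ex⟩, ⟨x', hx', ex'⟩⟩ | ⟨⟨x, hx, ex⟩, -⟩
    · exfalso
      have hxM : x ∈ P.Mon := hmon x hx t t' ht ht' htt (by rw [ex]; exact haeM) (by rw [ex]; exact haed)
      obtain ⟨-, h1, h2⟩ := (hmem _).1 hx
      rw [ha_def, blk_eq, conj_prod] at ex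
      rcases fix_two hxM ht ht' htt hr hr' h1 h2 with ⟨e1, e2⟩ | ⟨e1, e2⟩
      · rw [e1, e2] at ex
        exact he1 (left_eq_mul.1 ex)
      · rw [e1, e2, ← blk_eq, ← blk_eq] at ex
        have he : e = dd P hG t r * dd P hG t' r' := by
          rw [hU0, ex, ← mul_assoc, blk_sq 0 htt, one_mul]
        subst he
        -- the other side
        obtain ⟨hx'G, hxd, hxd'⟩ := (hmem _).1 hx'
        have hgU : Commute g (dd P hG t r * dd P hG t' r') := hd.mul_right hd'
        have hN : g⁻¹ * x' * g ∈ C := (hmem _).2 ⟨G.mul_mem (G.mul_mem (G.inv_mem hg) hx'G) hg,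
          (hd.inv_left.mul_left hxd).mul_left hd, (hd'.inv_left.mul_left hxd').mul_left hd'⟩
        have hN' : g⁻¹ * x' * g * b * (g⁻¹ * x' * g)⁻¹ = b * (blk P hG 0 t t' * blk P hG 1 r r') := by
          rw [← hU0]
          calc g⁻¹ * x' * g * b * (g⁻¹ * x' * g)⁻¹ = g⁻¹ * (x' * c * x'⁻¹) * g := by rw [hc_def]; group
            _ = g⁻¹ * (c * (dd P hG t r * dd P hG t' r')) * g := by rw [ex']
            _ = b * (g⁻¹ * (dd P hG t r * dd P hG t' r') * g) := by rw [hc_def]; group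
            _ = _ := by rw [mul_assoc g⁻¹, hgU.symm.eq, ← mul_assoc g⁻¹, inv_mul_cancel, one_mul]
        have hNM : g⁻¹ * x' * g ∈ P.Mon := hmon _ hN t s ht hs hts
          (by rw [hN']; exact P.Mon.mul_mem (P.S_mem hG le_rfl 0 _)
                (P.Mon.mul_mem (P.S_mem hG le_rfl 0 _) (P.S_mem hG le_rfl 1 _)))
          (by rw [hN', ← hU0]; exact hbd.mul_left ((Commute.refl _).mul_left (dd_dd_comm htt' (by rwa [polar_comm]))))
        obtain ⟨j, a', b', -, -, -, eb⟩ := act_blk (hG := hG) hNM 0 ht hs hts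
        rw [hN', hb_def, ← mul_assoc, ← map_mul] at eb
        refine mixed_ne (A := refl q1 t * refl q1 s * (refl q1 t * refl q1 t')) ?_ (pair_ne_negId hG hr hr' hrr) j _ eb
        rw [pair_cancel hts]
        exact pair_ne_negId hG hs ht' (by rwa [polar_comm])
    · obtain ⟨hxG, hxd, hxd'⟩ := (hmem _).1 hx
      have hxg : x * g ∈ C := (hmem _).2 ⟨G.mul_mem hxG hg, hxd.mul_left hd, hxd'.mul_left hd'⟩
      have ex' := conj_comp ex
      have hM : x * g ∈ P.Mon := hmon _ hxg t s ht hs hts (by rw [ex']; exact haeM) (by rw [ex']; exact haed)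
      obtain ⟨-, h1, h2⟩ := (hmem _).1 hxg
      rw [hb_def, blk_eq, conj_prod] at ex'
      rcases fix_two hM ht ht' htt hr hr' h1 h2 with ⟨e1, e2⟩ | ⟨e1, e2⟩
      · obtain ⟨s1, hs1, hts1, es⟩ := act_orth hM ht ht e1 hs hts
        obtain ⟨s2, hs2, hts2, es2⟩ := act_orth hM ht' ht' e2 hs ht's
        obtain ⟨d, -, ed⟩ := refl_inj hG.two hs1 hs2 (P.S_inj hG le_rfl 0 (es.symm.trans es2))
        have ht's1 : polar q1 t' s1 = 0 := by rw [ed, polar_smul_right, hts2, smul_zero]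
        rw [e1, es, ← blk_eq] at ex'
        have he : e = blk P hG 0 t' s1 := by
          have := congrArg (a * ·) ex'
          simp only [← mul_assoc, ha2, one_mul] at this
          rw [← this, ha_def, ← map_mul, pair_cancel htt]
        exact hC 0 t' s1 ht' hs1 ht's1 c hcG (he ▸ hecc)
      · obtain ⟨s1, hs1, hrs1, es⟩ := act_orth hM ht hr e1 hs hts
        obtain ⟨s2, hs2, hrs2, es2⟩ := act_orth hM ht' hr' e2 hs ht's
        obtain ⟨d, -, ed⟩ := refl_inj hG.two hs1 hs2 (P.S_inj hG le_rfl 1 (es.symm.trans es2))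
        have hr's1 : polar q1 r' s1 = 0 := by rw [ed, polar_smul_right, hrs2, smul_zero]
        rw [e1, es, ← blk_eq] at ex'
        have he : blk P hG 1 r' s1 = dd P hG t r * dd P hG t' r' * e := by
          have := congrArg (a * ·) ex'
          simp only [← mul_assoc, ha2, one_mul] at this
          rw [← this, hU0, invol_cancel (z := blk P hG 1 r r') ha2 (P.S_comm hG le_rfl 1 (by decide) _ _), ← map_mul,
            pair_cancel hrr]
        exact hC 1 r' s1 hr' hs1 hr's1 c hcG (by rw [he]; exact (hcd.mul_right hcd').mul_right hecc)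
  exact h.fus_blk hk hke hC hg ht hs hts hcmon (hc_of_dd ht hr ((hmem _).1 hcC).2.1)

set_option maxHeartbeats 1000000 in
/-- The centraliser of a product of reflections of the two slots is monomial. -/
theorem Weak.cent_dd (h : P.Weak hG G) (hk : 4 ≤ k) (hke : Even k) (hC : CentBlk P hG G)
    {y w : Fin k → F} (hy : q1 y ≠ 0) (hw : q1 w ≠ 0) : P.CentMon G (dd P hG y w) := fun g hg hgd => by
  obtain ⟨z, hz, hyz⟩ := exists_orth hG hy
  obtain ⟨z', hz', hyz', hzz'⟩ := exists_third hG hy hz hyz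
  obtain ⟨α, β, hne0, hns⟩ := exists_two_values hG.two hz hz'
  set v1 := z with hv1
  set v2 := α • z + β • z' with hv2
  have hyv1 : polar q1 y v1 = 0 := hyz
  have hyv2 : polar q1 y v2 = 0 := by
    rw [hv2, polar_add_right, polar_smul_right, polar_smul_right, hyz, hyz', smul_zero, smul_zero, add_zero]
  have hq2 : q1 v2 = α ^ 2 * q1 z + β ^ 2 * q1 z' := by
    rw [hv2]
    simp only [QuadraticMap.map_add ⇑q1, QuadraticMap.map_smul, polar_smul_left, polar_smul_right, smul_eq_mul]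
    linear_combination (α * β) * hzz'
  have hv2nz : q1 v2 ≠ 0 := by rw [hq2]; exact hne0
  have hclass : ¬ IsSquare (q1 v1 * q1 v2) := fun ⟨r, hr⟩ => hns ⟨r / q1 z, by
    rw [← hq2, div_mul_div_comm, ← hr, mul_div_mul_left _ _ hz]⟩
  set a := blk P hG 0 y v1 with ha_def
  set b := blk P hG 0 y v2 with hb_def
  set c := g * b * g⁻¹ with hc_def
  let C : Subgroup (O q) := G ⊓ Subgroup.centralizer {dd P hG y w}
  have hmem : ∀ z, z ∈ C ↔ z ∈ G ∧ Commute z (dd P hG y w) := fun z => by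
    simp only [C, Subgroup.mem_inf, Subgroup.mem_centralizer_singleton_iff]
    exact Iff.rfl
  have had : Commute a (dd P hG y w) := (dd_comm_blk hyv1).symm
  have hbd : Commute b (dd P hG y w) := (dd_comm_blk hyv2).symm
  have haC : a ∈ C := (hmem _).2 ⟨h.blk_mem 0 hy hz, had⟩
  have hcC : c ∈ C := (hmem _).2 ⟨G.mul_mem (G.mul_mem hg (h.blk_mem 0 hy hv2nz)) (G.inv_mem hg),
    conj_commute_of hgd hbd⟩
  have ha2 : a * a = 1 := blk_sq 0 hyv1
  have hmon : ∀ M ∈ C, ∀ v : Fin k → F, q1 v ≠ 0 → polar q1 y v = 0 →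
      M * blk P hG 0 y v * M⁻¹ ∈ P.Mon → Commute (M * blk P hG 0 y v * M⁻¹) (dd P hG y w) → M ∈ P.Mon :=
    fun M hM v hv hyv hm hcm => h.fus_blk hk hke hC ((hmem _).1 hM).1 hy hv hyv hm (hc_of_dd hy hw hcm)
  have hne : ∀ x ∈ C, x * a * x⁻¹ ≠ c := by
    intro x hx e
    obtain ⟨hxG, hxd⟩ := (hmem _).1 hx
    have hMab := conj_conj_eq e
    have hMm : g⁻¹ * x ∈ P.Mon := hmon _ ((hmem _).2 ⟨G.mul_mem (G.inv_mem hg) hxG, hgd.inv_left.mul_left hxd⟩)
      v1 hz hyv1 (by rw [hMab]; exact P.S_mem hG le_rfl 0 _) (by rw [hMab]; exact hbd)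
    rw [ha_def, blk_eq, conj_prod, hb_def, blk_eq] at hMab
    rcases dd_fix hMm hy hw (hgd.inv_left.mul_left hxd) with ⟨e1, -⟩ | ⟨e1, -⟩
    · rw [e1] at hMab
      obtain ⟨r, hr⟩ := act_class hMm hy hy hv2nz hz e1 (mul_left_cancel hMab)
      exact hclass ⟨r / q1 y, by field_simp; linear_combination hr⟩
    · obtain ⟨w', hw', hww', e2⟩ := act_orth hMm hy hw e1 hz hyv1
      rw [e1, e2, ← blk_eq, ← blk_eq] at hMab
      exact blk_ne (by decide) hw hw' hww' _ hMab
  obtain ⟨e, heC, he1, he2, hea, hec, hpar⟩ := dihedral_pair C haC hcC ha2 (invol_conj g (blk_sq 0 hyv2)) hne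
  obtain ⟨heG, hed⟩ := (hmem _).1 heC
  have heM : e ∈ P.Mon := hC 0 y v1 hy hz hyv1 e heG hea
  have haeM : a * e ∈ P.Mon := P.Mon.mul_mem (P.S_mem hG le_rfl 0 _) heM
  obtain ⟨v, M, hv, hyv, hM, eM⟩ : ∃ v M, q1 v ≠ 0 ∧ polar q1 y v = 0 ∧ M ∈ C ∧
      M * blk P hG 0 y v * M⁻¹ = a * e := by
    rcases hpar with ⟨⟨x, hx, ex⟩, -⟩ | ⟨⟨x, hx, ex⟩, -⟩
    · exact ⟨v1, x, hz, hyv1, hx, ex⟩
    · obtain ⟨hxG, hxd⟩ := (hmem _).1 hx
      exact ⟨v2, x * g, hv2nz, hyv2, (hmem _).2 ⟨G.mul_mem hxG hg, hxd.mul_left hgd⟩, conj_comp ex⟩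
  have hMm : M ∈ P.Mon := hmon M hM v hv hyv (by rw [eM]; exact haeM) (by rw [eM]; exact had.mul_left hed)
  obtain ⟨hcG, hcd⟩ := (hmem _).1 hcC
  have hecc : Commute c e := (show Commute e c from hec).symm
  have hcM : c ∈ P.Mon := by
    rw [blk_eq, conj_prod] at eM
    rcases dd_fix hMm hy hw ((hmem _).1 hM).2 with ⟨e1, -⟩ | ⟨e1, -⟩
    · obtain ⟨v', hv', hyv', e2⟩ := act_orth hMm hy hy e1 hv hyv
      rw [e1, e2, ← blk_eq] at eM
      have he : e = blk P hG 0 v1 v' := by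
        have := congrArg (a * ·) eM
        simp only [← mul_assoc, ha2, one_mul] at this
        rw [← this, ha_def, ← map_mul, pair_cancel hyv1]
      have hcomm : refl q1 v1 * refl q1 v' = refl q1 v' * refl q1 v1 := by
        have h1 : Commute (a * e) a := (Commute.refl a).mul_left hea
        rw [← eM, ha_def] at h1
        have h2 := P.S_inj hG le_rfl 0 (show P.S hG le_rfl 0 (refl q1 y * refl q1 v' * (refl q1 y * refl q1 v1)) =
          P.S hG le_rfl 0 (refl q1 y * refl q1 v1 * (refl q1 y * refl q1 v')) by rw [map_mul (P.S hG le_rfl 0) (refl q1 y * refl q1 v'), map_mul (P.S hG le_rfl 0) (refl q1 y * refl q1 v1)]; exact h1.eq)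
        rw [pair_cancel hyv1, pair_cancel hyv'] at h2
        exact h2.symm
      rcases refl_comm_cases hG.two hz hv' hcomm with h0 | h0
      · exact hC 0 v1 v' hz hv' h0 c hcG (he ▸ hecc)
      · exfalso
        refine he1 ?_
        rw [he, blk, h0, refl_mul_self, map_one]
    · obtain ⟨v', hv', hwv', e2⟩ := act_orth hMm hy hw e1 hv hyv
      rw [e1, e2, ← blk_eq] at eM
      have he : dd P hG y w * e = dd P hG v1 v' := by
        have := congrArg (a * ·) eM
        simp only [← mul_assoc, ha2, one_mul] at this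
        rw [← this, ha_def, two_mul_eq, ← mul_assoc (refl q1 y), refl_mul_self, one_mul, ← mul_assoc (refl q1 w),
          refl_mul_self, one_mul]
      exact h.cent_dd_two hk hke hC hy hz hyv1 hw hv' hwv' hcG hcd (he ▸ hcd.mul_right hecc)
  exact h.fus_blk hk hke hC hg hy hv2nz hyv2 hcM (hc_of_dd hy hw hcd)

/-- A monomial conjugate of a product of reflections of the two slots comes from a monomial element. -/
theorem Weak.fus_dd (h : P.Weak hG G) (hk : 4 ≤ k) (hke : Even k) (hC : CentBlk P hG G) {g : O q} (hg : g ∈ G)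
    {a b : Fin k → F} (ha : q1 a ≠ 0) (hb : q1 b ≠ 0) (hy : g * dd P hG a b * g⁻¹ ∈ P.Mon) : g ∈ P.Mon := by
  obtain ⟨σ, A, hA⟩ := hy
  have h2 := invol_conj g (dd_sq (P := P) (hG := hG) a b)
  have hm := mv_dd (P := P) (hG := hG) ha hb
  have hσ : σ = 1 := by
    by_contra hσ
    rcases eq_or_ne k 4 with hk4 | hk4
    · exact swap_not_conj hG hk4 hA hσ h2 g 0 1 ha hb rfl
    · have h0 : σ 0 ≠ 0 := by clear hA; revert hσ; revert σ; decide
      have h1 := (mv_moved hA (by omega) h2 h0).1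
      rw [mv_conj] at h1
      simp only [pow_succ, pow_zero, one_mul] at h1
      nlinarith [show 5 ≤ k by omega]
  subst hσ
  obtain ⟨i, v, hv, hiv⟩ : ∃ i v, q1 v ≠ 0 ∧ Commute (g * dd P hG a b * g⁻¹) (P.sg hG le_rfl i v) := by
    rcases commutes_single hA hG hk le_rfl h2 (by
      rw [mv_conj]
      obtain ⟨n, rfl⟩ : ∃ n, k = n + 1 := ⟨k - 1, by omega⟩
      have : mv (dd P hG a b) = 2 * n := by omega
      rw [this, pow_one, Nat.add_sub_cancel]
      exact le_of_eq (by ring)) with h1 | ⟨-, -, hfix⟩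
    · exact h1
    · exact absurd rfl (hfix 0)
  obtain ⟨C, D, hC2, hD2, e⟩ := invol_form hA h2 hv hiv
  rcases form_root (P := P) (hG := hG) hk hC2 hD2 with ⟨l, u, c, hr, hx⟩ | ⟨hk4, hmC, hmD⟩
  · rw [← e] at hx
    exact (h.uni hk).fus h.base (h.cent_dd hk hke hC ha hb) hg hr hx
  · exfalso
    have e1 := P.mv_pair hG le_rfl (i := 0) (j := 1) (by decide) hC2 hD2
    rw [← e, mv_conj, hmC, hmD] at e1
    simp only [pow_succ, pow_zero, one_mul, Nat.sub_self, mul_one] at e1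
    subst hk4
    norm_num at e1
    omega

end Power

end CfsgLib.TensorEven
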