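import Cfsg.Agent.Lib.TensorEven.WeakFus

/-!
Two slots of dimension four: a plane of one slot is not conjugate in the group to a product of planes of
both slots.
-/

set_option autoImplicit false
set_option linter.unusedSectionVars false

namespace CfsgLib.TensorEven

open Matrix QuadraticMap CfsgLib.Orth CfsgLib.TensorOddMinus
open CfsgLib.TensorOdd (IsFrame)
open CfsgLib.TensorWreathMax (Idx)

variable {ι : Type} [Fintype ι] [DecidableEq ι] {F : Type*} [Field F] [Fintype F] {k : ℕ}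
variable {q : QuadraticForm F (ι → F)} {q1 : QuadraticForm F (Fin k → F)}

theorem refl_pair_comm {a b c d : Fin k → F} (hac : Commute (refl q1 a) (refl q1 c))
    (had : Commute (refl q1 a) (refl q1 d)) (hbc : Commute (refl q1 b) (refl q1 c))
    (hbd : Commute (refl q1 b) (refl q1 d)) : Commute (refl q1 a * refl q1 b) (refl q1 c * refl q1 d) :=
  (hac.mul_right had).mul_left (hbc.mul_right hbd)

theorem refl_commute {a b : Fin k → F} (h : polar q1 a b = 0) : Commute (refl q1 a) (refl q1 b) :=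
  refl_comm_of_orth h

/-- A similitude preserving a plane scales its skew map. -/
theorem sk_conj (hG : Good q1) {φ : (Fin k → F) ≃ₗ[F] (Fin k → F)} {ν : F} (hν : ν ≠ 0) (hs : IsSim q1 φ ν)
    {a b : Fin k → F} (hab : polar q1 a b = 0) (hfa : app (refl q1 a * refl q1 b) (φ a) = -φ a)
    (hfb : app (refl q1 a * refl q1 b) (φ b) = -φ b) :
    ∃ c : F, ∀ x, φ (sk q1 a b x) = c • sk q1 a b (φ x) := by
  obtain ⟨α, β, ea⟩ := pair_neg_span hG hab hfa
  obtain ⟨γ, δ, eb⟩ := pair_neg_span hG hab hfb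
  refine ⟨ν⁻¹ * (α * δ - β * γ), fun x => smul_right_injective _ hν ?_⟩
  show ν • φ (sk q1 a b x) = ν • _
  rw [sk_apply, map_sub, map_smul, map_smul, smul_sub, smul_smul, smul_smul, ← hs x a, ← hs x b, smul_smul,
    mul_inv_cancel_left₀ hν, ea, eb, sk_apply]
  simp only [polar_add_right, polar_smul_right, smul_eq_mul]
  module

/-- A rotation of a plane as a polynomial in its skew map. -/
theorem rot_poly (hG : Good q1) {a b : Fin k → F} (ha : q1 a ≠ 0) (hab : polar q1 a b = 0)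
    (hs : q1 a + q1 b ≠ 0) (x : Fin k → F) :
    app (refl q1 a * refl q1 (a + b)) x =
      x + (-(q1 a + q1 b)⁻¹) • sk q1 a b x + (2 * q1 a * (q1 a + q1 b))⁻¹ • sk q1 a b (sk q1 a b x) := by
  have hba : polar q1 b a = 0 := by rwa [polar_comm]
  have hq : q1 (a + b) = q1 a + q1 b := by rw [QuadraticMap.map_add ⇑q1, hab, add_zero]
  have h2 := hG.two
  simp only [app_mul, app_refl, hq, sk_apply, polar_sub_left, polar_smul_left, polar_add_left, polar_add_right,
    polar_self', hab, hba, smul_eq_mul]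
  match_scalars <;> field_simp <;> ring

theorem frame_four (hG : Good q1) (hk : k = 4) {a b c d : Fin k → F} (ha : q1 a ≠ 0) (hb : q1 b ≠ 0)
    (hc : q1 c ≠ 0) (hd : q1 d ≠ 0) (hab : polar q1 a b = 0) (hac : polar q1 a c = 0) (had : polar q1 a d = 0)
    (hbc : polar q1 b c = 0) (hbd : polar q1 b d = 0) (hcd : polar q1 c d = 0) :
    IsFrame q1 ![a, b, c, d] := by
  subst hk
  refine ⟨rfl, fun i j hij => ?_, fun i => ?_, hG.two⟩
  · have hc' : ∀ {x y : Fin 4 → F}, polar q1 x y = 0 → polar q1 y x = 0 := fun e => by rwa [polar_comm]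
    fin_cases i <;> fin_cases j <;> first
      | exact absurd rfl hij | exact hab | exact hc' hab | exact hac | exact hc' hac | exact had | exact hc' had
      | exact hbc | exact hc' hbc | exact hbd | exact hc' hbd | exact hcd | exact hc' hcd
  · fin_cases i <;> assumption

/-- The complementary plane. -/
theorem exists_compl_plane (hG : Good q1) (hk : k = 4) {a b : Fin k → F} (ha : q1 a ≠ 0) (hb : q1 b ≠ 0)
    (hab : polar q1 a b = 0) : ∃ c d, q1 c ≠ 0 ∧ q1 d ≠ 0 ∧ polar q1 c d = 0 ∧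
      polar q1 a c = 0 ∧ polar q1 a d = 0 ∧ polar q1 b c = 0 ∧ polar q1 b d = 0 ∧
      negId q1 * (refl q1 a * refl q1 b) = refl q1 c * refl q1 d ∧ ¬ IsSquare (q1 c * q1 d * (q1 a * q1 b)) := by
  have hR : refl q1 a * refl q1 b * (refl q1 a * refl q1 b) = 1 :=
    invol_mul (refl_mul_self a) (refl_mul_self b) (refl_comm_of_orth (by rwa [polar_comm]))
  have hm := mv_negId_mul hG.nd hG.two hR
  rw [mv_refl_two hG ha hb hab, Fintype.card_fin] at hm
  obtain ⟨c, d, hc, hd, hcd, e⟩ := exists_pair hG (negId_mul_invol hR) (by omega)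
  have hfix : ∀ z, app (refl q1 c * refl q1 d) z = -z → app (refl q1 a * refl q1 b) z = z := fun z hz => by
    rw [← e, app_mul, app_negId, neg_inj] at hz; exact hz
  obtain ⟨h1, h2⟩ := pair_fix_orth hG ha hb hab (hfix c (pair_left hG hc hcd))
  obtain ⟨h3, h4⟩ := pair_fix_orth hG ha hb hab (hfix d (pair_right hG hd hcd))
  exact ⟨c, d, hc, hd, hcd, h1, h3, h2, h4, e, (pair_disc hG (by omega) ha hb hc hd hab hcd e.symm).2⟩

namespace Power

variable {P : Power q q1 2} {hG : Good q1} {G : Subgroup (O q)}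

set_option maxHeartbeats 1000000 in
/-- A monomial isometry commuting with a plane of a slot acts on that slot by a similitude of the plane. -/
theorem blk_stab {X : O q} (hX : X ∈ P.Mon) (h2 : X * X = 1) (i : Fin 2) {a b : Fin k → F} (ha : q1 a ≠ 0)
    (hb : q1 b ≠ 0) (hab : polar q1 a b = 0) (hc : Commute X (blk P hG i a b)) :
    ∃ (φ : (Fin k → F) ≃ₗ[F] (Fin k → F)) (c : F), c * c = 1 ∧ (∀ x, φ (sk q1 a b x) = c • sk q1 a b (φ x)) ∧
      ∀ B : O q1, ∃ B' : O q1, (∀ x, app B' x = φ (app B (φ.symm x))) ∧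
        X * P.S hG le_rfl i B * X⁻¹ = P.S hG le_rfl i B' := by
  obtain ⟨σ, A, hA⟩ := hX
  obtain ⟨cs, hcs, hcs1⟩ := hA.sim hG
  rw [Fin.prod_univ_two] at hcs1
  have hl : σ i = i := by
    obtain ⟨B, -, e⟩ := hA.conj_S hG le_rfl (σ.symm i) (refl q1 a * refl q1 b)
    rw [Equiv.apply_symm_apply, show X * P.S hG le_rfl i (refl q1 a * refl q1 b) * X⁻¹ = blk P hG i a b by
      rw [hc.eq, mul_inv_cancel_right]] at e
    have : σ.symm i = i := by_contra fun hne => blk_ne (Ne.symm hne) ha hb hab B e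
    conv_lhs => rw [← this]
    exact σ.apply_symm_apply i
  have hconj : ∀ B : O q1, ∃ B' : O q1, (∀ x, app B' x = A i (app B ((A i).symm x))) ∧
      X * P.S hG le_rfl i B * X⁻¹ = P.S hG le_rfl i B' := fun B => by
    obtain ⟨B', hB', e⟩ := hA.conj_S hG le_rfl i B
    rw [hl] at e
    exact ⟨B', hB', e⟩
  have hsim := hcs i
  have hν := act_ne hcs1 i
  obtain ⟨B', hB', e⟩ := hconj (refl q1 a * refl q1 b)
  rw [show X * P.S hG le_rfl i (refl q1 a * refl q1 b) * X⁻¹ = blk P hG i a b by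
    rw [hc.eq, mul_inv_cancel_right]] at e
  have hR' : B' = refl q1 (A i a) * refl q1 (A i b) := ext_app fun x => by
    rw [hB', app_mul, app_mul, ← hsim.refl_conj hν hG.two, ← hsim.refl_conj hν hG.two b,
      LinearEquiv.symm_apply_apply]
  have hR : refl q1 (A i a) * refl q1 (A i b) = refl q1 a * refl q1 b := hR' ▸ (P.S_inj hG le_rfl i e).symm
  have hA' : ∀ v, q1 v ≠ 0 → q1 (A i v) ≠ 0 := fun v hv => by rw [sim_val hG hsim]; exact mul_ne_zero hν hv
  have horth : polar q1 (A i a) (A i b) = 0 := by rw [hsim, hab, mul_zero]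
  obtain ⟨c, hcJ⟩ := sk_conj hG hν hsim hab (by rw [← hR]; exact pair_left hG (hA' a ha) horth)
    (by rw [← hR]; exact pair_right hG (hA' b hb) horth)
  refine ⟨A i, c, ?_, hcJ, hconj⟩
  obtain ⟨μ, hμ0, hμ⟩ := (hA.invol (by have := three_le hG; omega) h2).2 i
  rw [hl] at hμ
  have h := hμ (sk q1 a b a)
  rw [hcJ, map_smul, hcJ, hμ, map_smul, smul_smul, smul_smul] at h
  have hJa : sk q1 a b a ≠ 0 := by
    rw [sk_apply, hab, zero_smul, sub_zero, polar_self']
    exact smul_ne_zero (mul_ne_zero hG.two ha) (ne_zero_of_val hb)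
  exact mul_right_cancel₀ hμ0 ((smul_left_injective F hJa h).trans (one_mul μ).symm)

theorem rot_commute {X : O q} {i : Fin 2} {a b : Fin k → F} (ha : q1 a ≠ 0) (hab : polar q1 a b = 0)
    (hs : q1 a + q1 b ≠ 0) {φ : (Fin k → F) ≃ₗ[F] (Fin k → F)}
    (hJ : ∀ x, φ (sk q1 a b x) = sk q1 a b (φ x)) {B' : O q1}
    (hB : ∀ x, app B' x = φ (app (refl q1 a * refl q1 (a + b)) (φ.symm x)))
    (e : X * P.S hG le_rfl i (refl q1 a * refl q1 (a + b)) * X⁻¹ = P.S hG le_rfl i B') :
    Commute X (P.S hG le_rfl i (refl q1 a * refl q1 (a + b))) := by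
  have : B' = refl q1 a * refl q1 (a + b) := ext_app fun x => by
    rw [hB, rot_poly hG ha hab hs, rot_poly hG ha hab hs, map_add, map_add, map_smul, map_smul, hJ, hJ, hJ,
      LinearEquiv.apply_symm_apply]
  rw [this] at e
  exact mul_inv_eq_iff_eq_mul.1 e

set_option maxHeartbeats 1000000 in
theorem Weak.blk_not_mixed_aux (h : P.Weak hG G) (hk : k = 4) (hC : CentBlk P hG G) {g : O q} (hg : g ∈ G)
    (i : Fin 2) {a b t t' r r' : Fin k → F} (ha : q1 a ≠ 0) (hb : q1 b ≠ 0) (hab : polar q1 a b = 0)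
    (hs : q1 a + q1 b ≠ 0) (ht : q1 t ≠ 0) (ht' : q1 t' ≠ 0) (htt : polar q1 t t' = 0) (hr : q1 r ≠ 0)
    (hr' : q1 r' ≠ 0) (hrr : polar q1 r r' = 0) :
    g * blk P hG i a b * g⁻¹ ≠ blk P hG 0 t t' * blk P hG 1 r r' := by
  intro hV
  set R := refl q1 a * refl q1 b
  set ρ0 := refl q1 a * refl q1 (a + b) with hρ0
  set ρ := P.S hG le_rfl i ρ0 with hρ
  have hqab : q1 (a + b) = q1 a + q1 b := by rw [QuadraticMap.map_add ⇑q1, hab, add_zero]
  obtain ⟨s, s', hs0, hs0', hss, hts, hts', ht's, ht's', hcompT, -⟩ := exists_compl_plane hG hk ht ht' htt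
  obtain ⟨v, v', hv, hv', hvv, hrv, hrv', hr'v, hr'v', -, -⟩ := exists_compl_plane hG hk hr hr' hrr
  have hc : ∀ {x y : Fin k → F}, polar q1 x y = 0 → polar q1 y x = 0 := fun e => by rwa [polar_comm]
  -- elements commuting with the product of planes, brought back
  have hback : ∀ {x y : Fin k → F}, q1 x ≠ 0 → q1 y ≠ 0 → polar q1 x y = 0 →
      Commute (refl q1 x * refl q1 y) (refl q1 t * refl q1 t') →
      (g⁻¹ * blk P hG 0 x y * g ∈ P.Mon ∧ g⁻¹ * blk P hG 0 x y * g * (g⁻¹ * blk P hG 0 x y * g) = 1) ∧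
        Commute (g⁻¹ * blk P hG 0 x y * g) (blk P hG i a b) := by
    intro x y hx hy hxy hcomm
    have c1 : Commute (blk P hG 0 x y) (g * blk P hG i a b * g⁻¹) := by
      rw [hV]
      exact (hcomm.map (P.S hG le_rfl 0)).mul_right (P.S_comm hG le_rfl 0 (by decide) _ _)
    have c2 : Commute (g⁻¹ * blk P hG 0 x y * g) (blk P hG i a b) := by
      show _ = _
      calc g⁻¹ * blk P hG 0 x y * g * blk P hG i a b
          = g⁻¹ * (blk P hG 0 x y * (g * blk P hG i a b * g⁻¹)) * g := by group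
        _ = g⁻¹ * ((g * blk P hG i a b * g⁻¹) * blk P hG 0 x y) * g := by rw [c1.eq]
        _ = blk P hG i a b * (g⁻¹ * blk P hG 0 x y * g) := by group
    refine ⟨⟨hC i a b ha hb hab _ (G.mul_mem (G.mul_mem (G.inv_mem hg) (h.blk_mem 0 hx hy)) hg) c2, ?_⟩, c2⟩
    calc g⁻¹ * blk P hG 0 x y * g * (g⁻¹ * blk P hG 0 x y * g)
        = g⁻¹ * (blk P hG 0 x y * blk P hG 0 x y) * g := by group
      _ = 1 := by rw [blk_sq 0 hxy, mul_one, inv_mul_cancel]
  -- one of them commutes with the rotation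
  have c12 : Commute (refl q1 t * refl q1 s) (refl q1 t * refl q1 t') :=
    refl_pair_comm (Commute.refl _) (refl_commute htt) (refl_commute (hc hts)) (refl_commute (hc ht's))
  have c13 : Commute (refl q1 t' * refl q1 s) (refl q1 t * refl q1 t') :=
    refl_pair_comm (refl_commute (hc htt)) (Commute.refl _) (refl_commute (hc hts)) (refl_commute (hc ht's))
  obtain ⟨⟨hm1, hi1⟩, hx1⟩ := hback ht ht' htt (Commute.refl _)
  obtain ⟨⟨hm2, hi2⟩, hx2⟩ := hback ht hs0 hts c12
  obtain ⟨φ1, c1, hc1, hJ1, hconj1⟩ := blk_stab hm1 hi1 i ha hb hab hx1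
  obtain ⟨φ2, c2, hc2, hJ2, hconj2⟩ := blk_stab hm2 hi2 i ha hb hab hx2
  obtain ⟨x, y, hx, hy, hxy, hxρ⟩ : ∃ x y : Fin k → F, q1 x ≠ 0 ∧ q1 y ≠ 0 ∧ polar q1 x y = 0 ∧
      Commute (g⁻¹ * blk P hG 0 x y * g) ρ := by
    rcases mul_self_eq_one_iff.1 hc1 with rfl | rfl
    · obtain ⟨B', hB', e⟩ := hconj1 ρ0
      exact ⟨t, t', ht, ht', htt, rot_commute ha hab hs (fun x => by rw [hJ1, one_smul]) hB' e⟩
    rcases mul_self_eq_one_iff.1 hc2 with rfl | rfl
    · obtain ⟨B', hB', e⟩ := hconj2 ρ0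
      exact ⟨t, s, ht, hs0, hts, rot_commute ha hab hs (fun x => by rw [hJ2, one_smul]) hB' e⟩
    obtain ⟨B', hB', e⟩ := hconj2 ρ0
    obtain ⟨B'', hB'', e'⟩ := hconj1 B'
    refine ⟨t', s, ht', hs0, ht's, rot_commute (φ := φ2.trans φ1) (B' := B'') ha hab hs (fun x => ?_)
      (fun x => by rw [hB'', hB']; rfl) ?_⟩
    · show φ1 (φ2 _) = _
      rw [hJ2, map_smul, hJ1, smul_smul]
      norm_num
    · have ez : blk P hG 0 t t' * blk P hG 0 t s = blk P hG 0 t' s := by
        rw [← map_mul]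
        congr 1
        rw [mul_assoc, ← mul_assoc (refl q1 t'), refl_comm_of_orth (hc htt), mul_assoc (refl q1 t), ← mul_assoc,
          refl_mul_self, one_mul]
      rw [← e', ← e, ← ez, hρ0]
      group
  -- the conjugate of the rotation
  set ε := g * ρ * g⁻¹ with hε
  have hεG : ε ∈ G :=
    G.mul_mem (G.mul_mem hg (h.base.det_mem i ρ0 (detHom_pair hG ha (by rwa [hqab])))) (G.inv_mem hg)
  have hεM : ε ∈ P.Mon := by
    refine hC 0 x y hx hy hxy ε hεG ?_
    show _ = _
    calc ε * blk P hG 0 x y = g * (ρ * (g⁻¹ * blk P hG 0 x y * g)) * g⁻¹ := by rw [hε]; group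
      _ = g * ((g⁻¹ * blk P hG 0 x y * g) * ρ) * g⁻¹ := by rw [hxρ.eq]
      _ = blk P hG 0 x y * ε := by rw [hε]; group
  have hρfix : ∀ z, app R z = z → app ρ0 z = z := fun z hz => by
    obtain ⟨h1, h2⟩ := pair_fix_orth hG ha hb hab hz
    rw [hρ0, app_mul, app_refl_orth (v := a + b) (x := z) (by rw [polar_add_right, hc h1, hc h2, add_zero]), app_refl_orth (hc h1)]
  have hfix : ∀ z, app (blk P hG 0 t t' * blk P hG 1 r r') z = z → app ε z = z := fun z hz => by
    have h1 : app (blk P hG i a b) (app g⁻¹ z) = app g⁻¹ z := by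
      conv_rhs => rw [← hz, ← hV]
      rw [app_mul, app_mul, app_inv_app]
    have h2 := supp_S P hG le_rfl i
      (invol_mul (refl_mul_self a) (refl_mul_self b) (refl_comm_of_orth (hc hab))) hρfix _ h1
    rw [hε, app_mul, app_mul, h2, app_app_inv]
  -- it has square one
  subst hk
  set u := ![t, t', s, s'] with hu
  set w := ![r, r', v, v'] with hw
  have hfu : IsFrame q1 u := frame_four hG rfl ht ht' hs0 hs0' htt hts hts' ht's ht's' hss
  have hfw : IsFrame q1 w := frame_four hG rfl hr hr' hv hv' hrr hrv hrv' hr'v hr'v' hvv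
  set sgn : Fin 4 → F := ![-1, -1, 1, 1]
  have hTu : ∀ j, app (refl q1 t * refl q1 t') (u j) = sgn j • u j := by
    intro j
    fin_cases j <;> simp [hu, sgn, pair_left hG ht htt, pair_right hG ht' htt, app_mul,
      app_refl_orth (hc hts), app_refl_orth (hc hts'), app_refl_orth (hc ht's), app_refl_orth (hc ht's')]
  have hRw : ∀ j, app (refl q1 r * refl q1 r') (w j) = sgn j • w j := by
    intro j
    fin_cases j <;> simp [hw, sgn, pair_left hG hr hrr, pair_right hG hr' hrr, app_mul,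
      app_refl_orth (hc hrv), app_refl_orth (hc hrv'), app_refl_orth (hc hr'v), app_refl_orth (hc hr'v')]
  set xs : Fin 4 → Fin 4 → Fin 2 → Fin 4 → F := fun j l => ![u j, w l] with hxs
  have hne : ∀ j l m, xs j l m ≠ 0 := fun j l m => by
    fin_cases m
    · exact ne_zero_of_val (hfu.nz j)
    · exact ne_zero_of_val (hfw.nz l)
  have hsame : ∀ j l, sgn j = sgn l → app ε (P.tp (xs j l)) = P.tp (xs j l) := fun j l hjl => by
    refine hfix _ ?_
    rw [app_mul, S_tp, S_tp]
    rw [show xs j l 1 = w l from rfl, Function.update_of_ne (by decide : (0 : Fin 2) ≠ 1),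
      show xs j l 0 = u j from rfl, hRw, hTu, tp_update_smul, Function.update_comm (by decide : (1 : Fin 2) ≠ 0),
      tp_update_smul, smul_smul,
      show Function.update (Function.update (xs j l) 0 (u j)) 1 (w l) = xs j l from funext fun m => by
        fin_cases m <;> rfl]
    have : sgn j * sgn l = 1 := by
      rw [← hjl]
      fin_cases j <;> simp [sgn]
    rw [this, one_smul]
  obtain ⟨σ, A, hA⟩ := hεM
  have hline : ∀ j l, sgn j = sgn l → ∀ m, ∃ d : F, A m (xs j l (σ m)) = d • xs j l m := fun j l hjl m => by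
    obtain ⟨d, -, e⟩ := P.tp_eq (hne j l) ((hsame j l hjl).symm.trans (hA _)) m
    exact ⟨d, e⟩
  have hσ : σ = 1 := by
    have h01 : σ 0 = 0 ∨ σ 0 = 1 := by omega
    rcases h01 with h0 | h1
    · clear hline hA
      revert h0; revert σ; decide
    exfalso
    obtain ⟨d, hd⟩ := hline 0 0 rfl 0
    obtain ⟨d', hd'⟩ := hline 1 0 rfl 0
    rw [h1] at hd hd'
    change A 0 r = d • t at hd
    change A 0 r = d' • t' at hd'
    have h2 := congrArg (fun z => polar q1 z t) (hd.symm.trans hd')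
    simp only [polar_smul_left, polar_self', hc htt, smul_eq_mul, mul_zero, mul_eq_zero] at h2
    rcases h2 with h2 | h2
    · rw [h2, zero_smul] at hd
      exact ne_zero_of_val hr ((A 0).map_eq_zero_iff.1 hd)
    · exact h2.elim (fun e => hG.two e) ht
  subst hσ
  have hsgn : ∀ j, ∃ l, sgn j = sgn l := fun j => ⟨j, rfl⟩
  have hA0 : ∀ j, ∃ d : F, A 0 (u j) = d • u j := fun j => hline j j rfl 0
  have hA1 : ∀ j, ∃ d : F, A 1 (w j) = d • w j := fun j => hline j j rfl 1
  choose d hd using hA0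
  choose e he using hA1
  set fv : Idx 4 2 → ι → F := fun c => P.tp (xs (c 0) (c 1))
  have hfv : IsFrame q fv := by
    refine ⟨?_, fun c c' hne' => ?_, fun c => ?_, hG.two⟩
    · rw [P.card_eq]; simp [Idx]
    · show polar q (P.tp _) (P.tp _) = 0
      rw [P.polar_tp, Fin.prod_univ_two]
      rcases ne_or_eq (c 0) (c' 0) with h0 | h0
      · show polar q1 (u (c 0)) (u (c' 0)) * _ = 0
        rw [hfu.orth _ _ h0, zero_mul]
      · show _ * polar q1 (w (c 1)) (w (c' 1)) = 0
        rw [hfw.orth _ _ fun h1 => hne' (funext fun m => by fin_cases m <;> assumption), mul_zero]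
    · show q (P.tp _) ≠ 0
      rw [P.q_tp_two hG]
      exact mul_ne_zero (mul_ne_zero hG.two (hfu.nz _)) (hfw.nz _)
  have hεv : ∀ c, app ε (fv c) = (d (c 0) * e (c 1)) • fv c := fun c => by
    show app ε (P.tp _) = _
    rw [hA]
    have e1 : (fun m => A m (xs (c 0) (c 1) ((1 : Equiv.Perm (Fin 2)) m))) =
        fun m => (![d (c 0), e (c 1)] m) • xs (c 0) (c 1) m := funext fun m => by
      fin_cases m
      · exact hd (c 0)
      · exact he (c 1)
    rw [e1, P.tp_smul, Fin.prod_univ_two]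
    rfl
  have hε2 : ε * ε = 1 := hfv.ext_O fun c => by
    have hsq : d (c 0) * e (c 1) * (d (c 0) * e (c 1)) = 1 := by
      have h := Q_app ε (fv c)
      rw [hεv, QuadraticMap.map_smul, smul_eq_mul] at h
      exact mul_right_cancel₀ (hfv.nz c) (h.trans (one_mul _).symm)
    rw [app_mul, app_one, hεv, map_smul, hεv, smul_smul, hsq, one_smul]
  -- but the rotation has not
  have hρ2 : ρ0 * ρ0 = 1 := P.S_inj hG le_rfl i (by
    rw [map_one, map_mul]
    have : g * (ρ * ρ) * g⁻¹ = 1 := by rw [← hε2, hε]; group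
    simpa using this)
  have hcom : refl q1 a * refl q1 (a + b) = refl q1 (a + b) * refl q1 a := by
    have h := eq_inv_of_mul_eq_one_left hρ2
    rwa [hρ0, _root_.mul_inv_rev, inv_eq_of_mul_eq_one_right (refl_mul_self a),
      inv_eq_of_mul_eq_one_right (refl_mul_self (a + b))] at h
  rcases refl_comm_cases hG.two ha (by rwa [hqab]) hcom with h0 | h0
  · rw [polar_add_right, hab, add_zero, polar_self'] at h0
    exact mul_ne_zero hG.two ha h0
  · obtain ⟨d', hd', e'⟩ := refl_inj hG.two ha (by rwa [hqab]) h0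
    have h1 := congrArg (fun z => polar q1 z b) e'
    simp only [polar_smul_left, polar_add_left, hab, polar_self', zero_add, smul_eq_mul] at h1
    exact mul_ne_zero hd' (mul_ne_zero hG.two hb) h1.symm

/-- A plane of one slot is not conjugate to a product of planes of both slots. -/
theorem Weak.blk_not_mixed (h : P.Weak hG G) (hk : k = 4) (hC : CentBlk P hG G) {g : O q} (hg : g ∈ G)
    (i : Fin 2) {a b t t' r r' : Fin k → F} (ha : q1 a ≠ 0) (hb : q1 b ≠ 0) (hab : polar q1 a b = 0)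
    (ht : q1 t ≠ 0) (ht' : q1 t' ≠ 0) (htt : polar q1 t t' = 0) (hr : q1 r ≠ 0)
    (hr' : q1 r' ≠ 0) (hrr : polar q1 r r' = 0) :
    g * blk P hG i a b * g⁻¹ ≠ blk P hG 0 t t' * blk P hG 1 r r' := by
  by_cases hs : q1 a + q1 b = 0
  swap
  · exact h.blk_not_mixed_aux hk hC hg i ha hb hab hs ht ht' htt hr hr' hrr
  obtain ⟨c, d, hc, hd, hcd, -, -, -, -, e, hdisc⟩ := exists_compl_plane hG hk ha hb hab
  obtain ⟨s, s', hs', hs'', hss, -, -, -, -, eT, -⟩ := exists_compl_plane hG hk ht ht' htt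
  intro hV
  refine h.blk_not_mixed_aux hk hC hg i hc hd hcd (fun h0 => hdisc ?_) hs' hs'' hss hr hr' hrr ?_
  · refine ⟨q1 c * q1 a, ?_⟩
    rw [eq_neg_of_add_eq_zero_right h0, eq_neg_of_add_eq_zero_right hs]
    ring
  · have e1 : blk P hG i c d = negId q * blk P hG i a b := by rw [blk, ← e, map_mul, S_negId]
    have e2 : blk P hG 0 s s' = negId q * blk P hG 0 t t' := by rw [blk, ← eT, map_mul, S_negId]
    rw [e1, e2, mul_assoc (negId q), ← hV, ← mul_assoc g, ← negId_comm' g]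
    group

end Power

end CfsgLib.TensorEven
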